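import Mathlib.GroupTheory.Sylow
import Mathlib.GroupTheory.Transfer
import Mathlib.GroupTheory.GroupAction.Quotient
import Mathlib.GroupTheory.SpecificGroups.Alternating
import Mathlib.GroupTheory.Subgroup.Simple
import Mathlib.GroupTheory.SpecificGroups.Cyclic
import Mathlib.GroupTheory.Perm.Sign

/-!
# Basic tools for finite simple groups of given order
-/

set_option autoImplicit false
set_option linter.unusedSectionVars false
set_option linter.style.haveILetI false

namespace Cfsg.Agent.H36

open Subgroup

variable {G : Type*} [Group G] [Finite G]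

theorem isMulCommutative_of_forall {H : Type*} [Group H] (h : ∀ a b : H, a * b = b * a) :
    IsMulCommutative H := ⟨⟨h⟩⟩

/-- A simple group whose order is not prime is not commutative. -/
theorem not_comm_of_simple [IsSimpleGroup G] (hn : ¬ (Nat.card G).Prime) :
    ¬ IsMulCommutative G := by
  intro h
  letI : CommGroup G := { (inferInstance : Group G) with mul_comm := h.is_comm.comm }
  exact hn IsSimpleGroup.prime_card

theorem center_eq_bot_of_simple [IsSimpleGroup G] (hG : ¬ IsMulCommutative G) :
    center G = ⊥ := by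
  refine (Subgroup.Normal.eq_bot_or_eq_top (H := center G) inferInstance).resolve_right
    fun h => hG (isMulCommutative_of_forall fun a b => ?_)
  exact ((mem_center_iff.1 (h ▸ mem_top a : a ∈ center G)) b).symm

/-- A homomorphism from a non-commutative simple group to a commutative group is trivial. -/
theorem hom_comm_eq_one [IsSimpleGroup G] (hG : ¬ IsMulCommutative G) {A : Type*} [CommGroup A]
    (f : G →* A) : f = 1 := by
  rcases Subgroup.Normal.eq_bot_or_eq_top (H := f.ker) inferInstance with h | h
  · exact absurd (isMulCommutative_of_forall fun a b =>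
      (f.ker_eq_bot_iff.1 h) (by rw [map_mul, map_mul, mul_comm])) hG
  · exact f.ker_eq_top_iff.1 h

/-- Every homomorphism from a non-commutative simple group to a symmetric group has even image. -/
theorem sign_hom_eq_one [IsSimpleGroup G] (hG : ¬ IsMulCommutative G) {α : Type*} [Fintype α]
    [DecidableEq α] (f : G →* Equiv.Perm α) (g : G) : Equiv.Perm.sign (f g) = 1 := by
  have := hom_comm_eq_one hG (Equiv.Perm.sign.comp f)
  exact DFunLike.congr_fun this g

theorem toPermHom_injective [IsSimpleGroup G] {H : Subgroup G} (hH : H ≠ ⊤) :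
    Function.Injective (MulAction.toPermHom G (G ⧸ H)) := by
  rw [← MonoidHom.ker_eq_bot_iff]
  refine (Subgroup.Normal.eq_bot_or_eq_top inferInstance).resolve_right fun h => hH ?_
  rw [eq_top_iff]
  intro g _
  have : g ∈ (MulAction.toPermHom G (G ⧸ H)).ker := h ▸ mem_top g
  rw [← Subgroup.normalCore_eq_ker] at this
  exact H.normalCore_le this

/-- The coset action of a non-commutative simple group lands in the alternating group. -/
theorem exists_hom_alternating [IsSimpleGroup G] (hG : ¬ IsMulCommutative G) {H : Subgroup G}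
    (hH : H ≠ ⊤) :
    ∃ f : G →* alternatingGroup (Fin H.index), Function.Injective f := by
  classical
  haveI := Fintype.ofFinite (G ⧸ H)
  let e : G ⧸ H ≃ Fin H.index := Fintype.equivFinOfCardEq (by
    rw [← Nat.card_eq_fintype_card, ← index_eq_card])
  let f₀ : G →* Equiv.Perm (Fin H.index) :=
    e.permCongrHom.toMonoidHom.comp (MulAction.toPermHom G (G ⧸ H))
  refine ⟨f₀.codRestrict _ (fun g => Equiv.Perm.mem_alternatingGroup.2
    (sign_hom_eq_one hG f₀ g)), ?_⟩
  intro a b hab
  exact toPermHom_injective hH (e.permCongrHom.injective (congrArg Subtype.val hab))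

theorem card_dvd_factorial [IsSimpleGroup G] {H : Subgroup G} (hH : H ≠ ⊤) :
    Nat.card G ∣ H.index.factorial := by
  have := card_dvd_of_injective _ (toPermHom_injective hH)
  rwa [Nat.card_perm, ← index_eq_card] at this

theorem two_mul_card_dvd_factorial [IsSimpleGroup G] (hG : ¬ IsMulCommutative G) {H : Subgroup G}
    (hH : H ≠ ⊤) : 2 * Nat.card G ∣ H.index.factorial := by
  obtain ⟨f, hf⟩ := exists_hom_alternating hG hH
  have h1 := mul_dvd_mul_left 2 (card_dvd_of_injective f hf)
  haveI : Nontrivial (Fin H.index) := by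
    rw [Fin.nontrivial_iff_two_le]
    exact (one_lt_index_of_ne_top hH)
  have h2 : 2 * Nat.card (alternatingGroup (Fin H.index)) = H.index.factorial := by
    rw [Nat.card_eq_fintype_card, two_mul_card_alternatingGroup, Fintype.card_perm,
      Fintype.card_fin]
  exact h2 ▸ h1

/-- The order of a subgroup times the index. -/
theorem index_eq_of_card {H : Subgroup G} {m n : ℕ} (hn : Nat.card G = n) (hH : Nat.card H = m) :
    H.index = n / m := by
  rw [← hn, ← hH, ← H.card_mul_index, Nat.mul_div_cancel_left _ Nat.card_pos]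

/-- If the order of a proper subgroup is `m`, then `|G|` divides `(|G|/m)!`. -/
theorem card_dvd_factorial_of_card [IsSimpleGroup G] {H : Subgroup G} {m n : ℕ}
    (hn : Nat.card G = n) (hH : Nat.card H = m) (hmn : m ≠ n) : n ∣ (n / m).factorial := by
  have hne : H ≠ ⊤ := fun h => hmn (by rw [← hH, ← hn, h, card_top])
  have := card_dvd_factorial hne
  rwa [index_eq_of_card hn hH, hn] at this

section Sylow

variable {p : ℕ} [Fact p.Prime]

theorem card_sylow_eq {n a m : ℕ} (hn : Nat.card G = n) (P : Sylow p G) (hpm : n = p ^ a * m)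
    (hm : ¬ p ∣ m) : Nat.card P = p ^ a := by
  rw [P.card_eq_multiplicity, hn, hpm]
  congr 1
  have hp := (Fact.out : p.Prime)
  rw [Nat.factorization_mul (pow_ne_zero _ hp.ne_zero) (by rintro rfl; simp at hm),
    hp.factorization_pow, Finsupp.add_apply, Finsupp.single_eq_same,
    Nat.factorization_eq_zero_of_not_dvd hm, add_zero]

/-- `|G| = n_p * |N(P)|`. -/
theorem card_sylow_mul_normalizer (P : Sylow p G) :
    Nat.card (Sylow p G) * Nat.card (normalizer ((P : Subgroup G) : Set G)) = Nat.card G := by
  rw [P.card_eq_index_normalizer]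
  exact index_mul_card _

theorem card_sylow_dvd {n a m : ℕ} (hn : Nat.card G = n) (hpm : n = p ^ a * m) (hm : ¬ p ∣ m) :
    Nat.card (Sylow p G) ∣ m ∧ Nat.card (Sylow p G) % p = 1 := by
  obtain ⟨P⟩ := Sylow.nonempty (p := p) (G := G)
  refine ⟨?_, ?_⟩
  · have h := P.card_dvd_index
    rwa [index_eq_of_card hn (card_sylow_eq hn P hpm hm), hpm,
      Nat.mul_div_cancel_left _ (pow_pos (Fact.out : p.Prime).pos _)] at h
  · have := card_sylow_modEq_one p G
    rwa [Nat.ModEq, Nat.mod_eq_of_lt (Fact.out : p.Prime).one_lt] at this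

/-- In a simple group of non-prime-power order, Sylow subgroups are not normal. -/
theorem normalizer_sylow_ne_top [IsSimpleGroup G] (P : Sylow p G) (h1 : p ∣ Nat.card G)
    (h2 : ∀ k, Nat.card G ≠ p ^ k) : normalizer ((P : Subgroup G) : Set G) ≠ ⊤ := by
  intro h
  rw [normalizer_eq_top_iff] at h
  rcases h.eq_bot_or_eq_top with hb | ht
  · exact (P.ne_bot_of_dvd_card h1) hb
  · obtain ⟨k, hk⟩ := P.2.exists_card_eq
    exact h2 k (by rw [← hk, ht, card_top])

theorem card_sylow_ne_one [IsSimpleGroup G] (h1 : p ∣ Nat.card G)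
    (h2 : ∀ k, Nat.card G ≠ p ^ k) : Nat.card (Sylow p G) ≠ 1 := by
  obtain ⟨P⟩ := Sylow.nonempty (p := p) (G := G)
  rw [P.card_eq_index_normalizer, Ne, index_eq_one]
  exact normalizer_sylow_ne_top P h1 h2

/-- Burnside: in a non-commutative simple group a non-trivial Sylow subgroup is not central in its
normalizer. -/
theorem not_normalizer_le_centralizer [IsSimpleGroup G] (hG : ¬ IsMulCommutative G)
    (P : Sylow p G) (h1 : p ∣ Nat.card G) :
    ¬ normalizer ((P : Subgroup G) : Set G) ≤ centralizer ((P : Subgroup G) : Set G) := by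
  intro h
  have hc := MonoidHom.ker_transferSylow_isComplement' P h
  rcases Subgroup.Normal.eq_bot_or_eq_top (H := (MonoidHom.transferSylow P h).ker)
    inferInstance with hb | ht
  · rw [hb, isComplement'_bot_left] at hc
    refine hG (isMulCommutative_of_forall fun a b => ?_)
    have ha : a ∈ centralizer ((P : Subgroup G) : Set G) :=
      h (le_normalizer (hc ▸ mem_top a))
    exact (mem_centralizer_iff.1 ha b (SetLike.mem_coe.2 (hc ▸ mem_top b))).symm
  · rw [ht, isComplement'_top_left] at hc
    exact (P.ne_bot_of_dvd_card h1) hc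

/-- The index of `C(P)` in `N(P)` is a nontrivial number dividing `|G|`, prime to `p` when `P` is
commutative. -/
theorem one_lt_relIndex_centralizer [IsSimpleGroup G] (hG : ¬ IsMulCommutative G)
    (P : Sylow p G) (h1 : p ∣ Nat.card G) :
    1 < (centralizer ((P : Subgroup G) : Set G)).relIndex
      (normalizer ((P : Subgroup G) : Set G)) := by
  refine Nat.one_lt_iff_ne_zero_and_ne_one.2 ⟨?_, ?_⟩
  · exact FiniteIndex.index_ne_zero
  · rw [Ne, relIndex_eq_one]
    exact not_normalizer_le_centralizer hG P h1

end Sylow

theorem relIndex_centralizer_dvd_mulAut (H : Subgroup G) :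
    (centralizer (H : Set G)).relIndex (normalizer (H : Set G)) ∣ Nat.card (MulAut H) := by
  have key := card_dvd_of_injective _ (QuotientGroup.kerLift_injective H.normalizerMonoidHom)
  rwa [normalizerMonoidHom_ker, ← index, ← relIndex] at key

/-- For `P` of prime order, `[N(P) : C(P)]` divides `p - 1`. -/
theorem relIndex_centralizer_dvd_of_prime {p : ℕ} (hp : p.Prime) (H : Subgroup G)
    (hH : Nat.card H = p) :
    (centralizer (H : Set G)).relIndex (normalizer (H : Set G)) ∣ p - 1 := by
  haveI := Fact.mk hp
  haveI : IsCyclic H := isCyclic_of_prime_card hH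
  have := relIndex_centralizer_dvd_mulAut H
  rwa [IsCyclic.card_mulAut, hH, Nat.totient_prime hp] at this

/-- A subgroup of order `p` centralizes itself, so `p ∣ |C(H)|`. -/
theorem dvd_card_centralizer_of_prime {p : ℕ} (hp : p.Prime) (H : Subgroup G)
    (hH : Nat.card H = p) : p ∣ Nat.card (centralizer (H : Set G)) := by
  haveI := Fact.mk hp
  haveI : IsCyclic H := isCyclic_of_prime_card hH
  letI : CommGroup H := IsCyclic.commGroup
  have hle : H ≤ centralizer (H : Set G) := fun a ha b hb =>
    congrArg Subtype.val (mul_comm (⟨b, hb⟩ : H) ⟨a, ha⟩)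
  exact hH ▸ card_dvd_of_le hle

theorem card_normalizer_eq_mul (H : Subgroup G) :
    Nat.card (normalizer (H : Set G)) = Nat.card (centralizer (H : Set G)) *
      (centralizer (H : Set G)).relIndex (normalizer (H : Set G)) := by
  have hle : centralizer (H : Set G) ≤ normalizer (H : Set G) := centralizer_le_normalizer _
  rw [← relIndex_bot_left, ← relIndex_bot_left,
    relIndex_mul_relIndex _ _ _ bot_le hle]

end Cfsg.Agent.H36
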