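import Cfsg.Agent.H36.Basic
import Mathlib.Algebra.Group.Conj
import Mathlib.GroupTheory.Rank
import Mathlib.Algebra.GroupWithZero.Units.Basic

/-!
# Fixed points on cosets and counting elements of prime order
-/

set_option autoImplicit false
set_option linter.unusedSectionVars false
set_option linter.style.haveILetI false

namespace Cfsg.Agent.H36

open Subgroup MulAction
open scoped Pointwise

variable {G : Type*} [Group G] [Finite G]

theorem smul_mk_eq_iff (H : Subgroup G) (x g : G) :
    x • (g : G ⧸ H) = (g : G ⧸ H) ↔ g⁻¹ * x * g ∈ H := by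
  rw [Quotient.smul_coe, smul_eq_mul, QuotientGroup.eq, mul_inv_rev]
  constructor <;> intro h
  · have := H.inv_mem h
    simpa [mul_assoc] using this
  · have := H.inv_mem h
    simpa [mul_assoc] using this

/-- Double counting of pairs (conjugate, fixed coset). -/
theorem card_fixedBy_mul_card_class (H : Subgroup G) (x : G) :
    Nat.card (MulAction.fixedBy (G ⧸ H) x) * Nat.card {g : G // IsConj x g} =
      H.index * Nat.card {g : G // IsConj x g ∧ g ∈ H} := by
  let S := {cq : {g : G // IsConj x g} × (G ⧸ H) // (cq.1 : G) • cq.2 = cq.2}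
  have e1 : S ≃ (Σ c : {g : G // IsConj x g}, MulAction.fixedBy (G ⧸ H) (c : G)) :=
    { toFun := fun s => ⟨s.1.1, s.1.2, s.2⟩
      invFun := fun s => ⟨(s.1, s.2.1), s.2.2⟩
      left_inv := fun _ => rfl
      right_inv := fun _ => rfl }
  have e2 : S ≃ (Σ q : G ⧸ H, {g : G // IsConj x g ∧ g • q = q}) :=
    { toFun := fun s => ⟨s.1.2, s.1.1.1, s.1.1.2, s.2⟩
      invFun := fun s => ⟨(⟨s.2.1, s.2.2.1⟩, s.1), s.2.2.2⟩
      left_inv := fun _ => rfl
      right_inv := fun _ => rfl }
  have k1 : ∀ c : {g : G // IsConj x g},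
      Nat.card (MulAction.fixedBy (G ⧸ H) (c : G)) = Nat.card (MulAction.fixedBy (G ⧸ H) x) := by
    rintro ⟨c, hc⟩
    obtain ⟨u, hu⟩ := isConj_iff.1 hc
    refine Nat.card_congr
      { toFun := fun q => ⟨u⁻¹ • q.1, ?_⟩
        invFun := fun q => ⟨u • q.1, ?_⟩
        left_inv := fun q => Subtype.ext (smul_inv_smul u q.1)
        right_inv := fun q => Subtype.ext (inv_smul_smul u q.1) }
    · have hq : c • q.1 = q.1 := q.2
      show x • u⁻¹ • q.1 = u⁻¹ • q.1
      rw [smul_smul, show x * u⁻¹ = u⁻¹ * c from by rw [← hu]; group, mul_smul, hq]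
    · have hq : x • q.1 = q.1 := q.2
      show c • u • q.1 = u • q.1
      rw [smul_smul, show c * u = u * x from by rw [← hu]; group, mul_smul, hq]
  have k2 : ∀ q : G ⧸ H, Nat.card {g : G // IsConj x g ∧ g • q = q} =
      Nat.card {g : G // IsConj x g ∧ g ∈ H} := by
    intro q
    induction q using QuotientGroup.induction_on with
    | _ a =>
      refine Nat.card_congr
        { toFun := fun g => ⟨a⁻¹ * g.1 * a, g.2.1.trans (isConj_iff.2 ⟨a⁻¹, by group⟩),
            (smul_mk_eq_iff H _ a).1 g.2.2⟩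
          invFun := fun g => ⟨a * g.1 * a⁻¹, g.2.1.trans (isConj_iff.2 ⟨a, rfl⟩),
            (smul_mk_eq_iff H _ a).2 (by simpa [mul_assoc] using g.2.2)⟩
          left_inv := fun g => Subtype.ext (by simp [mul_assoc])
          right_inv := fun g => Subtype.ext (by simp [mul_assoc]) }
  haveI := Fintype.ofFinite {g : G // IsConj x g}
  haveI := Fintype.ofFinite (G ⧸ H)
  have h := (Nat.card_congr e1).symm.trans (Nat.card_congr e2)
  rw [Nat.card_sigma, Nat.card_sigma, Finset.sum_congr rfl (fun c _ => k1 c),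
    Finset.sum_congr rfl (fun q _ => k2 q)] at h
  simp only [Finset.sum_const, Finset.card_univ, smul_eq_mul, ← Nat.card_eq_fintype_card] at h
  rw [mul_comm, h, index_eq_card]

/-- The class of `x` times the centralizer is the group. -/
theorem card_class_mul_centralizer (x : G) :
    Nat.card {g : G // IsConj x g} * Nat.card (centralizer ({x} : Set G)) = Nat.card G := by
  have e : {g : G // IsConj x g} ≃ MulAction.orbit (ConjAct G) x :=
    Equiv.subtypeEquivRight fun g => by rw [ConjAct.mem_orbit_conjAct, isConj_comm]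
  rw [Nat.card_congr e, Subgroup.nat_card_centralizer_nat_card_stabilizer, ← Nat.card_prod,
    Nat.card_congr (MulAction.orbitProdStabilizerEquivGroup (ConjAct G) x)]
  exact Nat.card_congr ConjAct.toConjAct.toEquiv.symm

/-- An element normalizing but not centralizing a subgroup of prime order fixes at most one point
in each orbit of that subgroup. -/
theorem card_fixedBy_le_orbits {X : Type*} [MulAction G X] [Finite X] {p : ℕ} (hp : p.Prime)
    (P : Subgroup G) (hP : Nat.card P = p) {x : G} (hxN : x ∈ normalizer (P : Set G))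
    (hxC : x ∉ centralizer (P : Set G)) :
    Nat.card (MulAction.fixedBy X x) ≤ Nat.card (MulAction.orbitRel.Quotient P X) := by
  haveI := Fact.mk hp
  refine Nat.card_le_card_of_injective
    (fun a => (Quotient.mk'' (a : X) : MulAction.orbitRel.Quotient P X)) ?_
  rintro ⟨a, ha⟩ ⟨b, hb⟩ hab
  have hab' : a ∈ MulAction.orbit P b := Quotient.eq''.1 hab
  obtain ⟨⟨u, hu⟩, hua⟩ := hab'
  have hua : u • b = a := hua
  have hxa : x • a = a := ha
  have hxb : x • b = b := hb
  have hv : u⁻¹ * (x * u * x⁻¹) ∈ P :=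
    P.mul_mem (P.inv_mem hu) ((mem_normalizer_iff.1 hxN u).1 hu)
  have hxb' : x⁻¹ • b = b := inv_smul_eq_iff.2 hxb.symm
  have hfix : (u⁻¹ * (x * u * x⁻¹)) • b = b := by
    rw [mul_smul, mul_smul, mul_smul, hxb', hua, hxa, ← hua, inv_smul_smul]
  haveI : Fact (Nat.card P).Prime := ⟨by rw [hP]; exact hp⟩
  apply Subtype.ext
  show a = b
  rcases (MulAction.stabilizer P b).eq_bot_or_eq_top_of_prime_card with h | h
  · have h1 : (⟨_, hv⟩ : P) ∈ MulAction.stabilizer P b := hfix
    rw [h, Subgroup.mem_bot, Subtype.ext_iff] at h1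
    have h1 : u⁻¹ * (x * u * x⁻¹) = 1 := h1
    have hcomm : x * u = u * x := by
      have := eq_of_inv_mul_eq_one h1
      calc x * u = x * u * x⁻¹ * x := by group
        _ = u * x := by rw [← this]
    by_cases hu1 : u = 1
    · rw [← hua, hu1, one_smul]
    · exfalso
      refine hxC (mem_centralizer_iff.2 fun w hw => ?_)
      obtain ⟨k, hk⟩ := Subgroup.mem_zpowers_iff.1
        (mem_zpowers_of_prime_card (G := P) hP (g := ⟨u, hu⟩) (g' := ⟨w, hw⟩)
          (fun hh => hu1 (congrArg Subtype.val hh)))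
      have hk : u ^ k = w := congrArg Subtype.val hk
      rw [← hk]
      exact ((show Commute x u from hcomm).zpow_right k).symm.eq
  · have h1 : (⟨u, hu⟩ : P) ∈ MulAction.stabilizer P b := h ▸ Subgroup.mem_top _
    exact hua.symm.trans h1

section Sylow

variable {p : ℕ} [hp : Fact p.Prime]

theorem mem_smul_sylow_iff (g y : G) (P : Sylow p G) :
    y ∈ ((g • P : Sylow p G) : Subgroup G) ↔ g⁻¹ * y * g ∈ (P : Subgroup G) := by
  rw [Sylow.smul_def]
  show y ∈ MulAut.conj g • (P : Subgroup G) ↔ _
  rw [Subgroup.mem_pointwise_smul_iff_inv_smul_mem]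
  simp [MulAut.conj_apply, mul_assoc]

theorem card_sylow_congr (P Q : Sylow p G) :
    Nat.card (P : Subgroup G) = Nat.card (Q : Subgroup G) := by
  rw [P.card_eq_multiplicity, Q.card_eq_multiplicity]

/-- A Sylow subgroup of order `p` is generated by each of its elements of order `p`. -/
theorem sylow_eq_zpowers (P : Sylow p G) (hP : Nat.card (P : Subgroup G) = p) {y : G}
    (hy : orderOf y = p) (hmem : y ∈ (P : Subgroup G)) : zpowers y = (P : Subgroup G) :=
  eq_of_le_of_card_ge (zpowers_le.2 hmem) (by rw [hP, Nat.card_zpowers, hy])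

theorem exists_sylow_mem {y : G} (hy : orderOf y = p) :
    ∃ Q : Sylow p G, y ∈ (Q : Subgroup G) := by
  have hz : IsPGroup p (zpowers y) :=
    IsPGroup.of_card (n := 1) (by rw [Nat.card_zpowers, hy, pow_one])
  obtain ⟨Q, hQ⟩ := hz.exists_le_sylow
  exact ⟨Q, hQ (mem_zpowers y)⟩

/-- An element of `p`-power order in `N(P)` lies in `P`. -/
theorem mem_sylow_of_mem_normalizer (P : Sylow p G) {y : G}
    (hy : orderOf y = p) (hn : y ∈ normalizer ((P : Subgroup G) : Set G)) :
    y ∈ (P : Subgroup G) := by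
  have hz : IsPGroup p (zpowers y) :=
    IsPGroup.of_card (n := 1) (by rw [Nat.card_zpowers, hy, pow_one])
  have : y ∈ zpowers y ⊓ normalizer ((P : Subgroup G) : Set G) := ⟨mem_zpowers y, hn⟩
  exact ((hz.inf_normalizer_sylow P).le this).2

/-- An element of order `p` fixes exactly one coset of the normalizer of a Sylow subgroup of
order `p`. -/
theorem card_fixedBy_eq_one_of_orderOf (P : Sylow p G) (hP : Nat.card (P : Subgroup G) = p)
    {y : G} (hy : orderOf y = p) :
    Nat.card (MulAction.fixedBy (G ⧸ normalizer ((P : Subgroup G) : Set G)) y) = 1 := by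
  have key : ∀ g : G, y • (g : G ⧸ normalizer ((P : Subgroup G) : Set G)) = (g : G ⧸ _) →
      y ∈ ((g • P : Sylow p G) : Subgroup G) := by
    intro g hg
    rw [smul_mk_eq_iff] at hg
    rw [mem_smul_sylow_iff]
    refine mem_sylow_of_mem_normalizer P ?_ hg
    rw [show g⁻¹ * y * g = MulAut.conj g⁻¹ y by simp, MulEquiv.orderOf_eq, hy]
  refine Nat.card_eq_one_iff_unique.2 ⟨⟨fun a b => ?_⟩, ?_⟩
  · obtain ⟨a, ha⟩ := a
    obtain ⟨b, hb⟩ := b
    revert ha hb
    refine QuotientGroup.induction_on a (fun g => QuotientGroup.induction_on b fun h => ?_)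
    intro ha hb
    have e : (g • P : Sylow p G) = h • P := Sylow.ext <| by
      rw [← sylow_eq_zpowers (g • P) ((card_sylow_congr _ P).trans hP) hy (key g ha),
        ← sylow_eq_zpowers (h • P) ((card_sylow_congr _ P).trans hP) hy (key h hb)]
    apply Subtype.ext
    show (g : G ⧸ normalizer ((P : Subgroup G) : Set G)) =
      (h : G ⧸ normalizer ((P : Subgroup G) : Set G))
    rw [QuotientGroup.eq]
    refine Sylow.smul_eq_iff_mem_normalizer.1 ?_
    rw [mul_smul, ← e, inv_smul_smul]
  · obtain ⟨Q, hQ⟩ := exists_sylow_mem hy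
    obtain ⟨g, hg⟩ := MulAction.exists_smul_eq G P Q
    refine ⟨⟨(g : G ⧸ _), ?_⟩⟩
    show y • (g : G ⧸ normalizer ((P : Subgroup G) : Set G)) = _
    rw [smul_mk_eq_iff]
    exact le_normalizer ((mem_smul_sylow_iff g y P).1 (hg ▸ hQ))

/-- With Sylow subgroups of order `p`, there are `n_p * (p - 1)` elements of order `p`. -/
theorem card_orderOf_eq (P : Sylow p G) (hP : Nat.card (P : Subgroup G) = p) :
    Nat.card {g : G // orderOf g = p} = Nat.card (Sylow p G) * (p - 1) := by
  classical
  let f : {g : G // orderOf g = p} → Sylow p G := fun g => (exists_sylow_mem g.2).choose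
  have hf : ∀ g, (g : G) ∈ (f g : Subgroup G) := fun g => (exists_sylow_mem g.2).choose_spec
  have hcard : ∀ Q : Sylow p G, Nat.card (Q : Subgroup G) = p :=
    fun Q => (card_sylow_congr Q P).trans hP
  rw [← Nat.card_congr (Equiv.sigmaFiberEquiv f)]
  haveI := Fintype.ofFinite (Sylow p G)
  rw [Nat.card_sigma, Finset.sum_congr rfl (fun Q _ => ?_), Finset.sum_const, Finset.card_univ,
    smul_eq_mul, ← Nat.card_eq_fintype_card]
  have e : {g : {g : G // orderOf g = p} // f g = Q} ≃
      {q : (Q : Subgroup G) // q ≠ 1} :=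
    { toFun := fun g => ⟨⟨g.1.1, by have := hf g.1; rwa [g.2] at this⟩, fun h => by
          have h' := g.1.2
          have h1 : (g.1.1 : G) = 1 := by simpa using congrArg Subtype.val h
          rw [h1, orderOf_one] at h'
          exact hp.out.one_lt.ne h'⟩
      invFun := fun q => ⟨⟨q.1.1, by
          rw [Subgroup.orderOf_coe]
          refine orderOf_eq_prime ?_ q.2
          have := pow_card_eq_one' (x := q.1)
          rwa [hcard Q] at this⟩, by
          set g : {g : G // orderOf g = p} := ⟨q.1.1, _⟩ with hg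
          apply Sylow.ext
          rw [← sylow_eq_zpowers (f g) (hcard _) g.2 (hf g),
            ← sylow_eq_zpowers Q (hcard _) g.2 q.1.2]⟩
      left_inv := fun g => Subtype.ext (Subtype.ext rfl)
      right_inv := fun q => Subtype.ext (Subtype.ext rfl) }
  rw [Nat.card_congr e]
  haveI := Fintype.ofFinite (Q : Subgroup G)
  rw [Nat.card_eq_fintype_card, Fintype.card_subtype_compl, Fintype.card_subtype_eq,
    ← Nat.card_eq_fintype_card, hcard Q]

end Sylow

end Cfsg.Agent.H36
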