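import Cfsg.Agent.H36.SelfCentral
import Cfsg.Agent.H83.ClassConst
import Cfsg.Agent.CharBasic.Kernel

/-!
# Degree equations for simple groups with a self-centralizing subgroup of prime order

When `[N(P) : P]` is two or three, Brauer's degree equation has three or four terms. For two, the
class multiplication constant of an involution gives a second equation.
-/

set_option autoImplicit false
set_option linter.unusedSectionVars false
set_option linter.style.haveILetI false

open scoped ComplexConjugate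
open Subgroup Cfsg

namespace Cfsg.Agent.H36.SelfCentral

open Cfsg.Agent.CharBasic

variable {G : Type*} [Group G] [Fintype G]

/-- The trivial character. -/
noncomputable def triv (G : Type*) [Group G] [Fintype G] : IrrCharacter G :=
  ⟨fun _ => 1, isIrrCharacter_one⟩

theorem ker_trivial [IsSimpleGroup G] {χ : IrrCharacter G} (h : χ ≠ triv G) {g : G}
    (hg : (χ : G → ℂ) g = (χ : G → ℂ) 1) : g = 1 := by
  obtain ⟨N, hN, hmem, -⟩ := IsChar.exists_kernel (IsIrr.isCharacter χ.2)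
  rcases hN.eq_bot_or_eq_top with hb | ht
  · exact Subgroup.mem_bot.1 (hb ▸ (hmem g).2 hg)
  · exfalso
    have h0 : classInner (χ : G → ℂ) (triv G : G → ℂ) = 0 :=
      classInner_irr_of_ne χ.2 (triv G).2 fun h' => h (Subtype.ext h')
    have hc : (χ : G → ℂ) = (χ : G → ℂ) 1 • (triv G : G → ℂ) := by
      funext x
      rw [Pi.smul_apply, smul_eq_mul]
      show (χ : G → ℂ) x = (χ : G → ℂ) 1 * 1
      rw [mul_one]
      exact (hmem x).1 (ht ▸ mem_top x)
    rw [hc, classInner_smul_left, classInner_irr_self (triv G).2, mul_one] at h0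
    exact IsIrr.one_ne_zero χ.2 h0

theorem exists_degree_two_le [IsSimpleGroup G] (hG : ¬ IsMulCommutative G) {χ : IrrCharacter G}
    (h : χ ≠ triv G) :
    ∃ d : ℕ, 2 ≤ d ∧ (χ : G → ℂ) 1 = d ∧ d ∣ Nat.card G := by
  obtain ⟨h1, hpos⟩ := H83.charDegree_eq χ.2
  refine ⟨_, ?_, h1, H83.charDegree_dvd_card χ.2⟩
  by_contra hlt
  have hd : charDegree (χ : G → ℂ) = 1 := by omega
  obtain ⟨n, ρ, hρ, hχ⟩ := χ.2
  have hn : n = 1 := by
    rw [hd, ← congrFun hχ 1, Representation.char_one, Module.finrank_fin_fun] at h1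
    exact_mod_cast h1
  subst hn
  have hdet := hom_comm_eq_one hG (MonoidHom.toHomUnits (LinearMap.det.comp ρ))
  apply h
  apply Subtype.ext
  funext g
  show (χ : G → ℂ) g = 1
  have h2 : LinearMap.det (ρ g) = 1 := congrArg Units.val (DFunLike.congr_fun hdet g)
  rw [← congrFun hχ g]
  rw [← LinearMap.det_toMatrix', Matrix.det_fin_one] at h2
  show LinearMap.trace ℂ _ (ρ g) = 1
  rw [LinearMap.trace_eq_matrix_trace ℂ (Pi.basisFun ℂ (Fin 1)), Matrix.trace_fin_one]
  exact h2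

theorem exists_int_involution (χ : IrrCharacter G) {z : G} (hz : z * z = 1) (hz1 : z ≠ 1) {d : ℕ}
    (hd : (χ : G → ℂ) 1 = d) : ∃ x : ℤ, (χ : G → ℂ) z = x ∧ x.natAbs ≤ d := by
  classical
  obtain ⟨m, hm⟩ := H83.sum_subgroup_eq (IsIrr.isCharacter χ.2) (zpowers z)
  have ho : orderOf z = 2 := orderOf_eq_prime (by rw [pow_two, hz]) hz1
  have hcard : Nat.card (zpowers z) = 2 := by rw [Nat.card_zpowers, ho]
  have hu : (Finset.univ : Finset (zpowers z)) = {1, ⟨z, mem_zpowers z⟩} := by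
    symm
    refine Finset.eq_univ_of_card _ ?_
    rw [Finset.card_pair (fun h => hz1 (congrArg Subtype.val h).symm),
      ← Nat.card_eq_fintype_card, hcard]
  rw [hu, Finset.sum_pair (fun h => hz1 (congrArg Subtype.val h).symm), hcard] at hm
  have hval : (χ : G → ℂ) z = ((2 * m - d : ℤ) : ℂ) := by
    push_cast
    rw [← hd]
    exact eq_sub_of_add_eq (by rw [add_comm]; exact_mod_cast hm)
  refine ⟨_, hval, ?_⟩
  have h := IsChar.norm_le (IsIrr.isCharacter χ.2) z
  rw [hd, hval, Complex.norm_intCast, Complex.norm_natCast] at h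
  have h2 : |(2 * m - d : ℤ)| ≤ (d : ℤ) := by exact_mod_cast h
  rw [abs_le] at h2
  omega

variable {p : ℕ} [Fact p.Prime] {P : Subgroup G}

theorem off_of_involution (hP : Nat.card P = p) (hp : p ≠ 2) {z : G} (hz : z * z = 1) :
    Off P z := by
  intro x hx
  have h2 : (x⁻¹ * z * x) ^ 2 = 1 := by
    rw [pow_two, show x⁻¹ * z * x * (x⁻¹ * z * x) = x⁻¹ * (z * z) * x by group, hz]
    group
  have hd : orderOf (⟨_, hx⟩ : P) ∣ 2 := orderOf_dvd_of_pow_eq_one (Subtype.ext h2)
  have hd' : orderOf (⟨_, hx⟩ : P) ∣ p := hP ▸ orderOf_dvd_natCard _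
  have hcop : Nat.Coprime 2 p :=
    (Nat.coprime_primes Nat.prime_two (Fact.out : p.Prime)).2 hp.symm
  exact congrArg Subtype.val (orderOf_eq_one_iff.1 (Nat.eq_one_of_dvd_coprimes hcop hd hd'))

/-- Brauer's degree equation with `[N(P) : P] = 2, 3`. -/
theorem exists_equation [IsSimpleGroup G] (hG : ¬ IsMulCommutative G) (hP : Nat.card P = p)
    (hC : centralizer (P : Set G) = P) {e : ℕ} (he : P.relIndex (normalizer (P : Set G)) = e)
    (he3 : e = 2 ∨ e = 3) (hp : e + 2 ≤ p) :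
    ∃ (O : Finset (IrrCharacter G)) (a : IrrCharacter G → ℤ) (μ₀ : IrrCharacter G) (s' : ℤ),
      triv G ∉ O ∧ μ₀ ≠ triv G ∧ O.card + 1 = e ∧ (s' = 1 ∨ s' = -1) ∧
      (∀ ψ ∈ O, (a ψ = 1 ∨ a ψ = -1) ∧ ∃ m : ℤ, (ψ : G → ℂ) 1 = a ψ + p * m) ∧
      (∀ g, Off P g → 1 + ∑ ψ ∈ O, (a ψ : ℂ) * (ψ : G → ℂ) g + (s' : ℂ) * (μ₀ : G → ℂ) g = 0) ∧
      ∀ g, Off P g → ∀ v : P, v ≠ 1 → ∀ F : ℂ → ℂ → ℂ,
        ∑ χ : IrrCharacter G, F ((χ : G → ℂ) g) ((χ : G → ℂ) 1) * (χ : G → ℂ) v =
          F 1 1 + ∑ ψ ∈ O, F ((ψ : G → ℂ) g) ((ψ : G → ℂ) 1) * a ψ +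
            F ((μ₀ : G → ℂ) g) ((μ₀ : G → ℂ) 1) * s' := by
  classical
  obtain ⟨φ⟩ := exists_iso hP
  have hcU : Nat.card (U φ) = e := (card_U φ hP hC).1.trans he
  have hte : e * (U φ).index = p - 1 := by
    rw [← hcU, card_mul_index, Nat.card_eq_fintype_card, ZMod.card_units]
  have ht2 : 2 ≤ (U φ).index := by
    by_contra h
    interval_cases h' : (U φ).index <;> omega
  obtain ⟨μ, i₀, ε, A, a, hε, hμ, hμ1, htriv, hsq, ha0, ha, hother, -, hsumv, hoff, horth⟩ :=
    exists_data φ hP hC ht2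
  rw [hcU] at hsq
  generalize ht : (U φ).index = t at *
  let O : Finset (IrrCharacter G) :=
    Finset.univ.filter fun ψ => ψ ∉ Set.range μ ∧ ψ ≠ triv G ∧ a ψ ≠ 0
  have hdec : ∀ (w : IrrCharacter G → ℂ), (∀ ψ, ψ ∉ Set.range μ → a ψ = 0 → w ψ = 0) →
      ∑ ψ, w ψ = w (triv G) + ∑ ψ ∈ O, w ψ + ∑ i, w (μ i) := by
    intro w hw
    rw [← Finset.sum_filter_add_sum_filter_not Finset.univ (fun ψ => ψ ∈ Set.range μ)]
    have h1 : ∑ ψ ∈ Finset.univ.filter (fun ψ => ψ ∈ Set.range μ), w ψ = ∑ i, w (μ i) := by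
      refine (Finset.sum_bij (fun i _ => μ i) ?_ ?_ ?_ fun _ _ => rfl).symm
      · intro i _; simp
      · intro i _ j _ h; exact hμ h
      · intro ψ hψ
        obtain ⟨i, rfl⟩ := (Finset.mem_filter.1 hψ).2
        exact ⟨i, Finset.mem_univ _, rfl⟩
    have h2 : ∑ ψ ∈ Finset.univ.filter (fun ψ => ψ ∉ Set.range μ), w ψ =
        ∑ ψ ∈ insert (triv G) O, w ψ := by
      symm
      refine Finset.sum_subset ?_ ?_
      · intro ψ hψ
        rcases Finset.mem_insert.1 hψ with rfl | h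
        · simp only [Finset.mem_filter, Finset.mem_univ, true_and, Set.mem_range, not_exists]
          exact fun i h => hμ1 i (congrArg Subtype.val h)
        · simp only [O, Finset.mem_filter] at h ⊢
          exact ⟨h.1, h.2.1⟩
      · intro ψ h1 h2
        simp only [O, Finset.mem_filter, Finset.mem_univ, true_and, Finset.mem_insert] at h1 h2
        push Not at h2
        exact hw ψ h1 (h2.2 h1 h2.1)
    rw [h1, h2, Finset.sum_insert (by simp [O])]
    ring
  have hat : a (triv G) = 1 := htriv _ rfl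
  have hμsum : ∀ f : ℤ → ℤ, ∑ i, f (a (μ i)) = f (A - ε) + ((t : ℤ) - 1) * f A := by
    intro f
    rw [← Finset.add_sum_erase _ _ (Finset.mem_univ i₀), ha0,
      Finset.sum_congr rfl (fun i hi => congrArg f (ha i (Finset.ne_of_mem_erase hi))),
      Finset.sum_const, Finset.card_erase_of_mem (Finset.mem_univ _), Finset.card_univ,
      Fintype.card_fin, nsmul_eq_mul, Nat.cast_sub (Fin.pos i₀), Nat.cast_one]
  -- the equation at elements meeting `P` trivially
  have heq : ∀ g, Off P g → 1 + ∑ ψ ∈ O, (a ψ : ℂ) * (ψ : G → ℂ) g +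
      (((t : ℤ) * A - ε : ℤ) : ℂ) * (μ i₀ : G → ℂ) g = 0 := by
    intro g hg
    have h := horth g hg
    rw [hdec _ (fun ψ _ h0 => by simp [h0])] at h
    simp only [hoff g hg, hat, ← Finset.sum_mul, ← Int.cast_sum] at h
    rw [hμsum fun x => x] at h
    rw [← h]
    simp only [triv, Int.cast_one, one_mul]
    congr 2
    push_cast
    ring
  have hsqO : 1 + ∑ ψ ∈ O, a ψ ^ 2 + ((A - ε) ^ 2 + ((t : ℤ) - 1) * A ^ 2) = (e : ℤ) + 1 := by
    have h := hdec (fun ψ => ((a ψ ^ 2 : ℤ) : ℂ)) (fun ψ _ h0 => by simp [h0])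
    rw [← Int.cast_sum, ← Int.cast_sum, ← Int.cast_sum, hsq, hμsum fun x => x ^ 2, hat,
      ← Int.cast_add, ← Int.cast_add] at h
    rw [show (1 : ℤ) = 1 ^ 2 from rfl]
    exact_mod_cast h.symm
  have hO1 : (O.card : ℤ) ≤ ∑ ψ ∈ O, a ψ ^ 2 := by
    rw [Finset.card_eq_sum_ones, Nat.cast_sum]
    refine Finset.sum_le_sum fun ψ hψ => ?_
    have h0 : a ψ ≠ 0 := (Finset.mem_filter.1 hψ).2.2.2
    have := mul_self_pos.2 h0
    rw [pow_two]; push_cast; omega
  have hne : μ i₀ ≠ triv G := fun h => hμ1 i₀ (congrArg Subtype.val h)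
  have hOne : O.Nonempty := by
    by_contra h
    rw [Finset.not_nonempty_iff_eq_empty] at h
    have h1 := heq 1 (off_one P)
    obtain ⟨d, hd2, hd, -⟩ := exists_degree_two_le hG hne
    rw [h, Finset.sum_empty, add_zero, hd] at h1
    have h3 : (1 : ℤ) + ((t : ℤ) * A - ε) * d = 0 := by exact_mod_cast h1
    have h4 : (d : ℤ) ∣ 1 := ⟨-((t : ℤ) * A - ε), by linarith⟩
    rw [Int.natCast_dvd, Int.natAbs_one, Nat.dvd_one] at h4
    omega
  -- the possibilities
  have hOpos := hOne.card_pos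
  have hA : (A = 0 ∧ True) ∨ (A = ε ∧ t = 2) := by
    have hN : (A - ε) ^ 2 + ((t : ℤ) - 1) * A ^ 2 + 1 ≤ e := by
      have h1 : (1 : ℤ) ≤ O.card := by exact_mod_cast hOpos
      linarith
    have he' : (e : ℤ) ≤ 3 := by omega
    have ht1 : (1 : ℤ) ≤ (t : ℤ) - 1 := by omega
    have h5 : (A - ε) ^ 2 + A ^ 2 ≤ 2 := by nlinarith [mul_le_mul_of_nonneg_right ht1 (sq_nonneg A)]
    have hb : A.natAbs ≤ 1 := by
      have : A ^ 2 < 2 ^ 2 := by nlinarith [sq_nonneg (A - ε)]
      obtain ⟨h1, h2⟩ := abs_lt.1 (abs_lt_of_sq_lt_sq this (by norm_num))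
      omega
    obtain rfl | rfl | rfl : A = 0 ∨ A = 1 ∨ A = -1 := by omega
    · exact Or.inl ⟨rfl, trivial⟩
    all_goals
      rcases hε with rfl | rfl
      all_goals norm_num at h5
      all_goals norm_num at hN
      all_goals simp only [true_and, and_true]
      all_goals
        rcases he3 with rfl | rfl
        · omega
        · by_contra ht'
          have hp10 : p = 10 := by
            obtain rfl : t = 3 := by omega
            omega
          exact absurd (hp10 ▸ (Fact.out : p.Prime)) (by norm_num)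
  have hN : (A - ε) ^ 2 + ((t : ℤ) - 1) * A ^ 2 = 1 ∧
      ((t : ℤ) * A - ε = 1 ∨ (t : ℤ) * A - ε = -1) := by
    rcases hA with ⟨rfl, -⟩ | ⟨rfl, h2⟩
    · rcases hε with rfl | rfl <;> simp
    · rw [h2]
      rcases hε with rfl | rfl <;> norm_num
  have hO2 : ∀ ψ ∈ O, a ψ = 1 ∨ a ψ = -1 := by
    intro ψ hψ
    have h0 : a ψ ≠ 0 := (Finset.mem_filter.1 hψ).2.2.2
    by_contra hbad
    have h4 : 4 ≤ a ψ ^ 2 := by
      have : 2 ≤ a ψ ∨ a ψ ≤ -2 := by omega
      rcases this with h | h <;> nlinarith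
    have := Finset.single_le_sum (fun x _ => sq_nonneg (a x)) hψ
    rw [hN.1] at hsqO
    rcases he3 with rfl | rfl <;> push_cast at hsqO <;> omega
  have hOcard : O.card + 1 = e := by
    have : ∑ ψ ∈ O, a ψ ^ 2 = (O.card : ℤ) := by
      rw [Finset.card_eq_sum_ones, Nat.cast_sum]
      refine Finset.sum_congr rfl fun ψ hψ => ?_
      rcases hO2 ψ hψ with h | h <;> rw [h] <;> norm_num
    rw [hN.1, this] at hsqO
    omega
  refine ⟨O, a, μ i₀, (t : ℤ) * A - ε, by simp [O], hne, hOcard, hN.2,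
    fun ψ hψ => ⟨hO2 ψ hψ, (hother ψ (Finset.mem_filter.1 hψ).2.1).2⟩, heq,
    fun g hg v hv F => ?_⟩
  rw [hdec _ (fun ψ hψ h0 => by rw [(hother ψ hψ).1 v hv, h0, Int.cast_zero, mul_zero])]
  have e1 : ∀ ψ ∈ O, F ((ψ : G → ℂ) g) ((ψ : G → ℂ) 1) * (ψ : G → ℂ) v =
      F ((ψ : G → ℂ) g) ((ψ : G → ℂ) 1) * a ψ := fun ψ hψ => by
    rw [(hother ψ (Finset.mem_filter.1 hψ).2.1).1 v hv]
  rw [Finset.sum_congr rfl e1]
  simp only [hoff g hg, hoff 1 (off_one P), ← Finset.mul_sum, hsumv v hv]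
  simp [triv]

/-- With `[N(P) : P] = 2` the elements of `N(P) \ P` are conjugate. -/
theorem isConj_of_not_mem (hP : Nat.card P = p)
    (hC : centralizer (P : Set G) = P) (he : P.relIndex (normalizer (P : Set G)) = 2)
    (hp : p ≠ 2) {b g : G} (hb : b ∈ normalizer (P : Set G)) (hbP : b ∉ P)
    (hg : g ∈ normalizer (P : Set G)) (hgP : g ∉ P) : IsConj b g := by
  obtain ⟨φ⟩ := exists_iso hP
  have hcU : Nat.card (U φ) = 2 := (card_U φ hP hC).1.trans he
  have hmult : ∀ n : normalizer (P : Set G), (n : G) ∉ P → mult φ n = -1 := by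
    intro n hn
    have h1 : unitHom φ n ^ 2 = 1 := by
      have h := pow_card_eq_one' (x := (⟨unitHom φ n, n, rfl⟩ : U φ))
      rw [hcU] at h
      exact congrArg Subtype.val h
    have h2 : mult φ n * mult φ n = 1 := by
      rw [← coe_unitHom, ← Units.val_mul, ← pow_two, h1, Units.val_one]
    rcases mul_self_eq_one_iff.1 h2 with h | h
    · refine absurd ((mem_ker_unitHom φ hC n).1 ?_) hn
      rw [MonoidHom.mem_ker, Units.ext_iff, coe_unitHom, h, Units.val_one]
    · exact h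
  have hconj : ∀ y : P, b * (y : G) * b⁻¹ = (y : G)⁻¹ := by
    intro y
    have h2 : conjP P ⟨b, hb⟩ y = y⁻¹ := φ.injective (Multiplicative.toAdd.injective (by
      rw [toAdd_conjP, hmult ⟨b, hb⟩ hbP, neg_one_mul, map_inv, toAdd_inv]))
    exact congrArg Subtype.val h2
  have hmem : g * b⁻¹ ∈ P := by
    have h1 : (⟨g, hg⟩ * ⟨b, hb⟩⁻¹ : normalizer (P : Set G)) ∈ (unitHom φ).ker := by
      rw [MonoidHom.mem_ker, map_mul, map_inv, mul_inv_eq_one, Units.ext_iff, coe_unitHom,
        coe_unitHom, hmult ⟨g, hg⟩ hgP, hmult ⟨b, hb⟩ hbP]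
    exact (mem_ker_unitHom φ hC _).1 h1
  obtain ⟨r, hr⟩ := (Nat.Coprime.pow_left_bijective (G := P) (n := 2) (by
    rw [hP]
    exact (Nat.coprime_primes (Fact.out : p.Prime) Nat.prime_two).2 hp)).2 ⟨_, hmem⟩
  have hr' : (r : G) * (r : G) = g * b⁻¹ := by
    rw [← pow_two, ← Subgroup.coe_pow]
    exact congrArg Subtype.val hr
  refine isConj_iff.2 ⟨(r : G), ?_⟩
  have h4 : b * (r : G)⁻¹ = (r : G) * b := by
    have := hconj r⁻¹
    rw [Subgroup.coe_inv, inv_inv] at this
    exact mul_inv_eq_iff_eq_mul.1 this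
  rw [mul_assoc, h4, ← mul_assoc, hr', inv_mul_cancel_right]

/-- Brauer's criterion for `[N(P) : P] = 2`, with the fusion of involutions. -/
theorem criterion_two' [IsSimpleGroup G] (hG : ¬ IsMulCommutative G) (hP : Nat.card P = p)
    (hC : centralizer (P : Set G) = P) (he : P.relIndex (normalizer (P : Set G)) = 2)
    (hp : 5 ≤ p) {z : G} (hz : z * z = 1) (hz1 : z ≠ 1) :
    ∃ B x : ℤ, 2 ≤ B.natAbs ∧ B.natAbs ∣ Nat.card G ∧ (B + 1).natAbs ∣ Nat.card G ∧
      (p : ℤ) ∣ B - 1 ∧ x.natAbs ≤ B.natAbs ∧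
      (B - x) ^ 2 * Nat.card G =
        p * (Nat.card (centralizer ({z} : Set G)) : ℤ) ^ 2 * (B * (B + 1)) ∧
      ∀ g ∈ normalizer (P : Set G), g ∉ P → IsConj z g := by
  classical
  obtain ⟨O, a, μ₀, s', htO, hμ0, hO, hs', hψO, heq, hsum⟩ :=
    exists_equation hG hP hC he (Or.inl rfl) (by omega)
  obtain ⟨ψ, rfl⟩ := Finset.card_eq_one.1 (show O.card = 1 by omega)
  obtain ⟨hs, m, hm⟩ := hψO ψ (Finset.mem_singleton_self _)
  have hψ : ψ ≠ triv G := fun h => htO (by simp [h])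
  obtain ⟨D, hD2, hD, hDdvd⟩ := exists_degree_two_le hG hψ
  obtain ⟨d, hd2, hd, hddvd⟩ := exists_degree_two_le hG hμ0
  obtain ⟨X, hX, hXD⟩ := exists_int_involution ψ hz hz1 hD
  obtain ⟨Y, hY, -⟩ := exists_int_involution μ₀ hz hz1 hd
  set s := a ψ
  have e1 := heq 1 (off_one P)
  have e2 := heq z (off_of_involution hP (by omega) hz)
  simp only [Finset.sum_singleton, hD, hd, hX, hY] at e1 e2
  have E1 : 1 + s * D + s' * d = 0 := by exact_mod_cast e1
  have E2 : 1 + s * X + s' * Y = 0 := by exact_mod_cast e2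
  have hs2 : s * s = 1 := by rcases hs with h | h <;> rw [h] <;> norm_num
  have hs'2 : s' * s' = 1 := by rcases hs' with h | h <;> rw [h] <;> norm_num
  have hBabs : (s * D : ℤ).natAbs = D := by
    rcases hs with h | h <;> rw [h] <;> simp
  refine ⟨s * D, s * X, hBabs.symm ▸ hD2, hBabs.symm ▸ hDdvd, ?_, ?_, ?_, ?_⟩
  · rw [show s * (D : ℤ) + 1 = -(s' * d) by linarith, Int.natAbs_neg]
    rcases hs' with h | h <;> rw [h] <;> simpa using hddvd
  · refine ⟨s * m, ?_⟩
    rw [hD] at hm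
    have hm' : (D : ℤ) = s + p * m := by exact_mod_cast hm
    rw [hm']
    linear_combination hs2
  · rw [hBabs, Int.natAbs_mul]
    rcases hs with h | h <;> rw [h] <;> simpa using hXD
  -- the class multiplication constant
  obtain ⟨φ⟩ := exists_iso hP
  set v : P := φ.symm (Multiplicative.ofAdd 1) with hv
  have hv1 : v ≠ 1 := fun h => by
    have h' : Multiplicative.ofAdd (1 : ZMod p) = 1 := by
      rw [← φ.apply_symm_apply (Multiplicative.ofAdd 1), ← hv, h, map_one]
    exact one_ne_zero (Multiplicative.ofAdd.injective (h'.trans ofAdd_zero.symm))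
  have hformula := H83.card_pairs_mul_card z z (v : G)
  have hF := hsum z (off_of_involution hP (by omega) hz) v hv1
    (fun X D => conj X * conj X / D)
  have hrw : ∑ χ : IrrCharacter G,
      conj ((χ : G → ℂ) z) * conj ((χ : G → ℂ) z) * (χ : G → ℂ) v / (χ : G → ℂ) 1 =
      ∑ χ : IrrCharacter G,
      conj ((χ : G → ℂ) z) * conj ((χ : G → ℂ) z) / (χ : G → ℂ) 1 * (χ : G → ℂ) v :=
    Finset.sum_congr rfl fun χ _ => by ring
  rw [hrw, hF] at hformula
  simp only [Finset.sum_singleton, hX, hY, hD, hd, map_intCast, map_one] at hformula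
  set n := Nat.card {b : G // IsConj z b ∧ IsConj z (b⁻¹ * (v : G))} with hn
  set k := (centralizer ({z} : Set G)).index with hk
  set c := Nat.card (centralizer ({z} : Set G)) with hc
  have hkc : k * c = Nat.card G := (centralizer ({z} : Set G)).index_mul_card
  -- the count is `0` or `p`
  have hcount : n = 0 ∨ n = p := by
    by_cases hex : ∃ b : G, IsConj z b ∧ IsConj z (b⁻¹ * (v : G))
    · right
      obtain ⟨b, hb, hbv⟩ := hex
      have hinv : ∀ b' : G, IsConj z b' → IsConj z (b'⁻¹ * (v : G)) →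
          b' * b' = 1 ∧ b' * (v : G) * b'⁻¹ = (v : G)⁻¹ := by
        intro b' hb hbv
        have h1 : b' * b' = 1 := by
          obtain ⟨x, rfl⟩ := isConj_iff.1 hb
          rw [show x * z * x⁻¹ * (x * z * x⁻¹) = x * (z * z) * x⁻¹ by group, hz]
          group
        have h2 : b'⁻¹ * (v : G) * (b'⁻¹ * (v : G)) = 1 := by
          obtain ⟨x, hx⟩ := isConj_iff.1 hbv
          rw [← hx, show x * z * x⁻¹ * (x * z * x⁻¹) = x * (z * z) * x⁻¹ by group, hz]
          group
        refine ⟨h1, ?_⟩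
        rw [inv_eq_of_mul_eq_one_right h1] at h2
        rw [inv_eq_of_mul_eq_one_right h1]
        exact eq_inv_of_mul_eq_one_left (by simpa [mul_assoc] using h2)
      have hN : ∀ b' : G, IsConj z b' → IsConj z (b'⁻¹ * (v : G)) →
          ∃ n' : normalizer (P : Set G), (n' : G) = b' ∧ mult φ n' = -1 := by
        intro b' hb hbv
        obtain ⟨-, h2⟩ := hinv b' hb hbv
        obtain ⟨n', rfl⟩ : ∃ n' : normalizer (P : Set G), (n' : G) = b' :=
          ⟨⟨b', mem_normalizer_of_conj hP v.2 (fun h => hv1 (Subtype.ext h))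
            (by rw [h2]; exact inv_mem v.2)⟩, rfl⟩
        refine ⟨n', rfl, ?_⟩
        have h3 : conjP P n' v = v⁻¹ := Subtype.ext h2
        rw [mult, ← hv, h3, map_inv, hv, MulEquiv.apply_symm_apply]
        rfl
      obtain ⟨n₀, hn₀, hm₀⟩ := hN b hb hbv
      rw [hn, ← (card_U φ hP hC).2]
      refine Nat.card_congr (Equiv.ofBijective (fun x => ⟨(hN x.1 x.2.1 x.2.2).choose * n₀, ?_⟩)
        ⟨?_, ?_⟩)
      · rw [MonoidHom.mem_ker, Units.ext_iff, coe_unitHom, mult_mul,
          (hN x.1 x.2.1 x.2.2).choose_spec.2, hm₀]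
        norm_num
      · intro x y h
        have h' := mul_right_cancel (congrArg Subtype.val h)
        apply Subtype.ext
        rw [← (hN x.1 x.2.1 x.2.2).choose_spec.1, ← (hN y.1 y.2.1 y.2.2).choose_spec.1, h']
      · intro w
        have hbb := (hinv b hb hbv).1
        -- elements of the nontrivial coset are conjugates of `b` by elements of `P`
        have hwP : ((w : normalizer (P : Set G)) : G) ∈ P :=
          (mem_ker_unitHom φ hC _).1 w.2
        have hconj : ∀ u : P, ∀ y : P, b * (y : G) * b⁻¹ = (y : G)⁻¹ := by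
          intro _ y
          have h1 := toAdd_conjP φ n₀ y
          rw [hm₀, neg_one_mul] at h1
          have h2 : conjP P n₀ y = y⁻¹ := φ.injective (Multiplicative.toAdd.injective (by
            rw [h1, map_inv, toAdd_inv]))
          have h3 := congrArg Subtype.val h2
          rwa [show (conjP P n₀ y : G) = b * (y : G) * b⁻¹ by rw [← hn₀]; rfl] at h3
        have hsqr : ∀ y : P, ∃ r : P, r * r = y := fun y => by
          obtain ⟨r, hr⟩ := (Nat.Coprime.pow_left_bijective (G := P) (n := 2) (by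
            rw [hP]
            exact (Nat.coprime_primes (Fact.out : p.Prime) Nat.prime_two).2 (by omega))).2 y
          exact ⟨r, by rw [← hr]; exact (pow_two r).symm⟩
        have key : ∀ u : P, IsConj z ((u : G) * b) ∧ IsConj z (((u : G) * b)⁻¹ * (v : G)) := by
          intro u
          have hshift : ∀ u : P, IsConj z ((u : G) * b) := by
            intro u
            obtain ⟨r, hr⟩ := hsqr u
            refine hb.trans (isConj_iff.2 ⟨(r : G), ?_⟩)
            have h4 : b * (r : G)⁻¹ = (r : G) * b := by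
              have := hconj 1 r⁻¹
              rw [Subgroup.coe_inv, inv_inv] at this
              exact mul_inv_eq_iff_eq_mul.1 this
            rw [mul_assoc, h4, ← mul_assoc, ← hr, Subgroup.coe_mul]
          refine ⟨hshift u, ?_⟩
          have h5 : ((u : G) * b)⁻¹ * (v : G) = ((v⁻¹ * u : P) : G) * b := by
            rw [Subgroup.coe_mul, Subgroup.coe_inv, mul_inv_rev, inv_eq_of_mul_eq_one_right hbb,
              mul_assoc, ← Subgroup.coe_inv, ← Subgroup.coe_mul, ← Subgroup.coe_inv]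
            have := hconj 1 (u⁻¹ * v)
            rw [mul_inv_eq_iff_eq_mul] at this
            rw [this, ← Subgroup.coe_inv, mul_inv_rev, inv_inv]
            push_cast
            rfl
          rw [h5]
          exact hshift _
        have hk2 := key ⟨_, hwP⟩
        refine ⟨⟨_, hk2⟩, ?_⟩
        apply Subtype.ext
        apply Subtype.ext
        show (((hN _ hk2.1 hk2.2).choose : G)) * (n₀ : G) = ((w : normalizer (P : Set G)) : G)
        rw [(hN _ hk2.1 hk2.2).choose_spec.1, hn₀, mul_assoc, hbb, mul_one]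
    · left
      rw [hn, Nat.card_eq_zero]
      exact Or.inl ⟨fun ⟨b, hb⟩ => hex ⟨b, hb⟩⟩
  -- clear denominators
  have hDC : (D : ℂ) ≠ 0 := Nat.cast_ne_zero.2 (by omega)
  have hdC : (d : ℂ) ≠ 0 := Nat.cast_ne_zero.2 (by omega)
  have key : ((Nat.card G * n : ℕ) : ℤ) * (D * d) =
      (k : ℤ) ^ 2 * ((D * d : ℤ) + X * X * d * s + Y * Y * D * s') := by
    have h' := congrArg (fun w : ℂ => w * ((D : ℂ) * d)) hformula
    have h2 : (((Nat.card G * n : ℕ) : ℤ) * (D * d) : ℤ) =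
        (((k : ℤ) ^ 2 * ((D * d : ℤ) + X * X * d * s + Y * Y * D * s') : ℤ) : ℂ) := by
      push_cast
      rw [h']
      field_simp
      ring
    exact_mod_cast h2
  have hB0 : s * (D : ℤ) ≠ 0 ∧ s * (D : ℤ) + 1 ≠ 0 := by
    constructor <;> rcases hs with h | h <;> rw [h] <;> omega
  -- the second equation
  have hS : (k : ℤ) ^ 2 * (s * D - s * X) ^ 2 =
      (Nat.card G : ℤ) * n * ((s * D) * (s * D + 1)) := by
    have hd' : (d : ℤ) = -s' * (1 + s * D) := by linear_combination (s' : ℤ) * E1 - (d : ℤ) * hs'2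
    have hY' : Y = -s' * (1 + s * X) := by linear_combination (s' : ℤ) * E2 - Y * hs'2
    push_cast at key
    rw [hd', hY'] at key
    have hsn : (-s' * s) ≠ 0 := by rcases hs with h | h <;> rcases hs' with h' | h' <;> simp [h, h']
    apply mul_left_cancel₀ hsn
    rcases hs with h | h <;> rcases hs' with h' | h' <;> simp only [h, h'] at key ⊢ <;>
      linear_combination key.symm
  rcases hcount with h0 | hpn
  · exfalso
    rw [h0, Nat.cast_zero, mul_zero, zero_mul, mul_eq_zero] at hS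
    have hk0 : (k : ℤ) ^ 2 ≠ 0 := by
      have : k ≠ 0 := index_ne_zero_of_finite
      positivity
    have h1 : s * (D : ℤ) = s * X := sub_eq_zero.1 (pow_eq_zero_iff two_ne_zero |>.1
      (hS.resolve_left hk0))
    have hDX : (D : ℤ) = X := mul_left_cancel₀ (by rcases hs with h | h <;> rw [h] <;> norm_num) h1
    exact hz1 (ker_trivial hψ (by rw [hX, hD, ← hDX, Int.cast_natCast]))
  · refine ⟨?_, ?_⟩
    swap
    · have hex : ∃ b : G, IsConj z b ∧ IsConj z (b⁻¹ * (v : G)) := by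
        by_contra hex
        have h0 : n = 0 := by
          rw [hn, Nat.card_eq_zero]
          exact Or.inl ⟨fun ⟨b, hb⟩ => hex ⟨b, hb⟩⟩
        exact (Fact.out : p.Prime).ne_zero (hpn.symm.trans h0)
      obtain ⟨b, hb, hbv⟩ := hex
      have h1 : b * b = 1 := by
        obtain ⟨x, rfl⟩ := isConj_iff.1 hb
        rw [show x * z * x⁻¹ * (x * z * x⁻¹) = x * (z * z) * x⁻¹ by group, hz]
        group
      have h2 : b⁻¹ * (v : G) * (b⁻¹ * (v : G)) = 1 := by
        obtain ⟨x, hx⟩ := isConj_iff.1 hbv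
        rw [← hx, show x * z * x⁻¹ * (x * z * x⁻¹) = x * (z * z) * x⁻¹ by group, hz]
        group
      have h3 : b * (v : G) * b⁻¹ = (v : G)⁻¹ := by
        rw [inv_eq_of_mul_eq_one_right h1] at h2
        rw [inv_eq_of_mul_eq_one_right h1]
        exact eq_inv_of_mul_eq_one_left (by simpa [mul_assoc] using h2)
      have hbN : b ∈ normalizer (P : Set G) :=
        mem_normalizer_of_conj hP v.2 (fun h => hv1 (Subtype.ext h)) (by rw [h3]; exact inv_mem v.2)
      have hb1 : b ≠ 1 := by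
        obtain ⟨x, rfl⟩ := isConj_iff.1 hb
        exact fun h => hz1 (conj_eq_one_iff.1 h)
      have hbP : b ∉ P := fun hbP => hb1 (by
        simpa using off_of_involution hP (by omega) h1 1 (by simpa using hbP))
      exact fun g hg hgP => hb.trans (isConj_of_not_mem hP hC he (by omega) hbN hbP hg hgP)
    have hkz : (k : ℤ) * c = (Nat.card G : ℤ) := by exact_mod_cast hkc
    rw [hpn] at hS
    have hG0 : (Nat.card G : ℤ) ≠ 0 := by exact_mod_cast Nat.card_pos.ne'
    apply mul_left_cancel₀ hG0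
    linear_combination (c : ℤ) ^ 2 * hS - (s * (D : ℤ) - s * X) ^ 2 *
      ((k : ℤ) * c + (Nat.card G : ℤ)) * hkz

/-- Brauer's criterion for `[N(P) : P] = 2`. -/
theorem criterion_two [IsSimpleGroup G] (hG : ¬ IsMulCommutative G) (hP : Nat.card P = p)
    (hC : centralizer (P : Set G) = P) (he : P.relIndex (normalizer (P : Set G)) = 2)
    (hp : 5 ≤ p) {z : G} (hz : z * z = 1) (hz1 : z ≠ 1) :
    ∃ B x : ℤ, 2 ≤ B.natAbs ∧ B.natAbs ∣ Nat.card G ∧ (B + 1).natAbs ∣ Nat.card G ∧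
      (p : ℤ) ∣ B - 1 ∧ x.natAbs ≤ B.natAbs ∧
      (B - x) ^ 2 * Nat.card G =
        p * (Nat.card (centralizer ({z} : Set G)) : ℤ) ^ 2 * (B * (B + 1)) := by
  obtain ⟨B, x, h1, h2, h3, h4, h5, h6, -⟩ := criterion_two' hG hP hC he hp hz hz1
  exact ⟨B, x, h1, h2, h3, h4, h5, h6⟩

/-- The degree equation for `[N(P) : P] = 3`. -/
theorem criterion_three [IsSimpleGroup G] (hG : ¬ IsMulCommutative G) (hP : Nat.card P = p)
    (hC : centralizer (P : Set G) = P) (he : P.relIndex (normalizer (P : Set G)) = 3)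
    (hp : 7 ≤ p) :
    ∃ B C : ℤ, 2 ≤ B.natAbs ∧ 2 ≤ C.natAbs ∧ B.natAbs ∣ Nat.card G ∧ C.natAbs ∣ Nat.card G ∧
      (1 + B + C).natAbs ∣ Nat.card G ∧ (p : ℤ) ∣ B - 1 ∧ (p : ℤ) ∣ C - 1 := by
  classical
  obtain ⟨O, a, μ₀, s', htO, hμ0, hO, hs', hψO, heq, -⟩ :=
    exists_equation hG hP hC he (Or.inr rfl) (by omega)
  obtain ⟨ψ, χ, hne, rfl⟩ := Finset.card_eq_two.1 (show O.card = 2 by omega)
  have key : ∀ θ ∈ ({ψ, χ} : Finset (IrrCharacter G)), ∃ D : ℕ, (θ : G → ℂ) 1 = D ∧
      2 ≤ (a θ * D).natAbs ∧ (a θ * D).natAbs ∣ Nat.card G ∧ (p : ℤ) ∣ a θ * D - 1 := by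
    intro θ hθ
    obtain ⟨hs, m, hm⟩ := hψO θ hθ
    obtain ⟨D, hD2, hD, hDdvd⟩ := exists_degree_two_le hG (χ := θ) fun h => htO (h ▸ hθ)
    have habs : (a θ * (D : ℤ)).natAbs = D := by rcases hs with h | h <;> rw [h] <;> simp
    refine ⟨D, hD, habs.symm ▸ hD2, habs.symm ▸ hDdvd, a θ * m, ?_⟩
    rw [hD] at hm
    have hm' : (D : ℤ) = a θ + p * m := by exact_mod_cast hm
    rw [hm']
    rcases hs with h | h <;> rw [h] <;> ring
  obtain ⟨D, hD, h1, h2, h3⟩ := key ψ (by simp)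
  obtain ⟨E, hE, h4, h5, h6⟩ := key χ (by simp)
  obtain ⟨d, hd2, hd, hddvd⟩ := exists_degree_two_le hG hμ0
  refine ⟨a ψ * D, a χ * E, h1, h4, h2, h5, ?_, h3, h6⟩
  have e1 := heq 1 (off_one P)
  rw [Finset.sum_pair hne, hD, hE, hd] at e1
  have E1 : 1 + (a ψ * D + a χ * E) + s' * d = 0 := by exact_mod_cast e1
  rw [show 1 + a ψ * (D : ℤ) + a χ * (E : ℤ) = -(s' * d) by linarith, Int.natAbs_neg]
  rcases hs' with h | h <;> rw [h] <;> simpa using hddvd

end Cfsg.Agent.H36.SelfCentral
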