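import Mathlib.GroupTheory.SpecificGroups.Alternating

/-!
# Finite checks in the alternating group of degree five
-/

set_option autoImplicit false

namespace Cfsg.Agent.H36.Alt7

set_option synthInstance.maxSize 4000 in
set_option synthInstance.maxHeartbeats 400000 in
theorem altFive_two : ∀ a b : alternatingGroup (Fin 5), a ≠ 1 → a * a = 1 → b ≠ 1 → b * b = 1 →
    a ≠ b → a * b = b * a →
      (Finset.univ.filter fun g => (g * a = a * g ∨ g * a = b * g ∨ g * a = a * b * g) ∧
        (g * b = a * g ∨ g * b = b * g ∨ g * b = a * b * g)).card = 12 ∧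
      ∀ g, (g * a = a * g ∨ g * a = b * g ∨ g * a = a * b * g) →
        (g * b = a * g ∨ g * b = b * g ∨ g * b = a * b * g) →
        g = 1 ∨ g = a ∨ g = b ∨ g = a * b ∨ g * g * g = 1 := by decide +kernel

set_option synthInstance.maxSize 4000 in
set_option synthInstance.maxHeartbeats 400000 in
theorem altFive_counts :
    (Finset.univ.filter fun g : alternatingGroup (Fin 5) => g * g = 1).card = 16 ∧
    (Finset.univ.filter fun g : alternatingGroup (Fin 5) => g * g * g = 1).card = 21 ∧
    (∀ g : alternatingGroup (Fin 5), g * g = 1 ∨ g * g * g = 1 ∨ g * g * g * g * g = 1) ∧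
    (∀ a g : alternatingGroup (Fin 5), a * a = 1 → a ≠ 1 → g * a = a * g → g * g = 1) := by
  decide +kernel

theorem altFive_conj : ∀ g h : alternatingGroup (Fin 5), g * g * g = 1 → g ≠ 1 → h * h * h = 1 →
    h ≠ 1 → ∃ k, k * g = h * k := by decide +kernel

end Cfsg.Agent.H36.Alt7
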