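import Cfsg.Agent.H36.Alt7Char
import Cfsg.Agent.H36.Alt7AltFive
import Cfsg.Agent.H66.OrderSixty

/-!
# A simple group of order 2520 is alternating of degree seven
-/

set_option autoImplicit false
set_option linter.unusedSectionVars false
set_option linter.style.haveILetI false

namespace Cfsg.Agent.H36.Alt7

open Subgroup Cfsg Cfsg.Agent.CharBasic

variable {G : Type*} [Group G] [Finite G] [IsSimpleGroup G] [Fact (Nat.Prime 3)]
  [Fact (Nat.Prime 2)] [Fact (Nat.Prime 5)]

theorem card_table : ∀ n ∈ Finset.range 73, ∀ k ∈ ({10, 20} : Finset ℕ), n % 5 = 1 → n ≠ 1 →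
    4 ∣ k * n → k * n ∣ 2520 → k * n ≤ 360 →
    (k * n = 60 ∨ k * n = 120 ∨ k * n = 360) ∧ (k * n = 120 → k = 20) ∧ (k * n = 60 → k = 10) := by
  decide +kernel

/-- The order of a proper subgroup with a four-group and an inverted element of order five. -/
theorem card_cases (hn : Nat.card G = 2520) (hG : ¬ IsMulCommutative G) {L : Subgroup G}
    (hL : L ≠ ⊤) {M : Subgroup G} (hM : Nat.card M = 4) (hsq : ∀ x ∈ M, x * x = 1) (hML : M ≤ L)
    {y z : G} (hy : orderOf y = 5) (hyL : y ∈ L) (hz : z ∈ L) (hz2 : orderOf z = 2)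
    (hzy : z * y * z⁻¹ = y⁻¹) :
    (Nat.card L = 60 ∨ Nat.card L = 120 ∨ Nat.card L = 360) ∧ Nat.card (Sylow 5 L) ≠ 1 ∧
      ∀ Q : Sylow 5 G, (Q : Subgroup G) = zpowers y →
        (Nat.card L = 120 → normalizer ((Q : Subgroup G) : Set G) ≤ L) ∧
        (Nat.card L = 60 → ¬ normalizer ((Q : Subgroup G) : Set G) ≤ L) := by
  classical
  obtain ⟨Q, hyQ⟩ := exists_sylow_mem (p := 5) hy
  obtain ⟨hQ5, hN20, hC5⟩ := card_sylow_five hn hG Q
  have hQy : zpowers y = (Q : Subgroup G) := sylow_eq_zpowers Q hQ5 hy hyQ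
  set N := normalizer ((Q : Subgroup G) : Set G) with hNdef
  have hQL : (Q : Subgroup G) ≤ L := hQy ▸ zpowers_le.2 hyL
  obtain ⟨hmod, -, hmul⟩ := card_eq_inf_mul Q hQL
  set n := Nat.card (Sylow 5 L) with hndef
  have hzN : z ∈ N := by
    have hmap : (Q : Subgroup G).map (MulAut.conj z).toMonoidHom = Q := by
      rw [← hQy, MonoidHom.map_zpowers]
      show zpowers (z * y * z⁻¹) = zpowers y
      rw [hzy, zpowers_inv]
    refine mem_normalizer_iff.2 fun x => ⟨fun hx => hmap ▸ ⟨x, hx, rfl⟩, fun hx => ?_⟩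
    rw [← hmap] at hx
    obtain ⟨b, hb, e⟩ := hx
    exact (MulAut.conj z).injective e ▸ hb
  have hk : Nat.card (N ⊓ L : Subgroup G) = 10 ∨ Nat.card (N ⊓ L : Subgroup G) = 20 := by
    have h1 : 5 ∣ Nat.card (N ⊓ L : Subgroup G) :=
      hQ5 ▸ card_dvd_of_le (le_inf le_normalizer hQL)
    have h2 : 2 ∣ Nat.card (N ⊓ L : Subgroup G) :=
      hz2 ▸ Subgroup.orderOf_dvd_natCard _ (Subgroup.mem_inf.2 ⟨hzN, hz⟩)
    have h3 : Nat.card (N ⊓ L : Subgroup G) ∣ 20 := hN20 ▸ card_dvd_of_le inf_le_left
    have key : ∀ a ∈ List.range 21, 5 ∣ a → 2 ∣ a → a ∣ 20 → a = 10 ∨ a = 20 := by decide +kernel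
    exact key _ (List.mem_range.2 (Nat.lt_succ_of_le (Nat.le_of_dvd (by norm_num) h3))) h1 h2 h3
  have hn1 : n ≠ 1 := by
    intro h1
    rw [h1, mul_one] at hmul
    have hLN : L ≤ N := inf_eq_right.1 (eq_of_le_of_card_ge inf_le_right hmul.le)
    have hinv : ∀ m ∈ M, m ≠ 1 → m * y * m⁻¹ = y⁻¹ := by
      intro m hm hm1
      have hmy : m * y * m⁻¹ ∈ zpowers y :=
        hQy ▸ (mem_normalizer_iff.1 (hLN (hML hm)) y).1 hyQ
      obtain ⟨i, hi, he⟩ := Finset.mem_image.1 ((mem_zpowers_iff_mem_range_orderOf (x := y)).1 hmy)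
      rw [hy, Finset.mem_range] at hi
      have h2 : m * (m * y * m⁻¹) * m⁻¹ = y := by
        rw [show m * (m * y * m⁻¹) * m⁻¹ = (m * m) * y * (m * m)⁻¹ by group, hsq m hm]
        group
      have h2' : y ^ (i * i) = y := by
        conv_rhs => rw [← h2, ← he, ← conj_pow, ← he, ← pow_mul]
      have hmC : y ^ i ≠ y := fun e => by
        rw [e] at he
        have hc : m ∈ centralizer ({y} : Set G) :=
          mem_centralizer_singleton_iff.2 (mul_inv_eq_iff_eq_mul.1 he.symm)
        have h5 := Subgroup.orderOf_dvd_natCard _ hc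
        rw [card_centralizer_five hn hG hy] at h5
        have h4 := Subgroup.orderOf_dvd_natCard _ hm
        rw [hM] at h4
        exact hm1 (orderOf_eq_one_iff.1 (Nat.dvd_one.1
          ((show Nat.gcd 4 5 = 1 by norm_num) ▸ Nat.dvd_gcd h4 h5)))
      have hii : i * i % 5 = 1 := by
        have h5 := (pow_eq_pow_iff_modEq (x := y)).1 (h2'.trans (pow_one y).symm)
        rw [hy] at h5
        exact h5
      have hy5 : y ^ 5 = 1 := hy ▸ pow_orderOf_eq_one y
      interval_cases i
      · norm_num at hii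
      · exact absurd (pow_one y) hmC
      · norm_num at hii
      · norm_num at hii
      · rw [← he]; exact eq_inv_of_mul_eq_one_left (by rw [← pow_succ, hy5])
    obtain ⟨a, ha, ha1⟩ : ∃ a ∈ M, a ≠ 1 := by
      by_contra h
      push Not at h
      rw [(M.eq_bot_iff_forall).2 h, card_bot] at hM
      omega
    obtain ⟨b, hb, hba⟩ : ∃ b ∈ M, b ∉ zpowers a := by
      by_contra h
      push Not at h
      have h1 := card_dvd_of_le (h : M ≤ zpowers a)
      rw [hM, Nat.card_zpowers] at h1
      have h2 : orderOf a ∣ 2 := orderOf_dvd_of_pow_eq_one (by rw [pow_two]; exact hsq a ha)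
      have := Nat.le_of_dvd (by norm_num) (h1.trans h2)
      omega
    have hab : a * b ≠ 1 := fun h => hba ((inv_eq_of_mul_eq_one_right h) ▸ inv_mem (mem_zpowers a))
    have e1 := hinv _ (mul_mem ha hb) hab
    have e2 : a * b * y * (a * b)⁻¹ = y := by
      calc a * b * y * (a * b)⁻¹ = a * (b * y * b⁻¹) * a⁻¹ := by group
        _ = (a * y * a⁻¹)⁻¹ := by rw [hinv b hb (fun h => hba (h ▸ one_mem _))]; group
        _ = y := by rw [hinv a ha ha1, inv_inv]
    rw [e2] at e1
    have := orderOf_dvd_of_pow_eq_one (show y ^ 2 = 1 by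
      rw [pow_two]; nth_rewrite 1 [e1]; exact inv_mul_cancel y)
    rw [hy] at this
    omega
  have h4 : 4 ∣ Nat.card L := hM ▸ card_dvd_of_le hML
  have hdvd : Nat.card L ∣ 2520 := hn ▸ card_subgroup_dvd_card L
  have hle := card_le_of_ne_top hn hG hL
  rw [hmul] at h4 hdvd hle
  have hn73 : n ∈ Finset.range 73 := Finset.mem_range.2 (by rcases hk with h | h <;> rw [h] at hle <;> omega)
  obtain ⟨hcases, h120, h60⟩ := card_table n hn73 _
    (by simpa only [Finset.mem_insert, Finset.mem_singleton] using hk) hmod hn1 h4 hdvd hle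
  rw [← hmul] at hcases h120 h60
  refine ⟨hcases, hn1, fun Q' hQ' => ?_⟩
  have : (Q' : Subgroup G) = Q := hQ'.trans hQy
  rw [this, ← hNdef]
  refine ⟨fun h => inf_eq_left.1 (eq_of_le_of_card_ge inf_le_left (by rw [h120 h, hN20])),
    fun h hNL => ?_⟩
  have e := h60 h
  rw [inf_eq_left.2 hNL, hN20] at e
  omega

/-- A subgroup of order 60 containing the four-group and the dihedral group of order ten. -/
theorem exists_card_sixty (hn : Nat.card G = 2520) (hG : ¬ IsMulCommutative G) {L : Subgroup G}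
    (hL : L ≠ ⊤) {M : Subgroup G} {v : G} (hM : Nat.card M = 4) (hsq : ∀ x ∈ M, x * x = 1)
    (hv3 : orderOf v = 3) (hMC : M ≤ centralizer {v})
    (huniq : ∀ m ∈ M, m ≠ 1 → ∀ x : G, x * m = m * x → orderOf x = 3 → x ∈ zpowers v)
    (hML : M ≤ L) {y t : G} (hy : orderOf y = 5) (hyL : y ∈ L) (ht : orderOf t = 4)
    (htz : t * t ∈ M) (htN : ∀ Q : Sylow 5 G, (Q : Subgroup G) = zpowers y →
      t ∈ normalizer ((Q : Subgroup G) : Set G))
    (htt : t * t * y * (t * t)⁻¹ = y⁻¹) :
    Nat.card L = 360 ∨ ∃ H : Subgroup G, H ≤ L ∧ Nat.card H = 60 ∧ M ≤ H ∧ y ∈ H := by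
  classical
  have hy5 : y ^ 5 = 1 := hy ▸ pow_orderOf_eq_one y
  have ht4 : t ^ 4 = 1 := ht ▸ pow_orderOf_eq_one t
  have htt1 : t * t ≠ 1 := fun h => by
    have := orderOf_dvd_of_pow_eq_one (show t ^ 2 = 1 by rw [pow_two]; exact h)
    rw [ht] at this
    omega
  have hz2 : orderOf (t * t) = 2 := orderOf_eq_prime (by rw [pow_two]; exact hsq _ htz) htt1
  obtain ⟨hcases, hn5, hQ'⟩ := card_cases hn hG hL hM hsq hML hy hyL (hML htz) hz2 htt
  rcases hcases with h | h | h
  · exact Or.inr ⟨L, le_rfl, h, hML, hyL⟩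
  swap
  · exact Or.inl h
  right
  obtain ⟨Q, hyQ⟩ := exists_sylow_mem (p := 5) hy
  obtain ⟨hQ5, hN20, hC5⟩ := card_sylow_five hn hG Q
  have hQy : (Q : Subgroup G) = zpowers y := (sylow_eq_zpowers Q hQ5 hy hyQ).symm
  have hNL := (hQ' Q hQy).1 h
  have htL : t ∈ L := hNL (htN Q hQy)
  have h40 : ∀ (K : Subgroup L), K.Normal → Nat.card K = 40 → False := by
    intro K hK hK40
    have hlt : K.index < 5 := by
      have := K.card_mul_index
      rw [hK40, h] at this
      omega
    apply hn5
    refine card_sylow_eq_one_of_index_lt K hlt ?_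
    obtain ⟨hd, hmod⟩ := card_sylow_dvd (p := 5) hK40 (a := 1) (m := 8) (by norm_num) (by norm_num)
    have := Nat.le_of_dvd (by norm_num) hd
    rcases (show Nat.card (Sylow 5 K) = 1 ∨ Nat.card (Sylow 5 K) = 6 by omega) with h1 | h1
    · exact h1
    · rw [h1] at hd; omega
  -- Burnside's transfer inside `L`
  have hburn : ∀ S : Sylow 3 L,
      normalizer ((S : Subgroup L) : Set L) ≤ centralizer ((S : Subgroup L) : Set L) → False := by
    intro S hS
    have hcompl := MonoidHom.ker_transferSylow_isComplement' S hS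
    have h3 : Nat.card (S : Subgroup L) = 3 := by
      simpa using card_sylow_eq (a := 1) (m := 40) h S (by norm_num) (by norm_num)
    have := hcompl.card_mul
    rw [h] at this
    have h3' := h3
    refine h40 _ (MonoidHom.normal_ker (MonoidHom.transferSylow S hS)) ?_
    rw [h3'] at this
    omega
  -- `v` is not in `L`
  have hvL : v ∉ L := by
    intro hvL
    obtain ⟨S, hS⟩ := exists_sylow_mem (p := 3) (G := L) (y := (⟨v, hvL⟩ : L)) (by rw [orderOf_mk, hv3])
    have h3 : Nat.card (S : Subgroup L) = 3 := by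
      simpa using card_sylow_eq (a := 1) (m := 40) h S (by norm_num) (by norm_num)
    have hSv : zpowers (⟨v, hvL⟩ : L) = S := sylow_eq_zpowers S h3 (by rw [orderOf_mk, hv3]) hS
    set C := centralizer ((S : Subgroup L) : Set L)
    set N := normalizer ((S : Subgroup L) : Set L)
    have hC12 : 12 ∣ Nat.card C := by
      refine Nat.Coprime.mul_dvd_of_dvd_of_dvd (show Nat.Coprime 4 3 by norm_num) ?_ ?_
      · rw [← hM, ← Nat.card_congr (subgroupOfEquivOfLe hML).toEquiv]
        refine card_dvd_of_le fun m hm => ?_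
        show m ∈ centralizer ((S : Subgroup L) : Set L)
        rw [← hSv, centralizer_zpowers]
        exact mem_centralizer_singleton_iff.2 (Subtype.ext (mem_centralizer_singleton_iff.1 (hMC hm)))
      · have hle : (S : Subgroup L) ≤ C := by
          show (S : Subgroup L) ≤ centralizer _
          rw [← hSv, centralizer_zpowers]
          exact zpowers_le.2 (mem_centralizer_singleton_iff.2 rfl)
        have := card_dvd_of_le hle
        rwa [h3] at this
    have hN12 : 12 ∣ Nat.card N := hC12.trans (card_dvd_of_le (centralizer_le_normalizer _))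
    have hmul := card_sylow_mul_normalizer S
    rw [h] at hmul
    obtain ⟨j, hj⟩ := hN12
    rw [← show N = normalizer ((S : Subgroup L) : Set L) from rfl, hj] at hmul
    obtain ⟨hd, hmod⟩ := card_sylow_dvd (p := 3) h (a := 1) (m := 40) (by norm_num) (by norm_num)
    have h10 : Nat.card (Sylow 3 L) ∣ 10 :=
      ⟨j, by nlinarith⟩
    have := Nat.le_of_dvd (by norm_num) h10
    rcases (show Nat.card (Sylow 3 L) = 1 ∨ Nat.card (Sylow 3 L) = 4 ∨ Nat.card (Sylow 3 L) = 7 ∨
        Nat.card (Sylow 3 L) = 10 by omega) with e | e | e | e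
    · -- a normal subgroup of order three
      haveI := (Nat.card_eq_one_iff_unique.1 e).1
      have hS' := S.normal_of_subsingleton
      have hmem : (⟨y, hyL⟩ : L) * ⟨v, hvL⟩ * (⟨y, hyL⟩ : L)⁻¹ ∈ zpowers (⟨v, hvL⟩ : L) := by
        rw [hSv]; exact hS'.conj_mem _ hS _
      obtain ⟨i, hi, he⟩ := Finset.mem_image.1 ((mem_zpowers_iff_mem_range_orderOf).1 hmem)
      rw [orderOf_mk, hv3, Finset.mem_range] at hi
      have he' : v ^ i = y * v * y⁻¹ := congrArg Subtype.val he
      have hv33 : v ^ 3 = 1 := hv3 ▸ pow_orderOf_eq_one v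
      have hc : y * v = v * y := by
        interval_cases i
        · rw [pow_zero] at he'
          rw [conj_eq_one_iff.1 he'.symm, orderOf_one] at hv3
          omega
        · rw [pow_one] at he'
          exact mul_inv_eq_iff_eq_mul.1 he'.symm
        · exfalso
          have e2 : y * v * y⁻¹ = v⁻¹ := by
            rw [← he']
            exact eq_inv_of_mul_eq_one_left (by rw [← pow_succ, hv33])
          have e5 : y ^ 5 * v * (y ^ 5)⁻¹ = v⁻¹ := by
            have e1 : ∀ u, y * u⁻¹ * y⁻¹ = (y * u * y⁻¹)⁻¹ := fun u => by group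
            calc y ^ 5 * v * (y ^ 5)⁻¹
                = y * (y * (y * (y * (y * v * y⁻¹) * y⁻¹) * y⁻¹) * y⁻¹) * y⁻¹ := by
                  simp only [pow_succ, pow_zero, one_mul]; group
              _ = v⁻¹ := by simp only [e2, e1, inv_inv]
          rw [hy5, one_mul, inv_one, mul_one] at e5
          have := orderOf_dvd_of_pow_eq_one (show v ^ 2 = 1 by
            rw [pow_two]; nth_rewrite 1 [e5]; exact inv_mul_cancel v)
          rw [hv3] at this
          omega
      have := Subgroup.orderOf_dvd_natCard (centralizer ({y} : Set G))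
        (mem_centralizer_singleton_iff.2 hc.symm)
      rw [hv3, card_centralizer_five hn hG hy] at this
      omega
    · rw [e] at h10; omega
    · rw [e] at h10; omega
    · rw [e] at hmul
      refine hburn S ?_
      have hle : C ≤ N := centralizer_le_normalizer _
      have hCN : C = N := eq_of_le_of_card_ge hle (by
        rw [hj, show j = 1 by omega, mul_one]
        exact Nat.le_of_dvd Nat.card_pos hC12)
      show N ≤ C
      rw [hCN]
  have hno3 : ∀ m ∈ M, m ≠ 1 → ∀ x ∈ L, orderOf x = 3 → x * m ≠ m * x := by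
    intro m hm hm1 x hx hx3 hxm
    have h1 := huniq m hm hm1 x hxm hx3
    have h2 : zpowers x = zpowers v := eq_of_le_of_card_ge (zpowers_le.2 h1)
      (by rw [Nat.card_zpowers, Nat.card_zpowers, hx3, hv3])
    exact hvL (zpowers_le.2 hx (h2 ▸ mem_zpowers v))
  -- an involution centralizing an element of order three
  obtain ⟨k, x, hx3, hk2, hkx⟩ : ∃ k x : L, orderOf x = 3 ∧ orderOf k = 2 ∧ k * x = x * k := by
    by_contra hno
    push Not at hno
    obtain ⟨S⟩ := Sylow.nonempty (p := 3) (G := L)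
    have h3 : Nat.card (S : Subgroup L) = 3 := by
      simpa using card_sylow_eq (a := 1) (m := 40) h S (by norm_num) (by norm_num)
    obtain ⟨⟨x, hxS⟩, hx⟩ := exists_prime_orderOf_dvd_card' (G := (S : Subgroup L)) 3 (by rw [h3])
    rw [orderOf_mk] at hx
    have hSx : zpowers x = S := sylow_eq_zpowers S h3 hx hxS
    have hC : Nat.card (centralizer ((S : Subgroup L) : Set L)) = 3 := by
      rw [← hSx, centralizer_zpowers]
      have hd : Nat.card (centralizer ({x} : Set L)) ∣ 120 := h ▸ card_subgroup_dvd_card _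
      have h2' : ¬ 2 ∣ Nat.card (centralizer ({x} : Set L)) := fun hd2 => by
        obtain ⟨⟨k, hk⟩, hk2⟩ := exists_prime_orderOf_dvd_card' (G := centralizer ({x} : Set L)) 2 hd2
        rw [orderOf_mk] at hk2
        exact hno k x hx hk2 (mem_centralizer_singleton_iff.1 hk)
      have h5' : ¬ 5 ∣ Nat.card (centralizer ({x} : Set L)) := fun hd5 => by
        obtain ⟨⟨w, hw⟩, hw5⟩ := exists_prime_orderOf_dvd_card' (G := centralizer ({x} : Set L)) 5 hd5
        rw [orderOf_mk, ← orderOf_coe] at hw5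
        have hc : (x : G) ∈ centralizer ({(w : G)} : Set G) := mem_centralizer_singleton_iff.2
          (congrArg Subtype.val (mem_centralizer_singleton_iff.1 hw)).symm
        have := Subgroup.orderOf_dvd_natCard _ hc
        rw [orderOf_coe, hx, card_centralizer_five hn hG hw5] at this
        omega
      have h3' : 3 ∣ Nat.card (centralizer ({x} : Set L)) :=
        hx ▸ Subgroup.orderOf_dvd_natCard _ (mem_centralizer_singleton_iff.2 rfl)
      have key : ∀ a ∈ List.range 121, a ∣ 120 → ¬ 2 ∣ a → ¬ 5 ∣ a → 3 ∣ a → a = 3 := by decide +kernel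
      exact key _ (List.mem_range.2 (Nat.lt_succ_of_le (Nat.le_of_dvd (by norm_num) hd))) hd h2' h5' h3'
    have hNmul := card_normalizer_eq_mul (S : Subgroup L)
    rw [hC] at hNmul
    have hrel := Nat.le_of_dvd (by norm_num) (relIndex_centralizer_dvd_of_prime Nat.prime_three _ h3)
    have hmul := card_sylow_mul_normalizer S
    rw [h] at hmul
    obtain ⟨hd, hmod⟩ := card_sylow_dvd (p := 3) h (a := 1) (m := 40) (by norm_num) (by norm_num)
    set r := (centralizer ((S : Subgroup L) : Set L)).relIndex (normalizer ((S : Subgroup L) : Set L))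
    rw [hNmul] at hmul
    have hr : r = 1 := by
      rcases (show r = 0 ∨ r = 1 ∨ r = 2 by omega) with e | e | e <;> rw [e] at hmul ⊢ <;> omega
    exact hburn S (relIndex_eq_one.1 hr)
  -- a Sylow 2-subgroup of `L`
  set z : L := ⟨t * t, hML htz⟩ with hzdef
  set Cz := centralizer ({z} : Set L) with hCz
  have hMcomm : ∀ a ∈ M, ∀ b ∈ M, a * b = b * a := comm_of_card_eq_sq (p := 2) (hM.trans (by norm_num))
  have hMCz : M.subgroupOf L ≤ Cz := fun a ha =>
    mem_centralizer_singleton_iff.2 (Subtype.ext (hMcomm _ ha _ htz))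
  have htCz : (⟨t, htL⟩ : L) ∈ Cz := mem_centralizer_singleton_iff.2
    (Subtype.ext (show t * (t * t) = t * t * t by group))
  have hMsub : Nat.card (M.subgroupOf L) = 4 :=
    (Nat.card_congr (subgroupOfEquivOfLe hML).toEquiv).trans hM
  have htM : (⟨t, htL⟩ : L) ∉ M.subgroupOf L := fun h' => htt1 (hsq t h')
  have hCz8 : Nat.card Cz = 8 := by
    have hd : Nat.card Cz ∣ 24 := by
      rw [← (exists_local hn hG hz2).1]
      rw [← card_map_of_injective (K := Cz) (subtype_injective L)]
      refine card_dvd_of_le ?_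
      rintro _ ⟨a, ha, rfl⟩
      exact mem_centralizer_singleton_iff.2 (congrArg Subtype.val (mem_centralizer_singleton_iff.1 ha))
    have h3' : ¬ 3 ∣ Nat.card Cz := by
      intro hd3
      obtain ⟨⟨a, ha⟩, ha3⟩ := exists_prime_orderOf_dvd_card' (G := Cz) 3 hd3
      rw [orderOf_mk, ← orderOf_coe] at ha3
      exact hno3 _ htz htt1 a a.2 ha3 (congrArg Subtype.val (mem_centralizer_singleton_iff.1 ha))
    have h4' := card_dvd_of_le hMCz
    rw [hMsub] at h4'
    have key : ∀ a ∈ List.range 25, a ∣ 24 → ¬ 3 ∣ a → 4 ∣ a → a = 4 ∨ a = 8 := by decide +kernel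
    rcases key _ (List.mem_range.2 (Nat.lt_succ_of_le (Nat.le_of_dvd (by norm_num) hd))) hd h3' h4' with e | e
    · have e' : M.subgroupOf L = Cz := eq_of_le_of_card_ge hMCz (by rw [hMsub, e])
      exact absurd (e' ▸ htCz) htM
    · exact e
  obtain ⟨T, hT⟩ := (IsPGroup.of_card (n := 3) (hCz8.trans (by norm_num)) : IsPGroup 2 Cz).exists_le_sylow
  have hT8 : Nat.card (T : Subgroup L) = 8 := by
    simpa using card_sylow_eq (a := 3) (m := 15) h T (by norm_num) (by norm_num)
  have hTC : Cz = T := eq_of_le_of_card_ge hT (by rw [hCz8, hT8])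
  have hrel : (M.subgroupOf L).relIndex (T : Subgroup L) = 2 := by
    have h1 := relIndex_mul_relIndex ⊥ (M.subgroupOf L) (T : Subgroup L) bot_le (hMCz.trans hT)
    rw [relIndex_bot_left, relIndex_bot_left, hMsub, hT8] at h1
    omega
  obtain ⟨g, hg⟩ : ∃ g : L, g * k * g⁻¹ ∈ (T : Subgroup L) := by
    obtain ⟨S, hS⟩ := (IsPGroup.of_card (n := 1) (by rw [Nat.card_zpowers, hk2, pow_one]) :
      IsPGroup 2 (zpowers k)).exists_le_sylow
    obtain ⟨g, hg⟩ := MulAction.exists_smul_eq L S T
    refine ⟨g, ?_⟩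
    rw [← hg, mem_smul_sylow_iff, show g⁻¹ * (g * k * g⁻¹) * g = k by group]
    exact hS (mem_zpowers k)
  set k' := g * k * g⁻¹ with hk'
  have hk'2 : orderOf k' = 2 := (MulEquiv.orderOf_eq (MulAut.conj g) k).trans hk2
  have hnoconj : ∀ u : L, u * k' * u⁻¹ ∉ M.subgroupOf L := by
    intro u hu
    set x' := u * g * x * (u * g)⁻¹
    have hx' : orderOf (x' : G) = 3 := by
      rw [orderOf_coe]; exact (MulEquiv.orderOf_eq (MulAut.conj (u * g)) x).trans hx3
    have e : x' * (u * k' * u⁻¹) = (u * k' * u⁻¹) * x' := by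
      simp only [x', hk']
      calc u * g * x * (u * g)⁻¹ * (u * (g * k * g⁻¹) * u⁻¹) = u * g * (x * k) * (u * g)⁻¹ := by group
        _ = u * g * (k * x) * (u * g)⁻¹ := by rw [hkx]
        _ = _ := by group
    refine hno3 _ hu (fun h' => ?_) x' x'.2 hx' (congrArg Subtype.val e)
    have : u * k' * u⁻¹ = 1 := Subtype.ext h'
    rw [conj_eq_one_iff.1 this, orderOf_one] at hk'2
    omega
  have hk'M : k' ∉ M.subgroupOf L := fun hm => hnoconj 1 (by simpa using hm)
  obtain ⟨K, hK, hKidx, hk'K⟩ := (H25.thompson_transfer T (M.subgroupOf L) (hMCz.trans hT) hrel k'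
    hk'2 hg hk'M).resolve_right fun ⟨u, hu⟩ => hnoconj u hu
  have hH : Nat.card (K.map L.subtype) = 60 := by
    rw [card_map_of_injective L.subtype_injective]
    have := K.card_mul_index
    rw [hKidx, h] at this
    omega
  have hsqK : ∀ a : L, a * a ∈ K := fun a => mul_self_mem_of_index_two hKidx a
  have hyK : (⟨y, hyL⟩ : L) ∈ K := by
    have e : (⟨y, hyL⟩ : L) = (⟨y, hyL⟩ * ⟨y, hyL⟩) * ((⟨y, hyL⟩ * ⟨y, hyL⟩) * (⟨y, hyL⟩ * ⟨y, hyL⟩)) :=
      Subtype.ext (show y = y * y * (y * y * (y * y)) by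
        rw [show y * y * (y * y * (y * y)) = y ^ 5 * y by simp only [pow_succ, pow_zero, one_mul, mul_assoc],
          hy5, one_mul])
    rw [e]
    exact mul_mem (hsqK _) (mul_mem (hsqK _) (hsqK _))
  have hzK : z ∈ K := hsqK ⟨t, htL⟩
  refine ⟨K.map L.subtype, map_subtype_le _, hH, ?_, ⟨_, hyK, rfl⟩⟩
  have htK : (⟨t, htL⟩ : L) ∉ K := by
    intro htK
    have hne : K.map L.subtype ≠ ⊤ := fun e => hL (top_le_iff.1 (e ▸ map_subtype_le _))
    have hQK : (Q : Subgroup G) ≤ K.map L.subtype := by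
      rw [hQy]; exact zpowers_le.2 ⟨_, hyK, rfl⟩
    obtain ⟨hmodK, -, hmul⟩ := card_eq_inf_mul Q hQK
    have hin : normalizer ((Q : Subgroup G) : Set G) ⊓ K.map L.subtype =
        normalizer ((Q : Subgroup G) : Set G) := by
      refine eq_of_le_of_card_ge inf_le_left ?_
      rw [hN20]
      refine Nat.le_of_dvd Nat.card_pos (Nat.Coprime.mul_dvd_of_dvd_of_dvd
        (show Nat.Coprime 5 4 by norm_num) ?_ ?_)
      · have hy' : y ∈ K.map L.subtype := ⟨_, hyK, rfl⟩
        have h5 := Subgroup.orderOf_dvd_natCard (normalizer ((Q : Subgroup G) : Set G) ⊓ K.map L.subtype)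
          (Subgroup.mem_inf.2 ⟨le_normalizer hyQ, hy'⟩)
        rwa [hy] at h5
      · rw [← ht]
        exact Subgroup.orderOf_dvd_natCard _
          (Subgroup.mem_inf.2 ⟨htN Q hQy, ⟨_, htK, rfl⟩⟩)
    rw [hin, hN20, hH] at hmul
    omega
  intro m hm
  by_contra hmK
  have hmK' : (⟨m, hML hm⟩ : L) ∉ K := fun h' => hmK ⟨_, h', rfl⟩
  set u : L := ⟨m, hML hm⟩
  set tt : L := ⟨t, htL⟩
  haveI := Fintype.ofFinite L
  set O := Finset.univ.filter fun a : L => a ∈ (T : Subgroup L) ∧ a ∉ K
  have hu2 : u * u = 1 := Subtype.ext (hsq m hm)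
  have hum : ∀ a b : L, a ∈ K → b ∉ K → b * a ∉ K := fun a b ha hb h' => hb (by
    have := mul_mem h' (inv_mem ha)
    rwa [mul_inv_cancel_right] at this)
  have hTmem : tt ∈ (T : Subgroup L) ∧ u ∈ (T : Subgroup L) ∧ z ∈ (T : Subgroup L) :=
    ⟨hT htCz, hT (hMCz hm), hT (hMCz htz)⟩
  have hmemO : ∀ a : L, a ∈ ({tt, tt * z, u, u * z} : Finset L) → a ∈ O := by
    intro a ha
    simp only [Finset.mem_insert, Finset.mem_singleton] at ha
    refine Finset.mem_filter.2 ⟨Finset.mem_univ _, ?_⟩
    rcases ha with rfl | rfl | rfl | rfl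
    · exact ⟨hTmem.1, htK⟩
    · exact ⟨mul_mem hTmem.1 hTmem.2.2, hum z tt hzK htK⟩
    · exact ⟨hTmem.2.1, hmK'⟩
    · exact ⟨mul_mem hTmem.2.1 hTmem.2.2, hum z u hzK hmK'⟩
  have hz1 : z ≠ 1 := fun h' => htt1 (congrArg Subtype.val h')
  have hsq' : ∀ a : L, (a : G) ∈ M → a * a = 1 := fun a ha => Subtype.ext (hsq a ha)
  have htz' : (tt * z) * (tt * z) ≠ 1 := fun h' => htt1 (by
    have h1 := congrArg Subtype.val h'
    calc t * t = t ^ 4 * (t * t) := by rw [ht4, one_mul]
      _ = t * (t * t) * (t * (t * t)) := by simp only [pow_succ, pow_zero, one_mul, mul_assoc]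
      _ = 1 := h1)
  have hcard4 : ({tt, tt * z, u, u * z} : Finset L).card = 4 := by
    have e1 : tt ≠ tt * z := fun h' => hz1 (mul_eq_left.1 h'.symm)
    have e2 : u ≠ u * z := fun h' => hz1 (mul_eq_left.1 h'.symm)
    have huM : (u : G) ∈ M := hm
    have huzM : ((u * z : L) : G) ∈ M := mul_mem hm htz
    have e3 : tt ≠ u := fun h' => htt1 (congrArg Subtype.val (h' ▸ hsq' u huM : tt * tt = 1))
    have e4 : tt ≠ u * z := fun h' => htt1 (congrArg Subtype.val (h' ▸ hsq' _ huzM : tt * tt = 1))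
    have e5 : tt * z ≠ u := fun h' => htz' (h' ▸ hsq' u huM)
    have e6 : tt * z ≠ u * z := fun h' => e3 (mul_right_cancel h')
    rw [Finset.card_insert_of_notMem (by simp [e1, e3, e4]),
      Finset.card_insert_of_notMem (by simp [e5, e6]), Finset.card_pair e2]
  have hOle : O.card ≤ 4 := by
    set I := Finset.univ.filter fun a : L => a ∈ (T : Subgroup L) ∧ a ∈ K
    have hle : O.card ≤ I.card := Finset.card_le_card_of_injOn (fun a => tt * a) (by
      intro a ha
      obtain ⟨-, haT, haK⟩ := Finset.mem_filter.1 ha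
      exact Finset.mem_filter.2 ⟨Finset.mem_univ _, mul_mem hTmem.1 haT,
        (mul_mem_iff_of_index_two hKidx).2 (iff_of_false htK haK)⟩)
      (fun a _ b _ e => mul_left_cancel e)
    have hsum : O.card + I.card ≤ 8 := by
      rw [← Finset.card_union_of_disjoint (Finset.disjoint_filter.2 fun a _ h1 h2 => h1.2 h2.2), ← hT8,
        Nat.card_eq_fintype_card]
      refine le_trans (Finset.card_le_card (t := Finset.univ.filter fun a : L => a ∈ (T : Subgroup L))
        (fun a ha => ?_)) (le_of_eq (Fintype.card_subtype _).symm)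
      rcases Finset.mem_union.1 ha with h' | h'
      · exact Finset.mem_filter.2 ⟨Finset.mem_univ _, (Finset.mem_filter.1 h').2.1⟩
      · exact Finset.mem_filter.2 ⟨Finset.mem_univ _, (Finset.mem_filter.1 h').2.1⟩
    omega
  have hkO : k' ∈ ({tt, tt * z, u, u * z} : Finset L) := by
    rw [Finset.eq_of_subset_of_card_le hmemO (by rw [hcard4]; exact hOle)]
    exact Finset.mem_filter.2 ⟨Finset.mem_univ _, hg, hk'K⟩
  have hk'sq : k' * k' = 1 := by rw [← pow_two, ← hk'2, pow_orderOf_eq_one]
  simp only [Finset.mem_insert, Finset.mem_singleton] at hkO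
  rcases hkO with e | e | e | e
  · exact htt1 (congrArg Subtype.val (e ▸ hk'sq : tt * tt = 1))
  · exact htz' (e ▸ hk'sq)
  · exact hk'M (e ▸ hm)
  · exact hk'M (e ▸ mul_mem hm htz)

/-- The facts needed about a subgroup of order 60. -/
theorem sixty_facts {H : Subgroup G} (hH : Nat.card H = 60) (hns : Nat.card (Sylow 5 H) ≠ 1)
    {M : Subgroup G} (hM : Nat.card M = 4) (hsq : ∀ x ∈ M, x * x = 1) (hMH : M ≤ H) :
    (∀ g ∈ H, g * g = 1 ∨ g ^ 3 = 1 ∨ g ^ 5 = 1) ∧
    (∀ g ∈ H, ∀ h ∈ H, orderOf g = 3 → orderOf h = 3 → ∃ k : G, k * g * k⁻¹ = h) ∧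
    (∀ m ∈ M, m ≠ 1 → ∀ g ∈ H, g * m = m * g → g * g = 1) ∧
    Nat.card {g : H // g * g = 1} = 16 ∧ Nat.card {g : H // g ^ 3 = 1} = 21 ∧
    ∃ A : Subgroup G, A ≤ H ∧ M ≤ A ∧ Nat.card A = 12 ∧ A ≤ normalizer (M : Set G) ∧
      ∀ g ∈ A, g ∈ M ∨ g ^ 3 = 1 := by
  classical
  obtain ⟨e⟩ := H66.iso_altFive hH hns
  obtain ⟨c2, c3, horders, hcent⟩ := altFive_counts
  have h3 : ∀ {K : Type _} [Group K] (x : K), x ^ 3 = x * x * x := fun x => by
    rw [pow_succ, pow_two]
  have h5 : ∀ {K : Type _} [Group K] (x : K), x ^ 5 = x * x * x * x * x := fun x => by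
    rw [pow_succ, pow_succ, pow_succ, pow_two]
  obtain ⟨a, ha, ha1⟩ : ∃ a ∈ M, a ≠ 1 := by
    by_contra h
    push Not at h
    rw [(M.eq_bot_iff_forall).2 h, card_bot] at hM
    omega
  obtain ⟨b, hb, hba⟩ : ∃ b ∈ M, b ∉ zpowers a := by
    by_contra h
    push Not at h
    have h1 := card_dvd_of_le (h : M ≤ zpowers a)
    rw [hM, Nat.card_zpowers] at h1
    have h2 : orderOf a ∣ 2 := orderOf_dvd_of_pow_eq_one (by rw [pow_two]; exact hsq a ha)
    have := Nat.le_of_dvd (by norm_num) (h1.trans h2)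
    omega
  have hb1 : b ≠ 1 := fun h => hba (h ▸ one_mem _)
  have hab : a ≠ b := fun h => hba (h ▸ mem_zpowers a)
  have hcomm : ∀ x ∈ M, ∀ w ∈ M, x * w = w * x := comm_of_card_eq_sq (p := 2) (hM.trans (by norm_num))
  set a' := e ⟨a, hMH ha⟩ with ha'
  set b' := e ⟨b, hMH hb⟩ with hb'
  obtain ⟨hA12, hAel⟩ := altFive_two a' b'
    (fun h => ha1 (congrArg Subtype.val ((map_eq_one_iff e e.injective).1 h)))
    (by rw [← map_mul, ← map_one e]; exact congrArg e (Subtype.ext (hsq a ha)))
    (fun h => hb1 (congrArg Subtype.val ((map_eq_one_iff e e.injective).1 h)))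
    (by rw [← map_mul, ← map_one e]; exact congrArg e (Subtype.ext (hsq b hb)))
    (fun h => hab (congrArg Subtype.val (e.injective h)))
    (by rw [← map_mul, ← map_mul]; exact congrArg e (Subtype.ext (hcomm a ha b hb)))
  have hMlist : ∀ x ∈ M, x = 1 ∨ x = a ∨ x = b ∨ x = a * b := by
    intro x hx
    haveI := Fintype.ofFinite M
    by_contra hne
    push Not at hne
    let S : Finset M := {1, ⟨a, ha⟩, ⟨b, hb⟩, ⟨a * b, mul_mem ha hb⟩, ⟨x, hx⟩}
    have hS : S.card = 5 := by
      rw [Finset.card_insert_of_notMem, Finset.card_insert_of_notMem, Finset.card_insert_of_notMem,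
        Finset.card_pair]
      · exact fun h => hne.2.2.2 (congrArg Subtype.val h).symm
      · simp only [Finset.mem_insert, Finset.mem_singleton, Subtype.ext_iff]
        rintro (h | h)
        · exact ha1 (mul_eq_right.1 h.symm)
        · exact hne.2.2.1 h.symm
      · simp only [Finset.mem_insert, Finset.mem_singleton, Subtype.ext_iff]
        rintro (h | h | h)
        · exact hab h
        · exact hb1 (mul_eq_left.1 h.symm)
        · exact hne.2.1 h.symm
      · simp only [Finset.mem_insert, Finset.mem_singleton, Subtype.ext_iff]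
        rintro (h | h | h | h)
        · exact ha1 h.symm
        · exact hb1 h.symm
        · exact hba ((inv_eq_of_mul_eq_one_right h.symm) ▸ inv_mem (mem_zpowers a))
        · exact hne.1 h.symm
    have := Finset.card_le_univ S
    rw [hS, ← Nat.card_eq_fintype_card, hM] at this
    omega
  refine ⟨fun g hg => ?_, fun g hg h hh hg3 hh3 => ?_, fun m hm hm1 g hg hgm => ?_, ?_, ?_, ?_⟩
  · rcases horders (e ⟨g, hg⟩) with h | h | h
    · left
      rw [← map_mul, map_eq_one_iff e e.injective] at h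
      exact congrArg Subtype.val h
    · right; left
      rw [← map_mul, ← map_mul, map_eq_one_iff e e.injective] at h
      rw [h3]; exact congrArg Subtype.val h
    · right; right
      rw [← map_mul, ← map_mul, ← map_mul, ← map_mul, map_eq_one_iff e e.injective] at h
      rw [h5]; exact congrArg Subtype.val h
  · have key : ∀ (x : G) (hx : x ∈ H), orderOf x = 3 →
        e ⟨x, hx⟩ * e ⟨x, hx⟩ * e ⟨x, hx⟩ = 1 ∧ e ⟨x, hx⟩ ≠ 1 := fun x hx hx3 => by
      refine ⟨?_, fun h => ?_⟩
      · rw [← map_mul, ← map_mul, ← map_one e]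
        refine congrArg e (Subtype.ext ?_)
        show x * x * x = 1
        rw [← h3, ← hx3, pow_orderOf_eq_one]
      · rw [map_eq_one_iff e e.injective] at h
        have : x = 1 := congrArg Subtype.val h
        rw [this, orderOf_one] at hx3
        omega
    obtain ⟨k, hk⟩ := altFive_conj _ _ (key g hg hg3).1 (key g hg hg3).2 (key h hh hh3).1 (key h hh hh3).2
    refine ⟨((e.symm k : H) : G), ?_⟩
    have := congrArg (fun x => ((e.symm x : H) : G)) hk
    simp only [map_mul, MulEquiv.symm_apply_apply, Subgroup.coe_mul] at this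
    exact mul_inv_eq_iff_eq_mul.2 this
  · have := hcent (e ⟨m, hMH hm⟩) (e ⟨g, hg⟩)
      (by rw [← map_mul, ← map_one e]; exact congrArg e (Subtype.ext (hsq m hm)))
      (fun h => hm1 (congrArg Subtype.val ((map_eq_one_iff e e.injective).1 h)))
      (by rw [← map_mul, ← map_mul]; exact congrArg e (Subtype.ext hgm))
    rw [← map_mul, map_eq_one_iff e e.injective] at this
    exact congrArg Subtype.val this
  · rw [← c2, ← Fintype.card_subtype, ← Nat.card_eq_fintype_card]
    refine Nat.card_congr (e.toEquiv.subtypeEquiv fun g => ?_)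
    show g * g = 1 ↔ e g * e g = 1
    rw [← map_mul, map_eq_one_iff e e.injective]
  · rw [← c3, ← Fintype.card_subtype, ← Nat.card_eq_fintype_card]
    refine Nat.card_congr (e.toEquiv.subtypeEquiv fun g => ?_)
    show g ^ 3 = 1 ↔ e g * e g * e g = 1
    rw [h3, ← map_mul, ← map_mul, map_eq_one_iff e e.injective]
  · refine ⟨normalizer (M : Set G) ⊓ H, inf_le_right, le_inf le_normalizer hMH, ?_, inf_le_left, ?_⟩
    all_goals
      have hiff : ∀ (g : G) (hg : g ∈ H), g ∈ normalizer (M : Set G) ↔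
          ((e ⟨g, hg⟩ * a' = a' * e ⟨g, hg⟩ ∨ e ⟨g, hg⟩ * a' = b' * e ⟨g, hg⟩ ∨
              e ⟨g, hg⟩ * a' = a' * b' * e ⟨g, hg⟩) ∧
            (e ⟨g, hg⟩ * b' = a' * e ⟨g, hg⟩ ∨ e ⟨g, hg⟩ * b' = b' * e ⟨g, hg⟩ ∨
              e ⟨g, hg⟩ * b' = a' * b' * e ⟨g, hg⟩)) := by
        intro g hg
        have he : ∀ (x w : G) (hx : x ∈ H) (hw : w ∈ H),
            e ⟨g, hg⟩ * e ⟨x, hx⟩ = e ⟨w, hw⟩ * e ⟨g, hg⟩ ↔ g * x * g⁻¹ = w := fun x w hx hw => by
          rw [← map_mul, ← map_mul, e.injective.eq_iff, Subtype.ext_iff, mul_inv_eq_iff_eq_mul]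
          rfl
        have hmul : e ⟨a, hMH ha⟩ * e ⟨b, hMH hb⟩ = e ⟨a * b, mul_mem (hMH ha) (hMH hb)⟩ :=
          (map_mul e _ _).symm
        rw [ha', hb']
        simp only [hmul, he]
        constructor
        · intro hgN
          have h1 := hMlist _ ((mem_normalizer_iff.1 hgN a).1 ha)
          have h2 := hMlist _ ((mem_normalizer_iff.1 hgN b).1 hb)
          exact ⟨h1.resolve_left (fun h => ha1 (conj_eq_one_iff.1 h)),
            h2.resolve_left (fun h => hb1 (conj_eq_one_iff.1 h))⟩
        · rintro ⟨h1, h2⟩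
          have hga : g * a * g⁻¹ ∈ M := by
            rcases h1 with h | h | h <;> rw [h]
            exacts [ha, hb, mul_mem ha hb]
          have hgb : g * b * g⁻¹ ∈ M := by
            rcases h2 with h | h | h <;> rw [h]
            exacts [ha, hb, mul_mem ha hb]
          have hmap : M.map (MulAut.conj g).toMonoidHom = M := by
            refine eq_of_le_of_card_ge ?_ (le_of_eq (card_map_of_injective (MulAut.conj g).injective).symm)
            rintro _ ⟨x, hx, rfl⟩
            rcases hMlist x hx with rfl | rfl | rfl | rfl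
            · simp
            · exact hga
            · exact hgb
            · rw [map_mul]; exact mul_mem hga hgb
          refine mem_normalizer_iff.2 fun x => ⟨fun hx => hmap ▸ ⟨x, hx, rfl⟩, fun hx => ?_⟩
          rw [← hmap] at hx
          obtain ⟨w, hw, e'⟩ := hx
          exact (MulAut.conj g).injective e' ▸ hw
    · rw [← hA12, ← Fintype.card_subtype, ← Nat.card_eq_fintype_card]
      refine Nat.card_congr
        { toFun := fun g => ⟨e ⟨g.1, (Subgroup.mem_inf.1 g.2).2⟩,
            (hiff _ _).1 (Subgroup.mem_inf.1 g.2).1⟩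
          invFun := fun g => ⟨(e.symm g.1 : G), Subgroup.mem_inf.2
            ⟨(hiff _ (e.symm g.1).2).2 (by simpa using g.2), (e.symm g.1).2⟩⟩
          left_inv := fun g => Subtype.ext (by simp)
          right_inv := fun g => Subtype.ext (by simp) }
    · intro g hg
      obtain ⟨hgN, hgH⟩ := Subgroup.mem_inf.1 hg
      obtain ⟨h1, h2⟩ := (hiff g hgH).1 hgN
      rcases hAel _ h1 h2 with h | h | h | h | h
      · left; rw [show g = 1 from congrArg Subtype.val ((map_eq_one_iff e e.injective).1 h)]; exact one_mem _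
      · left; rw [show g = a from congrArg Subtype.val (e.injective h)]; exact ha
      · left; rw [show g = b from congrArg Subtype.val (e.injective h)]; exact hb
      · left
        rw [ha', hb', ← map_mul] at h
        rw [show g = a * b from congrArg Subtype.val (e.injective h)]
        exact mul_mem ha hb
      · right
        rw [← map_mul, ← map_mul, map_eq_one_iff e e.injective] at h
        rw [h3]; exact congrArg Subtype.val h

theorem finrank_fix_four (ρ : Representation ℂ G (Fin 6 → ℂ))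
    (hz : ∀ z : G, orderOf z = 2 → ρ.character z = 2) {M : Subgroup G} {n : ℕ}
    (hM : Nat.card M = n) (hsq : ∀ x ∈ M, x * x = 1) :
    (n : ℂ) * Module.finrank ℂ (fix ρ M) = 6 + 2 * ((n : ℂ) - 1) := by
  classical
  haveI := Fintype.ofFinite M
  rw [← hM, ← sum_eq ρ M, ← Finset.add_sum_erase _ _ (Finset.mem_univ (1 : M)),
    Finset.sum_congr rfl (f := fun x : M => ρ.character ↑x) (g := fun _ => (2 : ℂ)) fun x hx => hz x (orderOf_eq_prime
      (by rw [pow_two]; exact hsq x x.2) fun h => (Finset.mem_erase.1 hx).1 (Subtype.ext h))]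
  rw [Finset.sum_const, Finset.card_erase_of_mem (Finset.mem_univ _), Finset.card_univ, nsmul_eq_mul,
    Nat.card_eq_fintype_card, Nat.cast_sub Fintype.card_pos, Nat.cast_one, OneMemClass.coe_one,
    Representation.char_one, Module.finrank_fin_fun]
  ring

/-- A simple group of order 2520 has a subgroup of index seven. -/
theorem exists_card_three_sixty (hn : Nat.card G = 2520) (hG : ¬ IsMulCommutative G) :
    ∃ H : Subgroup G, Nat.card H = 360 := by
  classical
  obtain ⟨ρ, htop, hz, hy⟩ := exists_six hn hG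
  obtain ⟨Q, y, t, hyQ, hy5, ht4, htN, htt, -, -⟩ := exists_frobenius hn hG
  obtain ⟨hQ5, hN20, -⟩ := card_sylow_five hn hG Q
  have hQy : zpowers y = (Q : Subgroup G) := sylow_eq_zpowers Q hQ5 hy5 hyQ
  set z := t * t with hzdef
  have hz1 : z ≠ 1 := fun h => by
    have := orderOf_dvd_of_pow_eq_one (show t ^ 2 = 1 by rw [pow_two]; exact h)
    rw [ht4] at this
    omega
  have hzz : z * z = 1 := by
    rw [hzdef, show t * t * (t * t) = t ^ 4 by simp only [pow_succ, pow_zero, one_mul, mul_assoc],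
      ← ht4, pow_orderOf_eq_one]
  have hz2 : orderOf z = 2 := orderOf_eq_prime (by rw [pow_two]; exact hzz) hz1
  obtain ⟨-, M, v, hzM, hM, hsq, hv3, hMC, huniq⟩ := exists_local hn hG hz2
  -- the fixed spaces
  set D := (Q : Subgroup G) ⊔ zpowers z with hDdef
  have hzN : zpowers z ≤ normalizer ((Q : Subgroup G) : Set G) := zpowers_le.2 (mul_mem htN htN)
  have hD : Nat.card D = 5 * 2 := by
    have h := H31.FF.card_sup_mul_card_inf hzN
    rw [inf_eq_bot_of_coprime (H := (Q : Subgroup G)) (K := zpowers z)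
      (by rw [hQ5, Nat.card_zpowers, hz2]; norm_num), card_bot, mul_one, hQ5, Nat.card_zpowers, hz2] at h
    exact h
  have hfM : Module.finrank ℂ (fix ρ M) = 3 := by
    have h := finrank_fix_four ρ hz hM hsq
    have h' : ((4 * Module.finrank ℂ (fix ρ M) : ℕ) : ℂ) = ((12 : ℕ) : ℂ) := by
      push_cast at h ⊢
      linear_combination h
    have h'' : 4 * Module.finrank ℂ (fix ρ M) = 12 := by exact_mod_cast h'
    omega
  have hfZ : Module.finrank ℂ (fix ρ (zpowers z)) = 4 := by
    have h := finrank_fix_four ρ hz (M := zpowers z) ((Nat.card_zpowers z).trans hz2) (by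
      intro x hx
      obtain ⟨i, rfl⟩ := mem_zpowers_iff.1 hx
      rw [← (Commute.refl z).mul_zpow, hzz, one_zpow])
    have h' : ((2 * Module.finrank ℂ (fix ρ (zpowers z)) : ℕ) : ℂ) = ((8 : ℕ) : ℂ) := by
      push_cast at h ⊢
      linear_combination h
    have h'' : 2 * Module.finrank ℂ (fix ρ (zpowers z)) = 8 := by exact_mod_cast h'
    omega
  have hfD : Module.finrank ℂ (fix ρ D) = 2 := by
    haveI := Fintype.ofFinite D
    have h := sum_eq ρ D
    rw [sum_product (e := 2) (le_sup_left (a := (Q : Subgroup G)) hyQ)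
      (le_sup_right (a := (Q : Subgroup G)) (mem_zpowers z)) hy5 hz2 (by norm_num) hD ρ.character,
      Finset.sum_range_succ, Finset.sum_range_one, hD] at h
    simp only [pow_zero, mul_one, pow_one] at h
    have e0 : ∀ i ∈ Finset.range 5, ρ.character (y ^ i) = if i = 0 then 6 else 1 := by
      intro i hi
      rcases i.eq_zero_or_pos with rfl | hi0
      · simp [Representation.char_one]
      · rw [if_neg (by omega)]
        apply hy
        rw [orderOf_pow' _ (by omega), hy5, Nat.Coprime.gcd_eq_one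
          ((show Nat.Prime 5 by norm_num).coprime_iff_not_dvd.2 (fun hd => by
            have := Nat.le_of_dvd hi0 hd; rw [Finset.mem_range] at hi; omega))]
    have e1 : ∀ i ∈ Finset.range 5, ρ.character (y ^ i * z) = 2 := by
      intro i _
      have hzi : z * y ^ i * z⁻¹ = (y ^ i)⁻¹ := by rw [← conj_pow, htt, inv_pow]
      refine hz _ (orderOf_eq_prime ?_ ?_)
      · rw [pow_two]
        calc y ^ i * z * (y ^ i * z) = y ^ i * (z * y ^ i * z⁻¹) * (z * z) := by group
          _ = 1 := by rw [hzi, hzz]; group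
      · intro h1
        have hzy : z ∈ (Q : Subgroup G) := by
          rw [eq_inv_of_mul_eq_one_right h1]; exact inv_mem (pow_mem hyQ i)
        have := Subgroup.orderOf_dvd_natCard _ hzy
        rw [hz2, hQ5] at this
        omega
    rw [Finset.sum_congr rfl e0, Finset.sum_congr rfl e1] at h
    have h' : ((10 * Module.finrank ℂ (fix ρ D) : ℕ) : ℂ) = ((20 : ℕ) : ℂ) := by
      simp [Finset.sum_range_succ] at h
      push_cast
      linear_combination -h
    have h'' : 10 * Module.finrank ℂ (fix ρ D) = 20 := by exact_mod_cast h'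
    omega
  have hinter : ∀ (A B C : Subgroup G), C ≤ A → C ≤ B →
      Module.finrank ℂ (fix ρ C) < Module.finrank ℂ (fix ρ A) + Module.finrank ℂ (fix ρ B) →
      A ⊔ B ≠ ⊤ := by
    intro A B C hCA hCB hlt htop'
    have h1 := Submodule.finrank_sup_add_finrank_inf_eq (fix ρ A) (fix ρ B)
    have h2 := Submodule.finrank_mono (sup_le (fix_mono ρ hCA) (fix_mono ρ hCB))
    have h3 : fix ρ A ⊓ fix ρ B = ⊥ := by
      refine (Submodule.eq_bot_iff _).2 fun w hw => ?_
      have hw' := mem_fix_sup ρ hw.1 hw.2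
      rw [htop', htop] at hw'
      exact (Submodule.mem_bot ℂ).1 hw'
    rw [h3, finrank_bot] at h1
    omega
  set L := M ⊔ D
  have hL : L ≠ ⊤ := hinter M D (zpowers z) (zpowers_le.2 hzM) le_sup_right (by rw [hfM, hfD, hfZ]; norm_num)
  have hyL : y ∈ L := le_sup_right (a := M) (le_sup_left (b := zpowers z) hyQ)
  obtain h | ⟨H, hHL, hH, hMH, hyH⟩ := exists_card_sixty hn hG hL hM hsq hv3 hMC huniq le_sup_left hy5
    hyL ht4 hzM (fun Q' hQ' => by rw [hQ', hQy]; exact htN) htt
  · exact ⟨L, h⟩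
  -- the second stage
  have hHtop : H ≠ ⊤ := fun e => by rw [e, card_top, hn] at hH; omega
  obtain ⟨-, hns, -⟩ := card_cases hn hG hHtop hM hsq hMH hy5 hyH (hMH hzM) hz2 htt
  obtain ⟨horders, hconj, hcent, hc2, hc3, A, hAH, hMA, hA, hAN, hAel⟩ := sixty_facts hH hns hM hsq hMH
  obtain ⟨x, hxA, hx3⟩ : ∃ x ∈ A, orderOf x = 3 := by
    obtain ⟨⟨x, hx⟩, hx3⟩ := exists_prime_orderOf_dvd_card' (G := A) 3 (by rw [hA]; norm_num)
    exact ⟨x, hx, by rwa [orderOf_mk] at hx3⟩
  set s := ρ.character x
  have hs : ∀ g ∈ H, orderOf g = 3 → ρ.character g = s := fun g hg hg3 => by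
    obtain ⟨k, hk⟩ := hconj x (hAH hxA) g hg hx3 hg3
    rw [← hk, Representation.char_conj]
  have hchar1 : ρ.character 1 = (6 : ℂ) := by simp [Representation.char_one]
  have hval : ∀ g ∈ H, ρ.character g = (if g = 1 then (6 : ℂ) else if g * g = 1 then 2
      else if g ^ 3 = 1 then s else 1) := by
    intro g hg
    split_ifs with h1 h2 h3
    · rw [h1, hchar1]
    · exact hz g (orderOf_eq_prime (by rw [pow_two]; exact h2) h1)
    · exact hs g hg (orderOf_eq_prime h3 h1)
    · exact hy g (orderOf_eq_prime ((((horders g hg).resolve_left h2).resolve_left h3)) h1)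
  haveI := Fintype.ofFinite H
  haveI := Fintype.ofFinite A
  set f := Module.finrank ℂ (fix ρ H) with hf
  set fA := Module.finrank ℂ (fix ρ A) with hfA
  have eH : (60 : ℂ) * f = 60 + 20 * s := by
    have h := sum_eq ρ H
    rw [hH] at h
    rw [← hf] at h
    have e : ∀ g : H, ρ.character g = (if g = 1 then (5 : ℂ) - s else 0) +
        ((if g * g = 1 then (1 : ℂ) else 0) + ((if g ^ 3 = 1 then s - 1 else 0) + 1)) -
        (if g = 1 then (1 : ℂ) - 1 else 0) := by
      intro g
      have e1 : g = 1 ↔ (g : G) = 1 := Subtype.ext_iff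
      have e2 : g * g = 1 ↔ (g : G) * g = 1 := Subtype.ext_iff
      have e3 : g ^ 3 = 1 ↔ (g : G) ^ 3 = 1 := by rw [Subtype.ext_iff, SubmonoidClass.coe_pow]; rfl
      rw [hval g g.2]
      simp only [e1, e2, e3]
      by_cases h1 : (g : G) = 1
      · simp [h1]; ring
      · by_cases h2 : (g : G) * g = 1
        · have h3 : (g : G) ^ 3 ≠ 1 := fun h3 => h1 (by
            rw [pow_succ, pow_two, h2, one_mul] at h3; exact h3)
          simp [h1, h2, h3]; norm_num
        · by_cases h3 : (g : G) ^ 3 = 1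
          · simp [h1, h2, h3]
          · simp [h1, h2, h3]
    rw [Finset.sum_congr rfl fun g _ => e g, Finset.sum_sub_distrib, Finset.sum_add_distrib,
      Finset.sum_add_distrib, Finset.sum_add_distrib] at h
    simp only [Finset.sum_ite_eq', Finset.mem_univ, if_true, sub_self, sub_zero, Finset.sum_const,
      Finset.card_univ, ← Finset.sum_filter, nsmul_eq_mul, mul_one] at h
    rw [← Fintype.card_subtype, ← Fintype.card_subtype, ← Nat.card_eq_fintype_card,
      ← Nat.card_eq_fintype_card, ← Nat.card_eq_fintype_card, hc2, hc3, hH] at h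
    push_cast at h
    linear_combination -h
  have eA : (12 : ℂ) * fA = 12 + 8 * s := by
    have h := sum_eq ρ A
    rw [hA, ← hfA] at h
    have e : ∀ g : A, ρ.character g = (if g = 1 then (4 : ℂ) else 0) +
        ((if (g : G) ∈ M then (2 : ℂ) - s else 0) + s) := by
      intro g
      by_cases h1 : g = 1
      · subst h1; simp [hchar1, one_mem]; ring
      · rw [if_neg h1]
        have h1' : (g : G) ≠ 1 := fun h' => h1 (Subtype.ext h')
        by_cases hm : (g : G) ∈ M
        · rw [if_pos hm, hz g (orderOf_eq_prime (by rw [pow_two]; exact hsq _ hm) h1')]; ring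
        · rw [if_neg hm, hs g (hAH g.2) (orderOf_eq_prime ((hAel g g.2).resolve_left hm) h1')]; ring
    rw [Finset.sum_congr rfl fun g _ => e g, Finset.sum_add_distrib, Finset.sum_add_distrib] at h
    simp only [Finset.sum_ite_eq', Finset.mem_univ, if_true, Finset.sum_const,
      Finset.card_univ, ← Finset.sum_filter, nsmul_eq_mul] at h
    rw [← Fintype.card_subtype, ← Nat.card_eq_fintype_card, ← Nat.card_eq_fintype_card, hA,
      show Nat.card {g : A // (g : G) ∈ M} = 4 from
        (Nat.card_congr (subgroupOfEquivOfLe hMA).toEquiv).trans hM] at h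
    push_cast at h
    linear_combination -h
  have hdim : fA < f + f := by
    have h' : ((120 * f : ℕ) : ℂ) = ((60 * fA + 60 : ℕ) : ℂ) := by
      push_cast
      linear_combination 2 * eH - 5 * eA
    have h'' : 120 * f = 60 * fA + 60 := by exact_mod_cast h'
    omega
  -- the conjugate subgroup
  set φ := (MulAut.conj v).toMonoidHom with hφ
  have hφi : Function.Injective φ := (MulAut.conj v).injective
  have hcentA : ∀ a ∈ A, v * a * v⁻¹ = a := by
    intro a ha
    rcases hAel a ha with ham | ha3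
    · rw [← mem_centralizer_singleton_iff.1 (hMC ham)]; group
    · set u := a * v * a⁻¹
      have hu3 : orderOf u = 3 := (MulEquiv.orderOf_eq (MulAut.conj a) v).trans hv3
      have hucomm : u * z = z * u := by
        have hw : a⁻¹ * z * a ∈ M := (mem_normalizer_iff''.1 (hAN ha) z).1 hzM
        have h := mem_centralizer_singleton_iff.1 (hMC hw)
        calc u * z = a * (v * (a⁻¹ * z * a)) * a⁻¹ := by simp only [u]; group
          _ = a * ((a⁻¹ * z * a) * v) * a⁻¹ := by rw [h]
          _ = z * u := by simp only [u]; group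
      obtain ⟨i, hi, hie⟩ := Finset.mem_image.1 ((mem_zpowers_iff_mem_range_orderOf (x := v)).1
        (huniq z hzM hz1 u hucomm hu3))
      rw [hv3, Finset.mem_range] at hi
      interval_cases i
      · rw [← hie, pow_zero, orderOf_one] at hu3; omega
      · rw [pow_one] at hie
        have hc : a * v = v * a := mul_inv_eq_iff_eq_mul.1 hie.symm
        rw [← hc]; group
      · exfalso
        have hv33 : v ^ 3 = 1 := hv3 ▸ pow_orderOf_eq_one v
        have hinv : a * v * a⁻¹ = v⁻¹ := hie.symm.trans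
          (eq_inv_of_mul_eq_one_left (by rw [← pow_succ, hv33]))
        have e1 : ∀ w, a * w⁻¹ * a⁻¹ = (a * w * a⁻¹)⁻¹ := fun w => by group
        have e5 : a ^ 3 * v * (a ^ 3)⁻¹ = v⁻¹ := by
          calc a ^ 3 * v * (a ^ 3)⁻¹ = a * (a * (a * v * a⁻¹) * a⁻¹) * a⁻¹ := by
                simp only [pow_succ, pow_zero, one_mul]; group
            _ = v⁻¹ := by simp only [hinv, e1, inv_inv]
        rw [ha3, one_mul, inv_one, mul_one] at e5
        have := orderOf_dvd_of_pow_eq_one (show v ^ 2 = 1 by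
          rw [pow_two]; nth_rewrite 1 [e5]; exact inv_mul_cancel v)
        rw [hv3] at this
        omega
  set H' := H.map φ with hH'
  have hAH' : A ≤ H' := fun a ha => ⟨a, hAH ha, hcentA a ha⟩
  have hH'60 : Nat.card H' = 60 := by rw [hH', card_map_of_injective hφi, hH]
  haveI := Fintype.ofFinite H'
  have hf' : Module.finrank ℂ (fix ρ H') = f := by
    have h1 := sum_eq ρ H'
    have h2 := sum_eq ρ H
    rw [hH'60, ← Fintype.sum_equiv (H.equivMapOfInjective φ hφi).toEquiv (fun g => ρ.character g)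
      (fun g => ρ.character g) (fun g => (Representation.char_conj ρ g.1 v).symm), h2, hH] at h1
    exact_mod_cast (mul_left_cancel₀ (by norm_num) h1).symm
  have hL2 : H ⊔ H' ≠ ⊤ := hinter H H' A hAH hAH' (by rw [hf']; exact hdim)
  obtain ⟨hcases, -, -⟩ := card_cases hn hG hL2 hM hsq (hMH.trans le_sup_left) hy5
    (le_sup_left (b := H') hyH) (le_sup_left (b := H') (hMH hzM)) hz2 htt
  have hH'le : H' ≤ H → False := by
    intro hle
    have hvN : v ∈ normalizer (H : Set G) := by
      have he : H' = H := eq_of_le_of_card_ge hle (by rw [hH'60, hH])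
      refine mem_normalizer_iff.2 fun w => ⟨fun hw => he ▸ ⟨w, hw, rfl⟩, fun hw => ?_⟩
      have : v * w * v⁻¹ ∈ H' := he.symm ▸ hw
      obtain ⟨b, hb, e⟩ := this
      exact (MulAut.conj v).injective e ▸ hb
    have hvH : v ∉ H := fun hvH => by
      have := hcent z hzM hz1 v hvH (mem_centralizer_singleton_iff.1 (hMC hzM)).symm
      have := orderOf_dvd_of_pow_eq_one (show v ^ 2 = 1 by rw [pow_two]; exact this)
      rw [hv3] at this
      omega
    set K := H ⊔ zpowers v
    have hK : Nat.card K = 180 := by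
      have h := H31.FF.card_sup_mul_card_inf (A := H) (B := zpowers v) (zpowers_le.2 hvN)
      have hinf : H ⊓ zpowers v = ⊥ := by
        by_contra hne
        have hd : Nat.card (H ⊓ zpowers v : Subgroup G) ∣ 3 := by
          rw [← hv3, ← Nat.card_zpowers]; exact card_dvd_of_le inf_le_right
        rcases (Nat.dvd_prime Nat.prime_three).1 hd with h' | h'
        · exact hne (card_eq_one.1 h')
        · exact hvH (inf_eq_right.1 (eq_of_le_of_card_ge inf_le_right
            (by rw [h', Nat.card_zpowers, hv3])) (mem_zpowers v))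
      rw [hinf, card_bot, mul_one, hH, Nat.card_zpowers, hv3] at h
      exact h
    have hKtop : K ≠ ⊤ := fun e => by rw [e, card_top, hn] at hK; omega
    obtain ⟨hc, -, -⟩ := card_cases hn hG hKtop hM hsq (hMH.trans le_sup_left) hy5
      (le_sup_left (b := zpowers v) hyH) (le_sup_left (b := zpowers v) (hMH hzM)) hz2 htt
    rw [hK] at hc
    omega
  rcases hcases with h | h | h
  · exfalso
    exact hH'le (le_of_le_of_eq le_sup_right (eq_of_le_of_card_ge le_sup_left (by rw [h, hH])).symm)
  · exfalso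
    apply hH'le
    have hidx : (H.subgroupOf (H ⊔ H')).index = 2 := by
      have h' := (H.subgroupOf (H ⊔ H')).card_mul_index
      rw [Nat.card_congr (subgroupOfEquivOfLe (le_sup_left : H ≤ H ⊔ H')).toEquiv, hH, h] at h'
      omega
    rw [← inf_eq_right]
    refine eq_of_le_of_card_ge inf_le_right ?_
    rw [hH'60]
    refine Nat.le_of_dvd Nat.card_pos (Nat.Coprime.mul_dvd_of_dvd_of_dvd
      (show Nat.Coprime 12 5 by norm_num) (hA ▸ card_dvd_of_le (le_inf hAH hAH')) ?_)
    set y' := φ y with hy'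
    have hy'5 : orderOf y' = 5 := (orderOf_injective φ hφi y).trans hy5
    rw [← hy'5]
    refine Subgroup.orderOf_dvd_natCard _ (Subgroup.mem_inf.2 ⟨?_, ⟨y, hyH, rfl⟩⟩)
    have hmem : y' ∈ H ⊔ H' := le_sup_right (a := H) ⟨y, hyH, rfl⟩
    have hsq2 := mul_self_mem_of_index_two hidx ⟨y', hmem⟩
    have hsq3 : y' * y' ∈ H := mem_subgroupOf.1 hsq2
    have e : y' = y' * y' * (y' * y' * (y' * y')) := by
      rw [show y' * y' * (y' * y' * (y' * y')) = y' ^ 5 * y' by
        simp only [pow_succ, pow_zero, one_mul, mul_assoc], ← hy'5, pow_orderOf_eq_one, one_mul]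
    rw [e]
    exact mul_mem hsq3 (mul_mem hsq3 hsq3)
  · exact ⟨_, h⟩

omit [Fact (Nat.Prime 3)] [Fact (Nat.Prime 2)] [Fact (Nat.Prime 5)] in
theorem nonempty_mulEquiv (hn : Nat.card G = 2520) :
    Nonempty (G ≃* alternatingGroup (Fin 7)) := by
  haveI : Fact (Nat.Prime 2) := ⟨Nat.prime_two⟩
  haveI : Fact (Nat.Prime 3) := ⟨Nat.prime_three⟩
  haveI : Fact (Nat.Prime 5) := ⟨by norm_num⟩
  have hG : ¬ IsMulCommutative G := not_isMulCommutative_of_dvd Nat.prime_two Nat.prime_three
    (by norm_num) (hn ▸ by norm_num) (hn ▸ by norm_num)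
  obtain ⟨H, hH⟩ := exists_card_three_sixty hn hG
  have hidx : H.index = 7 := by rw [index_eq_of_card hn hH]
  obtain ⟨f, hf⟩ := exists_hom_alternating hG (H := H) (fun e => by rw [e, index_top] at hidx; omega)
  revert f
  rw [hidx]
  intro f hf
  exact ⟨MulEquiv.ofBijective f ((Nat.bijective_iff_injective_and_card f).2 ⟨hf, by
    rw [hn, nat_card_alternatingGroup, Nat.card_eq_fintype_card, Fintype.card_fin]; rfl⟩)⟩

end Cfsg.Agent.H36.Alt7
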