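import Cfsg.Agent.H36.Basic
import Cfsg.Agent.H36.Fixed
import Cfsg.Agent.H25.InvolutionTransfer
import Cfsg.Agent.PGroups.Taussky
import Cfsg.Agent.PGroups.MaxClass

/-!
# An involution with a small centralizer in a Sylow subgroup is transferred out

In a simple group with Sylow `2`-subgroups of order `2^n`, no involution has a centralizer whose
`2`-part is at most `4` (for `n ≥ 4`) or at most `8` (for `n ≥ 5`).
-/

set_option autoImplicit false
set_option linter.unusedSectionVars false
set_option linter.style.haveILetI false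

namespace Cfsg.Agent.H36

open Subgroup
open scoped commutatorElement

/-- In an abelian group of order eight, elements of order two that are not squares and contain no
product of two of them avoid a subgroup of index two. -/
theorem exists_index_two_avoiding {A : Type*} [CommGroup A] [Finite A] (hA : Nat.card A = 8)
    (W : Set A) (h1 : (1 : A) ∉ W) (hsq : ∀ g : A, g * g ∉ W) (hord : ∀ w ∈ W, w * w = 1)
    (htri : ∀ a ∈ W, ∀ b ∈ W, a * b ∉ W) :
    ∃ Q : Subgroup A, Q.index = 2 ∧ ∀ w ∈ W, w ∉ Q := by
  classical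
  haveI : Fact (Nat.Prime 2) := ⟨Nat.prime_two⟩
  rcases W.eq_empty_or_nonempty with hW | ⟨w₁, hw₁⟩
  · obtain ⟨Q, hQ⟩ := Sylow.exists_subgroup_card_pow_prime (G := A) 2 (n := 2)
      (by rw [hA]; norm_num)
    refine ⟨Q, ?_, fun w hw => by rw [hW] at hw; exact hw.elim⟩
    have := Q.card_mul_index
    rw [hQ, hA] at this
    omega
  by_cases hexp : ∀ g : A, g * g = 1
  · have hinv : ∀ g : A, g⁻¹ = g := fun g => inv_eq_of_mul_eq_one_right (hexp g)
    have sub : ∀ a b : A, ∃ Q : Subgroup A, ∀ x, x ∈ Q ↔ x = 1 ∨ x = a ∨ x = b ∨ x = a * b := by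
      intro a b
      refine ⟨{ carrier := {x | x = 1 ∨ x = a ∨ x = b ∨ x = a * b}
                one_mem' := Or.inl rfl
                inv_mem' := fun {x} hx => by rwa [Set.mem_ofPred_eq, hinv]
                mul_mem' := fun {x y} hx hy => ?_ }, fun x => Iff.rfl⟩
      simp only [Set.mem_ofPred_eq] at hx hy ⊢
      rcases hx with rfl | rfl | rfl | rfl <;> rcases hy with rfl | rfl | rfl | rfl <;>
        simp [mul_left_comm, mul_comm, hexp]
    have outside : ∀ s : Finset A, s.card < 8 → ∃ x, x ∉ s := by
      intro s hs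
      haveI := Fintype.ofFinite A
      by_contra hall
      push Not at hall
      have : s = Finset.univ := Finset.eq_univ_of_forall hall
      rw [this, Finset.card_univ, ← Nat.card_eq_fintype_card, hA] at hs
      omega
    have hw₁1 : w₁ ≠ 1 := fun h => h1 (h ▸ hw₁)
    obtain ⟨w₂, hw₂1, hw₂2, hw₂W⟩ : ∃ w₂, w₂ ≠ 1 ∧ w₂ ≠ w₁ ∧
        (w₂ ∈ W ∨ ∀ w ∈ W, w = w₁) := by
      by_cases h : ∀ w ∈ W, w = w₁
      · obtain ⟨x, hx⟩ := outside {1, w₁} (lt_of_le_of_lt Finset.card_le_two (by norm_num))
        simp only [Finset.mem_insert, Finset.mem_singleton, not_or] at hx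
        exact ⟨x, hx.1, hx.2, Or.inr h⟩
      · push Not at h
        obtain ⟨w, hw, hne⟩ := h
        exact ⟨w, fun e => h1 (e ▸ hw), hne, Or.inl hw⟩
    obtain ⟨w₃, hw₃, hw₃W⟩ : ∃ w₃, w₃ ∉ ({1, w₁, w₂, w₁ * w₂} : Finset A) ∧
        (w₃ ∈ W ∨ ∀ w ∈ W, w = w₁ ∨ w = w₂) := by
      by_cases h : ∀ w ∈ W, w = w₁ ∨ w = w₂
      · obtain ⟨x, hx⟩ := outside {1, w₁, w₂, w₁ * w₂}
          (lt_of_le_of_lt Finset.card_le_four (by norm_num))
        exact ⟨x, hx, Or.inr h⟩
      · push Not at h
        obtain ⟨w, hw, hne1, hne2⟩ := h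
        refine ⟨w, ?_, Or.inl hw⟩
        have h12 : w₂ ∈ W := hw₂W.resolve_right fun h => hne1 (h w hw)
        simp only [Finset.mem_insert, Finset.mem_singleton, not_or]
        exact ⟨fun e => h1 (e ▸ hw), hne1, hne2, fun e => htri _ hw₁ _ h12 (e ▸ hw)⟩
    simp only [Finset.mem_insert, Finset.mem_singleton, not_or] at hw₃
    obtain ⟨Q, hQ⟩ := sub (w₁ * w₂) (w₁ * w₃)
    have e23 : w₁ * w₂ * (w₁ * w₃) = w₂ * w₃ := by
      rw [mul_mul_mul_comm, hexp, one_mul]
    have n12 : w₁ * w₂ ≠ 1 := fun h => hw₂2 (by rw [← hinv w₁]; exact eq_inv_of_mul_eq_one_right h)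
    have n13 : w₁ * w₃ ≠ 1 := fun h => hw₃.2.1 (by rw [← hinv w₁]; exact eq_inv_of_mul_eq_one_right h)
    have n23 : w₂ * w₃ ≠ 1 := fun h => hw₃.2.2.1 (by rw [← hinv w₂]; exact eq_inv_of_mul_eq_one_right h)
    refine ⟨Q, ?_, fun w hw hwQ => ?_⟩
    · haveI := Fintype.ofFinite A
      have hcard : Nat.card Q = 4 := by
        have he : (Q : Set A) = ↑({1, w₁ * w₂, w₁ * w₃, w₁ * w₂ * (w₁ * w₃)} : Finset A) := by
          ext x; simp [hQ x]
        rw [← SetLike.coe_sort_coe, he, Nat.card_coe_set_eq, Set.ncard_coe_finset, e23]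
        refine Finset.card_eq_four.2 ⟨_, _, _, _, n12.symm, n13.symm, n23.symm, ?_, ?_, ?_, rfl⟩
        · exact fun h => hw₃.2.2.1 (mul_left_cancel h).symm
        · intro h
          rw [mul_comm w₂ w₃] at h
          exact hw₃.2.1 (mul_right_cancel h).symm
        · intro h
          rw [mul_comm w₁ w₃, mul_comm w₂ w₃] at h
          exact hw₂2 (mul_left_cancel h).symm
      have := Q.card_mul_index
      rw [hcard, hA] at this
      omega
    · have hcases := (hQ w).1 hwQ
      rw [e23] at hcases
      rcases hcases with rfl | rfl | rfl | rfl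
      · exact h1 hw
      · rcases hw₂W with h2 | h2
        · exact htri _ hw₁ _ h2 hw
        · have := h2 _ hw
          exact hw₂1 (mul_eq_left.1 this)
      · rcases hw₃W with h3 | h3
        · exact htri _ hw₁ _ h3 hw
        · rcases h3 _ hw with h | h
          · exact hw₃.1 (mul_eq_left.1 h)
          · exact hw₃.2.2.2 (by rw [← h, ← mul_assoc, hexp, one_mul])
      · rcases hw₃W with h3 | h3
        · rcases hw₂W with h2 | h2
          · exact htri _ h2 _ h3 hw
          · exact hw₃.2.1 (h2 _ h3)
        · rcases h3 _ hw with h | h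
          · exact hw₃.2.2.2 (by rw [← h, mul_right_comm, mul_comm, hexp, mul_one])
          · exact hw₃.1 (mul_eq_left.1 h)
  · push Not at hexp
    obtain ⟨g, hg⟩ := hexp
    have ho : orderOf g ∣ 2 ^ 3 := (orderOf_dvd_natCard g).trans (by rw [hA]; norm_num)
    obtain ⟨i, hi, hgi⟩ := (Nat.dvd_prime_pow Nat.prime_two).1 ho
    have hi2 : 2 ≤ i := by
      by_contra hi2
      apply hg
      have hd : orderOf g ∣ 2 := by rw [hgi]; exact pow_dvd_pow 2 (by omega : i ≤ 1)
      rw [← pow_two]
      exact orderOf_dvd_iff_pow_eq_one.1 hd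
    obtain ⟨c, hc⟩ : ∃ c, c ∈ zpowers g ∧ orderOf c = 4 := by
      refine ⟨g ^ (2 ^ (i - 2)), pow_mem (mem_zpowers g) _, ?_⟩
      rw [orderOf_pow_of_dvd (by positivity) (hgi ▸ pow_dvd_pow 2 (by omega)), hgi,
        Nat.pow_div (by omega) (by norm_num), show i - (i - 2) = 2 by omega]
    refine ⟨zpowers c, ?_, fun w hw hwc => ?_⟩
    · have := (zpowers c).card_mul_index
      rw [Nat.card_zpowers, hc.2, hA] at this
      omega
    · rw [mem_zpowers_iff_mem_range_orderOf, Finset.mem_image] at hwc
      obtain ⟨j, hj, rfl⟩ := hwc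
      rw [Finset.mem_range, hc.2] at hj
      interval_cases j
      · exact h1 (by simpa using hw)
      · have := hord _ hw
        rw [pow_one, ← pow_two, ← orderOf_dvd_iff_pow_eq_one, hc.2] at this
        norm_num at this
      · exact hsq c (by rwa [← pow_two])
      · have := hord _ hw
        rw [← pow_add, ← orderOf_dvd_iff_pow_eq_one, hc.2] at this
        norm_num at this

/-- The conjugates of an element lie in its coset modulo the commutator subgroup. -/
theorem mk_eq_mk_of_isConj {X : Type*} [Group X] {x y : X} (h : IsConj x y) :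
    (x : X ⧸ commutator X) = (y : X ⧸ commutator X) := by
  obtain ⟨g, rfl⟩ := isConj_iff.1 h
  rw [QuotientGroup.eq, show x⁻¹ * (g * x * g⁻¹) = ⁅x⁻¹, g⁆ by
    rw [commutatorElement_def]; group]
  exact commutator_mem_commutator (mem_top _) (mem_top _)

theorem false_of_small_involution {G : Type*} [Group G] [Finite G] [IsSimpleGroup G]
    (hG : ¬ IsMulCommutative G) {u : G} (hu : orderOf u = 2) {n k : ℕ}
    (hk : k ≤ 2 ∧ 4 ≤ n ∨ k ≤ 3 ∧ 5 ≤ n) (hn : 2 ^ n ∣ Nat.card G)
    (hn' : ¬ 2 ^ (n + 1) ∣ Nat.card G)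
    (hc : ¬ 2 ^ (k + 1) ∣ Nat.card (centralizer ({u} : Set G))) : False := by
  classical
  haveI : Fact (Nat.Prime 2) := ⟨Nat.prime_two⟩
  obtain ⟨S, huS'⟩ := exists_sylow_mem (p := 2) hu
  set X := ↥(S : Subgroup G) with hXdef
  have hX : Nat.card (S : Subgroup G) = 2 ^ n := by
    obtain ⟨m, hm⟩ := hn
    have hm2 : ¬ 2 ∣ m := fun ⟨t, ht⟩ => hn' ⟨t, by rw [hm, ht, pow_succ]; ring⟩
    exact card_sylow_eq hm S rfl hm2
  have hX2 : IsPGroup 2 (S : Subgroup G) := S.isPGroup'
  -- the centralizer in `S` of a conjugate of `u`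
  have hcent : ∀ x : (S : Subgroup G), IsConj u (x : G) →
      Nat.card (centralizer ({x} : Set (S : Subgroup G))) ≤ 2 ^ k := by
    intro x hx
    obtain ⟨i, -, hi⟩ := (Nat.dvd_prime_pow Nat.prime_two).1
      (hX ▸ card_subgroup_dvd_card (centralizer ({x} : Set (S : Subgroup G))))
    rw [hi]
    refine Nat.pow_le_pow_right (by norm_num) ?_
    by_contra hik
    apply hc
    have h1 : Nat.card (centralizer ({(x : G)} : Set G)) =
        Nat.card (centralizer ({u} : Set G)) := by
      have e1 := card_class_mul_centralizer u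
      have e2 := card_class_mul_centralizer (x : G)
      have hcl : Nat.card {g : G // IsConj u g} = Nat.card {g : G // IsConj (x : G) g} :=
        Nat.card_congr (Equiv.subtypeEquivRight fun g => ⟨hx.symm.trans, hx.trans⟩)
      rw [hcl, ← e2] at e1
      haveI : Nonempty {g : G // IsConj (x : G) g} := ⟨⟨_, IsConj.refl _⟩⟩
      exact (Nat.eq_of_mul_eq_mul_left Nat.card_pos e1).symm
    rw [← h1]
    refine (pow_dvd_pow 2 (by omega : k + 1 ≤ i)).trans (hi ▸ ?_)
    rw [← card_map_of_injective (S : Subgroup G).subtype_injective]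
    refine card_dvd_of_le ?_
    rintro _ ⟨y, hy, rfl⟩
    exact mem_centralizer_singleton_iff.2
      (congrArg Subtype.val (mem_centralizer_singleton_iff.1 hy))
  set u₀ : (S : Subgroup G) := ⟨u, huS'⟩ with hu₀
  -- it suffices to find a subgroup of index two without conjugates of `u`
  suffices hQ : ∃ Q : Subgroup (S : Subgroup G), Q.index = 2 ∧
      ∀ x ∈ Q, ¬ IsConj u (x : G) by
    obtain ⟨Q, hQi, hQ⟩ := hQ
    have hQrel : (Q.map (S : Subgroup G).subtype).relIndex (S : Subgroup G) = 2 := by
      rw [relIndex, subgroupOf, comap_map_eq_self_of_injective (S : Subgroup G).subtype_injective,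
        hQi]
    have huQ : u ∉ Q.map (S : Subgroup G).subtype := by
      rintro ⟨x, hx, rfl⟩
      exact hQ x hx (IsConj.refl _)
    rcases H25.thompson_transfer S _ (map_subtype_le Q) hQrel u hu huS' huQ with
      ⟨M, hM, hMi, huM⟩ | ⟨g, x, hx, hgx⟩
    · rcases hM.eq_bot_or_eq_top with h | h
      · rw [h, index_bot] at hMi
        exact hG (isCyclic_of_prime_card (p := 2) hMi).isMulCommutative
      · exact huM (h ▸ mem_top u)
    · exact hQ x hx (isConj_iff.2 ⟨g, hgx.symm⟩)
  set D := commutator (S : Subgroup G) with hD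
  have hclass : ∀ x : (S : Subgroup G), IsConj u (x : G) →
      2 ^ (n - k) ≤ Nat.card {y : (S : Subgroup G) // IsConj x y} := by
    intro x hx
    have e := card_class_mul_centralizer x
    have h2 := Nat.mul_le_mul_left (Nat.card {y : (S : Subgroup G) // IsConj x y}) (hcent x hx)
    rw [e, hX, show n = (n - k) + k by omega, pow_add] at h2
    exact Nat.le_of_mul_le_mul_right h2 (by positivity)
  have hfib : ∀ a : (S : Subgroup G) ⧸ D,
      Nat.card {y : (S : Subgroup G) // (y : (S : Subgroup G) ⧸ D) = a} = Nat.card D := by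
    intro a
    obtain ⟨x, rfl⟩ := QuotientGroup.mk_surjective a
    refine Nat.card_congr
      { toFun := fun y => ⟨x⁻¹ * y.1, QuotientGroup.eq.1 y.2.symm⟩
        invFun := fun d => ⟨x * d.1, (QuotientGroup.eq.2 (by simp)).symm⟩
        left_inv := fun y => by simp
        right_inv := fun d => by simp }
  let F : ∀ x : (S : Subgroup G), {y : (S : Subgroup G) // IsConj x y} →
      {y : (S : Subgroup G) // (y : (S : Subgroup G) ⧸ D) = x} :=
    fun x y => ⟨y.1, (mk_eq_mk_of_isConj y.2).symm⟩
  have hF : ∀ x, Function.Injective (F x) := fun x a b h => Subtype.ext (congrArg Subtype.val h :)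
  have hD1 : 2 ^ (n - k) ≤ Nat.card D := by
    rw [← hfib (u₀ : (S : Subgroup G) ⧸ D)]
    exact (hclass u₀ (IsConj.refl _)).trans (Nat.card_le_card_of_injective _ (hF u₀))
  have hprod := D.card_mul_index
  rw [hX] at hprod
  obtain ⟨i, hin, hi⟩ := (Nat.dvd_prime_pow Nat.prime_two).1 (hX ▸ D.index_dvd_card)
  have hcD : Nat.card D = 2 ^ (n - i) := by
    rw [hi] at hprod
    refine Nat.eq_of_mul_eq_mul_right (show 0 < 2 ^ i by positivity) (hprod.trans ?_)
    rw [← pow_add, Nat.sub_add_cancel hin]
  have hik : i ≤ k := by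
    rw [hcD, Nat.pow_le_pow_iff_right (by norm_num)] at hD1
    omega
  rcases le_or_gt i 1 with hi1 | hi2
  · exfalso
    have hfr : (frattini (S : Subgroup G)).index ∣ 2 := by
      refine (index_dvd_of_le (PGroups.commutator_le_frattini (p := 2) hX2)).trans ?_
      rw [← hD, hi]
      exact (pow_dvd_pow 2 hi1).trans (by norm_num)
    haveI hcy : IsCyclic ((S : Subgroup G) ⧸ frattini (S : Subgroup G)) := by
      rcases (Nat.dvd_prime Nat.prime_two).1 hfr with h | h
      · rw [index_eq_card] at h
        haveI := (Nat.card_eq_one_iff_unique.1 h).1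
        infer_instance
      · rw [index_eq_card] at h
        exact isCyclic_of_prime_card h
    haveI := PGroups.isCyclic_of_frattini (G := (S : Subgroup G))
    haveI := (IsCyclic.isMulCommutative (α := (S : Subgroup G)))
    have hDbot : D = ⊥ := by
      rw [hD, commutator_eq_bot_iff_center_eq_top]
      exact eq_top_iff.2 fun a _ => mem_center_iff.2 fun b => IsMulCommutative.is_comm.comm b a
    rw [hDbot, card_bot] at hD1
    have := Nat.one_lt_two_pow (n := n - k) (by omega)
    omega
  rcases (show i = 2 ∨ i = 3 by omega) with rfl | rfl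
  · -- maximal class
    obtain ⟨c, hco⟩ := PGroups.exists_cyclic_index_two n _ (by omega) hX
      (PGroups.maxClass_of_index_commutator n _ (by omega) hX hi)
    refine ⟨zpowers c, ?_, fun x hx hux => ?_⟩
    · have h := (zpowers c).card_mul_index
      rw [Nat.card_zpowers, hco, hX, show n = (n - 1) + 1 by omega, pow_succ] at h
      simp only [Nat.add_sub_cancel] at h
      exact Nat.eq_of_mul_eq_mul_left (by positivity) h
    · have hle : zpowers c ≤ centralizer ({x} : Set (S : Subgroup G)) := by
        intro y hy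
        obtain ⟨a, rfl⟩ := mem_zpowers_iff.1 hx
        obtain ⟨b, rfl⟩ := mem_zpowers_iff.1 hy
        exact mem_centralizer_singleton_iff.2 (zpow_mul_comm c b a)
      have h1 := (Nat.le_of_dvd Nat.card_pos (card_dvd_of_le hle)).trans (hcent x hux)
      rw [Nat.card_zpowers, hco, Nat.pow_le_pow_iff_right (by norm_num)] at h1
      omega
  · -- index eight
    obtain rfl : k = 3 := by omega
    have hn5 : 5 ≤ n := by omega
    have hfill : ∀ x : (S : Subgroup G), IsConj u (x : G) → ∀ y : (S : Subgroup G),
        (y : (S : Subgroup G) ⧸ D) = x → IsConj x y := by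
      intro x hx y hy
      have hb : Function.Bijective (F x) := by
        refine (Nat.bijective_iff_injective_and_card _).2 ⟨hF x, le_antisymm
          (Nat.card_le_card_of_injective _ (hF x)) ?_⟩
        rw [hfib, hcD]
        exact hclass x hx
      obtain ⟨z, hz⟩ := hb.2 ⟨y, hy⟩
      have h2 : z.1 = y := congrArg Subtype.val hz
      exact h2 ▸ z.2
    have hup : ∀ x y : (S : Subgroup G), IsConj u (x : G) →
        (y : (S : Subgroup G) ⧸ D) = x → IsConj u (y : G) := fun x y hx hy =>
      hx.trans ((S : Subgroup G).subtype.map_isConj (hfill x hx y hy))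
    have hinvol : ∀ x : (S : Subgroup G), IsConj u (x : G) → x * x = 1 ∧ x ≠ 1 := by
      intro x hx
      obtain ⟨g, hg⟩ := isConj_iff.1 hx
      have huu : u * u = 1 := by rw [← pow_two, ← hu, pow_orderOf_eq_one]
      refine ⟨Subtype.ext ?_, fun h => ?_⟩
      · show (x : G) * x = 1
        rw [← hg, show g * u * g⁻¹ * (g * u * g⁻¹) = g * (u * u) * g⁻¹ by group, huu]
        group
      · rw [h, OneMemClass.coe_one, conj_eq_one_iff] at hg
        rw [hg, orderOf_one] at hu
        omega
    let W : Set ((S : Subgroup G) ⧸ D) :=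
      {w | ∃ x : (S : Subgroup G), IsConj u (x : G) ∧ (x : (S : Subgroup G) ⧸ D) = w}
    letI : CommGroup ((S : Subgroup G) ⧸ D) :=
      { (inferInstance : Group ((S : Subgroup G) ⧸ D)) with
        mul_comm := by
          intro a b
          obtain ⟨a, rfl⟩ := QuotientGroup.mk_surjective a
          obtain ⟨b, rfl⟩ := QuotientGroup.mk_surjective b
          rw [← QuotientGroup.mk_mul, ← QuotientGroup.mk_mul, QuotientGroup.eq,
            show (a * b)⁻¹ * (b * a) = ⁅b⁻¹, a⁻¹⁆ by rw [commutatorElement_def]; group]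
          exact commutator_mem_commutator (mem_top _) (mem_top _) }
    have h1W : (1 : (S : Subgroup G) ⧸ D) ∉ W := by
      rintro ⟨x, hx, hx1⟩
      exact (hinvol _ (hup x 1 hx (by rw [hx1]; rfl))).2 rfl
    have hsqW : ∀ g : (S : Subgroup G) ⧸ D, g * g ∉ W := by
      intro a
      obtain ⟨g, rfl⟩ := QuotientGroup.mk_surjective a
      rintro ⟨x, hx, hxg⟩
      have hgg : IsConj u ((g * g : (S : Subgroup G)) : G) := hup x (g * g) hx hxg.symm
      haveI : D.Normal := by rw [hD]; infer_instance
      obtain ⟨K, hKn, hKD, hKc⟩ := PGroups.exists_normal_card_le (p := 2) hX2 D (n - 4)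
        (by rw [hcD]; exact Nat.pow_le_pow_right (by norm_num) (by omega))
      have hlt : K < D := lt_of_le_of_ne hKD fun h => by
        rw [h, hcD] at hKc
        have := Nat.pow_right_injective le_rfl hKc
        omega
      obtain ⟨M, hMn, hKM, hMD, hMc⟩ := PGroups.exists_normal_card_mul (p := 2) hX2 K D hlt
      have hMD' : M = D := eq_of_le_of_card_ge hMD (by
        rw [hMc, hKc, hcD, ← pow_succ']
        exact Nat.pow_le_pow_right (by norm_num) (by omega))
      rw [hMD'] at hMn hKM hMc
      haveI := hKn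
      let π := QuotientGroup.mk' K
      have hDK : ∀ d ∈ D, π d ∈ center ((S : Subgroup G) ⧸ K) ∧ π d * π d = 1 := by
        have hidx : Nat.card (D.map π) = 2 := by
          rw [← relIndex_ker (K := D) π, QuotientGroup.ker_mk']
          have := relIndex_mul_relIndex (⊥ : Subgroup (S : Subgroup G)) K D bot_le hKM
          rw [relIndex_bot_left, relIndex_bot_left, hMc, mul_comm 2] at this
          exact Nat.eq_of_mul_eq_mul_left Nat.card_pos this
        haveI : (D.map π).Normal := Subgroup.Normal.map hMn _ (QuotientGroup.mk'_surjective K)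
        intro d hd
        refine ⟨PGroups.le_center_of_card_eq (hX2.to_quotient K) _ hidx ⟨d, hd, rfl⟩, ?_⟩
        have := pow_card_eq_one' (x := (⟨π d, d, hd, rfl⟩ : D.map π))
        rw [hidx, pow_two] at this
        exact congrArg Subtype.val this
      have hconjK : ∀ y : (S : Subgroup G), π (y * (g * g) * y⁻¹) = π (g * g) := by
        intro y
        obtain ⟨hc1, hc2⟩ := hDK (y * g * y⁻¹ * g⁻¹) (by
          rw [hD, show y * g * y⁻¹ * g⁻¹ = ⁅y, g⁆ by rw [commutatorElement_def]]
          exact commutator_mem_commutator (mem_top _) (mem_top _))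
        set c := π (y * g * y⁻¹ * g⁻¹) with hcdef
        have hyg : π (y * g * y⁻¹) = c * π g := by rw [hcdef, ← map_mul]; congr 1; group
        calc π (y * (g * g) * y⁻¹) = π (y * g * y⁻¹) * π (y * g * y⁻¹) := by
              rw [← map_mul]; congr 1; group
          _ = c * π g * (c * π g) := by rw [hyg]
          _ = c * (π g * c) * π g := by group
          _ = c * (c * π g) * π g := by rw [mem_center_iff.1 hc1 (π g)]
          _ = c * c * (π g * π g) := by group
          _ = π (g * g) := by rw [hc2, one_mul, map_mul]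
      obtain ⟨t, htM, htK⟩ := Set.exists_of_ssubset hlt
      obtain ⟨y, hy⟩ := isConj_iff.1 (hfill (g * g) hgg (g * g * t)
        ((QuotientGroup.eq.2 (by rwa [inv_mul_cancel_left])).symm))
      apply htK
      have := hconjK y
      rw [hy, map_mul, mul_eq_left] at this
      exact (QuotientGroup.eq_one_iff t).1 this
    have hordW : ∀ w ∈ W, w * w = 1 := by
      rintro w ⟨x, hx, rfl⟩
      rw [← QuotientGroup.mk_mul, (hinvol x hx).1]; rfl
    have htriW : ∀ a ∈ W, ∀ b ∈ W, a * b ∉ W := by
      rintro _ ⟨a, ha, rfl⟩ _ ⟨b, hb, rfl⟩ ⟨c, hc', hcab⟩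
      set A := (a : (S : Subgroup G) ⧸ D)
      set B := (b : (S : Subgroup G) ⧸ D)
      have hcomm : ∀ y : (S : Subgroup G), (y : (S : Subgroup G) ⧸ D) = B → y * a = a * y := by
        intro y hy
        have h1 := (hinvol y (hup b y hb hy)).1
        have h2 := (hinvol (a * y) (hup c (a * y) hc' (by rw [hcab, QuotientGroup.mk_mul, hy]))).1
        have h3 := (hinvol a ha).1
        calc y * a = (a * a) * (y * a) * (y * y) := by rw [h3, h1, one_mul, mul_one]
          _ = a * (a * y * (a * y)) * y := by simp only [mul_assoc]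
          _ = a * y := by rw [h2, mul_one]
      let B' := {y : (S : Subgroup G) // (y : (S : Subgroup G) ⧸ D) = B}
      let f : Option (B' ⊕ B') → centralizer ({a} : Set (S : Subgroup G)) := fun o => match o with
        | none => 1
        | some (Sum.inl y) => ⟨y.1, mem_centralizer_singleton_iff.2 (hcomm _ y.2)⟩
        | some (Sum.inr y) => ⟨a * y.1, mem_centralizer_singleton_iff.2 (by
            rw [mul_assoc, hcomm _ y.2])⟩
      have hAne : A ≠ 1 := fun h => h1W ⟨a, ha, h⟩
      have hBne : B ≠ 1 := fun h => h1W ⟨b, hb, h⟩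
      have hABne : A * B ≠ 1 := fun h => h1W ⟨c, hc', hcab.trans h⟩
      have hf : Function.Injective f := by
        have himg : ∀ o, (((f o : (S : Subgroup G))) : (S : Subgroup G) ⧸ D) =
            match o with | none => 1 | some (Sum.inl _) => B | some (Sum.inr _) => A * B := by
          rintro (_ | y | y)
          · rfl
          · exact y.2
          · show ((a * y.1 : (S : Subgroup G)) : (S : Subgroup G) ⧸ D) = _
            rw [QuotientGroup.mk_mul, y.2]
        intro o o' h
        have h' := himg o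
        rw [h, himg o'] at h'
        rcases o with _ | y | y <;> rcases o' with _ | z | z <;> simp only at h' ⊢
        · exact absurd h' hBne
        · exact absurd h' hABne
        · exact absurd h'.symm hBne
        · exact congrArg (some ∘ Sum.inl) (Subtype.ext (congrArg Subtype.val h :))
        · exact absurd (mul_eq_right.1 h') hAne
        · exact absurd h'.symm hABne
        · exact absurd (mul_eq_right.1 h'.symm) hAne
        · exact congrArg (some ∘ Sum.inr) (Subtype.ext (mul_left_cancel (congrArg Subtype.val h :)))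
      have h1 := (Nat.card_le_card_of_injective f hf).trans (hcent a ha)
      rw [Finite.card_option, Nat.card_sum, hfib, hcD] at h1
      have : 2 ^ 2 ≤ 2 ^ (n - 3) := Nat.pow_le_pow_right (by norm_num) (by omega)
      omega
    obtain ⟨Q, hQi, hQ⟩ := exists_index_two_avoiding
      (A := (S : Subgroup G) ⧸ D) (by rw [← index_eq_card, hi]; norm_num) W h1W hsqW hordW htriW
    refine ⟨Q.comap (QuotientGroup.mk' D), ?_, fun x hx hux => hQ _ ⟨x, hux, rfl⟩ hx⟩
    rw [index_comap_of_surjective _ (QuotientGroup.mk'_surjective D), hQi]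

end Cfsg.Agent.H36
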