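import Cfsg.Agent.H36.DegreeEq

/-!
# Residues of the character degrees modulo `p` for a self-centralizing subgroup of order `p`
-/

set_option autoImplicit false
set_option linter.unusedSectionVars false
set_option linter.style.haveILetI false

namespace Cfsg.Agent.H36.SelfCentral

open Subgroup Cfsg.Agent.CharBasic Cfsg.Agent.CharInduce

variable {G : Type*} [Group G] [Fintype G] {p : ℕ} [Fact p.Prime] {P : Subgroup G}

/-- For `[N(P) : P] = e ≤ 3` the residues of the nontrivial degrees modulo `p` are `0`, `±1` or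
`A + ε e` with `(A - ε)² + ((p - 1) / e - 1) A² ≤ e`. -/
theorem exists_residue (hP : Nat.card P = p) (hC : centralizer (P : Set G) = P) {e t : ℕ}
    (he : P.relIndex (normalizer (P : Set G)) = e) (he3 : e ≤ 3) (het : e * t = p - 1) (ht : 2 ≤ t)
    (χ : IrrCharacter G) (hχ : (χ : G → ℂ) ≠ fun _ => 1) {f : ℕ} (hf : (χ : G → ℂ) 1 = f) :
    (∃ a : ℤ, a ^ 2 ≤ 1 ∧ (p : ℤ) ∣ f - a) ∨
      ∃ A ε : ℤ, (ε = 1 ∨ ε = -1) ∧ (A - ε) ^ 2 + ((t : ℤ) - 1) * A ^ 2 ≤ e ∧
        (p : ℤ) ∣ f - (A + ε * e) := by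
  classical
  obtain ⟨φ⟩ := exists_iso hP
  have hcU : Nat.card (U φ) = e := (card_U φ hP hC).1.trans he
  have hte : e * (U φ).index = p - 1 := by
    rw [← hcU, card_mul_index, Nat.card_eq_fintype_card, ZMod.card_units]
  have he0 : 0 < e := hcU ▸ Nat.card_pos
  have hti : (U φ).index = t := Nat.eq_of_mul_eq_mul_left he0 (hte.trans het.symm)
  obtain ⟨μ, i₀, ε, A, a, hε, hμ, hμ1, htriv, hsq, ha0, ha, hother, hdeg, -, -, -⟩ :=
    exists_data φ hP hC (hti.symm ▸ ht)
  rw [hcU] at hsq hdeg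
  set T := triv G with hT
  have hT1 : a T = 1 := htriv _ rfl
  have hTμ : T ∉ Finset.univ.image μ := by
    simp only [Finset.mem_image, Finset.mem_univ, true_and, not_exists]
    exact fun i h => hμ1 i (congrArg Subtype.val h)
  have hμsq : ∑ ψ ∈ Finset.univ.image μ, a ψ ^ 2 = (A - ε) ^ 2 + ((t : ℤ) - 1) * A ^ 2 := by
    rw [Finset.sum_image fun i _ j _ h => hμ h, ← Finset.add_sum_erase _ _ (Finset.mem_univ i₀),
      ha0, Finset.sum_congr rfl (fun i hi => congrArg (· ^ 2) (ha i (Finset.ne_of_mem_erase hi))),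
      Finset.sum_const, Finset.card_erase_of_mem (Finset.mem_univ _), Finset.card_univ,
      Fintype.card_fin, nsmul_eq_mul, Nat.cast_sub (Fin.pos i₀), hti, Nat.cast_one]
  have hle : ∀ S : Finset (IrrCharacter G), ∑ ψ ∈ S, a ψ ^ 2 ≤ (e : ℤ) + 1 := fun S =>
    hsq ▸ Finset.sum_le_sum_of_subset_of_nonneg (Finset.subset_univ S) fun _ _ _ => sq_nonneg _
  have hμle : (A - ε) ^ 2 + ((t : ℤ) - 1) * A ^ 2 ≤ e := by
    have h := hle (insert T (Finset.univ.image μ))
    rw [Finset.sum_insert hTμ, hT1, hμsq] at h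
    linarith
  have hm : ∀ R m : ℤ, (χ : G → ℂ) 1 = R + p * m → (p : ℤ) ∣ (f : ℤ) - R := fun R m h => by
    rw [hf] at h
    have : (f : ℤ) = R + p * m := by exact_mod_cast h
    exact ⟨m, by linarith⟩
  by_cases hr : χ ∈ Set.range μ
  · obtain ⟨i, rfl⟩ := hr
    obtain ⟨m, hm'⟩ := hdeg i
    exact Or.inr ⟨A, ε, hε, hμle, hm _ m (by push_cast; exact hm')⟩
  · obtain ⟨-, m, hm'⟩ := hother χ hr
    refine Or.inl ⟨a χ, ?_, hm _ m hm'⟩
    have h1 : 1 ≤ (A - ε) ^ 2 + ((t : ℤ) - 1) * A ^ 2 := by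
      rcases eq_or_ne A 0 with rfl | hA
      · rcases hε with rfl | rfl <;> norm_num
      · have : 1 ≤ A ^ 2 := by have := sq_pos_of_ne_zero hA; omega
        have ht' : (1 : ℤ) ≤ (t : ℤ) - 1 := by omega
        nlinarith [sq_nonneg (A - ε)]
    have hχT : χ ≠ T := fun h => hχ (by rw [h]; rfl)
    have h := hle (insert χ (insert T (Finset.univ.image μ)))
    have hnot : χ ∉ insert T (Finset.univ.image μ) := by
      simp only [Finset.mem_insert, hχT, Finset.mem_image, Finset.mem_univ, true_and, false_or]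
      exact fun ⟨i, hi⟩ => hr ⟨i, hi⟩
    rw [Finset.sum_insert hnot, Finset.sum_insert hTμ, hT1, hμsq] at h
    have he2 : a χ ^ 2 ≤ 2 := by
      have : (e : ℤ) ≤ 3 := by exact_mod_cast he3
      linarith
    rcases le_or_gt (a χ ^ 2) 1 with h' | h'
    · exact h'
    · exfalso
      have h2 : a χ ^ 2 = 2 := by omega
      have hb : -1 ≤ a χ ∧ a χ ≤ 1 := by constructor <;> nlinarith
      rcases (show a χ = -1 ∨ a χ = 0 ∨ a χ = 1 by omega) with h3 | h3 | h3 <;> rw [h3] at h2 <;>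
        norm_num at h2

end Cfsg.Agent.H36.SelfCentral
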