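import Cfsg.Agent.H36.Basic
import Cfsg.Agent.H36.Fixed
import Cfsg.Agent.PGroups.Basic

/-!
# Two-local arguments in the normalizer of a subgroup of prime order
-/

set_option autoImplicit false
set_option linter.unusedSectionVars false
set_option linter.style.haveILetI false

namespace Cfsg.Agent.H36

open Subgroup

variable {G : Type*} [Group G] [Finite G]

theorem card_mul_card_le {T A B : Subgroup G} (hA : A ≤ T) (hB : B ≤ T) :
    Nat.card A * Nat.card B ≤ Nat.card T * Nat.card (A ⊓ B : Subgroup G) := by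
  have h1 : A.relIndex B ≤ A.relIndex T := relIndex_le_of_le_right hB FiniteIndex.index_ne_zero
  have h2 : (A ⊓ B).relIndex B = A.relIndex B := inf_relIndex_right A B
  have h3 := relIndex_mul_relIndex (⊥ : Subgroup G) (A ⊓ B) B bot_le inf_le_right
  have h4 := relIndex_mul_relIndex (⊥ : Subgroup G) A T bot_le hA
  rw [relIndex_bot_left, relIndex_bot_left, h2] at h3
  rw [relIndex_bot_left, relIndex_bot_left] at h4
  rw [← h3, ← h4]
  calc Nat.card A * (Nat.card (A ⊓ B : Subgroup G) * A.relIndex B)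
      ≤ Nat.card A * (Nat.card (A ⊓ B : Subgroup G) * A.relIndex T) :=
        Nat.mul_le_mul_left _ (Nat.mul_le_mul_left _ h1)
    _ = Nat.card A * A.relIndex T * Nat.card (A ⊓ B : Subgroup G) := by ring

/-- Let `N = N(P)` have `2`-part `2^k`, less than that of `G`, and let `2^j` divide `|C(P)|`,
`k < 2 j`. If every proper subgroup containing `P` and a Sylow `2`-subgroup of `N` lies in `N`,
then `G` is not simple. -/
theorem false_of_two_local [IsSimpleGroup G] (hG : ¬ IsMulCommutative G) {k j : ℕ}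
    (P : Subgroup G) (hN : 2 ^ k ∣ Nat.card (normalizer (P : Set G)))
    (hN' : ¬ 2 ^ (k + 1) ∣ Nat.card (normalizer (P : Set G)))
    (hC : 2 ^ j ∣ Nat.card (centralizer (P : Set G))) (hkj : k < 2 * j)
    (hdvd : 2 ^ (k + 1) ∣ Nat.card G)
    (hmax : ∀ M : Subgroup G, P ≤ M → 2 ^ k ∣ Nat.card (normalizer (P : Set G) ⊓ M : Subgroup G) →
      M ≠ ⊤ → M ≤ normalizer (P : Set G)) :
    False := by
  classical
  haveI := Fact.mk Nat.prime_two
  set N := normalizer (P : Set G) with hNdef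
  set C := centralizer (P : Set G) with hCdef
  have hCN : C ≤ N := centralizer_le_normalizer _
  -- a Sylow `2`-subgroup of `N` containing a `2`-subgroup of `C` of order `2^j`
  obtain ⟨Q₀, hQ₀⟩ := Sylow.exists_subgroup_card_pow_prime (G := C) 2 (n := j) hC
  set Q₁ := (Q₀.map C.subtype).subgroupOf N with hQ₁def
  have hQ₁ : Nat.card Q₁ = 2 ^ j := by
    rw [hQ₁def, Nat.card_congr (subgroupOfEquivOfLe ((map_subtype_le Q₀).trans hCN)).toEquiv,
      card_map_of_injective C.subtype_injective, hQ₀]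
  have hjk : j ≤ k := by
    by_contra hlt
    exact hN' ((pow_dvd_pow 2 (by omega)).trans (hQ₁ ▸ card_subgroup_dvd_card Q₁))
  obtain ⟨T', hT', hQT'⟩ := Sylow.exists_subgroup_card_pow_prime_le 2 hN Q₁ hQ₁ hjk
  set T := T'.map N.subtype with hTdef
  have hT : Nat.card T = 2 ^ k := by rw [hTdef, card_map_of_injective N.subtype_injective, hT']
  have hTN : T ≤ N := map_subtype_le _
  set Q := T ⊓ C with hQdef
  have hQcard : 2 ^ j ≤ Nat.card Q := by
    rw [← hQ₀, ← card_map_of_injective C.subtype_injective]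
    refine Nat.le_of_dvd Nat.card_pos (card_dvd_of_le (le_inf ?_ (map_subtype_le Q₀)))
    intro x hx
    exact ⟨⟨x, hCN (map_subtype_le Q₀ hx)⟩, hQT' hx, rfl⟩
  -- a larger `2`-group `H`
  obtain ⟨H, hH, hTH⟩ := Sylow.exists_subgroup_card_pow_succ hdvd hT
  have hlt : T < H := lt_of_le_of_ne hTH fun h => by
    have : 2 ^ k = 2 ^ (k + 1) := by rw [← hT, ← hH, h]
    rw [pow_succ] at this
    have := Nat.pow_pos (n := k) (show 0 < 2 by norm_num)
    omega
  obtain ⟨r, hrH, hrT⟩ := Set.exists_of_ssubset hlt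
  have hidx : T.relIndex H = 2 := by
    have h := relIndex_mul_relIndex (⊥ : Subgroup G) T H bot_le hTH
    rw [relIndex_bot_left, relIndex_bot_left, hT, hH, pow_succ] at h
    exact Nat.eq_of_mul_eq_mul_left (by positivity) h
  have hHT : H ≤ normalizer (T : Set G) := by
    haveI : (T.subgroupOf H).Normal := normal_of_index_eq_two hidx
    exact le_normalizer_of_normal_subgroupOf (K := H) hTH
  have hr2 : r * r ∈ T := by
    have := sq_mem_of_index_two (H := T.subgroupOf H) hidx ⟨r, hrH⟩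
    rw [mem_subgroupOf] at this
    simpa [pow_two] using this
  have hrnorm : ∀ x : G, x ∈ T ↔ r * x * r⁻¹ ∈ T := mem_normalizer_iff.1 (hHT hrH)
  have hrN : r ∉ N := by
    intro hr
    have hHN : H ≤ N := by
      intro x hx
      have hd : H ≤ T ⊔ zpowers r := by
        have hlt' : T < (T ⊔ zpowers r) := lt_of_le_of_ne le_sup_left fun h => hrT (h ▸
          (le_sup_right (a := T) (b := zpowers r)) (mem_zpowers r))
        refine le_of_eq (eq_of_le_of_card_ge (sup_le hTH (zpowers_le.2 hrH)) ?_).symm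
        obtain ⟨i, hi, hcard⟩ := (Nat.dvd_prime_pow Nat.prime_two).1
          (hH ▸ card_dvd_of_le (sup_le hTH (zpowers_le.2 hrH)))
        have := Set.ncard_lt_ncard (SetLike.coe_ssubset_coe.2 hlt') (Set.toFinite _)
        rw [← Nat.card_coe_set_eq, ← Nat.card_coe_set_eq] at this
        change Nat.card T < Nat.card (T ⊔ zpowers r : Subgroup G) at this
        rw [hT, hcard] at this
        have hki : k < i := (Nat.pow_lt_pow_iff_right (by norm_num)).1 this
        rw [hcard, hH]
        exact Nat.pow_le_pow_right (by norm_num) (by omega)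
      exact sup_le hTN (zpowers_le.2 hr) (hd hx)
    exact hN' (hH ▸ card_dvd_of_le hHN)
  -- the normal subgroup `D` of `H` inside `Q`
  set Q' := Q.map (MulAut.conj r).toMonoidHom with hQ'
  have memQ' : ∀ x, x ∈ Q' ↔ r⁻¹ * x * r ∈ Q := fun x => by
    constructor
    · rintro ⟨y, hy, rfl⟩; simpa [mul_assoc] using hy
    · exact fun h => ⟨_, h, by simp [mul_assoc]⟩
  have hQ'T : Q' ≤ T := fun x hx => by
    have := (hrnorm _).1 ((memQ' x).1 hx).1
    rwa [show r * (r⁻¹ * x * r) * r⁻¹ = x by group] at this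
  have hD1 : 1 < Nat.card (Q ⊓ Q' : Subgroup G) := by
    have h := card_mul_card_le (T := T) (A := Q) inf_le_left hQ'T
    have hc : Nat.card Q' = Nat.card Q := card_map_of_injective (MulAut.conj r).injective
    rw [hc, hT] at h
    by_contra hle
    have h2 : 2 ^ j * 2 ^ j ≤ 2 ^ k * 1 :=
      (Nat.mul_le_mul hQcard hQcard).trans (h.trans (Nat.mul_le_mul_left _ (by omega)))
    rw [← pow_add, mul_one] at h2
    have := (Nat.pow_le_pow_iff_right (by norm_num)).1 h2
    omega
  set D := Q ⊓ Q' with hDdef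
  have hDH : D ≤ H := fun x hx => hTH hx.1.1
  have hTQ : ∀ t ∈ T, ∀ x ∈ Q, t * x * t⁻¹ ∈ Q := by
    intro t ht x hx
    refine mem_inf.2 ⟨T.mul_mem (T.mul_mem ht hx.1) (T.inv_mem ht), ?_⟩
    intro y hy
    have hy' : t⁻¹ * y * t ∈ P := by
      simpa using (mem_normalizer_iff.1 (inv_mem (hTN ht) : t⁻¹ ∈ N) y).1 hy
    have := mem_centralizer_iff.1 hx.2 _ hy'
    calc y * (t * x * t⁻¹) = t * ((t⁻¹ * y * t) * x) * t⁻¹ := by group
      _ = t * (x * (t⁻¹ * y * t)) * t⁻¹ := by rw [this]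
      _ = t * x * t⁻¹ * y := by group
  have hTD : ∀ t ∈ T, ∀ x ∈ D, t * x * t⁻¹ ∈ D := by
    intro t ht x hx
    refine ⟨hTQ t ht x hx.1, (memQ' _).2 ?_⟩
    have ht' : r⁻¹ * t * r ∈ T := by
      rw [hrnorm, show r * (r⁻¹ * t * r) * r⁻¹ = t by group]
      exact ht
    have := hTQ _ ht' _ ((memQ' x).1 hx.2)
    rwa [show r⁻¹ * t * r * (r⁻¹ * x * r) * (r⁻¹ * t * r)⁻¹ = r⁻¹ * (t * x * t⁻¹) * r by group]
      at this
  have hrD : ∀ x ∈ D, r * x * r⁻¹ ∈ D := by
    intro x hx
    refine ⟨?_, (memQ' _).2 ?_⟩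
    · have := hTQ _ hr2 _ ((memQ' x).1 hx.2)
      rwa [show r * r * (r⁻¹ * x * r) * (r * r)⁻¹ = r * x * r⁻¹ by group] at this
    · rw [show r⁻¹ * (r * x * r⁻¹) * r = x by group]
      exact hx.1
  haveI hDn : (D.subgroupOf H).Normal := by
    refine ⟨fun x hx g => ?_⟩
    rw [mem_subgroupOf] at hx ⊢
    push_cast
    by_cases hg : (g : G) ∈ T
    · exact hTD _ hg _ hx
    · have hgr : (g : G) * r⁻¹ ∈ T := by
        have h1 : g * (⟨r, hrH⟩ : H)⁻¹ ∈ T.subgroupOf H := by
          rw [mul_mem_iff_of_index_two hidx, inv_mem_iff, mem_subgroupOf, mem_subgroupOf]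
          exact iff_of_false hg hrT
        rw [mem_subgroupOf] at h1
        simpa using h1
      have := hTD _ hgr _ (hrD _ hx)
      rwa [show (g : G) * r⁻¹ * (r * (x : G) * r⁻¹) * ((g : G) * r⁻¹)⁻¹ = g * x * (g : G)⁻¹ by group]
        at this
  have hne : D.subgroupOf H ≠ ⊥ := by
    intro h
    rw [subgroupOf_eq_bot, disjoint_iff, inf_eq_left.2 hDH] at h
    rw [h, card_bot] at hD1
    omega
  have hH2 : IsPGroup 2 H := IsPGroup.of_card hH
  obtain ⟨⟨u, huH⟩, ⟨huD, huZ⟩, hu1⟩ := (ne_bot_iff_exists_ne_one.1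
    (PGroups.inf_center_ne_bot hH2 _ hne)) |> fun ⟨x, hx⟩ =>
      (⟨x.1, x.2, fun h => hx (Subtype.ext h)⟩ : ∃ y, y ∈ D.subgroupOf H ⊓ center H ∧ y ≠ 1)
  have hu : u ≠ 1 := fun h => hu1 (Subtype.ext h)
  have hcomm : ∀ x ∈ H, x * u = u * x := fun x hx =>
    congrArg Subtype.val (mem_center_iff.1 huZ ⟨x, hx⟩)
  -- the centralizer of `u`
  set M := centralizer ({u} : Set G) with hM
  have hTM : T ≤ M := fun x hx => mem_centralizer_singleton_iff.2 (hcomm x (hTH hx))
  have hPM : P ≤ M := fun x hx => mem_centralizer_singleton_iff.2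
    (mem_centralizer_iff.1 (huD.1.2 : u ∈ C) x hx)
  have hdM : 2 ^ k ∣ Nat.card (N ⊓ M : Subgroup G) := hT ▸ card_dvd_of_le (le_inf hTN hTM)
  have hMtop : M ≠ ⊤ := by
    intro h
    apply hu
    have : u ∈ center G := mem_center_iff.2 fun x =>
      mem_centralizer_singleton_iff.1 (h ▸ mem_top x : x ∈ M)
    rwa [center_eq_bot_of_simple hG, mem_bot] at this
  exact hrN (hmax M hPM hdM hMtop (mem_centralizer_singleton_iff.2 (hcomm r hrH)))

/-- Let `N = N(P)` be maximal of order `p 2^k` with `|C(P)| = p 2^j`. If `k < 2 j` and `N` does not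
contain a Sylow `2`-subgroup, then `G` is not simple. -/
theorem false_of_normalizer_two_group [IsSimpleGroup G] (hG : ¬ IsMulCommutative G) {p k j : ℕ}
    (hp : p.Prime) (hp2 : p ≠ 2) (P : Subgroup G) (hP : Nat.card P = p)
    (hN : Nat.card (normalizer (P : Set G)) = p * 2 ^ k)
    (hC : Nat.card (centralizer (P : Set G)) = p * 2 ^ j) (hkj : k < 2 * j)
    (hdvd : 2 ^ (k + 1) ∣ Nat.card G)
    (hmax : ∀ M : Subgroup G, normalizer (P : Set G) ≤ M → M ≠ ⊤ → M = normalizer (P : Set G)) :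
    False := by
  refine false_of_two_local hG P (hN ▸ dvd_mul_left _ _) ?_ (hC ▸ dvd_mul_left _ _) hkj hdvd
    fun M hPM hd hM => ?_
  · rw [hN, pow_succ']
    intro h
    exact hp2 ((Nat.prime_dvd_prime_iff_eq Nat.prime_two hp).1
      (Nat.dvd_of_mul_dvd_mul_right (by positivity) h)).symm
  · have h1 : p * 2 ^ k ∣ Nat.card (normalizer (P : Set G) ⊓ M : Subgroup G) :=
      Nat.Coprime.mul_dvd_of_dvd_of_dvd
        (Nat.Coprime.pow_right _ ((Nat.coprime_primes hp Nat.prime_two).2 hp2))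
        (hP ▸ card_dvd_of_le (le_inf le_normalizer hPM)) hd
    have hle : normalizer (P : Set G) ≤ M := inf_eq_left.1 (eq_of_le_of_card_ge inf_le_left
      (hN ▸ Nat.le_of_dvd Nat.card_pos h1))
    exact (hmax M hle hM).le

/-- The possible orders of subgroups above the normalizer of a Sylow subgroup. -/
theorem eq_normalizer_of_le [IsSimpleGroup G] {p : ℕ} [Fact p.Prime] (P : Sylow p G) {k : ℕ}
    (hk : Nat.card (Sylow p G) = k)
    (hno : ∀ d ∈ k.divisors, d % p = 1 → d = 1 ∨ d = k ∨ ¬ Nat.card G ∣ (k / d).factorial)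
    (M : Subgroup G) (hNM : normalizer ((P : Subgroup G) : Set G) ≤ M) (hM : M ≠ ⊤) :
    M = normalizer ((P : Subgroup G) : Set G) := by
  set N := normalizer ((P : Subgroup G) : Set G)
  have hPM : (P : Subgroup G) ≤ M := le_normalizer.trans hNM
  have hd : N.relIndex M = Nat.card (Sylow p M) := by
    rw [Sylow.card_eq_index_normalizer (P.subtype hPM)]
    exact congrArg index (subgroupOf_normalizer_eq hPM)
  have hmod : N.relIndex M % p = 1 := by
    rw [hd, card_sylow_modEq_one p M]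
    exact Nat.mod_eq_of_lt (Fact.out : p.Prime).one_lt
  have hmul : N.relIndex M * M.index = k := by
    rw [relIndex_mul_index hNM, ← hk, Sylow.card_eq_index_normalizer P]
    rfl
  have hk0 : k ≠ 0 := hk ▸ Nat.card_pos.ne'
  have hdk : N.relIndex M ∈ k.divisors := Nat.mem_divisors.2 ⟨⟨_, hmul.symm⟩, hk0⟩
  rcases hno _ hdk hmod with h | h | h
  · exact le_antisymm (relIndex_eq_one.1 h) hNM
  · exfalso
    rw [h] at hmul
    exact hM (index_eq_one.1 (Nat.eq_of_mul_eq_mul_left (Nat.pos_of_ne_zero hk0)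
      (hmul.trans (mul_one k).symm)))
  · exfalso
    apply h
    have he : k / N.relIndex M = M.index := by
      rw [← hmul, Nat.mul_div_cancel_left]
      exact Nat.pos_of_ne_zero fun h0 => hk0 (by rw [← hmul, h0, zero_mul])
    rw [he]
    exact card_dvd_factorial hM

end Cfsg.Agent.H36
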