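import Cfsg.Agent.H36.Normalizers
import Cfsg.Agent.H36.TwoLocal
import Cfsg.Agent.H41.Basic
import Cfsg.Agent.H65.DihedralAltSix
import Cfsg.Agent.S0985

/-!
# Two Sylow subgroups meeting in a maximal subgroup, and order 5400
-/

set_option autoImplicit false
set_option linter.unusedSectionVars false
set_option linter.style.haveILetI false

namespace Cfsg.Agent.H36

open Subgroup

variable {G : Type*} [Group G] [Finite G]

/-- If `n_p` is not one modulo `p ^ 2`, two Sylow subgroups normalize a subgroup of index `p`. -/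
theorem exists_two_sylow_normalizer {p a m : ℕ} [hp : Fact p.Prime]
    (hn : Nat.card G = p ^ (a + 1) * m) (hm : ¬ p ∣ m)
    (h : ¬ Nat.card (Sylow p G) ≡ 1 [MOD p ^ 2]) :
    ∃ (D : Subgroup G) (P R : Sylow p G), P ≠ R ∧ Nat.card D = p ^ a ∧
      D ≤ (P : Subgroup G) ∧ D ≤ (R : Subgroup G) ∧
      (P : Subgroup G) ≤ normalizer (D : Set G) ∧ (R : Subgroup G) ≤ normalizer (D : Set G) := by
  obtain ⟨P, R, hPR, hidx⟩ := S0985.result p 2 h
  rw [show 2 - 1 = 1 from rfl, pow_one] at hidx
  have hP : ∀ Q : Sylow p G, Nat.card (Q : Subgroup G) = p ^ (a + 1) := fun Q =>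
    card_sylow_eq hn Q rfl hm
  set D := (R : Subgroup G) ⊓ P with hD
  have hmul : Nat.card D * (R : Subgroup G).relIndex P = p ^ (a + 1) := by
    rw [← hP P, ← relIndex_bot_left, ← relIndex_bot_left, ← inf_relIndex_right (R : Subgroup G) P]
    exact relIndex_mul_relIndex _ _ _ bot_le inf_le_right
  obtain ⟨j, hj, hjD⟩ := (Nat.dvd_prime_pow hp.out).1 (Dvd.intro _ hmul)
  have hidx' : (R : Subgroup G).relIndex P ≤ p := hidx
  have hne : (R : Subgroup G).relIndex P ≠ 1 := by
    rw [Ne, relIndex_eq_one]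
    intro hle
    exact hPR (Sylow.ext (eq_of_le_of_card_ge hle (le_of_eq (by rw [hP, hP]))))
  have hja : j = a := by
    rw [hjD] at hmul
    rcases Nat.lt_or_ge j (a + 1) with hlt | hge
    · by_contra hne'
      have hlt' : j + 1 ≤ a := by omega
      have h1 : p ^ (j + 1) ≤ p ^ a := Nat.pow_le_pow_right hp.out.pos hlt'
      have h2 : p ^ (a + 1) ≤ p ^ (j + 1) := by
        rw [← hmul, pow_succ]
        exact Nat.mul_le_mul_left _ hidx'
      have h3 : p ^ a < p ^ (a + 1) := Nat.pow_lt_pow_right hp.out.one_lt (by omega)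
      omega
    · obtain rfl : j = a + 1 := le_antisymm hj hge
      exact absurd (Nat.eq_of_mul_eq_mul_left (pow_pos hp.out.pos _) (hmul.trans (mul_one _).symm)) hne
  have hnorm : ∀ Q : Sylow p G, D ≤ (Q : Subgroup G) → (Q : Subgroup G) ≤ normalizer (D : Set G) := by
    intro Q hle
    rw [← normal_subgroupOf_iff_le_normalizer hle]
    apply normal_of_index_eq_minFac_card
    have hc : Nat.card (D.subgroupOf Q) = p ^ a := by
      rw [Nat.card_congr (subgroupOfEquivOfLe hle).toEquiv, hjD, hja]
    have h1 := (D.subgroupOf (Q : Subgroup G)).card_mul_index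
    rw [hc, hP Q, pow_succ] at h1
    rw [Nat.eq_of_mul_eq_mul_left (pow_pos hp.out.pos _) h1, hP Q,
      hp.out.pow_minFac (Nat.succ_ne_zero a)]
  exact ⟨D, P, R, hPR, hjD.trans (by rw [hja]), inf_le_right, inf_le_left,
    hnorm P inf_le_right, hnorm R inf_le_left⟩

/-- A simple group has no proper subgroup of such small index with two Sylow subgroups normalizing
a subgroup of index `p` in them. -/
theorem false_of_two_sylow_small [IsSimpleGroup G] (hG : ¬ IsMulCommutative G) {p a m : ℕ}
    [hp : Fact p.Prime] (hn : Nat.card G = p ^ (a + 1) * m) (hm : ¬ p ∣ m) (ha : a ≠ 0)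
    (h : ¬ Nat.card (Sylow p G) ≡ 1 [MOD p ^ 2])
    (hj : ∀ j ∈ List.range (m / (p + 1) + 1), ¬ 2 * Nat.card G ∣ j.factorial) : False := by
  obtain ⟨D, P, R, hPR, hD, hDP, -, hPM, hRM⟩ := exists_two_sylow_normalizer hn hm h
  set M := normalizer (D : Set G)
  have hM : M ≠ ⊤ := by
    refine normalizer_ne_top ?_ ?_
    · intro h0
      rw [h0, card_bot] at hD
      exact (Nat.one_lt_pow ha hp.out.one_lt).ne hD
    · intro h1
      rw [h1, card_top, hn] at hD
      have h2 : p ^ a < p ^ (a + 1) := Nat.pow_lt_pow_right hp.out.one_lt (by omega)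
      have h3 : p ^ (a + 1) ≤ p ^ (a + 1) * m :=
        Nat.le_mul_of_pos_right _ (Nat.pos_of_ne_zero fun h => hm (h ▸ dvd_zero p))
      omega
  obtain ⟨k, hk, hdvd⟩ := exists_mul_dvd_card hPR hPM hRM
  rw [card_sylow_eq hn P rfl hm] at hdvd
  refine hj M.index (List.mem_range.2 (Nat.lt_succ_of_le ?_)) (two_mul_card_dvd_factorial hG hM)
  rw [Nat.le_div_iff_mul_le (by omega)]
  have h1 := Nat.mul_le_mul_right M.index (Nat.le_of_dvd Nat.card_pos hdvd)
  rw [card_mul_index, hn, mul_assoc] at h1
  have h2 := Nat.le_of_mul_le_mul_left h1 (pow_pos hp.out.pos _)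
  calc M.index * (p + 1) ≤ M.index * (1 + k * p) := by
        refine Nat.mul_le_mul_left _ ?_
        nlinarith
    _ ≤ m := by rwa [mul_comm]

/-- If a subgroup of index less than `p` has one Sylow `p`-subgroup, so does the group. -/
theorem card_sylow_eq_one_of_index_lt {p : ℕ} [hp : Fact p.Prime] {K : Type*} [Group K] [Finite K]
    (L : Subgroup K) (hidx : L.index < p) (h : Nat.card (Sylow p L) = 1) :
    Nat.card (Sylow p K) = 1 := by
  have hle : ∀ Q : Sylow p K, (Q : Subgroup K) ≤ L := by
    intro Q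
    rw [← relIndex_eq_one]
    obtain ⟨k, hk⟩ := IsPGroup.iff_card.1 Q.isPGroup'
    obtain ⟨i, -, hi⟩ := (Nat.dvd_prime_pow hp.out).1 (hk ▸ L.relIndex_dvd_card (Q : Subgroup K))
    have hlt : L.relIndex (Q : Subgroup K) < p := lt_of_le_of_lt
      (relIndex_top_right L ▸ relIndex_le_of_le_right le_top FiniteIndex.index_ne_zero) hidx
    rcases i.eq_zero_or_pos with rfl | hi0
    · simpa using hi
    · exact absurd (hi ▸ hlt) (not_lt.2 (Nat.le_self_pow (by omega) p))
  haveI := (Nat.card_eq_one_iff_unique.1 h).1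
  exact Nat.card_eq_one_iff_unique.2 ⟨⟨fun Q Q' => Sylow.subtype_injective
    (Subsingleton.elim (Q.subtype (hle Q)) (Q'.subtype (hle Q')))⟩, inferInstance⟩

/-- A group of order 100, 150 or 450 has one Sylow 5-subgroup. -/
theorem card_sylow_five_eq_one {K : Type*} [Group K] [Finite K] [Fact (Nat.Prime 5)]
    (hK : Nat.card K = 100 ∨ Nat.card K = 150 ∨ Nat.card K = 450) : Nat.card (Sylow 5 K) = 1 := by
  have key : ∀ (L : Type _) [Group L] [Finite L] (m : ℕ), Nat.card L = 5 ^ 2 * m → ¬ 5 ∣ m →
      m < 11 → m % 6 ≠ 0 → Nat.card (Sylow 5 L) = 1 := by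
    intro L _ _ m hL hm h11 h6
    obtain ⟨hd, hmod⟩ := card_sylow_dvd hL rfl hm
    have hd1 := Nat.le_of_dvd (Nat.pos_of_ne_zero fun h => hm (by simp [h])) hd
    by_contra hne
    have : Nat.card (Sylow 5 L) = 6 := by omega
    exact h6 (Nat.mod_eq_zero_of_dvd (this ▸ hd))
  rcases hK with h | h | h
  · exact key K 4 h (by norm_num) (by norm_num) (by norm_num)
  · obtain ⟨H, -, hH⟩ := H65.DihedralAltSix.exists_index_two (m := 75) ⟨37, rfl⟩ h
    refine card_sylow_eq_one_of_index_lt H (by omega) (key H 3 ?_ (by norm_num) (by norm_num) (by norm_num))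
    have := H.card_mul_index
    rw [hH, h] at this
    omega
  · obtain ⟨H, -, hH⟩ := H65.DihedralAltSix.exists_index_two (m := 225) ⟨112, rfl⟩ h
    refine card_sylow_eq_one_of_index_lt H (by omega) (key H 9 ?_ (by norm_num) (by norm_num) (by norm_num))
    have := H.card_mul_index
    rw [hH, h] at this
    omega

/-- No simple group of order 5400. -/
theorem false_of_card_5400 [IsSimpleGroup G] (hG : ¬ IsMulCommutative G)
    (hn : Nat.card G = 5400) : False := by
  classical
  haveI : Fact (Nat.Prime 5) := ⟨by norm_num⟩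
  have hn' : Nat.card G = 5 ^ (1 + 1) * 216 := by rw [hn]; norm_num
  have hS : Nat.card (Sylow 5 G) ∈ ({36, 216} : Finset ℕ) := by
    have h6 : Nat.card (Sylow 5 G) ≠ 6 := by
      intro h6
      obtain ⟨P⟩ := Sylow.nonempty (p := 5) (G := G)
      rw [P.card_eq_index_normalizer] at h6
      have := two_mul_card_dvd_factorial hG
        (H := normalizer ((P : Subgroup G) : Set G)) (fun h => by
          have e := index_eq_one.2 h
          exact absurd (e.symm.trans h6) (by norm_num))
      rw [hn, show (normalizer ((P : Subgroup G) : Set G)).index = 6 from h6] at this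
      revert this; decide
    have h := card_sylow_mem' (p := 5) hn 2 216 2 (by norm_num) (by norm_num) (by norm_num)
      Nat.prime_two (by norm_num) {6, 36, 216} (by decide +kernel)
    simp only [Finset.mem_insert, Finset.mem_singleton] at h ⊢
    omega
  obtain ⟨D, P, R, hPR, hD, hDP, hDR, -, -⟩ := exists_two_sylow_normalizer hn' (by norm_num)
    (by intro h; simp only [Finset.mem_insert, Finset.mem_singleton] at hS
        rcases hS with e | e <;> rw [e] at h <;> revert h <;> decide)
  rw [pow_one] at hD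
  have hbig : ∀ H : Subgroup G, H ≠ ⊤ → Nat.card H ≤ 540 := by
    intro H hH
    by_contra hlt
    have h2 := H.card_mul_index
    rw [hn] at h2
    have h3 : H.index ≤ 9 := by nlinarith
    have h4 := two_mul_card_dvd_factorial hG hH
    rw [hn] at h4
    have h5 := Nat.le_of_dvd (Nat.factorial_pos _) h4
    have h6 : ∀ j ≤ 9, ¬ 2 * 5400 ∣ j.factorial := by decide +kernel
    exact h6 _ h3 h4
  have hDbot : D ≠ ⊥ := fun h => by rw [h, card_bot] at hD; omega
  have hN : normalizer (D : Set G) ≠ ⊤ := normalizer_ne_top hDbot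
    (fun h => by rw [h, card_top, hn] at hD; omega)
  set C := centralizer (D : Set G) with hCdef
  have hle : C ≤ normalizer (D : Set G) := centralizer_le_normalizer _
  have hcard : ∀ Q : Sylow 5 G, Nat.card (Q : Subgroup G) = 5 ^ 2 := fun Q =>
    card_sylow_eq hn' Q rfl (by norm_num)
  have habel : ∀ Q : Sylow 5 G, D ≤ (Q : Subgroup G) → (Q : Subgroup G) ≤ C := fun Q hQ a ha =>
    mem_centralizer_iff.2 fun d hd => comm_of_card_eq_sq (hcard Q) d (hQ hd) a ha
  have hn5 : 1 < Nat.card (Sylow 5 C) := one_lt_card_sylow_of_le hPR (habel P hDP) (habel R hDR)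
  -- the order of the centralizer
  have hC : Nat.card C = 300 := by
    obtain ⟨k, hk, hdvd⟩ := exists_mul_dvd_card hPR (habel P hDP) (habel R hDR)
    rw [hcard] at hdvd
    have h1 : Nat.card C ≤ 540 := (Nat.le_of_dvd Nat.card_pos (card_dvd_of_le hle)).trans (hbig _ hN)
    have h2 : Nat.card C ∣ 5400 := hn ▸ card_subgroup_dvd_card _
    obtain ⟨i, hi⟩ := dvd_trans (dvd_mul_right (5 ^ 2) _) hdvd
    rw [hi] at h1 h2 hdvd
    have h3 : (1 + k * 5) ∣ i := Nat.dvd_of_mul_dvd_mul_left (by norm_num) hdvd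
    have h4 : i ∣ 216 := Nat.dvd_of_mul_dvd_mul_left (k := 25) (by norm_num)
      (by simpa using h2)
    have key : ∀ i ∈ List.range 22, ∀ k ∈ List.range 5, 0 < k → i ∣ 216 → (1 + k * 5) ∣ i →
        i = 6 ∨ i = 12 ∨ i = 18 := by decide +kernel
    have hi0 : 0 < i := Nat.pos_of_dvd_of_pos h4 (by norm_num)
    have hk5 : k < 5 := by have := Nat.le_of_dvd hi0 h3; omega
    rcases key i (List.mem_range.2 (by omega)) k (List.mem_range.2 hk5) hk h4 h3 with h | h | h
    · have := card_sylow_five_eq_one (K := C) (Or.inr (Or.inl (by rw [hi, h]; norm_num)))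
      omega
    · rw [hi, h]; norm_num
    · have := card_sylow_five_eq_one (K := C) (Or.inr (Or.inr (by rw [hi, h]; norm_num)))
      omega
  have hM : normalizer (D : Set G) = C := by
    refine (eq_of_le_of_card_ge hle ?_).symm
    obtain ⟨i, hi⟩ := card_dvd_of_le hle
    have := hbig _ hN
    rw [← hCdef] at *
    rw [hC] at hi ⊢
    rw [hi] at this ⊢
    have hi1 : i ≤ 1 := by omega
    nlinarith
  -- a conjugate of `D` outside the centralizer
  obtain ⟨g, hg⟩ : ∃ g : G, ¬ D.map (MulAut.conj g).toMonoidHom ≤ C := by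
    by_contra hall
    push Not at hall
    have hclos : normalClosure (D : Set G) ≤ C := by
      refine (closure_le _).2 fun y hy => ?_
      obtain ⟨x, hx, hy'⟩ := Group.mem_conjugatesOfSet_iff.1 hy
      obtain ⟨h, rfl⟩ := isConj_iff.1 hy'
      exact hall h ⟨x, hx, by simp⟩
    rcases (normalClosure_normal (s := (D : Set G))).eq_bot_or_eq_top with h | h
    · exact hDbot (le_bot_iff.1 (h ▸ subset_normalClosure))
    · rw [h, top_le_iff] at hclos
      exact hN (top_le_iff.1 (hclos ▸ hle))
  set e := (MulAut.conj g).toMonoidHom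
  have hinj : Function.Injective e := (MulAut.conj g).injective
  set E := D.map e with hE
  set C' := C.map e with hC'
  have hcomm : ∀ c ∈ C', ∀ y ∈ E, y * c = c * y := by
    rintro _ ⟨c, hc, rfl⟩ _ ⟨y, hy, rfl⟩
    rw [← map_mul, ← map_mul, mem_centralizer_iff.1 hc y hy]
  have hEC' : E ≤ C' := map_mono fun d hd => mem_centralizer_iff.2 fun d' hd' =>
    comm_of_card_eq_sq (hcard P) d' (hDP hd') d (hDP hd)
  have hC'card : Nat.card C' = 300 := by rw [hC', card_map_of_injective hinj, hC]
  have hEcard : Nat.card E = 5 := by rw [hE, card_map_of_injective hinj, hD]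
  set S := C ⊓ C' with hSdef
  have hS17 : 17 ≤ Nat.card S := by
    have := card_mul_card_le (A := C) (B := C') (le_top : C ≤ ⊤) le_top
    rw [hC, hC'card, card_top, hn, ← hSdef] at this
    omega
  have hinfD : D ⊓ S = ⊥ := by
    by_contra h0
    have h1 : Nat.card (D ⊓ S : Subgroup G) = 5 := ((Nat.dvd_prime (by norm_num)).1
      (hD ▸ card_dvd_of_le (inf_le_left : D ⊓ S ≤ D))).resolve_left (fun h => h0 (card_eq_one.1 h))
    have h2 : D ≤ S := inf_eq_left.1 (eq_of_le_of_card_ge inf_le_left (by omega))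
    refine hg fun y hy => mem_centralizer_iff.2 fun d hd => ?_
    exact (hcomm d (h2 hd).2 y hy).symm
  have hinfE : E ⊓ S = ⊥ := by
    by_contra h0
    have h1 : Nat.card (E ⊓ S : Subgroup G) = 5 := ((Nat.dvd_prime (by norm_num)).1
      (hEcard ▸ card_dvd_of_le (inf_le_left : E ⊓ S ≤ E))).resolve_left (fun h => h0 (card_eq_one.1 h))
    have h2 : E ⊓ S = E := eq_of_le_of_card_ge inf_le_left (by omega)
    exact hg ((inf_eq_left.1 h2).trans inf_le_left)
  have hDS : ∀ d ∈ D, ∀ s ∈ S, d * s = s * d := fun d hd s hs => mem_centralizer_iff.1 hs.1 d hd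
  have hES : ∀ y ∈ E, ∀ s ∈ S, y * s = s * y := fun y hy s hs => hcomm s hs.2 y hy
  have hDC : D ≤ C := hDP.trans (habel P hDP)
  have hL : Nat.card (D ⊔ S : Subgroup G) = 5 * Nat.card S := by
    rw [H41.card_sup_of_commute D S hDS hinfD, hD]
  have hLC : D ⊔ S ≤ C := sup_le hDC inf_le_left
  have hd300 : 5 * Nat.card S ∣ 300 := hL ▸ hC ▸ card_dvd_of_le hLC
  have hcases : Nat.card S = 20 ∨ Nat.card S = 30 ∨ Nat.card S = 60 := by
    have h60 : Nat.card S ∣ 60 := Nat.dvd_of_mul_dvd_mul_left (k := 5) (by norm_num) hd300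
    have key : ∀ s ∈ List.range 61, 17 ≤ s → s ∣ 60 → s = 20 ∨ s = 30 ∨ s = 60 := by decide +kernel
    exact key _ (List.mem_range.2 (Nat.lt_succ_of_le (Nat.le_of_dvd (by norm_num) h60))) hS17 h60
  -- a subgroup of index two or three in `C`
  have hsmall : Nat.card S ≠ 20 ∧ Nat.card S ≠ 30 := by
    have key : Nat.card (D ⊔ S : Subgroup G) = 100 ∨ Nat.card (D ⊔ S : Subgroup G) = 150 → False := by
      intro h
      set L := (D ⊔ S).subgroupOf C
      have hLcard : Nat.card L = Nat.card (D ⊔ S : Subgroup G) :=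
        Nat.card_congr (subgroupOfEquivOfLe hLC).toEquiv
      have hi := L.card_mul_index
      rw [hC, hLcard] at hi
      have hLidx : L.index < 5 := by rcases h with h | h <;> rw [h] at hi <;> omega
      have := card_sylow_eq_one_of_index_lt L hLidx
        (card_sylow_five_eq_one (K := L) (by rw [hLcard]; omega))
      omega
    constructor <;> intro h <;> exact key (by omega)
  have h60 : Nat.card S = 60 := by omega
  have hN1 : C ≤ normalizer (S : Set G) := by
    rw [← eq_of_le_of_card_ge hLC (by rw [hL, hC, h60])]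
    exact sup_le (le_trans (fun d hd => mem_centralizer_iff.2 fun s hs => (hDS d hd s hs).symm)
      (centralizer_le_normalizer _)) le_normalizer
  have hN2 : C' ≤ normalizer (S : Set G) := by
    have hLC' : E ⊔ S ≤ C' := sup_le hEC' inf_le_right
    rw [← eq_of_le_of_card_ge hLC' (by
      rw [H41.card_sup_of_commute E S hES hinfE, hEcard, hC'card, h60])]
    exact sup_le (le_trans (fun d hd => mem_centralizer_iff.2 fun s hs => (hES d hd s hs).symm)
      (centralizer_le_normalizer _)) le_normalizer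
  have hNtop : normalizer (S : Set G) ≠ ⊤ := by
    refine normalizer_ne_top ?_ ?_
    · intro h; rw [h, card_bot] at h60; omega
    · intro h; rw [h, card_top, hn] at h60; omega
  have hsup : C < C ⊔ C' := lt_of_le_of_ne le_sup_left fun h =>
    hg (hEC'.trans (h ▸ le_sup_right))
  have h1 := hbig _ hNtop
  obtain ⟨i, hi⟩ := card_dvd_of_le hN1
  rw [hi, hC] at h1
  have hi1 : i ≤ 1 := by omega
  have : C = normalizer (S : Set G) := eq_of_le_of_card_ge hN1 (by rw [hi]; nlinarith)
  exact hsup.not_ge (le_of_le_of_eq (sup_le hN1 hN2) this.symm)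

end Cfsg.Agent.H36
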