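import Cfsg.Agent.H36.OrderScreen
import Cfsg.Agent.H36.TwoSylow
import Cfsg.Agent.H36.DegreeResidue

/-!
# The orders 4500, 4620, 5292, 5460, 6000
-/

set_option autoImplicit false
set_option linter.unusedSectionVars false
set_option linter.style.haveILetI false

namespace Cfsg.Agent.H36.OrderExceptions

open Subgroup OrderScreen

variable {G : Type*} [Group G] [Finite G] [IsSimpleGroup G]

/-- No admissible number of Sylow `p`-subgroups is one modulo `p ^ 2`. -/
theorem not_modEq (hG : ¬ IsMulCommutative G) {p a m : ℕ} [Fact p.Prime]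
    (hn : Nat.card G = p ^ (a + 1) * m) (hm : ¬ p ∣ m) (hm1 : m ≠ 1)
    (h : ∀ k ∈ List.range (m / p), m % ((k + 1) * p + 1) = 0 →
      tooFew (Nat.card G) ((k + 1) * p + 1) = false → ((k + 1) * p + 1) % p ^ 2 ≠ 1) :
    ¬ Nat.card (Sylow p G) ≡ 1 [MOD p ^ 2] := by
  obtain ⟨k, hk, hkd, hd, hkt⟩ := exists_candidate hG hn (Nat.succ_ne_zero a) hm hm1
  intro hmod
  apply h k (List.mem_range.2 hk) hkd hkt
  rw [← hd, hmod, Nat.mod_eq_of_lt (Nat.one_lt_pow two_ne_zero (Fact.out : p.Prime).one_lt)]

theorem false_of_card_4500 (hG : ¬ IsMulCommutative G) (hn : Nat.card G = 4500) : False := by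
  haveI : Fact (Nat.Prime 5) := ⟨by norm_num⟩
  refine false_of_two_sylow_small hG (p := 5) (a := 2) (m := 36) (by rw [hn]; norm_num)
    (by norm_num) two_ne_zero (not_modEq hG (a := 2) (m := 36) (by rw [hn]; norm_num) (by norm_num)
      (by norm_num) ?_) ?_
  · rw [hn]; decide +kernel
  · rw [hn]; decide +kernel

theorem false_of_card_6000 (hG : ¬ IsMulCommutative G) (hn : Nat.card G = 6000) : False := by
  haveI : Fact (Nat.Prime 5) := ⟨by norm_num⟩
  refine false_of_two_sylow_small hG (p := 5) (a := 2) (m := 48) (by rw [hn]; norm_num)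
    (by norm_num) two_ne_zero (not_modEq hG (a := 2) (m := 48) (by rw [hn]; norm_num) (by norm_num)
      (by norm_num) ?_) ?_
  · rw [hn]; decide +kernel
  · rw [hn]; decide +kernel

theorem false_of_card_5292 (hG : ¬ IsMulCommutative G) (hn : Nat.card G = 5292) : False := by
  haveI : Fact (Nat.Prime 7) := ⟨by norm_num⟩
  refine false_of_two_sylow_small hG (p := 7) (a := 1) (m := 108) (by rw [hn]; norm_num)
    (by norm_num) one_ne_zero (not_modEq hG (a := 1) (m := 108) (by rw [hn]; norm_num) (by norm_num)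
      (by norm_num) ?_) ?_
  · rw [hn]; decide +kernel
  · rw [hn]; decide +kernel

theorem centralizer_eq_self {p : ℕ} [Fact p.Prime] {P : Subgroup G} (hP : Nat.card P = p)
    (hc : Nat.card (centralizer (P : Set G)) = p * 1) : centralizer (P : Set G) = P := by
  haveI : IsCyclic P := isCyclic_of_prime_card hP
  letI : CommGroup P := IsCyclic.commGroup
  have hle : P ≤ centralizer (P : Set G) := fun a ha b hb =>
    congrArg Subtype.val (mul_comm (⟨b, hb⟩ : P) ⟨a, ha⟩)
  exact (eq_of_le_of_card_ge hle (le_of_eq (by rw [hc, hP, mul_one]))).symm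

/-- The degrees allowed by the prime 11 in order 4620. -/
def ok4620 (f : ℕ) : Bool := decide (f % 11 ≤ 2 ∨ 9 ≤ f % 11)

/-- The degrees allowed by the prime 7 in order 5460. -/
def ok5460 (f : ℕ) : Bool := decide (f % 7 ≠ 2 ∧ f % 7 ≠ 5)

theorem blockOnly_4620_eleven :
    blockOnly 4620 11 (fun _ => true) (fun r c => r == 2 && c == 1) = true := by decide +kernel

theorem blockOnly_4620_seven : blockOnly 4620 7 ok4620 (fun _ _ => false) = true := by
  decide +kernel

theorem blockOnly_5460_seven :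
    blockOnly 5460 7 (fun _ => true) (fun r c => r == 3 && c == 1) = true := by decide +kernel

theorem blockOnly_5460_thirteen : blockOnly 5460 13 ok5460 (fun _ _ => false) = true := by
  decide +kernel

theorem ne_const_one [Fintype G] (χ : IrrCharacter G) {f : ℕ} (h2 : 2 ≤ f)
    (hf : (χ : G → ℂ) 1 = (f : ℂ)) : (χ : G → ℂ) ≠ fun _ => 1 := by
  intro h
  rw [h] at hf
  have h1 : (1 : ℂ) = f := hf
  have : 1 = f := by exact_mod_cast h1
  omega

theorem false_of_card_4620 (hG : ¬ IsMulCommutative G) (hn : Nat.card G = 4620) : False := by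
  haveI := Fintype.ofFinite G
  haveI : Fact (Nat.Prime 11) := ⟨by norm_num⟩
  obtain ⟨P, r, c, hP, hr, hc, hskip⟩ := exists_of_blockOnly hG (by omega) (fun _ => true)
    (fun _ _ _ _ => rfl) (fun r c => r == 2 && c == 1) (by rw [hn]; exact blockOnly_4620_eleven)
  simp only [Bool.and_eq_true, beq_iff_eq] at hskip
  obtain ⟨rfl, rfl⟩ := hskip
  have hC := centralizer_eq_self hP hc
  rw [hC] at hr
  haveI : Fact (Nat.Prime 7) := ⟨by norm_num⟩
  have hok : ∀ (χ : IrrCharacter G) (f : ℕ), 2 ≤ f → (χ : G → ℂ) 1 = (f : ℂ) → ok4620 f = true := by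
    intro χ f h2 hf
    unfold ok4620
    rw [decide_eq_true_eq]
    rcases SelfCentral.exists_residue hP hC hr (by norm_num) (t := 5) (by norm_num) (by norm_num) χ
        (ne_const_one χ h2 hf) hf with ⟨a, ha, hd⟩ | ⟨A, ε, hε, hA, hd⟩
    · have : -1 ≤ a ∧ a ≤ 1 := by constructor <;> nlinarith
      omega
    · have : A = 0 := by
        by_contra h0
        have : 1 ≤ A ^ 2 := by have := sq_pos_of_ne_zero h0; omega
        push_cast at hA
        nlinarith [sq_nonneg (A - ε)]
      subst this
      rcases hε with rfl | rfl <;> omega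
  obtain ⟨-, -, -, -, -, -, h⟩ := exists_of_blockOnly hG (p := 7) (by omega) ok4620 hok
    (fun _ _ => false) (by rw [hn]; exact blockOnly_4620_seven)
  exact Bool.noConfusion h

theorem false_of_card_5460 (hG : ¬ IsMulCommutative G) (hn : Nat.card G = 5460) : False := by
  haveI := Fintype.ofFinite G
  haveI : Fact (Nat.Prime 7) := ⟨by norm_num⟩
  obtain ⟨P, r, c, hP, hr, hc, hskip⟩ := exists_of_blockOnly hG (by omega) (fun _ => true)
    (fun _ _ _ _ => rfl) (fun r c => r == 3 && c == 1) (by rw [hn]; exact blockOnly_5460_seven)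
  simp only [Bool.and_eq_true, beq_iff_eq] at hskip
  obtain ⟨rfl, rfl⟩ := hskip
  have hC := centralizer_eq_self hP hc
  rw [hC] at hr
  haveI : Fact (Nat.Prime 13) := ⟨by norm_num⟩
  have hok : ∀ (χ : IrrCharacter G) (f : ℕ), 2 ≤ f → (χ : G → ℂ) 1 = (f : ℂ) → ok5460 f = true := by
    intro χ f h2 hf
    unfold ok5460
    rw [decide_eq_true_eq]
    rcases SelfCentral.exists_residue hP hC hr (by norm_num) (t := 2) (by norm_num) (by norm_num) χ
        (ne_const_one χ h2 hf) hf with ⟨a, ha, hd⟩ | ⟨A, ε, hε, hA, hd⟩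
    · have : -1 ≤ a ∧ a ≤ 1 := by constructor <;> nlinarith
      omega
    · push_cast at hA
      have hb : -1 ≤ A ∧ A ≤ 1 := by
        rcases hε with rfl | rfl <;> constructor <;> nlinarith
      rcases (show A = -1 ∨ A = 0 ∨ A = 1 by omega) with rfl | rfl | rfl <;>
        rcases hε with rfl | rfl <;> norm_num at hA <;> omega
  obtain ⟨-, -, -, -, -, -, h⟩ := exists_of_blockOnly hG (p := 13) (by omega) ok5460 hok
    (fun _ _ => false) (by rw [hn]; exact blockOnly_5460_thirteen)
  exact Bool.noConfusion h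

end Cfsg.Agent.H36.OrderExceptions
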