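import Cfsg.Agent.H36.OrderScreen

/-!
# The orders in `(3640, 6232]`
-/

set_option autoImplicit false

namespace Cfsg.Agent.H36.OrderTable

open OrderScreen

/-- Orders with no admissible number of Sylow `p`-subgroups. -/
def sylowTable : List (ℕ × ℕ) :=
  [(3660, 61), (3680, 23), (3684, 307), (3708, 103), (3720, 31), (3732, 311), (3752, 67), (3756, 313),
  (3760, 47), (3768, 157), (3792, 79), (3804, 317), (3808, 17), (3816, 53), (3828, 29), (3852, 107),
  (3861, 11), (3876, 19), (3912, 163), (3915, 29), (3920, 7), (3924, 109), (3936, 41), (3948, 47),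
  (3952, 19), (3972, 331), (3976, 71), (3984, 83), (3996, 37), (4008, 167), (4020, 67), (4044, 337),
  (4048, 23), (4056, 13), (4068, 113), (4088, 73), (4092, 31), (4104, 19), (4116, 7), (4128, 43),
  (4140, 23), (4152, 173), (4164, 347), (4176, 29), (4185, 31), (4188, 349), (4236, 353), (4240, 53),
  (4248, 59), (4256, 19), (4260, 71), (4272, 89), (4296, 179), (4308, 359), (4332, 19), (4344, 181),
  (4347, 23), (4356, 11), (4380, 73), (4392, 61), (4404, 367), (4424, 79), (4428, 41), (4440, 37),
  (4452, 53), (4464, 31), (4476, 373), (4488, 17), (4524, 29), (4548, 379), (4572, 127), (4576, 11),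
  (4584, 191), (4592, 41), (4596, 383), (4632, 193), (4640, 29), (4644, 43), (4648, 83), (4656, 97),
  (4668, 389), (4692, 23), (4704, 7), (4716, 131), (4720, 59), (4728, 197), (4740, 79), (4764, 397),
  (4776, 199), (4788, 19), (4812, 401), (4816, 43), (4824, 67), (4836, 13), (4848, 101), (4860, 3),
  (4872, 29), (4880, 61), (4884, 37), (4908, 409), (4920, 41), (4932, 137), (4944, 103), (4956, 59),
  (4980, 83), (4984, 89), (4992, 13), (4995, 37), (5004, 139), (5016, 19), (5028, 419), (5049, 17),
  (5052, 421), (5064, 211), (5076, 47), (5088, 53), (5096, 7), (5100, 17), (5124, 61), (5136, 107),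
  (5152, 23), (5160, 43), (5168, 19), (5172, 431), (5196, 433), (5208, 31), (5232, 109), (5244, 23),
  (5256, 73), (5264, 47), (5268, 439), (5304, 13), (5316, 443), (5328, 37), (5340, 89), (5352, 223),
  (5360, 67), (5364, 149), (5388, 449), (5412, 41), (5424, 113), (5432, 97), (5436, 151), (5440, 17),
  (5448, 227), (5456, 31), (5481, 29), (5484, 457), (5496, 229), (5532, 461), (5535, 41), (5556, 463),
  (5568, 29), (5580, 31), (5592, 233), (5604, 467), (5628, 67), (5640, 47), (5643, 19), (5652, 157),
  (5656, 101), (5664, 59), (5676, 11), (5680, 71), (5688, 79), (5712, 17), (5736, 239), (5748, 479),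
  (5768, 103), (5772, 37), (5784, 241), (5796, 23), (5805, 43), (5808, 11), (5820, 97), (5840, 73),
  (5844, 487), (5856, 61), (5859, 7), (5868, 163), (5892, 491), (5904, 41), (5916, 17), (5920, 37),
  (5936, 53), (5964, 71), (5967, 17), (5976, 83), (5984, 17), (5988, 499), (5992, 107), (6012, 167),
  (6024, 251), (6032, 29), (6036, 503), (6060, 101), (6084, 13), (6096, 127), (6104, 109), (6108, 509),
  (6132, 73), (6168, 257), (6180, 103), (6192, 43), (6204, 47), (6216, 37), (6228, 173)]

/-- Orders excluded by the degree equation for the prime `p`. -/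
def blockTable : List (ℕ × ℕ) :=
  [(3648, 19), (3672, 17), (3696, 11), (3744, 13), (3780, 5), (3840, 5), (3864, 23), (3900, 13),
  (3960, 11), (4144, 37), (4160, 13), (4200, 7), (4212, 13), (4224, 11), (4284, 17), (4312, 11),
  (4368, 13), (4400, 11), (4416, 23), (4455, 11), (4480, 7), (4512, 47), (4536, 7), (4560, 19),
  (4680, 13), (4725, 7), (4752, 11), (4760, 17), (4784, 23), (4800, 3), (4896, 17), (4928, 11),
  (4960, 31), (4968, 23), (5104, 29), (5112, 71), (5148, 13), (5200, 13), (5220, 29), (5265, 13),
  (5280, 11), (5320, 19), (5376, 7), (5472, 19), (5508, 17), (5520, 23), (5544, 11), (5600, 7),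
  (5700, 19), (5724, 53), (5824, 13), (5880, 5), (5928, 19), (5940, 11), (5952, 31), (6080, 19),
  (6120, 17), (6156, 19), (6160, 11)]

/-- The orders left by the screen. -/
def remainingOrders : List ℕ :=
  [4032, 4080, 4320, 4500, 4620, 5040, 5292, 5400, 5460, 5616, 5760, 6000, 6048, 6072]

/-- `n` is excluded, or listed. -/
def covered (n : ℕ) : Bool :=
  divFails n || twoPrimes n || remainingOrders.contains n || (sylowTable.map Prod.fst).contains n ||
    (blockTable.map Prod.fst).contains n

theorem sylowTable_spec : (sylowTable.all fun x => sylowFails x.1 x.2) = true := by decide +kernel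

theorem blockTable_spec : (blockTable.all fun x => blockFails x.1 x.2) = true := by decide +kernel

theorem covered_low : ((List.range' 3641 1296).all covered) = true := by decide +kernel

theorem covered_high : ((List.range' 4937 1296).all covered) = true := by decide +kernel

end Cfsg.Agent.H36.OrderTable
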