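import Cfsg.Agent.H36.Numeric
import Mathlib.GroupTheory.PGroup

/-!
# Normalizers of Sylow intersections
-/

set_option autoImplicit false
set_option linter.unusedSectionVars false
set_option linter.style.haveILetI false

namespace Cfsg.Agent.H36

open Subgroup

variable {G : Type*} [Group G] [Finite G] {p : ℕ} [hp : Fact p.Prime]

/-- Two subgroups in the normalizer of `D` that are distinct Sylow subgroups of `G` give more than
one Sylow subgroup of that normalizer. -/
theorem one_lt_card_sylow_of_le {M : Subgroup G} {P R : Sylow p G} (hPR : P ≠ R)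
    (hP : (P : Subgroup G) ≤ M) (hR : (R : Subgroup G) ≤ M) : 1 < Nat.card (Sylow p M) := by
  rw [Finite.one_lt_card_iff_nontrivial]
  exact ⟨⟨P.subtype hP, R.subtype hR, fun h => hPR (Sylow.subtype_injective h)⟩⟩

theorem card_subtype_sylow {M : Subgroup G} {P : Sylow p G} (hP : (P : Subgroup G) ≤ M) :
    Nat.card ((P.subtype hP : Sylow p M) : Subgroup M) = Nat.card (P : Subgroup G) := by
  rw [Sylow.coe_subtype]
  exact Nat.card_congr (subgroupOfEquivOfLe hP).toEquiv

/-- If `M` contains two Sylow `p`-subgroups of `G`, then `|M|` is a multiple of `|P| * (1 + k p)`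
with `k > 0`. -/
theorem exists_mul_dvd_card {M : Subgroup G} {P R : Sylow p G} (hPR : P ≠ R)
    (hP : (P : Subgroup G) ≤ M) (hR : (R : Subgroup G) ≤ M) :
    ∃ k, 0 < k ∧ Nat.card (P : Subgroup G) * (1 + k * p) ∣ Nat.card M := by
  have h1 := one_lt_card_sylow_of_le hPR hP hR
  have h2 := card_sylow_modEq_one p M
  rw [Nat.ModEq, Nat.mod_eq_of_lt hp.out.one_lt] at h2
  refine ⟨Nat.card (Sylow p M) / p, ?_, ?_⟩
  · by_contra h
    have := Nat.div_add_mod (Nat.card (Sylow p M)) p
    rw [h2, Nat.eq_zero_of_not_pos h, mul_zero, zero_add] at this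
    omega
  · have e : 1 + Nat.card (Sylow p M) / p * p = Nat.card (Sylow p M) := by
      have := Nat.div_add_mod (Nat.card (Sylow p M)) p
      rw [h2, mul_comm] at this
      omega
    rw [e, ← card_subtype_sylow hP, ← (P.subtype hP : Sylow p M).1.card_mul_index]
    exact Nat.mul_dvd_mul_left _ (Sylow.card_dvd_index _)

/-- An abelian group containing `D` lies in `N(D)`. -/
theorem le_normalizer_of_comm {D A : Subgroup G} (hDA : D ≤ A)
    (hA : ∀ a ∈ A, ∀ b ∈ A, a * b = b * a) : A ≤ normalizer (D : Set G) := by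
  refine le_trans ?_ (centralizer_le_normalizer _)
  exact fun a ha => mem_centralizer_iff.2 fun d hd => hA d (hDA hd) a ha

theorem comm_of_card_eq_sq {A : Subgroup G} (hA : Nat.card A = p ^ 2) :
    ∀ a ∈ A, ∀ b ∈ A, a * b = b * a := by
  intro a ha b hb
  exact congrArg Subtype.val ((IsPGroup.isMulCommutative_of_card_eq_prime_sq hA).is_comm.comm ⟨a, ha⟩ ⟨b, hb⟩)

/-- In a simple group a normalizer of a proper non-trivial subgroup is proper. -/
theorem normalizer_ne_top [IsSimpleGroup G] {D : Subgroup G} (h1 : D ≠ ⊥) (h2 : D ≠ ⊤) :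
    normalizer (D : Set G) ≠ ⊤ := fun h => by
  rw [normalizer_eq_top_iff] at h
  exact h.eq_bot_or_eq_top.elim h1 h2

end Cfsg.Agent.H36
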