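import Cfsg.Agent.H36.Basic
import Mathlib.GroupTheory.Perm.Centralizer
import Mathlib.GroupTheory.Perm.Cycle.Type
import Mathlib.Data.Nat.Multiplicity

/-!
# Normalizers of subgroups of prime order in symmetric groups of degree `< 2p`
-/

set_option autoImplicit false
set_option linter.unusedSectionVars false
set_option linter.style.haveILetI false

namespace Cfsg.Agent.H36

open Subgroup Equiv

variable {α : Type*} [Fintype α] [DecidableEq α] {p : ℕ} [hp : Fact p.Prime]

theorem not_sq_dvd_factorial {n : ℕ} (hn : n < 2 * p) : ¬ p ^ 2 ∣ n.factorial := by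
  intro h
  have h' := (Nat.Prime.pow_dvd_factorial_iff hp.out (b := 2) ?_).1 h
  · rw [Nat.Ico_succ_singleton, Finset.sum_singleton, pow_one] at h'
    have : n / p < 2 := (Nat.div_lt_iff_lt_mul hp.out.pos).2 hn
    omega
  · rcases n.eq_zero_or_pos with rfl | hn0
    · simp
    · refine Nat.log_lt_of_lt_pow hn0.ne' (hn.trans_le ?_)
      rw [pow_two]; exact Nat.mul_le_mul_right p hp.out.two_le

theorem cycleType_of_orderOf (hα : Fintype.card α < 2 * p) {x : Perm α} (hx : orderOf x = p) :
    x.cycleType = {p} := by
  obtain ⟨n, hn⟩ := Perm.cycleType_prime_order (σ := x) (by rw [hx]; exact hp.out)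
  have hsum := Perm.sum_cycleType_le x
  rw [hn, hx, Multiset.sum_replicate, smul_eq_mul] at hsum
  have : n = 0 := by nlinarith [hp.out.pos]
  rw [hn, this, hx, Multiset.replicate_one]

theorem card_centralizer_of_orderOf (hα : Fintype.card α < 2 * p) {x : Perm α}
    (hx : orderOf x = p) :
    Nat.card (centralizer ({x} : Set (Perm α))) = (Fintype.card α - p).factorial * p := by
  rw [Perm.nat_card_centralizer, cycleType_of_orderOf hα hx]
  simp

theorem centralizer_zpowers {G : Type*} [Group G] (x : G) :
    centralizer ((zpowers x : Subgroup G) : Set G) = centralizer ({x} : Set G) := by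
  rw [zpowers_eq_closure, centralizer_closure]

/-- In a symmetric group of degree `< 2p`, a subgroup of order `p` has normalizer of order
`p (p-1) (n-p)!`. -/
theorem card_normalizer_of_card_eq (hα : Fintype.card α < 2 * p) (Q : Subgroup (Perm α))
    (hQ : Nat.card Q = p) :
    Nat.card (normalizer (Q : Set (Perm α))) = p * (p - 1) * (Fintype.card α - p).factorial := by
  haveI : IsCyclic Q := isCyclic_of_prime_card hQ
  obtain ⟨⟨x, hx⟩, hgen⟩ := IsCyclic.exists_generator (α := Q)
  have hQx : Q = zpowers x := by
    refine le_antisymm (fun y hy => ?_) (zpowers_le.2 hx)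
    obtain ⟨k, hk⟩ := mem_zpowers_iff.1 (hgen ⟨y, hy⟩)
    exact mem_zpowers_iff.2 ⟨k, congrArg Subtype.val hk⟩
  have hord : orderOf x = p := by rw [← Nat.card_zpowers, ← hQx, hQ]
  classical
  rw [card_normalizer_eq_mul, hQx, centralizer_zpowers, card_centralizer_of_orderOf hα hord,
    ← hQx]
  suffices hs : (centralizer ({x} : Set (Perm α))).relIndex (normalizer (Q : Set (Perm α))) =
      p - 1 by rw [hs]; ring
  apply le_antisymm
  · have := relIndex_centralizer_dvd_of_prime hp.out Q hQ
    rw [hQx, centralizer_zpowers] at this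
    exact Nat.le_of_dvd (by have := hp.out.two_le; omega) (hQx ▸ this)
  · rw [relIndex, index_eq_card]
    have hconj : ∀ y : {y : Q // y ≠ 1}, ∃ n : Perm α, n ∈ normalizer (Q : Set (Perm α)) ∧
        n * x * n⁻¹ = y.1.1 := by
      rintro ⟨⟨y, hy⟩, hy1⟩
      have hy' : orderOf y = p := by
        refine orderOf_eq_prime ?_ (fun h => hy1 (Subtype.ext h))
        have := pow_card_eq_one' (x := (⟨y, hy⟩ : Q))
        rw [hQ] at this
        exact congrArg Subtype.val this
      obtain ⟨n, hn⟩ := isConj_iff.1 (Perm.isConj_iff_cycleType_eq.2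
        ((cycleType_of_orderOf hα hord).trans (cycleType_of_orderOf hα hy').symm))
      refine ⟨n, ?_, hn⟩
      rw [hQx, mem_normalizer_iff]
      have hyx : zpowers y = zpowers x := eq_of_le_of_card_ge
        (zpowers_le.2 (hQx ▸ hy)) (by rw [Nat.card_zpowers, Nat.card_zpowers, hord, hy'])
      intro z
      constructor
      · intro hz
        obtain ⟨k, rfl⟩ := mem_zpowers_iff.1 hz
        rw [← conj_zpow, hn, ← hyx]
        exact zpow_mem_zpowers y k
      · intro hz
        rw [← hyx] at hz
        obtain ⟨k, hk⟩ := mem_zpowers_iff.1 hz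
        rw [← hn, conj_zpow] at hk
        exact mem_zpowers_iff.2 ⟨k, mul_left_cancel (mul_right_cancel hk)⟩
    choose n hn hn' using hconj
    have hcard : Nat.card {y : Q // y ≠ 1} = p - 1 := by
      rw [Nat.card_eq_fintype_card, Fintype.card_subtype_compl, Fintype.card_subtype_eq,
        ← Nat.card_eq_fintype_card, hQ]
    rw [← hcard]
    refine Nat.card_le_card_of_injective (fun y => (QuotientGroup.mk ⟨n y, hn y⟩ :
      normalizer (Q : Set (Perm α)) ⧸ _)) fun a b hab => ?_
    have h := QuotientGroup.eq.1 hab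
    rw [mem_subgroupOf, mem_centralizer_singleton_iff] at h
    simp only [coe_mul, coe_inv] at h
    apply Subtype.ext; apply Subtype.ext
    rw [← hn' a, ← hn' b]
    have : (n a) * x * (n a)⁻¹ = (n a) * (((n a)⁻¹ * n b) * x * ((n a)⁻¹ * n b)⁻¹) * (n a)⁻¹ := by
      rw [h]; group
    rw [this]; group

/-- The even half of the normalizer. -/
theorem two_mul_card_normalizer_inf_alternating (hp2 : p ≠ 2) (hα : Fintype.card α < 2 * p)
    (hαp : p ≤ Fintype.card α) (Q : Subgroup (Perm α)) (hQ : Nat.card Q = p) :
    2 * Nat.card ↥(normalizer (Q : Set (Perm α)) ⊓ alternatingGroup α) =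
      p * (p - 1) * (Fintype.card α - p).factorial := by
  haveI : Nontrivial α := Fintype.one_lt_card_iff_nontrivial.1
    (lt_of_lt_of_le hp.out.one_lt hαp)
  have hindex : ¬ p ∣ Q.index := by
    intro h
    apply not_sq_dvd_factorial (p := p) hα
    rw [← Fintype.card_perm, ← Nat.card_eq_fintype_card, ← Q.card_mul_index, hQ, pow_two]
    exact Nat.mul_dvd_mul_left p h
  let P : Sylow p (Perm α) :=
    (IsPGroup.of_card (n := 1) (by rw [hQ, pow_one]) : IsPGroup p Q).toSylow hindex
  have hPA : (P : Subgroup (Perm α)) ≤ alternatingGroup α := by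
    intro y hy
    rw [Perm.mem_alternatingGroup]
    have h := pow_card_eq_one' (x := (⟨y, by simpa [P] using hy⟩ : Q))
    rw [hQ] at h
    have h' : Perm.sign y ^ p = 1 := by
      rw [← map_pow, show y ^ p = 1 from congrArg Subtype.val h, map_one]
    rcases Int.units_eq_one_or (Perm.sign y) with hs | hs
    · exact hs
    · rw [hs] at h' ⊢
      rwa [(hp.out.odd_of_ne_two hp2).neg_one_pow] at h'
  have hsup := P.normalizer_sup_eq_top' hPA
  simp only [P, IsPGroup.toSylow_coe] at hsup
  set N := normalizer (Q : Set (Perm α)) with hN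
  have h2 : (alternatingGroup α).relIndex N = 2 := by
    rw [← relIndex_sup_right, show N ⊔ alternatingGroup α = ⊤ from hsup,
      relIndex_top_right, alternatingGroup.index_eq_two]
  rw [← card_normalizer_of_card_eq hα Q hQ, ← hN,
    ← ((alternatingGroup α).subgroupOf N).card_mul_index]
  rw [show ((alternatingGroup α).subgroupOf N).index = 2 from h2, mul_comm]
  congr 1
  exact Nat.card_congr
    { toFun := fun x => ⟨⟨x.1, x.2.1⟩, x.2.2⟩
      invFun := fun x => ⟨x.1.1, x.1.2, x.2⟩
      left_inv := fun _ => rfl
      right_inv := fun _ => rfl }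

/-- In a simple group with a proper subgroup of index `n < 2p`, twice the order of the normalizer of
a subgroup of order `p` divides `p (p-1) (n-p)!`. -/
theorem two_mul_card_normalizer_dvd {G : Type*} [Group G] [Finite G] [IsSimpleGroup G]
    (hG : ¬ IsMulCommutative G) (hp2 : p ≠ 2) {H : Subgroup G} (hH : H ≠ ⊤)
    (hn : H.index < 2 * p) (P : Subgroup G) (hP : Nat.card P = p) :
    2 * Nat.card (normalizer (P : Set G)) ∣ p * (p - 1) * (H.index - p).factorial := by
  obtain ⟨f, hf⟩ := exists_hom_alternating hG hH
  let f₀ : G →* Perm (Fin H.index) := (alternatingGroup (Fin H.index)).subtype.comp f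
  have hf₀ : Function.Injective f₀ := Subtype.coe_injective.comp hf
  have hQ : Nat.card (P.map f₀) = p := by rw [card_map_of_injective hf₀, hP]
  have hle : p ≤ Fintype.card (Fin H.index) := by
    have h1 : p ∣ Nat.card G := hP ▸ P.card_subgroup_dvd_card
    have h2 := (Nat.Prime.dvd_factorial hp.out).1 (h1.trans (card_dvd_factorial hH))
    simpa using h2
  have h := two_mul_card_normalizer_inf_alternating hp2 (α := Fin H.index) (by simpa using hn) hle
    (P.map f₀) hQ
  rw [Fintype.card_fin] at h
  rw [← h]
  apply Nat.mul_dvd_mul_left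
  have e : Nat.card ((normalizer (P : Set G)).map f₀) = Nat.card (normalizer (P : Set G)) :=
    card_map_of_injective hf₀
  rw [← e]
  refine card_dvd_of_le (le_inf (le_normalizer_map f₀) ?_)
  rintro _ ⟨g, -, rfl⟩
  exact (f g).2

end Cfsg.Agent.H36
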