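import Cfsg.Agent.H36.NoSimple
import Cfsg.Agent.H36.TwoLocal
import Cfsg.Agent.H36.PermNormalizer
import Cfsg.Agent.H36.Normalizers

/-!
# Sixty-four Sylow `7`-subgroups in a group of order 4032
-/

set_option autoImplicit false
set_option linter.style.haveILetI false

namespace Cfsg.Agent.H36

open Subgroup

theorem false_of_card_4032 {G : Type*} [Group G] [Finite G] [IsSimpleGroup G]
    (hn : Nat.card G = 4032) (hG : ¬ IsMulCommutative G) [Fact (Nat.Prime 7)] (P : Sylow 7 G)
    (hP : Nat.card (P : Subgroup G) = 7) (hk : Nat.card (Sylow 7 G) = 64) : False := by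
  classical
  haveI : Fact (Nat.Prime 3) := ⟨by norm_num⟩
  haveI : Fact (Nat.Prime 2) := ⟨by norm_num⟩
  set N := normalizer ((P : Subgroup G) : Set G) with hNdef
  set C := centralizer ((P : Subgroup G) : Set G) with hCdef
  have hN : Nat.card N = 7 * 9 := card_normalizer_of_card_sylow P hn hk (by norm_num)
  obtain ⟨r, c, hr1, hr, hrc, hC⟩ := exists_relIndex_centralizer hG P hP hN
  rw [← hCdef] at hC
  have hc : c = 3 := by
    have hr9 : r ∣ 9 := ⟨c, hrc.symm⟩
    have h3 : r ∣ Nat.gcd 6 9 := Nat.dvd_gcd (by simpa using hr) hr9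
    have : r = 3 := by
      rcases (Nat.dvd_prime Nat.prime_three).1 (by simpa using h3) with h | h <;> omega
    subst this; omega
  subst hc
  -- no subgroup between `N` and `G`
  have hmax : ∀ M : Subgroup G, N ≤ M → M ≠ ⊤ → M = N := by
    intro M hNM hM
    have hPM : (P : Subgroup G) ≤ M := le_normalizer.trans hNM
    have hd : N.relIndex M = Nat.card (Sylow 7 M) := by
      rw [Sylow.card_eq_index_normalizer (P.subtype hPM)]
      exact congrArg index (subgroupOf_normalizer_eq hPM)
    have hmod : N.relIndex M % 7 = 1 := by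
      rw [hd, card_sylow_modEq_one 7 M]
    have hmul : N.relIndex M * M.index = 64 := by
      rw [relIndex_mul_index hNM, ← hk, Sylow.card_eq_index_normalizer P]; rfl
    have hdk : N.relIndex M ∈ Nat.divisors 64 :=
      Nat.mem_divisors.2 ⟨⟨_, hmul.symm⟩, by norm_num⟩
    have : ∀ d ∈ Nat.divisors 64, d % 7 = 1 → d = 1 ∨ d = 8 ∨ d = 64 := by decide
    rcases this _ hdk hmod with h | h | h
    · exact le_antisymm (relIndex_eq_one.1 h) hNM
    · exfalso
      rw [h] at hmul
      have hidx : M.index = 8 := by omega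
      have h2 := two_mul_card_normalizer_dvd hG (p := 7) (by norm_num) hM (by omega) P hP
      rw [← hNdef, hN, hidx] at h2
      norm_num [Nat.factorial] at h2
    · rw [h] at hmul
      exact absurd (index_eq_one.1 (by omega : M.index = 1)) hM
  -- a Sylow `3`-subgroup of `N`
  obtain ⟨R', hR'⟩ := Sylow.exists_subgroup_card_pow_prime (G := N) 3 (n := 2)
    (by rw [hN]; norm_num)
  set R := R'.map N.subtype with hRdef
  have hR : Nat.card R = 9 := by
    rw [hRdef, card_map_of_injective N.subtype_injective, hR']; norm_num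
  have hRN : R ≤ N := map_subtype_le _
  have hRcomm : ∀ a ∈ R, ∀ b ∈ R, a * b = b * a := by
    intro a ha b hb
    have h := IsPGroup.commutative_of_card_eq_prime_sq (p := 3) (G := R) (by rw [hR]; norm_num)
    exact congrArg Subtype.val (h ⟨a, ha⟩ ⟨b, hb⟩)
  -- an element of order three of `R` centralizing `P`
  have hRC : 1 < Nat.card (R ⊓ C : Subgroup G) := by
    have h := card_mul_card_le (T := N) hRN (centralizer_le_normalizer _ : C ≤ N)
    rw [hN, hR, hC] at h
    rw [← hCdef] at *
    omega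
  haveI : Nontrivial (R ⊓ C : Subgroup G) := Finite.one_lt_card_iff_nontrivial.1 hRC
  obtain ⟨⟨x, hxR, hxC⟩, hx1'⟩ := exists_ne (1 : (R ⊓ C : Subgroup G))
  have hx1 : x ≠ 1 := fun h => hx1' (Subtype.ext h)
  set M := centralizer ({x} : Set G) with hMdef
  have hRM : R ≤ M := fun y hy => mem_centralizer_singleton_iff.2 (hRcomm y hy x hxR)
  have hPM : (P : Subgroup G) ≤ M := fun y hy =>
    mem_centralizer_singleton_iff.2 (mem_centralizer_iff.1 hxC y hy)
  have hMN : M = N := by
    have hNM : N ≤ M := by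
      have h1 : 7 * 9 ∣ Nat.card (N ⊓ M : Subgroup G) :=
        Nat.Coprime.mul_dvd_of_dvd_of_dvd (by norm_num)
          (hP ▸ card_dvd_of_le (le_inf le_normalizer hPM))
          (hR ▸ card_dvd_of_le (le_inf hRN hRM))
      exact inf_eq_left.1 (eq_of_le_of_card_ge inf_le_left
        (hN ▸ Nat.le_of_dvd Nat.card_pos h1))
    refine hmax M hNM fun h => hx1 ?_
    have : x ∈ center G := mem_center_iff.2 fun y =>
      mem_centralizer_singleton_iff.1 (h ▸ mem_top y : y ∈ M)
    rwa [center_eq_bot_of_simple hG, mem_bot] at this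
  -- `x` is not real
  have hreal : ∀ g : G, g * x * g⁻¹ ≠ x⁻¹ := by
    intro g hg
    have hgM : ∀ y, y ∈ M ↔ g * y * g⁻¹ ∈ M := by
      intro y
      rw [mem_centralizer_singleton_iff, mem_centralizer_singleton_iff]
      constructor
      · intro h
        have h' : g * y * g⁻¹ * x⁻¹ = x⁻¹ * (g * y * g⁻¹) := by
          rw [← hg]
          calc g * y * g⁻¹ * (g * x * g⁻¹) = g * (y * x) * g⁻¹ := by group
            _ = g * (x * y) * g⁻¹ := by rw [h]
            _ = g * x * g⁻¹ * (g * y * g⁻¹) := by group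
        exact ((Commute.inv_right_iff (a := g * y * g⁻¹) (b := x)).1 h')
      · intro h
        have h' : g * y * g⁻¹ * x⁻¹ = x⁻¹ * (g * y * g⁻¹) := Commute.inv_right h
        rw [← hg] at h'
        calc y * x = g⁻¹ * (g * y * g⁻¹ * (g * x * g⁻¹)) * g := by group
          _ = g⁻¹ * (g * x * g⁻¹ * (g * y * g⁻¹)) * g := by rw [h']
          _ = x * y := by group
    -- `g` normalizes `P`, the only Sylow `7`-subgroup of `N`
    have hgP : g ∈ N := by
      rw [hNdef, mem_normalizer_iff_map_conj_eq]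
      refine eq_of_le_of_card_ge ?_ (by rw [card_map_of_injective (MulAut.conj g).injective])
      rintro _ ⟨y, hy, rfl⟩
      show g * y * g⁻¹ ∈ (P : Subgroup G)
      have h1 : g * y * g⁻¹ ∈ N := hMN ▸ (hgM y).1 (hPM hy)
      by_cases hy1 : y = 1
      · rw [hy1, mul_one, mul_inv_cancel]
        exact one_mem _
      refine mem_sylow_of_mem_normalizer P ?_ h1
      refine orderOf_eq_prime ?_ (fun h => hy1 (conj_eq_one_iff.1 h))
      rw [conj_pow, show y ^ 7 = 1 from
        orderOf_dvd_iff_pow_eq_one.1 (hP ▸ orderOf_dvd_natCard _ hy)]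
      group
    have hgx := mem_centralizer_singleton_iff.1 (hMN ▸ hgP : g ∈ M)
    rw [hgx, mul_inv_cancel_right] at hg
    have hx9 : orderOf x ∣ 9 := hR ▸ orderOf_dvd_natCard _ hxR
    have hx2 : orderOf x ∣ 2 := orderOf_dvd_of_pow_eq_one (by
      rw [pow_two]; nth_rewrite 2 [hg]; exact mul_inv_cancel x)
    exact hx1 (orderOf_eq_one_iff.1 (Nat.eq_one_of_dvd_coprimes (by norm_num) hx9 hx2))
  -- `N(R)`
  have hRS : IsPGroup 3 R := IsPGroup.of_card (n := 2) (by rw [hR]; norm_num)
  let S : Sylow 3 G := Sylow.ofCard R (by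
    rw [hR, hn, show (4032 : ℕ) = 3 ^ 2 * 448 by norm_num,
      Nat.factorization_mul (by norm_num) (by norm_num), Nat.Prime.factorization_pow (by norm_num)]
    simp [Nat.factorization_eq_zero_of_not_dvd (show ¬ 3 ∣ 448 by norm_num)])
  set NR := normalizer (R : Set G) with hNR
  -- the stabilizer of `x` in `N(R)` is `R`
  have hstab : ∀ g ∈ NR, g ∈ M → g ∈ R := by
    intro g hg hgM
    by_contra hgR
    have hlt : R < NR ⊓ N := lt_of_le_of_ne (le_inf le_normalizer hRN)
      fun h => hgR (h ▸ ⟨hg, hMN ▸ hgM⟩)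
    have h9 : Nat.card (NR ⊓ N : Subgroup G) = 63 := by
      obtain ⟨a, ha⟩ := hR ▸ card_dvd_of_le hlt.le
      have h7 : a ∣ 7 := Nat.dvd_of_mul_dvd_mul_left (by norm_num : 0 < 9)
        (ha ▸ hN ▸ card_dvd_of_le inf_le_right)
      rcases (Nat.dvd_prime (Fact.out : Nat.Prime 7)).1 h7 with rfl | rfl
      · exact absurd (eq_of_le_of_card_ge hlt.le (by rw [ha, hR])) hlt.ne
      · exact ha
    have hNle : N ≤ NR := inf_eq_right.1 (eq_of_le_of_card_ge inf_le_right (by rw [hN, h9]))
    have hRC' : R ≤ C := by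
      intro a ha
      refine mem_centralizer_iff.2 fun b hb => ?_
      have hbN : b ∈ N := le_normalizer hb
      have h1 : b * a * b⁻¹ * a⁻¹ ∈ R :=
        mul_mem ((mem_normalizer_iff.1 (hNle hbN) a).1 ha) (inv_mem ha)
      have h2 : b * (a * b⁻¹ * a⁻¹) ∈ (P : Subgroup G) :=
        mul_mem hb ((mem_normalizer_iff.1 (hRN ha) _).1 (inv_mem hb))
      have hd3 := hR ▸ orderOf_dvd_natCard _ h1
      have hd7 := hP ▸ orderOf_dvd_natCard _ h2
      rw [show b * (a * b⁻¹ * a⁻¹) = b * a * b⁻¹ * a⁻¹ by group] at hd7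
      have h3 := orderOf_eq_one_iff.1 (Nat.eq_one_of_dvd_coprimes (by norm_num) hd3 hd7)
      exact mul_inv_eq_iff_eq_mul.1 (mul_inv_eq_one.1 h3)
    have := hR ▸ card_dvd_of_le hRC'
    rw [hC] at this
    norm_num at this
  -- the orbit of `x` and its inverse
  let R0 := R.subgroupOf NR
  let conjx : NR ⧸ R0 → R := fun q => ⟨(q.out : G) * x * (q.out : G)⁻¹,
    (mem_normalizer_iff.1 q.out.2 x).1 hxR⟩
  have hinj : ∀ a b, conjx a = conjx b → a = b := by
    intro a b h
    have h' : (a.out : G) * x * (a.out : G)⁻¹ = b.out * x * (b.out : G)⁻¹ := congrArg Subtype.val h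
    rw [← QuotientGroup.out_eq' a, ← QuotientGroup.out_eq' b, QuotientGroup.eq, mem_subgroupOf]
    refine hstab _ (a.out⁻¹ * b.out).2 (mem_centralizer_singleton_iff.2 ?_)
    push_cast
    calc (a.out : G)⁻¹ * b.out * x
        = (a.out : G)⁻¹ * (b.out * x * (b.out : G)⁻¹) * b.out := by group
      _ = x * ((a.out : G)⁻¹ * b.out) := by rw [← h']; group
  have hne : ∀ a b, conjx a ≠ (conjx b)⁻¹ := by
    intro a b h
    have h' : (a.out : G) * x * (a.out : G)⁻¹ = ((b.out : G) * x * (b.out : G)⁻¹)⁻¹ :=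
      congrArg Subtype.val h
    refine hreal ((b.out : G)⁻¹ * a.out) ?_
    calc (b.out : G)⁻¹ * a.out * x * ((b.out : G)⁻¹ * a.out)⁻¹
        = (b.out : G)⁻¹ * ((a.out : G) * x * (a.out : G)⁻¹) * b.out := by group
      _ = x⁻¹ := by rw [h']; group
  have hne1 : ∀ a, conjx a ≠ 1 := fun a h =>
    hx1 (conj_eq_one_iff.1 (congrArg Subtype.val h))
  let F : (NR ⧸ R0) ⊕ (NR ⧸ R0) → {y : R // y ≠ 1} :=
    Sum.elim (fun a => ⟨conjx a, hne1 a⟩) (fun a => ⟨(conjx a)⁻¹, inv_ne_one.2 (hne1 a)⟩)
  have hF : Function.Injective F := by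
    rintro (a | a) (b | b) h <;> have h' := congrArg Subtype.val h
    · exact congrArg Sum.inl (hinj a b h')
    · exact absurd h' (hne a b)
    · exact absurd h'.symm (hne b a)
    · exact congrArg Sum.inr (hinj a b (inv_injective h'))
  haveI := Fintype.ofFinite R
  have hcardne : Nat.card {y : R // y ≠ 1} = 8 := by
    rw [Nat.card_eq_fintype_card, Fintype.card_subtype_compl, Fintype.card_subtype_eq,
      ← Nat.card_eq_fintype_card, hR]
  have hm : Nat.card (NR ⧸ R0) ≤ 4 := by
    have := Nat.card_le_card_of_injective F hF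
    rw [Nat.card_sum, hcardne] at this
    omega
  -- `|N(R)| = 36`
  have hmNR : Nat.card (NR ⧸ R0) * 9 = Nat.card NR := by
    rw [← hR, ← Nat.card_congr (subgroupOfEquivOfLe le_normalizer).toEquiv]
    exact (card_eq_card_quotient_mul_card_subgroup R0).symm
  have hn3 : Nat.card (Sylow 3 G) * Nat.card NR = 4032 := by
    rw [← hn]; exact card_sylow_mul_normalizer S
  have hm4 : Nat.card (NR ⧸ R0) = 4 := by
    set m := Nat.card (NR ⧸ R0)
    have h448 : Nat.card (Sylow 3 G) * m = 448 := by
      rw [← hmNR] at hn3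
      have : Nat.card (Sylow 3 G) * m * 9 = 448 * 9 := by rw [mul_assoc, hn3]
      omega
    have hmod := card_sylow_modEq_one 3 G
    rw [Nat.ModEq] at hmod
    have hpos : 0 < m := Nat.card_pos
    have h1 : m ≠ 1 := by
      intro h1
      refine not_normalizer_le_centralizer hG S (by rw [hn]; norm_num) ?_
      intro g hg
      have hNRR : R = NR := eq_of_le_of_card_ge le_normalizer (by rw [← hmNR, h1, hR])
      have hgR : g ∈ R := hNRR ▸ hg
      exact mem_centralizer_iff.2 fun y hy => hRcomm y hy g hgR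
    interval_cases m <;> omega
  have hbij : Function.Bijective F := by
    refine (Nat.bijective_iff_injective_and_card F).2 ⟨hF, ?_⟩
    rw [Nat.card_sum, hcardne, hm4]
  have hall : ∀ y ∈ R, y ≠ 1 → ¬ 2 ∣ Nat.card (centralizer ({y} : Set G)) := by
    intro y hy hy1 h2
    have hc63 : ∀ g : G, Nat.card (centralizer ({g * x * g⁻¹} : Set G)) = 63 := by
      intro g
      have : centralizer ({g * x * g⁻¹} : Set G) = M.map (MulAut.conj g).toMonoidHom := by
        ext z
        rw [mem_centralizer_singleton_iff]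
        constructor
        · intro h
          refine ⟨g⁻¹ * z * g, mem_centralizer_singleton_iff.2 ?_, by simp [mul_assoc]⟩
          calc g⁻¹ * z * g * x = g⁻¹ * (z * (g * x * g⁻¹)) * g := by group
            _ = g⁻¹ * (g * x * g⁻¹ * z) * g := by rw [h]
            _ = x * (g⁻¹ * z * g) := by group
        · rintro ⟨w, hw, rfl⟩
          show g * w * g⁻¹ * (g * x * g⁻¹) = g * x * g⁻¹ * (g * w * g⁻¹)
          calc g * w * g⁻¹ * (g * x * g⁻¹) = g * (w * x) * g⁻¹ := by group
            _ = g * (x * w) * g⁻¹ := by rw [mem_centralizer_singleton_iff.1 hw]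
            _ = g * x * g⁻¹ * (g * w * g⁻¹) := by group
      rw [this, card_map_of_injective (MulAut.conj g).injective, hMN, hN]
    obtain ⟨a | a, ha⟩ := hbij.2 ⟨⟨y, hy⟩, fun h => hy1 (congrArg Subtype.val h)⟩
    · have : (a.out : G) * x * (a.out : G)⁻¹ = y :=
        congrArg (fun z : {y : R // y ≠ 1} => ((z : R) : G)) ha
      rw [← this, hc63] at h2
      norm_num at h2
    · have : ((a.out : G) * x * (a.out : G)⁻¹)⁻¹ = y :=
        congrArg (fun z : {y : R // y ≠ 1} => ((z : R) : G)) ha
      have hinv : centralizer ({y} : Set G) = centralizer {(a.out : G) * x * (a.out : G)⁻¹} := by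
        ext z
        rw [← this, mem_centralizer_singleton_iff, mem_centralizer_singleton_iff]
        exact Commute.inv_right_iff
      rw [hinv, hc63] at h2
      norm_num at h2
  -- an involution of `N(R)`
  obtain ⟨⟨w, hwR⟩, hw⟩ := exists_prime_orderOf_dvd_card' (G := NR) 2
    (by rw [← hmNR, hm4]; norm_num)
  have hw2 : orderOf w = 2 := by rw [← hw]; exact (orderOf_mk w hwR).symm
  have hww : w * w = 1 := by rw [← pow_two, ← hw2, pow_orderOf_eq_one]
  have hwinv : w⁻¹ = w := inv_eq_of_mul_eq_one_right hww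
  have hxw : w * x * w⁻¹ ∈ R := (mem_normalizer_iff.1 hwR x).1 hxR
  have hyw : x * (w * x * w⁻¹) = 1 := by
    by_contra hne'
    refine hall _ (mul_mem hxR hxw) hne' ?_
    rw [← hw2, ← orderOf_mk (H := centralizer ({x * (w * x * w⁻¹)} : Set G)) w ?_]
    · exact orderOf_dvd_natCard _
    rw [mem_centralizer_singleton_iff]
    calc w * (x * (w * x * w⁻¹)) = (w * x * w⁻¹) * (w * w) * x * w⁻¹ := by group
      _ = (w * x * w⁻¹) * x * w := by rw [hww, mul_one, hwinv]
      _ = x * (w * x * w⁻¹) * w := by rw [hRcomm _ hxw _ hxR]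
  exact hreal w (eq_inv_of_mul_eq_one_right hyw)

end Cfsg.Agent.H36
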