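import Cfsg.Agent.H36.Numeric
import Cfsg.Agent.H36.DegreeEq

/-!
# Applying the degree equations to simple groups of given order
-/

set_option autoImplicit false
set_option linter.unusedSectionVars false
set_option linter.style.haveILetI false

namespace Cfsg.Agent.H36

open Subgroup

variable {G : Type*} [Group G] [Finite G]

theorem card_normalizer_of_card_sylow {p : ℕ} [Fact p.Prime] (P : Sylow p G) {n k N : ℕ}
    (hn : Nat.card G = n) (hk : Nat.card (Sylow p G) = k) (h : n = k * N) :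
    Nat.card (normalizer ((P : Subgroup G) : Set G)) = N := by
  have h1 := card_sylow_mul_normalizer P
  rw [hk, hn, h] at h1
  exact Nat.eq_of_mul_eq_mul_left (Nat.pos_of_ne_zero (by rw [← hk]; exact Nat.card_pos.ne')) h1

/-- In a simple group, if the normalizer of a Sylow subgroup of order `p` has order `p e` with `e`
a prime, the subgroup is its own centralizer. -/
theorem self_central {p e : ℕ} [Fact p.Prime] [IsSimpleGroup G] (hG : ¬ IsMulCommutative G)
    (P : Sylow p G) (hP : Nat.card (P : Subgroup G) = p)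
    (hN : Nat.card (normalizer ((P : Subgroup G) : Set G)) = p * e) (he : e.Prime) :
    centralizer ((P : Subgroup G) : Set G) = P ∧
      (P : Subgroup G).relIndex (normalizer ((P : Subgroup G) : Set G)) = e := by
  have hp : p.Prime := Fact.out
  have hpG : p ∣ Nat.card G := hP ▸ card_subgroup_dvd_card _
  have hne := one_lt_relIndex_centralizer hG P hpG
  have hmul := card_normalizer_eq_mul (P : Subgroup G)
  have hCp := dvd_card_centralizer_of_prime hp (P : Subgroup G) hP
  obtain ⟨c, hc⟩ := hCp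
  rw [hN, hc, mul_assoc] at hmul
  have h1 := Nat.eq_of_mul_eq_mul_left hp.pos hmul
  have hc1 : c = 1 := by
    rcases he.eq_one_or_self_of_dvd c ⟨_, h1⟩ with h | h
    · exact h
    · exfalso
      subst h
      have := Nat.eq_of_mul_eq_mul_left he.pos (h1.symm.trans (mul_one c).symm)
      omega
  subst hc1
  rw [mul_one] at hc
  haveI : IsCyclic (P : Subgroup G) := isCyclic_of_prime_card hP
  letI : CommGroup (P : Subgroup G) := IsCyclic.commGroup
  have hle : (P : Subgroup G) ≤ centralizer ((P : Subgroup G) : Set G) := fun a ha b hb =>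
    congrArg Subtype.val (mul_comm (⟨b, hb⟩ : (P : Subgroup G)) ⟨a, ha⟩)
  have hC := (eq_of_le_of_card_ge hle (le_of_eq (hc.trans hP.symm))).symm
  refine ⟨hC, ?_⟩
  rw [one_mul] at h1
  exact (congrArg (fun H => H.relIndex (normalizer ((P : Subgroup G) : Set G))) hC.symm).trans h1.symm

theorem exists_involution (h : 2 ∣ Nat.card G) : ∃ z : G, z * z = 1 ∧ z ≠ 1 := by
  haveI := Fact.mk Nat.prime_two
  obtain ⟨z, hz⟩ := exists_prime_orderOf_dvd_card' 2 h
  refine ⟨z, ?_, fun h1 => ?_⟩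
  · rw [← pow_two, ← hz, pow_orderOf_eq_one]
  · rw [h1, orderOf_one] at hz
    omega

theorem int_mem_of_natAbs_mem {B : ℤ} {L : List ℕ} (h : B.natAbs ∈ L) :
    B ∈ L.flatMap fun d : ℕ => [(d : ℤ), -(d : ℤ)] := by
  rw [List.mem_flatMap]
  exact ⟨_, h, by simpa using Int.natAbs_eq B⟩

/-- No simple group: the degree equation for index two has no solution. -/
theorem false_of_degree_two {p : ℕ} [Fact p.Prime] [IsSimpleGroup G] (hG : ¬ IsMulCommutative G)
    (hp : 5 ≤ p) (P : Sylow p G) (hP : Nat.card (P : Subgroup G) = p)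
    (hN : Nat.card (normalizer ((P : Subgroup G) : Set G)) = p * 2) (L : List ℕ)
    (hL : ∀ a ∈ L, a ≠ 0) (hn : Nat.card G = L.prod) (h2 : 2 ∣ L.prod)
    (hno : ∀ B ∈ ((divProds L).flatMap fun d : ℕ => [(d : ℤ), -(d : ℤ)]),
      2 ≤ B.natAbs → B % (p : ℤ) = 1 → ¬ (B + 1).natAbs ∣ L.prod) : False := by
  haveI := Fintype.ofFinite G
  obtain ⟨hC, he⟩ := self_central hG P hP hN Nat.prime_two
  obtain ⟨z, hz, hz1⟩ := exists_involution (hn.symm ▸ h2)
  obtain ⟨B, x, hB2, hBd, hB1, hmod, -⟩ := SelfCentral.criterion_two hG hP hC he hp hz hz1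
  rw [hn] at hBd hB1
  refine hno B (int_mem_of_natAbs_mem (mem_divProds L hL _ hBd)) hB2 ?_ hB1
  have h1 : (1 : ℤ) % p = 1 := Int.emod_eq_of_lt (by norm_num) (by omega)
  rw [← h1]
  exact (Int.emod_eq_emod_iff_emod_sub_eq_zero.2 (Int.emod_eq_zero_of_dvd hmod))

/-- No simple group: the degree equation for index three has no solution. -/
theorem false_of_degree_three {p : ℕ} [Fact p.Prime] [IsSimpleGroup G] (hG : ¬ IsMulCommutative G)
    (hp : 7 ≤ p) (P : Sylow p G) (hP : Nat.card (P : Subgroup G) = p)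
    (hN : Nat.card (normalizer ((P : Subgroup G) : Set G)) = p * 3) (L : List ℕ)
    (hL : ∀ a ∈ L, a ≠ 0) (hn : Nat.card G = L.prod)
    (hno : ∀ B ∈ (((divProds L).flatMap fun d : ℕ => [(d : ℤ), -(d : ℤ)]).filter
        fun B => 2 ≤ B.natAbs ∧ B % (p : ℤ) = 1),
      ∀ C ∈ (((divProds L).flatMap fun d : ℕ => [(d : ℤ), -(d : ℤ)]).filter
        fun B => 2 ≤ B.natAbs ∧ B % (p : ℤ) = 1), ¬ (1 + B + C).natAbs ∣ L.prod) : False := by
  haveI := Fintype.ofFinite G
  obtain ⟨hC, he⟩ := self_central hG P hP hN Nat.prime_three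
  obtain ⟨B, C, hB2, hC2, hBd, hCd, hd, hBm, hCm⟩ := SelfCentral.criterion_three hG hP hC he hp
  rw [hn] at hBd hCd hd
  have h1 : (1 : ℤ) % p = 1 := Int.emod_eq_of_lt (by norm_num) (by omega)
  have hmem : ∀ X : ℤ, 2 ≤ X.natAbs → X.natAbs ∣ L.prod → (p : ℤ) ∣ X - 1 →
      X ∈ (((divProds L).flatMap fun d : ℕ => [(d : ℤ), -(d : ℤ)]).filter
        fun B => 2 ≤ B.natAbs ∧ B % (p : ℤ) = 1) := by
    intro X h2 hd hm
    refine List.mem_filter.2 ⟨int_mem_of_natAbs_mem (mem_divProds L hL _ hd),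
      decide_eq_true ⟨h2, ?_⟩⟩
    rw [← h1]
    exact Int.emod_eq_emod_iff_emod_sub_eq_zero.2 (Int.emod_eq_zero_of_dvd hm)
  exact hno B (hmem B hB2 hBd hBm) C (hmem C hC2 hCd hCm) hd

end Cfsg.Agent.H36

namespace Cfsg.Agent.H36

open Subgroup

variable {G : Type*} [Group G] [Finite G]

/-- An involution in the centre of a Sylow `2`-subgroup. -/
theorem exists_central_involution {a : ℕ} (ha : 0 < a) (h : 2 ^ a ∣ Nat.card G) :
    ∃ z : G, z * z = 1 ∧ z ≠ 1 ∧ 2 ^ a ∣ Nat.card (centralizer ({z} : Set G)) := by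
  haveI := Fact.mk Nat.prime_two
  obtain ⟨K, hK⟩ := Sylow.exists_subgroup_card_pow_prime 2 h
  have hK2 : IsPGroup 2 K := IsPGroup.of_card hK
  haveI : Nontrivial K := Finite.one_lt_card_iff_nontrivial.1 (hK ▸ Nat.one_lt_two_pow ha.ne')
  haveI := hK2.center_nontrivial
  obtain ⟨z, hz⟩ := exists_prime_orderOf_dvd_card' 2
    (((hK2.to_subgroup (center K)).card_eq_or_dvd).resolve_left Finite.one_lt_card.ne')
  have hz2 : orderOf ((z : K) : G) = 2 := by rw [orderOf_coe, orderOf_coe, hz]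
  refine ⟨((z : K) : G), ?_, fun h1 => ?_, ?_⟩
  · rw [← pow_two, ← hz2, pow_orderOf_eq_one]
  · rw [h1, orderOf_one] at hz2
    omega
  · rw [← hK]
    exact card_dvd_of_le fun x hx => mem_centralizer_singleton_iff.2
      (congrArg Subtype.val (mem_center_iff.1 z.2 ⟨x, hx⟩))

/-- No simple group: the two equations for index two have no common solution. -/
theorem false_of_degree_two' {p : ℕ} [Fact p.Prime] [IsSimpleGroup G] (hG : ¬ IsMulCommutative G)
    (hp : 5 ≤ p) (P : Sylow p G) (hP : Nat.card (P : Subgroup G) = p)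
    (hN : Nat.card (normalizer ((P : Subgroup G) : Set G)) = p * 2) (a : ℕ) (ha : 0 < a)
    (L : List ℕ) (hL : ∀ a ∈ L, a ≠ 0) (hn : Nat.card G = L.prod) (h2 : 2 ^ a ∣ L.prod)
    (hno : ∀ B ∈ ((divProds L).flatMap fun d : ℕ => [(d : ℤ), -(d : ℤ)]),
      2 ≤ B.natAbs → B % (p : ℤ) = 1 → (B + 1).natAbs ∣ L.prod →
        (2 * B) ^ 2 * L.prod < p * ((2 : ℤ) ^ a) ^ 2 * (B * (B + 1))) : False := by
  haveI := Fintype.ofFinite G
  obtain ⟨hC, he⟩ := self_central hG P hP hN Nat.prime_two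
  obtain ⟨z, hz, hz1, hzc⟩ := exists_central_involution ha (hn.symm ▸ h2)
  obtain ⟨B, x, hB2, hBd, hB1, hmod, hx, heq⟩ := SelfCentral.criterion_two hG hP hC he hp hz hz1
  rw [hn] at hBd hB1 heq
  have h1 : (1 : ℤ) % p = 1 := Int.emod_eq_of_lt (by norm_num) (by omega)
  have h := hno B (int_mem_of_natAbs_mem (mem_divProds L hL _ hBd)) hB2
    ((Int.emod_eq_emod_iff_emod_sub_eq_zero.2 (Int.emod_eq_zero_of_dvd hmod)).trans h1) hB1
  set c := Nat.card (centralizer ({z} : Set G)) with hc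
  have hc1 : ((2 : ℤ) ^ a) ≤ c := by
    have := Nat.le_of_dvd Nat.card_pos hzc
    rw [← hc] at this
    exact_mod_cast this
  have hBB : 0 ≤ B * (B + 1) := by
    rcases le_or_gt 0 B with h | h
    · positivity
    · exact mul_nonneg_of_nonpos_of_nonpos h.le (by omega)
  have hsq : (B - x) ^ 2 ≤ (2 * B) ^ 2 := sq_le_sq.2 (by simp only [Int.abs_eq_natAbs]; omega)
  have : (2 * B) ^ 2 * (L.prod : ℤ) < p * (c : ℤ) ^ 2 * (B * (B + 1)) :=
    lt_of_lt_of_le h (mul_le_mul_of_nonneg_right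
      (mul_le_mul_of_nonneg_left (pow_le_pow_left₀ (by positivity) hc1 2) (by positivity)) hBB)
  rw [← heq] at this
  exact absurd this (not_lt.2 (mul_le_mul_of_nonneg_right hsq (by positivity)))

/-- The index of `C(P)` in `N(P)` for a Sylow subgroup of prime order. -/
theorem exists_relIndex_centralizer {p : ℕ} [Fact p.Prime] [IsSimpleGroup G]
    (hG : ¬ IsMulCommutative G) (P : Sylow p G) (hP : Nat.card (P : Subgroup G) = p) {N : ℕ}
    (hN : Nat.card (normalizer ((P : Subgroup G) : Set G)) = p * N) :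
    ∃ r c, 1 < r ∧ r ∣ p - 1 ∧ r * c = N ∧
      Nat.card (centralizer ((P : Subgroup G) : Set G)) = p * c := by
  have hp : p.Prime := Fact.out
  obtain ⟨c, hc⟩ := dvd_card_centralizer_of_prime hp (P : Subgroup G) hP
  have h := card_normalizer_eq_mul (P : Subgroup G)
  rw [hN, hc, mul_assoc] at h
  exact ⟨_, c, one_lt_relIndex_centralizer hG P (hP ▸ card_subgroup_dvd_card _),
    relIndex_centralizer_dvd_of_prime hp _ hP,
    by rw [mul_comm]; exact (Nat.eq_of_mul_eq_mul_left hp.pos h).symm, hc⟩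

end Cfsg.Agent.H36
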