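import Cfsg.Agent.H36.DegreeEq
import Cfsg.Agent.H36.NoSimple

/-!
# A self-centralizing subgroup of prime order `p` with normalizer of order `p (p - 1)`

All `v ∈ P`, `v ≠ 1` are conjugate, so the characters are integers `a` on `P \ {1}` with
`∑ a^2 = p`. Together with the values at an involution `u` of `N(P)` (integers congruent to the
degree modulo `4`) and the class multiplication constant of `u`, this leaves finitely many
possibilities, which `search` enumerates.
-/

set_option autoImplicit false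
set_option linter.unusedSectionVars false
set_option linter.style.haveILetI false

open scoped ComplexConjugate
open Subgroup Cfsg

namespace Cfsg.Agent.H36.FullNormalizer

open Cfsg.Agent.CharBasic SelfCentral

variable {G : Type*} [Group G] [Fintype G]

/-- In a perfect group an involution has trace congruent to the degree modulo four. -/
theorem exists_int_involution [IsSimpleGroup G] (hG : ¬ IsMulCommutative G) (χ : IrrCharacter G)
    {z : G} (hz : z * z = 1) (hz1 : z ≠ 1) {d : ℕ} (hd : (χ : G → ℂ) 1 = d) :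
    ∃ x : ℤ, (χ : G → ℂ) z = x ∧ x.natAbs ≤ d ∧ (4 : ℤ) ∣ d - x := by
  classical
  obtain ⟨n, ρ, hρ, hχ⟩ := χ.2
  have ho : orderOf z = 2 := orderOf_eq_prime (by rw [pow_two, hz]) hz1
  obtain ⟨b, μ, hb, hμ, htr⟩ := exists_eigenbasis_rep ρ z
  rw [ho] at hμ
  have hμ' : ∀ i, μ i = 1 ∨ μ i = -1 := fun i => sq_eq_one_iff.1 (hμ i)
  have hdet : LinearMap.det (ρ z) = ∏ i, μ i := by
    rw [← LinearMap.det_toMatrix b]
    have : LinearMap.toMatrix b b (ρ z) = Matrix.diagonal μ := by
      ext i j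
      rw [LinearMap.toMatrix_apply, hb, map_smul, Module.Basis.repr_self, Matrix.diagonal_apply]
      by_cases h : i = j
      · subst h; simp
      · simp [h, Finsupp.single_apply, Ne.symm h]
    rw [this, Matrix.det_diagonal]
  have hone := hom_comm_eq_one hG (MonoidHom.toHomUnits (LinearMap.det.comp ρ))
  have h1 : LinearMap.det (ρ z) = 1 := congrArg Units.val (DFunLike.congr_fun hone z)
  rw [hdet] at h1
  set s := Finset.univ.filter fun i => μ i = -1 with hs
  have hprod : ∏ i, μ i = (-1 : ℂ) ^ s.card := by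
    rw [← Finset.prod_filter_mul_prod_filter_not Finset.univ (fun i => μ i = -1),
      Finset.prod_congr rfl (fun i hi => (Finset.mem_filter.1 hi).2), Finset.prod_const,
      Finset.prod_eq_one (fun i hi => (hμ' i).resolve_right (Finset.mem_filter.1 hi).2), mul_one]
  rw [hprod, neg_one_pow_eq_one_iff_even (by norm_num)] at h1
  have hfd : (Module.finrank ℂ (Fin n → ℂ) : ℂ) = d := by
    rw [← hd, ← congrFun hχ 1, Representation.char_one]
  have hsum : ∑ i, μ i = (d : ℂ) - 2 * s.card := by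
    have h := Finset.sum_congr rfl (s₁ := Finset.univ) (fun i (_ : i ∈ Finset.univ) =>
      show μ i = 1 + (if μ i = -1 then (-2 : ℂ) else 0) by
        rcases hμ' i with h | h <;> rw [h] <;> norm_num)
    rw [h, Finset.sum_add_distrib, ← Finset.sum_filter, Finset.sum_const, Finset.card_univ,
      Fintype.card_fin, Finset.sum_const, nsmul_eq_mul, nsmul_eq_mul, hfd, ← hs]
    ring
  have hle : s.card ≤ d := by
    have h : s.card ≤ Module.finrank ℂ (Fin n → ℂ) :=
      (Finset.card_filter_le _ _).trans (by rw [Finset.card_univ, Fintype.card_fin])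
    have hfd' : Module.finrank ℂ (Fin n → ℂ) = d := by exact_mod_cast hfd
    omega
  refine ⟨(d : ℤ) - 2 * s.card, ?_, by omega, ?_⟩
  · rw [← congrFun hχ z, htr, hsum]; push_cast; ring
  · obtain ⟨j, hj⟩ := h1
    exact ⟨j, by rw [hj]; push_cast; ring⟩

variable {p : ℕ} [Fact p.Prime] {P : Subgroup G}

/-- A row of the table: value on `P \ {1}`, degree, value at the involution. -/
abbrev Row : Type := ℤ × ℕ × ℤ

/-- The nontrivial characters not vanishing on `P`, with the equations they satisfy. -/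
theorem exists_rows [IsSimpleGroup G] (hG : ¬ IsMulCommutative G) (hP : Nat.card P = p)
    (hC : centralizer (P : Set G) = P) (he : P.relIndex (normalizer (P : Set G)) = p - 1)
    (hp : 3 ≤ p) {u : G} (hu : u * u = 1) (hu1 : u ≠ 1) (huN : u ∈ normalizer (P : Set G)) :
    ∃ L : List Row,
      (∀ r ∈ L, r.1 ≠ 0 ∧ 2 ≤ r.2.1 ∧ r.2.1 ∣ Nat.card G ∧ (p : ℤ) ∣ (r.2.1 : ℤ) - r.1 ∧
        r.2.2.natAbs ≤ r.2.1 ∧ (4 : ℤ) ∣ (r.2.1 : ℤ) - r.2.2) ∧
      (L.map fun r : Row => r.1 ^ 2).sum + 1 = (p : ℤ) ∧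
      (L.map fun r : Row => r.1 * (r.2.1 : ℤ)).sum + 1 = 0 ∧
      (L.map fun r : Row => r.1 * r.2.2).sum + 1 = 0 ∧
      (L.map fun r : Row => (r.2.1 : ℤ) ^ 2).sum + 1 ≤ (Nat.card G : ℤ) ∧
      (L.map fun r : Row => r.2.2 ^ 2).sum + 1 ≤ (Nat.card (centralizer ({u} : Set G)) : ℤ) ∧
      (L.map fun r : Row => r.1 * r.2.2 ^ 2 * ((Nat.card G / r.2.1 : ℕ) : ℤ)).sum +
          (Nat.card G : ℤ) = (p : ℤ) * (Nat.card (centralizer ({u} : Set G)) : ℤ) ^ 2 ∧
      ((L.map fun r : Row => r.2.2 ^ 2).sum + 1 =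
          (Nat.card (centralizer ({u} : Set G)) : ℤ) →
        (16 * (p : ℤ) ^ 2) ∣
          (Nat.card G : ℤ) - 1 - (L.map fun r : Row => (r.2.1 : ℤ) ^ 2).sum) := by
  classical
  obtain ⟨φ⟩ := exists_iso hP
  haveI : Fintype P := Fintype.ofFinite _
  have hp' : p.Prime := Fact.out
  have hpC : (p : ℂ) ≠ 0 := Nat.cast_ne_zero.2 hp'.ne_zero
  have hUtop : U φ = ⊤ := by
    apply eq_top_of_card_eq
    rw [(card_U φ hP hC).1, he, Nat.card_eq_fintype_card, ZMod.card_units]
  set v : P := φ.symm (Multiplicative.ofAdd 1) with hv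
  have hφv : φ v = Multiplicative.ofAdd 1 := MulEquiv.apply_symm_apply _ _
  have hv1 : v ≠ 1 := fun h => by
    have h' : Multiplicative.ofAdd (1 : ZMod p) = 1 := by rw [← hφv, h, map_one]
    exact one_ne_zero (Multiplicative.ofAdd.injective (h'.trans ofAdd_zero.symm))
  -- all nontrivial elements of `P` are conjugate to `v`
  have hfus : ∀ w : P, w ≠ 1 → IsConj (v : G) (w : G) := by
    intro w hw
    have hw0 : (φ w).toAdd ≠ 0 := by
      intro h0
      exact hw (φ.injective (by rw [map_one]; exact Multiplicative.toAdd.injective h0))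
    obtain ⟨n, hn⟩ : Units.mk0 _ hw0 ∈ U φ := hUtop ▸ mem_top _
    refine isConj_iff.2 ⟨(n : G), ?_⟩
    have h : conjP P n v = w := φ.injective (Multiplicative.toAdd.injective (by
      rw [toAdd_conjP, hφv, toAdd_ofAdd, mul_one, ← coe_unitHom, hn, Units.val_mk0]))
    exact congrArg Subtype.val h
  -- the integral value on `P \ {1}`
  have hval : ∀ χ : IrrCharacter G, ∃ a m : ℤ, (χ : G → ℂ) v = a ∧
      (χ : G → ℂ) 1 = a + p * m := by
    intro χ
    obtain ⟨m, hm⟩ := H83.sum_subgroup_eq (IsIrr.isCharacter χ.2) P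
    rw [hP, ← Finset.add_sum_erase _ _ (Finset.mem_univ (1 : P)), Finset.sum_congr rfl
      (g := fun _ => (χ : G → ℂ) v) ?_, Finset.sum_const,
      Finset.card_erase_of_mem (Finset.mem_univ _), Finset.card_univ, ← Nat.card_eq_fintype_card,
      hP, nsmul_eq_mul, OneMemClass.coe_one] at hm
    swap
    · intro w hw
      obtain ⟨g, hg⟩ := isConj_iff.1 (hfus w (Finset.ne_of_mem_erase hw))
      rw [← hg]
      exact IsIrr.isClassFunction χ.2 _ g
    obtain ⟨h1, -⟩ := H83.charDegree_eq χ.2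
    rw [Nat.cast_sub hp'.one_le, Nat.cast_one] at hm
    have hk : (((p - 1 : ℕ) : ℤ) : ℂ) * (χ : G → ℂ) v =
        (((p : ℤ) * m - charDegree (χ : G → ℂ) : ℤ) : ℂ) := by
      push_cast [Nat.cast_sub hp'.one_le]
      rw [← h1]
      linear_combination hm
    obtain ⟨a, ha⟩ := H83.int_dvd_of_isIntegral (H83.irr_isIntegral χ.2 _)
      (n := ((p - 1 : ℕ) : ℤ)) (by omega) hk
    rw [ha, Int.cast_mul] at hk
    have hva : (χ : G → ℂ) v = a :=
      mul_left_cancel₀ (by exact_mod_cast (show ((p - 1 : ℕ) : ℤ) ≠ 0 by omega)) hk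
    refine ⟨a, m - a, hva, ?_⟩
    rw [h1]
    have ha' : (p : ℤ) * m - (charDegree (χ : G → ℂ) : ℤ) = ((p - 1 : ℕ) : ℤ) * a := ha
    rw [Nat.cast_sub hp'.one_le] at ha'
    push_cast at ha'
    have : (charDegree (χ : G → ℂ) : ℤ) = a + p * (m - a) := by linear_combination -ha'
    exact_mod_cast this
  choose a ma ha hma using hval
  have hdeg : ∀ χ : IrrCharacter G, ∃ d : ℕ, (χ : G → ℂ) 1 = d ∧ d ∣ Nat.card G ∧ 0 < d := fun χ =>
    ⟨_, (H83.charDegree_eq χ.2).1, H83.charDegree_dvd_card χ.2, (H83.charDegree_eq χ.2).2⟩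
  choose d hd hdG hdpos using hdeg
  choose X hX hXd hX4 using fun χ => exists_int_involution hG χ hu hu1 (hd χ)
  have hat : a (triv G) = 1 := by
    have h : ((1 : ℤ) : ℂ) = (a (triv G) : ℂ) := by rw [← ha, Int.cast_one]; rfl
    exact_mod_cast h.symm
  have hdt : d (triv G) = 1 := by
    have h : ((1 : ℕ) : ℂ) = (d (triv G) : ℂ) := by rw [← hd, Nat.cast_one]; rfl
    exact_mod_cast h.symm
  have hXt : X (triv G) = 1 := by
    have h : ((1 : ℤ) : ℂ) = (X (triv G) : ℂ) := by rw [← hX, Int.cast_one]; rfl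
    exact_mod_cast h.symm
  have hmod : ∀ χ, (p : ℤ) ∣ (d χ : ℤ) - a χ := fun χ => ⟨ma χ, by
    have h : ((d χ : ℤ) : ℂ) = ((a χ + p * ma χ : ℤ) : ℂ) := by
      push_cast
      rw [← hd, hma]
    have h' : (d χ : ℤ) = a χ + p * ma χ := by exact_mod_cast h
    linarith⟩
  -- orthogonality
  have hsqa : ∑ χ, a χ ^ 2 = (p : ℤ) := by
    have hCv : centralizer ({(v : G)} : Set G) = P := by
      refine le_antisymm (fun g hg => ?_) (fun g hg => mem_centralizer_singleton_iff.2 ?_)
      · refine (SetLike.ext_iff.1 hC g).1 (mem_centralizer_iff.2 fun w hw => ?_)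
        obtain ⟨k, hk⟩ := mem_zpowers_iff.1
          (mem_zpowers_of_prime_card (G := P) hP (g := v) (g' := ⟨w, hw⟩) hv1)
        have hk : (v : G) ^ k = w := congrArg Subtype.val hk
        rw [← hk]
        exact ((show Commute g (v : G) from mem_centralizer_singleton_iff.1 hg).zpow_right k).symm.eq
      · exact congrArg Subtype.val (φ.injective (by rw [map_mul, map_mul, mul_comm]) :
          (⟨g, hg⟩ : P) * v = v * ⟨g, hg⟩)
    have h := second_orthogonality_self (v : G)
    rw [hCv, hP] at h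
    have h2 : ((∑ χ, a χ ^ 2 : ℤ) : ℂ) = ((p : ℤ) : ℂ) := by
      push_cast
      rw [← h]
      exact Finset.sum_congr rfl fun χ _ => by rw [ha, map_intCast, sq]
    exact_mod_cast h2
  have huP : u ∉ P := fun h => hu1 (by
    simpa using off_of_involution hP (by omega) hu 1 (by simpa using h))
  have hnv1 : ¬ IsConj (1 : G) (v : G) := fun h => hv1 (Subtype.ext (isConj_one_right.1 h))
  have hnvu : ¬ IsConj u (v : G) := fun h => by
    obtain ⟨g, hg⟩ := isConj_iff.1 h
    refine hv1 (Subtype.ext ?_)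
    have h2 : ((v : G)) * v = 1 := by
      rw [← hg, show g * u * g⁻¹ * (g * u * g⁻¹) = g * (u * u) * g⁻¹ by group, hu]; group
    simpa using off_of_involution hP (by omega) h2 1 (by simp)
  have hlin : ∀ (g : G) (f : IrrCharacter G → ℤ), (∀ χ : IrrCharacter G, (χ : G → ℂ) g = f χ) →
      ¬ IsConj g (v : G) → ∑ χ, a χ * f χ = 0 := by
    intro g f hf hg
    have h2 : ((∑ χ, a χ * f χ : ℤ) : ℂ) = ((0 : ℤ) : ℂ) := by
      push_cast
      rw [← second_orthogonality_not_isConj hg]
      exact Finset.sum_congr rfl fun χ _ => by rw [ha, map_intCast, hf]; ring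
    exact_mod_cast h2
  have haD : ∑ χ, a χ * (d χ : ℤ) = 0 := hlin 1 _ (fun χ => by rw [hd]; simp) hnv1
  have haX : ∑ χ, a χ * X χ = 0 := hlin u _ hX hnvu
  have hDD : ∑ χ, (d χ : ℤ) ^ 2 = Nat.card G := by
    have h2 : ((∑ χ, (d χ : ℤ) ^ 2 : ℤ) : ℂ) = ((Nat.card G : ℤ) : ℂ) := by
      push_cast
      rw [← sum_sq_degree]
      exact Finset.sum_congr rfl fun χ _ => by rw [hd]
    exact_mod_cast h2
  have hXX : ∑ χ, X χ ^ 2 = Nat.card (centralizer ({u} : Set G)) := by
    have h2 : ((∑ χ, X χ ^ 2 : ℤ) : ℂ) = ((Nat.card (centralizer ({u} : Set G)) : ℤ) : ℂ) := by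
      push_cast
      rw [← second_orthogonality_self u]
      exact Finset.sum_congr rfl fun χ _ => by rw [hX, map_intCast, sq]
    exact_mod_cast h2
  -- the class multiplication constant is `p`
  have hmultne : ∀ n : normalizer (P : Set G), (n : G) * n = 1 → (n : G) ∉ P →
      mult φ n = -1 := by
    intro n hn hnP
    have h2 : mult φ n * mult φ n = 1 := by
      rw [← mult_mul, show n * n = 1 from Subtype.ext hn, mult_one]
    rcases mul_self_eq_one_iff.1 h2 with h | h
    · refine absurd ((mem_ker_unitHom φ hC n).1 ?_) hnP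
      rw [MonoidHom.mem_ker, Units.ext_iff, coe_unitHom, h, Units.val_one]
    · exact h
  obtain ⟨n₀, hn₀, hm₀⟩ : ∃ n₀ : normalizer (P : Set G), (n₀ : G) = u ∧ mult φ n₀ = -1 :=
    ⟨⟨u, huN⟩, rfl, hmultne _ hu huP⟩
  have hne : (-1 : ZMod p) ≠ 1 := by
    intro h
    have h2 : ((2 : ℕ) : ZMod p) = 0 := by push_cast; linear_combination -h
    have := Nat.le_of_dvd two_pos ((ZMod.natCast_eq_zero_iff 2 p).1 h2)
    omega
  have hcoset : ∀ n : normalizer (P : Set G), mult φ n = -1 → IsConj u (n : G) := by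
    intro n hn
    -- conjugate by a square root of `n u` in `P`
    have hmem : (n : G) * u ∈ P := by
      have h1 : n * n₀ ∈ (unitHom φ).ker := by
        rw [MonoidHom.mem_ker, Units.ext_iff, coe_unitHom, mult_mul, hn, hm₀]; norm_num
      have := (mem_ker_unitHom φ hC _).1 h1
      rwa [Subgroup.coe_mul, hn₀] at this
    obtain ⟨r, hr⟩ := (Nat.Coprime.pow_left_bijective (G := P) (n := 2) (by
      rw [hP]
      exact (Nat.coprime_primes hp' Nat.prime_two).2 (by omega))).2 ⟨_, hmem⟩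
    have hr' : (r : G) * (r : G) = (n : G) * u := by
      rw [← pow_two, ← Subgroup.coe_pow]
      exact congrArg Subtype.val hr
    refine isConj_iff.2 ⟨(r : G), ?_⟩
    have h4 : u * (r : G)⁻¹ = (r : G) * u := by
      have h2 : conjP P n₀ r⁻¹ = r := φ.injective (Multiplicative.toAdd.injective (by
        rw [toAdd_conjP, hm₀, map_inv, toAdd_inv]; ring))
      have h3 : u * (r : G)⁻¹ * u⁻¹ = r := by rw [← hn₀]; exact congrArg Subtype.val h2
      exact mul_inv_eq_iff_eq_mul.1 h3
    rw [mul_assoc, h4, ← mul_assoc, hr', mul_assoc, hu, mul_one]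
  have hcount : Nat.card {b : G // IsConj u b ∧ IsConj u (b⁻¹ * (v : G))} = p := by
    have hinv : ∀ b : G, IsConj u b → b * b = 1 := by
      intro b hb
      obtain ⟨x, rfl⟩ := isConj_iff.1 hb
      rw [show x * u * x⁻¹ * (x * u * x⁻¹) = x * (u * u) * x⁻¹ by group, hu]
      group
    have hto : ∀ b : G, IsConj u b → IsConj u (b⁻¹ * (v : G)) →
        ∃ n : normalizer (P : Set G), (n : G) = b ∧ mult φ n = -1 := by
      intro b hb hbv
      have h1 := hinv b hb
      have h2 := hinv _ hbv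
      have h3 : b * (v : G) * b⁻¹ = (v : G)⁻¹ := by
        rw [inv_eq_of_mul_eq_one_right h1] at h2
        rw [inv_eq_of_mul_eq_one_right h1]
        exact eq_inv_of_mul_eq_one_left (by simpa [mul_assoc] using h2)
      have hbN : b ∈ normalizer (P : Set G) :=
        mem_normalizer_of_conj hP v.2 (fun h => hv1 (Subtype.ext h)) (by rw [h3]; exact inv_mem v.2)
      refine ⟨⟨b, hbN⟩, rfl, hmultne _ h1 fun hbP => hu1 ?_⟩
      have hb1 : b = 1 := by simpa using off_of_involution hP (by omega) h1 1 (by simpa using hbP)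
      exact isConj_one_left.1 (hb1 ▸ hb)
    let f : {b : G // IsConj u b ∧ IsConj u (b⁻¹ * (v : G))} → (unitHom φ).ker := fun b =>
      ⟨(hto b.1 b.2.1 b.2.2).choose * n₀, by
        rw [MonoidHom.mem_ker, Units.ext_iff, coe_unitHom, mult_mul,
          (hto b.1 b.2.1 b.2.2).choose_spec.2, hm₀]
        norm_num⟩
    rw [← (card_U φ hP hC).2]
    refine Nat.card_eq_of_bijective f ⟨fun x y h => ?_, fun w => ?_⟩
    · apply Subtype.ext
      rw [← (hto x.1 x.2.1 x.2.2).choose_spec.1, ← (hto y.1 y.2.1 y.2.2).choose_spec.1,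
        mul_right_cancel (congrArg Subtype.val h)]
    · set n := (w : normalizer (P : Set G)) * n₀⁻¹ with hn
      have hmn : mult φ n = -1 := by
        have h1 : unitHom φ n₀ = -1 := Units.ext (by rw [coe_unitHom, hm₀]; rfl)
        rw [← coe_unitHom, hn, map_mul, map_inv, MonoidHom.mem_ker.1 w.2, one_mul, h1]
        simp
      have hnv : IsConj u ((n : G)⁻¹ * (v : G)) := by
        have hv' : (v : G) ∈ normalizer (P : Set G) := le_normalizer v.2
        have := hcoset (n⁻¹ * ⟨v, hv'⟩) (by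
          have h1 : unitHom φ (⟨(v : G), hv'⟩ : normalizer (P : Set G)) = 1 :=
            MonoidHom.mem_ker.1 ((mem_ker_unitHom φ hC _).2 v.2)
          have h2 : unitHom φ n = -1 := Units.ext (by rw [coe_unitHom, hmn]; rfl)
          rw [← coe_unitHom, map_mul, map_inv, h1, h2]
          simp)
        simpa using this
      refine ⟨⟨(n : G), hcoset n hmn, hnv⟩, ?_⟩
      apply Subtype.ext
      show (hto (n : G) (hcoset n hmn) hnv).choose * n₀ = (w : normalizer (P : Set G))
      rw [Subtype.ext (hto (n : G) (hcoset n hmn) hnv).choose_spec.1, hn, inv_mul_cancel_right]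
  set c := Nat.card (centralizer ({u} : Set G)) with hc
  have hq : ∑ χ, a χ * X χ ^ 2 * ((Nat.card G / d χ : ℕ) : ℤ) = p * (c : ℤ) ^ 2 := by
    have h := H83.card_pairs_mul_card u u (v : G)
    rw [hcount] at h
    set k := (centralizer ({u} : Set G)).index with hk
    have hkc : (k : ℂ) * c = (Nat.card G : ℂ) := by
      exact_mod_cast (centralizer ({u} : Set G)).index_mul_card
    have hG0 : (Nat.card G : ℂ) ≠ 0 := Nat.cast_ne_zero.2 Nat.card_pos.ne'
    have hc0 : (c : ℂ) ≠ 0 := Nat.cast_ne_zero.2 Nat.card_pos.ne'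
    have hk0 : (k : ℂ) ≠ 0 := Nat.cast_ne_zero.2 index_ne_zero_of_finite
    have h2 : ((∑ χ, a χ * X χ ^ 2 * ((Nat.card G / d χ : ℕ) : ℤ) : ℤ) : ℂ) =
        ((p * (c : ℤ) ^ 2 : ℤ) : ℂ) := by
      have hterm : ∀ χ : IrrCharacter G, ((a χ : ℂ) * (X χ : ℂ) ^ 2 * ((Nat.card G / d χ : ℕ) : ℂ)) =
          (Nat.card G : ℂ) * (conj ((χ : G → ℂ) u) * conj ((χ : G → ℂ) u) * (χ : G → ℂ) v /
            (χ : G → ℂ) 1) := by
        intro χ
        rw [hX, ha, hd, map_intCast, Nat.cast_div (hdG χ) (Nat.cast_ne_zero.2 (hdpos χ).ne')]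
        ring
      simp only [Int.cast_sum, Int.cast_mul, Int.cast_pow, Int.cast_natCast]
      rw [Finset.sum_congr rfl (fun χ _ => hterm χ), ← Finset.mul_sum]
      apply mul_left_cancel₀ (mul_ne_zero hk0 hk0)
      calc (k : ℂ) * k * ((Nat.card G : ℂ) * ∑ χ : IrrCharacter G,
            conj ((χ : G → ℂ) u) * conj ((χ : G → ℂ) u) * (χ : G → ℂ) v / (χ : G → ℂ) 1)
          = (Nat.card G : ℂ) * ((k : ℂ) * k * ∑ χ : IrrCharacter G,
            conj ((χ : G → ℂ) u) * conj ((χ : G → ℂ) u) * (χ : G → ℂ) v / (χ : G → ℂ) 1) := by ring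
        _ = (Nat.card G : ℂ) * ((Nat.card G : ℂ) * p) := by rw [← h]
        _ = (k : ℂ) * k * ((p : ℂ) * (c : ℂ) ^ 2) := by rw [← hkc]; ring
    exact_mod_cast h2
  -- the rows
  let T : Finset (IrrCharacter G) := Finset.univ.filter fun χ => χ ≠ triv G ∧ a χ ≠ 0
  let row : IrrCharacter G → Row := fun χ => (a χ, d χ, X χ)
  have hsplit : ∀ f : IrrCharacter G → ℤ,
      ∑ χ, f χ = f (triv G) + ∑ χ ∈ T, f χ +
        ∑ χ ∈ Finset.univ.filter (fun χ => χ ≠ triv G ∧ a χ = 0), f χ := by
    intro f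
    rw [← Finset.add_sum_erase _ _ (Finset.mem_univ (triv G)), add_assoc,
      ← Finset.sum_filter_add_sum_filter_not (Finset.univ.erase (triv G)) (fun χ => a χ ≠ 0)]
    congr 2 <;> refine Finset.sum_congr ?_ fun _ _ => rfl <;> ext χ <;> simp [T]
  have hlist : ∀ f : Row → ℤ, ((T.toList.map row).map f).sum = ∑ χ ∈ T, f (row χ) := by
    intro f
    rw [List.map_map, Finset.sum_map_toList]
    rfl
  have hz : ∀ f : IrrCharacter G → ℤ, (∀ χ, a χ = 0 → f χ = 0) →
      ∑ χ ∈ Finset.univ.filter (fun χ => χ ≠ triv G ∧ a χ = 0), f χ = 0 :=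
    fun f hf => Finset.sum_eq_zero fun χ hχ => hf χ (Finset.mem_filter.1 hχ).2.2
  set R := Finset.univ.filter (fun χ => χ ≠ triv G ∧ a χ = 0) with hR
  refine ⟨T.toList.map row, ?_, ?_, ?_, ?_, ?_, ?_, ?_, ?_⟩
  · intro r hr
    obtain ⟨χ, hχ, rfl⟩ := List.mem_map.1 hr
    obtain ⟨hχt, hχa⟩ := (Finset.mem_filter.1 (Finset.mem_toList.1 hχ)).2
    obtain ⟨d', hd2, hd', -⟩ := exists_degree_two_le hG hχt
    have hdd : d χ = d' := by exact_mod_cast (hd χ).symm.trans hd'
    exact ⟨hχa, show 2 ≤ d χ by rw [hdd]; exact hd2, hdG χ, hmod χ, hXd χ, hX4 χ⟩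
  · rw [hlist]
    have h := hsplit fun χ => a χ ^ 2
    rw [hsqa, hz _ (fun χ hχ => by rw [hχ]; norm_num), hat] at h
    simp only [row]; linarith
  · rw [hlist]
    have h := hsplit fun χ => a χ * (d χ : ℤ)
    rw [haD, hz _ (fun χ hχ => by rw [hχ, zero_mul]), hat, hdt] at h
    simp only [row]; push_cast at h; linarith
  · rw [hlist]
    have h := hsplit fun χ => a χ * X χ
    rw [haX, hz _ (fun χ hχ => by rw [hχ, zero_mul]), hat, hXt] at h
    simp only [row]; linarith
  · rw [hlist]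
    have h := hsplit fun χ => (d χ : ℤ) ^ 2
    rw [hDD, hdt] at h
    have : 0 ≤ ∑ χ ∈ R, (d χ : ℤ) ^ 2 := Finset.sum_nonneg fun χ _ => sq_nonneg _
    simp only [row]; push_cast at h; linarith
  · rw [hlist]
    have h := hsplit fun χ => X χ ^ 2
    rw [hXX, hXt] at h
    have : 0 ≤ ∑ χ ∈ R, X χ ^ 2 := Finset.sum_nonneg fun χ _ => sq_nonneg _
    simp only [row]; linarith
  · rw [hlist]
    have h := hsplit fun χ => a χ * X χ ^ 2 * ((Nat.card G / d χ : ℕ) : ℤ)
    rw [hq, hz _ (fun χ hχ => by rw [hχ]; ring), hat, hXt, hdt, Nat.div_one] at h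
    simp only [row]; push_cast at h ⊢; linarith
  · rw [hlist, hlist]
    intro hfull
    have h := hsplit fun χ => X χ ^ 2
    rw [hXX, hXt] at h
    have h0 : ∑ χ ∈ R, X χ ^ 2 = 0 := by simp only [row] at hfull; linarith
    have hX0 : ∀ χ ∈ R, X χ = 0 := fun χ hχ => by
      have := (Finset.sum_eq_zero_iff_of_nonneg fun χ _ => sq_nonneg (X χ)).1 h0 χ hχ
      simpa using this
    have hD := hsplit fun χ => (d χ : ℤ) ^ 2
    rw [hDD, hdt] at hD
    have heq : (Nat.card G : ℤ) - 1 - ∑ χ ∈ T, (d χ : ℤ) ^ 2 = ∑ χ ∈ R, (d χ : ℤ) ^ 2 := by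
      push_cast at hD; linarith
    simp only [row]
    rw [heq]
    refine Finset.dvd_sum fun χ hχ => ?_
    have h4 : (4 : ℤ) ∣ (d χ : ℤ) := by
      have := hX4 χ
      rwa [hX0 χ hχ, sub_zero] at this
    have hpd : (p : ℤ) ∣ (d χ : ℤ) := by
      have := hmod χ
      rwa [(Finset.mem_filter.1 hχ).2.2, sub_zero] at this
    have h4p : (4 * (p : ℤ)) ∣ (d χ : ℤ) := by
      have hcop : Nat.Coprime 4 p :=
        ((Nat.coprime_primes Nat.prime_two hp').2 (by omega)).pow_left 2
      exact_mod_cast Nat.Coprime.mul_dvd_of_dvd_of_dvd hcop (by exact_mod_cast h4)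
        (by exact_mod_cast hpd : p ∣ d χ)
    obtain ⟨t, ht⟩ := h4p
    exact ⟨t ^ 2, by rw [ht]; ring⟩

/-! ## The finite search -/

/-- The candidates: value on `P`, degree, and the values allowed at the involution. -/
def groups (n p : ℕ) (divs : List ℕ) : List (ℤ × ℕ) :=
  ((divs.filter fun d => 2 ≤ d && d * d < n).flatMap fun d : ℕ =>
    (List.range (2 * p + 1)).filterMap fun i : ℕ =>
      let a : ℤ := (i : ℤ) - p
      if a ≠ 0 ∧ a ^ 2 < p ∧ ((d : ℤ) - a) % p = 0 then some (a, d) else none)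

/-- Values allowed at the involution. -/
def values (d : ℕ) (c : ℕ) : List ℤ :=
  (List.range (2 * d + 1)).filterMap fun i : ℕ =>
    let x : ℤ := (i : ℤ) - d
    if ((d : ℤ) - x) % 4 = 0 ∧ x ^ 2 < c then some x else none

/-- Choose `k` values (with repetition) for a group. -/
def pickX (cont : ℤ → ℤ → ℤ → Bool) (a m : ℤ) : List ℤ → ℕ → ℤ → ℤ → ℤ → Bool
  | [], k, x2, sx, q => k != 0 || cont x2 sx q
  | X :: r, k, x2, sx, q => (List.range (k + 1)).all fun j =>
      decide (x2 < (j : ℤ) * X ^ 2) ||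
        pickX cont a m r (k - j) (x2 - j * X ^ 2) (sx + j * (a * X)) (q + j * (a * X ^ 2 * m))

/-- The second stage: values at the involution. -/
def stage₂ (n c : ℕ) (final : ℤ → ℤ → Bool) : List ((ℤ × ℕ) × ℕ) → ℤ → ℤ → ℤ → ℤ → Bool
  | [], _, x2, sx, q => decide (sx ≠ 0) || final x2 q
  | ((a, d), k) :: r, w, x2, sx, q => decide (w * x2 < sx ^ 2) ||
      pickX (stage₂ n c final r (w - k * a ^ 2)) a (n / d : ℕ) (values d c) k x2 sx q

/-- The first stage: multiplicities of the candidates. -/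
def stage₁ (n p c : ℕ) : List (ℤ × ℕ) → ℤ → ℤ → ℤ → List ((ℤ × ℕ) × ℕ) → Bool
  | [], w, d2, sd, ch => decide (w ≠ 0) || decide (sd ≠ 0) ||
      stage₂ n c (fun x2 q => decide (q ≠ (p : ℤ) * (c : ℤ) ^ 2) ||
        (decide (x2 = 0) && decide (d2 % (16 * (p : ℤ) ^ 2) ≠ 0))) ch ((p : ℤ) - 1) ((c : ℤ) - 1) 1 n
  | (a, d) :: r, w, d2, sd, ch => decide (w * d2 < sd ^ 2) ||
      (List.range (p + 1)).all fun k =>
        decide (w < (k : ℤ) * a ^ 2) || decide (d2 < (k : ℤ) * (d : ℤ) ^ 2) ||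
          stage₁ n p c r (w - k * a ^ 2) (d2 - k * (d : ℤ) ^ 2) (sd + k * (a * d))
            (if k = 0 then ch else ((a, d), k) :: ch)

/-- `search n p c divs = true` when the equations have no solution. -/
def search (n p c : ℕ) (divs : List ℕ) : Bool :=
  stage₁ n p c (groups n p divs) ((p : ℤ) - 1) ((n : ℤ) - 1) 1 []

theorem sq_sum_map_mul_le {α : Type*} (L : List α) (f g : α → ℤ) :
    (L.map fun r => f r * g r).sum ^ 2 ≤
      (L.map fun r => f r ^ 2).sum * (L.map fun r => g r ^ 2).sum := by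
  have h := Finset.sum_mul_sq_le_sq_mul_sq Finset.univ (fun i : Fin L.length => f L[i.1])
    (fun i : Fin L.length => g L[i.1])
  have e : ∀ F : α → ℤ, ∑ i : Fin L.length, F L[i.1] = (L.map F).sum := fun F => by
    rw [← Fin.sum_univ_fun_getElem]
  rw [e (fun r => f r * g r), e (fun r => f r ^ 2), e (fun r => g r ^ 2)] at h
  exact h

theorem pickX_sound (cont : ℤ → ℤ → ℤ → Bool) (a m : ℤ) :
    ∀ (r : List ℤ) (k : ℕ) (x2 sx q : ℤ), pickX cont a m r k x2 sx q = true →
      ∀ xs : List ℤ, (∀ x ∈ xs, x ∈ r) → xs.length = k → (xs.map fun x => x ^ 2).sum ≤ x2 →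
        cont (x2 - (xs.map fun x => x ^ 2).sum) (sx + (xs.map fun x => a * x).sum)
          (q + (xs.map fun x => a * x ^ 2 * m).sum) = true
  | [], k, x2, sx, q, h, xs, hmem, hlen, _ => by
    obtain rfl : xs = [] := List.eq_nil_iff_forall_not_mem.2 fun x hx => List.not_mem_nil (hmem x hx)
    subst hlen
    simpa [pickX] using h
  | X :: r, k, x2, sx, q, h, xs, hmem, hlen, hle => by
    simp only [pickX, List.all_eq_true, List.mem_range, Bool.or_eq_true, decide_eq_true_eq] at h
    set A := xs.filter fun x => x = X with hA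
    set B := xs.filter fun x => !decide (x = X) with hB
    have hperm : (A ++ B).Perm xs := List.filter_append_perm (fun x => decide (x = X)) xs
    have hAc : ∀ x ∈ A, x = X := fun x hx => by simpa [hA] using (List.mem_filter.1 hx).2
    have hs : ∀ f : ℤ → ℤ, (xs.map f).sum = A.length * f X + (B.map f).sum := by
      intro f
      rw [← (hperm.map f).sum_eq, List.map_append, List.sum_append]
      congr 1
      rw [List.sum_eq_card_nsmul _ (f X) (fun y hy => by
        obtain ⟨x, hx, rfl⟩ := List.mem_map.1 hy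
        rw [hAc x hx]), List.length_map, nsmul_eq_mul]
    have hlen' : A.length + B.length = k := by
      rw [← List.length_append, hperm.length_eq, hlen]
    rw [hs] at hle
    have hBnn : 0 ≤ (B.map fun x => x ^ 2).sum := List.sum_nonneg fun y hy => by
      obtain ⟨x, -, rfl⟩ := List.mem_map.1 hy; positivity
    rcases h A.length (by omega) with h' | h'
    · exfalso; linarith
    have := pickX_sound cont a m r (k - A.length) _ _ _ h' B (fun x hx => by
      obtain ⟨hx1, hx2⟩ := List.mem_filter.1 hx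
      rcases List.mem_cons.1 (hmem x hx1) with hh | hh
      · simp [hh] at hx2
      · exact hh) (by omega) (by linarith)
    rw [hs, hs, hs]
    convert this using 2 <;> ring

/-- A decomposition of the rows along the chosen multiplicities. -/
inductive Fits (c : ℕ) : List ((ℤ × ℕ) × ℕ) → List Row → Prop
  | nil : Fits c [] []
  | cons {a : ℤ} {d : ℕ} {k : ℕ} {ch : List ((ℤ × ℕ) × ℕ)} {A B : List Row} (hA : A.length = k)
      (hrows : ∀ r ∈ A, r.1 = a ∧ r.2.1 = d ∧ r.2.2 ∈ values d c) (hB : Fits c ch B) :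
      Fits c (((a, d), k) :: ch) (A ++ B)

theorem stage₂_sound {n c : ℕ} {final : ℤ → ℤ → Bool} {ch : List ((ℤ × ℕ) × ℕ)} {L : List Row}
    (hfit : Fits c ch L) : ∀ (w x2 sx q : ℤ), stage₂ n c final ch w x2 sx q = true →
      (L.map fun r : Row => r.1 ^ 2).sum = w → (L.map fun r : Row => r.2.2 ^ 2).sum ≤ x2 →
      sx + (L.map fun r : Row => r.1 * r.2.2).sum = 0 →
      final (x2 - (L.map fun r : Row => r.2.2 ^ 2).sum)
        (q + (L.map fun r : Row => r.1 * r.2.2 ^ 2 * ((n / r.2.1 : ℕ) : ℤ)).sum) = true := by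
  induction hfit with
  | nil =>
    intro w x2 sx q h _ _ hsx
    simp only [List.map_nil, List.sum_nil, add_zero] at hsx
    simpa [stage₂, hsx] using h
  | @cons a d k ch A B hA hrows _ ih =>
    intro w x2 sx q h hw hx hsx
    rw [stage₂, Bool.or_eq_true, decide_eq_true_eq] at h
    rcases h with h | h
    · exfalso
      have hcs := sq_sum_map_mul_le (A ++ B) (fun r => r.1) (fun r => r.2.2)
      rw [hw, show ((A ++ B).map fun r : Row => r.1 * r.2.2).sum = -sx by linarith, neg_sq] at hcs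
      have hw0 : 0 ≤ w := hw ▸ List.sum_nonneg fun y hy => by
        obtain ⟨r, -, rfl⟩ := List.mem_map.1 hy; positivity
      nlinarith [mul_le_mul_of_nonneg_left hx hw0]
    have hAeq : ∀ f g : Row → ℤ, (∀ r ∈ A, f r = g r) → (A.map f).sum = (A.map g).sum :=
      fun f g hfg => by rw [List.map_congr_left hfg]
    simp only [List.map_append, List.sum_append] at hw hx hsx ⊢
    have hB0 : 0 ≤ (B.map fun r : Row => r.2.2 ^ 2).sum := List.sum_nonneg fun y hy => by
      obtain ⟨r, -, rfl⟩ := List.mem_map.1 hy; positivity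
    have h1 := pickX_sound _ _ _ _ _ _ _ _ h (A.map fun r => r.2.2)
      (fun x hx' => by
        obtain ⟨r, hr, rfl⟩ := List.mem_map.1 hx'
        exact (hrows r hr).2.2)
      (by rw [List.length_map, hA]) (by rw [List.map_map]; simp only [Function.comp_def]; linarith)
    simp only [List.map_map, Function.comp_def] at h1
    have e1 : (A.map fun r : Row => r.1 * r.2.2).sum = (A.map fun r : Row => a * r.2.2).sum :=
      hAeq _ _ fun r hr => by rw [(hrows r hr).1]
    have e2 : (A.map fun r : Row => r.1 * r.2.2 ^ 2 * ((n / r.2.1 : ℕ) : ℤ)).sum =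
        (A.map fun r : Row => a * r.2.2 ^ 2 * ((n / d : ℕ) : ℤ)).sum :=
      hAeq _ _ fun r hr => by rw [(hrows r hr).1, (hrows r hr).2.1]
    have e3 : (A.map fun r : Row => r.1 ^ 2).sum = k * a ^ 2 := by
      rw [hAeq _ (fun _ => a ^ 2) fun r hr => by rw [(hrows r hr).1], List.map_const',
        List.sum_replicate, nsmul_eq_mul, hA]
    have := ih _ _ _ _ h1 (by linarith) (by linarith) (by rw [e1] at hsx; linarith)
    rw [e2]
    convert this using 2 <;> ring

theorem stage₁_sound {n p c : ℕ} :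
    ∀ (gs : List (ℤ × ℕ)) (w d2 sd : ℤ) (ch : List ((ℤ × ℕ) × ℕ)) (Lp Lr : List Row),
      stage₁ n p c gs w d2 sd ch = true → Fits c ch Lp →
      (∀ r ∈ Lr, (r.1, r.2.1) ∈ gs ∧ r.1 ≠ 0 ∧ r.2.2 ∈ values r.2.1 c) →
      (Lr.map fun r : Row => r.1 ^ 2).sum = w → (Lr.map fun r : Row => (r.2.1 : ℤ) ^ 2).sum ≤ d2 →
      sd + (Lr.map fun r : Row => r.1 * (r.2.1 : ℤ)).sum = 0 → w ≤ p →
      ∃ (L : List Row) (ch' : List ((ℤ × ℕ) × ℕ)), L.Perm (Lp ++ Lr) ∧ Fits c ch' L ∧
        stage₂ n c (fun x2 q => decide (q ≠ (p : ℤ) * (c : ℤ) ^ 2) ||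
          (decide (x2 = 0) && decide ((d2 - (Lr.map fun r : Row => (r.2.1 : ℤ) ^ 2).sum) %
            (16 * (p : ℤ) ^ 2) ≠ 0))) ch' ((p : ℤ) - 1) ((c : ℤ) - 1) 1 n = true
  | [], w, d2, sd, ch, Lp, Lr, h, hfit, hrows, hw, _, hsd, _ => by
    obtain rfl : Lr = [] := List.eq_nil_iff_forall_not_mem.2 fun r hr =>
      List.not_mem_nil (hrows r hr).1
    simp only [List.map_nil, List.sum_nil, add_zero] at hw hsd
    refine ⟨Lp, ch, by simp, hfit, ?_⟩
    simpa [stage₁, ← hw, hsd] using h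
  | (a, d) :: gs, w, d2, sd, ch, Lp, Lr, h, hfit, hrows, hw, hd2, hsd, hwp => by
    rw [stage₁, Bool.or_eq_true, decide_eq_true_eq] at h
    rcases h with h | h
    · exfalso
      have hcs := sq_sum_map_mul_le Lr (fun r => r.1) (fun r : Row => (r.2.1 : ℤ))
      rw [hw, show (Lr.map fun r : Row => r.1 * (r.2.1 : ℤ)).sum = -sd by linarith, neg_sq] at hcs
      have hw0 : 0 ≤ w := hw ▸ List.sum_nonneg fun y hy => by
        obtain ⟨r, -, rfl⟩ := List.mem_map.1 hy; positivity
      nlinarith [mul_le_mul_of_nonneg_left hd2 hw0]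
    set A := Lr.filter fun r => decide ((r.1, r.2.1) = (a, d)) with hA
    set B := Lr.filter fun r => !decide ((r.1, r.2.1) = (a, d)) with hB
    have hperm : (A ++ B).Perm Lr :=
      List.filter_append_perm (fun r : Row => decide ((r.1, r.2.1) = (a, d))) Lr
    have hAr : ∀ r ∈ A, r.1 = a ∧ r.2.1 = d ∧ r.2.2 ∈ values d c := by
      intro r hr
      obtain ⟨hr1, hr2⟩ := List.mem_filter.1 hr
      simp only [decide_eq_true_eq, Prod.mk.injEq] at hr2
      exact ⟨hr2.1, hr2.2, hr2.2 ▸ (hrows r hr1).2.2⟩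
    have hBr : ∀ r ∈ B, (r.1, r.2.1) ∈ gs ∧ r.1 ≠ 0 ∧ r.2.2 ∈ values r.2.1 c := by
      intro r hr
      obtain ⟨hr1, hr2⟩ := List.mem_filter.1 hr
      obtain ⟨h1, h2⟩ := hrows r hr1
      rcases List.mem_cons.1 h1 with hh | hh
      · simp [hh] at hr2
      · exact ⟨hh, h2⟩
    have hs : ∀ f : Row → ℤ, ∀ b : ℤ, (∀ r ∈ A, f r = b) →
        (Lr.map f).sum = A.length * b + (B.map f).sum := by
      intro f b hb
      rw [← (hperm.map f).sum_eq, List.map_append, List.sum_append]
      congr 1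
      rw [List.sum_eq_card_nsmul _ b (fun y hy => by
        obtain ⟨x, hx, rfl⟩ := List.mem_map.1 hy
        exact hb x hx), List.length_map, nsmul_eq_mul]
    have s1 := hs (fun r : Row => r.1 ^ 2) (a ^ 2) fun r hr => by rw [(hAr r hr).1]
    have s2 := hs (fun r : Row => (r.2.1 : ℤ) ^ 2) ((d : ℤ) ^ 2) fun r hr => by rw [(hAr r hr).2.1]
    have s3 := hs (fun r : Row => r.1 * (r.2.1 : ℤ)) (a * d) fun r hr => by rw [(hAr r hr).1, (hAr r hr).2.1]
    have hB1 : 0 ≤ (B.map fun r : Row => r.1 ^ 2).sum := List.sum_nonneg fun y hy => by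
      obtain ⟨r, -, rfl⟩ := List.mem_map.1 hy; positivity
    have hB2 : 0 ≤ (B.map fun r : Row => (r.2.1 : ℤ) ^ 2).sum := List.sum_nonneg fun y hy => by
      obtain ⟨r, -, rfl⟩ := List.mem_map.1 hy; positivity
    have hkp : A.length < p + 1 := by
      rcases Nat.eq_zero_or_pos A.length with h0 | h0
      · omega
      obtain ⟨r, hr⟩ := List.exists_mem_of_length_pos h0
      have ha0 : 1 ≤ a ^ 2 := by
        have h2 : a ≠ 0 := (hAr r hr).1 ▸ (hrows r (List.mem_filter.1 hr).1).2.1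
        have := Int.one_le_abs h2
        nlinarith [sq_abs a]
      have hm := mul_le_mul_of_nonneg_left ha0 (show (0 : ℤ) ≤ (A.length : ℤ) by positivity)
      have : (A.length : ℤ) < p + 1 := by linarith
      exact_mod_cast this
    simp only [List.all_eq_true, List.mem_range, Bool.or_eq_true, decide_eq_true_eq] at h
    rcases h A.length hkp with (h' | h') | h'
    · exfalso; linarith
    · exfalso; linarith
    have hfit' : ∃ Lp', Lp'.Perm (A ++ Lp) ∧
        Fits c (if A.length = 0 then ch else ((a, d), A.length) :: ch) Lp' := by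
      by_cases h0 : A.length = 0
      · rw [if_pos h0, List.length_eq_zero_iff.1 h0]
        exact ⟨Lp, by simp, hfit⟩
      · rw [if_neg h0]
        exact ⟨A ++ Lp, List.Perm.refl _, Fits.cons rfl hAr hfit⟩
    obtain ⟨Lp', hpLp, hfit'⟩ := hfit'
    have ha2 : 0 ≤ (A.length : ℤ) * a ^ 2 := by positivity
    obtain ⟨L, ch', hL, hLfit, hres⟩ := stage₁_sound gs _ _ _ _ Lp' B h' hfit' hBr
      (by linarith) (by linarith) (by linarith) (by linarith)
    refine ⟨L, ch', hL.trans ?_, hLfit, ?_⟩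
    · refine (hpLp.append_right B).trans ?_
      exact (((List.perm_append_comm (l₁ := A) (l₂ := Lp)).append_right B).trans
        (by rw [List.append_assoc])).trans (hperm.append_left Lp)
    · rw [s2]
      convert hres using 6
      ring_nf

/-- A group as in the file header does not exist when `search` finds no solution. -/
theorem false_of_search {n c : ℕ} [IsSimpleGroup G] (hG : ¬ IsMulCommutative G)
    (hP : Nat.card P = p) (hC : centralizer (P : Set G) = P)
    (he : P.relIndex (normalizer (P : Set G)) = p - 1) (hp : 3 ≤ p) {u : G} (hu : u * u = 1)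
    (hu1 : u ≠ 1) (huN : u ∈ normalizer (P : Set G)) (hn : Nat.card G = n)
    (hc : Nat.card (centralizer ({u} : Set G)) = c) (divs : List ℕ)
    (hdivs : ∀ d, d ∣ n → d ∈ divs) (hsearch : search n p c divs = true) : False := by
  obtain ⟨L, hrows, hw, hsd, hsx, hd2, hx2, hq, hfull⟩ :=
    exists_rows hG hP hC he hp hu hu1 huN
  rw [hn] at hrows hd2 hq hfull
  rw [hc] at hx2 hq hfull
  have hsingle : ∀ (f : Row → ℤ), ∀ r ∈ L, (∀ x ∈ L, 0 ≤ f x) → f r ≤ (L.map f).sum :=
    fun f r hr hf => List.single_le_sum (fun y hy => by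
      obtain ⟨x, hx, rfl⟩ := List.mem_map.1 hy; exact hf x hx) _ (List.mem_map.2 ⟨r, hr, rfl⟩)
  have hmem : ∀ r ∈ L, (r.1, r.2.1) ∈ groups n p divs ∧ r.1 ≠ 0 ∧ r.2.2 ∈ values r.2.1 c := by
    intro r hr
    obtain ⟨h1, h2, h3, h4, h5, h6⟩ := hrows r hr
    have hd : (r.2.1 : ℤ) ^ 2 < n := by
      have := hsingle (fun r : Row => (r.2.1 : ℤ) ^ 2) r hr fun x _ => sq_nonneg _
      linarith
    have ha : r.1 ^ 2 < p := by
      have := hsingle (fun r : Row => r.1 ^ 2) r hr fun x _ => sq_nonneg _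
      linarith
    have hX : r.2.2 ^ 2 < c := by
      have := hsingle (fun r : Row => r.2.2 ^ 2) r hr fun x _ => sq_nonneg _
      linarith
    have habs : r.1.natAbs ≤ p := by
      have h7 := Int.natAbs_le_self_sq r.1
      rw [pow_two] at h7 ha
      omega
    refine ⟨?_, h1, ?_⟩
    · rw [groups, List.mem_flatMap]
      refine ⟨r.2.1, List.mem_filter.2 ⟨hdivs _ h3, ?_⟩, List.mem_filterMap.2
        ⟨(r.1 + p).toNat, List.mem_range.2 (by omega), ?_⟩⟩
      · rw [Bool.and_eq_true, decide_eq_true_eq, decide_eq_true_eq]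
        refine ⟨h2, ?_⟩
        rw [pow_two] at hd
        exact_mod_cast hd
      · have e : ((r.1 + p).toNat : ℤ) - p = r.1 := by omega
        simp only [e]
        rw [if_pos ⟨h1, ha, Int.emod_eq_zero_of_dvd h4⟩]
    · rw [values, List.mem_filterMap]
      refine ⟨(r.2.2 + r.2.1).toNat, List.mem_range.2 (by omega), ?_⟩
      have e : ((r.2.2 + r.2.1).toNat : ℤ) - r.2.1 = r.2.2 := by omega
      simp only [e]
      rw [if_pos ⟨Int.emod_eq_zero_of_dvd h6, hX⟩]
  obtain ⟨L', ch', hperm, hfit, hres⟩ := stage₁_sound (c := c) _ _ _ _ [] [] L hsearch Fits.nil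
    hmem (by linarith) (by linarith) (by linarith) (by omega)
  rw [List.nil_append] at hperm
  have hsum : ∀ f : Row → ℤ, (L'.map f).sum = (L.map f).sum := fun f => (hperm.map f).sum_eq
  have := stage₂_sound hfit _ _ _ _ hres (by rw [hsum]; linarith) (by rw [hsum]; linarith)
    (by rw [hsum]; linarith)
  rw [hsum, hsum, Bool.or_eq_true, Bool.and_eq_true, decide_eq_true_eq, decide_eq_true_eq,
    decide_eq_true_eq] at this
  rcases this with h | ⟨h1, h2⟩
  · exact h (by linarith)
  · exact h2 (Int.emod_eq_zero_of_dvd (hfull (by linarith)))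

end Cfsg.Agent.H36.FullNormalizer
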