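import Cfsg.Agent.H36.SmallComplement
import Cfsg.Agent.H36.FullNormalizer
import Cfsg.Agent.H36.SmallInvolution
import Cfsg.Agent.H36.TwoLocal

/-!
# No simple group of order 4320
-/

set_option autoImplicit false
set_option linter.unusedSectionVars false
set_option linter.style.haveILetI false
set_option maxRecDepth 100000

namespace Cfsg.Agent.H36

open Subgroup

theorem search_4320 : ∀ c ∈ ([16, 32, 48, 80, 96, 144, 160] : List ℕ),
    FullNormalizer.search 4320 5 c (divProds [32, 27, 5]) = true := by decide +kernel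

theorem centralizer_candidates_4320 : ∀ f ∈ List.range 45, 4 ∣ 216 - f → 4 * f ∣ 4320 → 16 ∣ 4 * f →
    4 * f ∈ ([16, 32, 48, 80, 96, 144, 160] : List ℕ) := by decide +kernel

section

variable {G : Type*} [Group G] [Finite G] [IsSimpleGroup G] [Fact (Nat.Prime 5)]

theorem sixteen_dvd_centralizer_4320 (hn : Nat.card G = 4320) (hG : ¬ IsMulCommutative G) {u : G}
    (hu : orderOf u = 2) : 16 ∣ Nat.card (centralizer ({u} : Set G)) := by
  by_contra h
  exact false_of_small_involution hG hu (n := 5) (k := 3) (Or.inr ⟨le_rfl, le_rfl⟩)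
    (by rw [hn]; norm_num) (by rw [hn]; norm_num) (by simpa using h)

theorem centralizer_ne_top_of_ne_one (hG : ¬ IsMulCommutative G) {u : G} (hu : u ≠ 1) :
    centralizer ({u} : Set G) ≠ ⊤ := by
  intro h
  apply hu
  have : u ∈ center G := mem_center_iff.2 fun x =>
    mem_centralizer_singleton_iff.1 (h ▸ mem_top x : x ∈ centralizer ({u} : Set G))
  rwa [center_eq_bot_of_simple hG, mem_bot] at this

theorem false_4320_c1 (hn : Nat.card G = 4320) (hG : ¬ IsMulCommutative G) (P : Sylow 5 G)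
    (hP : Nat.card (P : Subgroup G) = 5) (hk : Nat.card (Sylow 5 G) = 216)
    (hC : Nat.card (centralizer ((P : Subgroup G) : Set G)) = 5 * 1) : False := by
  classical
  haveI := Fintype.ofFinite G
  haveI : Fact (Nat.Prime 2) := ⟨Nat.prime_two⟩
  set N := normalizer ((P : Subgroup G) : Set G) with hNdef
  have hN : Nat.card N = 20 := card_normalizer_of_card_sylow P hn hk (by norm_num)
  haveI : IsCyclic (P : Subgroup G) := isCyclic_of_prime_card hP
  letI : CommGroup (P : Subgroup G) := IsCyclic.commGroup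
  have hCP : centralizer ((P : Subgroup G) : Set G) = P := by
    refine (eq_of_le_of_card_ge (fun a ha b hb => ?_) (le_of_eq (hC.trans hP.symm))).symm
    exact congrArg Subtype.val (mul_comm (⟨b, hb⟩ : (P : Subgroup G)) ⟨a, ha⟩)
  obtain ⟨⟨u, huN⟩, hu'⟩ := exists_prime_orderOf_dvd_card' (G := N) 2 (by rw [hN]; norm_num)
  have hu : orderOf u = 2 := by rw [← hu']; exact (orderOf_mk u huN).symm
  have huu : u * u = 1 := by rw [← pow_two, ← hu, pow_orderOf_eq_one]
  have hu1 : u ≠ 1 := fun h => by rw [h, orderOf_one] at hu; omega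
  have he : (P : Subgroup G).relIndex N = 5 - 1 := by
    have h := card_normalizer_eq_mul (P : Subgroup G)
    rw [← hNdef, hN, hCP, hP] at h
    omega
  obtain ⟨f, hf, hf1, hf4⟩ := exists_card_centralizer_involution hG P hP (by norm_num) hCP
    (by rw [hN]) (m := 43) (by rw [hk]) huu hu1 huN
  have h16 := sixteen_dvd_centralizer_4320 hn hG hu
  have hdvd : 4 * f ∣ 4320 := by
    have := card_subgroup_dvd_card (centralizer ({u} : Set G))
    rwa [hn, hf] at this
  rw [hf] at h16
  exact FullNormalizer.false_of_search hG hP hCP he (by norm_num) huu hu1 huN hn hf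
    (divProds [32, 27, 5]) (fun d hd => mem_divProds _ (by simp) d (by simpa using hd))
    (search_4320 _ (centralizer_candidates_4320 f (List.mem_range.2 (by omega)) hf4 hdvd h16))

theorem false_4320_c2 (hn : Nat.card G = 4320) (hG : ¬ IsMulCommutative G) (P : Sylow 5 G)
    (hP : Nat.card (P : Subgroup G) = 5) (hk : Nat.card (Sylow 5 G) = 216)
    (hC : Nat.card (centralizer ((P : Subgroup G) : Set G)) = 5 * 2) : False := by
  classical
  haveI : Fact (Nat.Prime 2) := ⟨Nat.prime_two⟩
  set N := normalizer ((P : Subgroup G) : Set G) with hNdef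
  have hN : Nat.card N = 20 := card_normalizer_of_card_sylow P hn hk (by norm_num)
  obtain ⟨D, hDC, hD, -, hDN⟩ := exists_centralizer_complement hP hC (by norm_num)
  obtain ⟨⟨u, huD⟩, hu'⟩ := exists_prime_orderOf_dvd_card' (G := D) 2 (by rw [hD])
  have hu : orderOf u = 2 := by rw [← hu']; exact (orderOf_mk u huD).symm
  have hu1 : u ≠ 1 := fun h => by rw [h, orderOf_one] at hu; omega
  set M := centralizer ({u} : Set G)
  have hNM : N ≤ M := by
    have h := relIndex_centralizer_lt D N hDN huD hu1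
    rw [hD] at h
    refine relIndex_eq_one.1 ?_
    exact Nat.le_antisymm (Nat.lt_succ_iff.1 h) (Nat.one_le_iff_ne_zero.2 FiniteIndex.index_ne_zero)
  obtain ⟨hd, hdG, hM⟩ := card_eq_inf_mul P (le_normalizer.trans hNM)
  rw [inf_eq_left.2 hNM, hN] at hM
  rw [hn] at hdG
  have h16 := sixteen_dvd_centralizer_4320 hn hG hu
  have hMn : 20 * Nat.card (Sylow 5 M) ∣ 4320 := by
    have := card_subgroup_dvd_card M
    rwa [hM, hn] at this
  rw [hM] at h16
  have hne : 20 * Nat.card (Sylow 5 M) ≠ 4320 := fun h =>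
    centralizer_ne_top_of_ne_one hG hu1 (eq_top_of_card_eq M (by rw [hM, h, hn]))
  have key : ∀ d ∈ divProds [32, 27, 5], d % 5 = 1 → 20 * d ∣ 4320 → 16 ∣ 20 * d →
      20 * d ≠ 4320 → ¬ 4320 ∣ (4320 / (20 * d)).factorial := by decide +kernel
  exact key _ (mem_divProds _ (by simp) _ (by simpa using hdG)) hd hMn h16 hne
    (card_dvd_factorial_of_card hn hM hne)

theorem false_4320_thirty_six (hn : Nat.card G = 4320) (hG : ¬ IsMulCommutative G) (P : Sylow 5 G)
    (hP : Nat.card (P : Subgroup G) = 5) (hk : Nat.card (Sylow 5 G) = 36) {c : ℕ}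
    (hc : c = 6 ∨ c = 12)
    (hC : Nat.card (centralizer ((P : Subgroup G) : Set G)) = 5 * c) : False := by
  classical
  haveI : Fact (Nat.Prime 2) := ⟨Nat.prime_two⟩
  haveI : Fact (Nat.Prime 3) := ⟨Nat.prime_three⟩
  set N := normalizer ((P : Subgroup G) : Set G) with hNdef
  set C := centralizer ((P : Subgroup G) : Set G) with hCdef
  have hN : Nat.card N = 120 := card_normalizer_of_card_sylow P hn hk (by norm_num)
  obtain ⟨D, hDC, hD, hDmem, hDN⟩ := exists_centralizer_complement hP hC
    (by rcases hc with rfl | rfl <;> norm_num)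
  -- overgroups of `N`
  have hover : ∀ L : Subgroup G, N ≤ L → L ≠ ⊤ → Nat.card L = 120 := by
    intro L hNL hL
    obtain ⟨hd, hdG, hL'⟩ := card_eq_inf_mul P (le_normalizer.trans hNL)
    rw [inf_eq_left.2 hNL, hN] at hL'
    rw [hn] at hdG
    have hne : 120 * Nat.card (Sylow 5 L) ≠ 4320 := fun h =>
      hL (eq_top_of_card_eq L (by rw [hL', h, hn]))
    have hLn : 120 * Nat.card (Sylow 5 L) ∣ 4320 := by
      have := card_subgroup_dvd_card L
      rwa [hL', hn] at this
    have key : ∀ d ∈ divProds [32, 27, 5], d % 5 = 1 → 120 * d ∣ 4320 → 120 * d ≠ 4320 →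
        4320 ∣ (4320 / (120 * d)).factorial → d = 1 := by decide +kernel
    rw [hL', key _ (mem_divProds _ (by simp) _ (by simpa using hdG)) hd hLn hne
      (card_dvd_factorial_of_card hn hL' hne)]
  rcases exists_normalized_small D N hDN (by rw [hD]; exact hc) with
    ⟨W, -, hW, hWN⟩ | ⟨hD12, E, hED, hE, hEN, hEmem⟩
  · -- a normal subgroup of order three
    set L := normalizer (W : Set G)
    have hLtop : L ≠ ⊤ := normalizer_ne_top (fun h => by rw [h, card_bot] at hW; omega)
      (fun h => by rw [h, card_top, hn] at hW; omega)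
    obtain ⟨A, hA, hWA⟩ := Sylow.exists_subgroup_card_pow_succ (p := 3) (n := 1) (H := W)
      (by rw [hn]; norm_num) (by rw [hW]; norm_num)
    have h9 : 9 ∣ Nat.card L := by
      have h := card_dvd_of_le (le_normalizer_of_comm hWA (comm_of_card_eq_sq hA))
      rwa [hA] at h
    rw [hover L hWN hLtop] at h9
    omega
  -- a normal subgroup of order four
  obtain ⟨⟨u, huE⟩, hu'⟩ := exists_prime_orderOf_dvd_card' (G := E) 2 (by rw [hE]; norm_num)
  have hu : orderOf u = 2 := by rw [← hu']; exact (orderOf_mk u huE).symm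
  have hu1 : u ≠ 1 := fun h => by rw [h, orderOf_one] at hu; omega
  set M := centralizer ({u} : Set G) with hMdef
  have huC : u ∈ C := hDC (hED huE)
  have hPM : (P : Subgroup G) ≤ M := fun x hx =>
    mem_centralizer_singleton_iff.2 (mem_centralizer_iff.1 huC x hx)
  have hEM : E ≤ M := fun x hx => mem_centralizer_singleton_iff.2
    (comm_of_card_eq_sq (p := 2) (A := E) (by rw [hE]; norm_num) x hx u huE)
  have hPC : (P : Subgroup G) ≤ C := fun a ha => mem_centralizer_iff.2 fun b hb => by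
    haveI : IsCyclic (P : Subgroup G) := isCyclic_of_prime_card hP
    letI : CommGroup (P : Subgroup G) := IsCyclic.commGroup
    exact congrArg Subtype.val (mul_comm (⟨b, hb⟩ : (P : Subgroup G)) ⟨a, ha⟩)
  obtain ⟨hd, hdG, hM⟩ := card_eq_inf_mul P hPM
  rw [← hNdef] at hM
  set X := N ⊓ M with hX
  have h20 : 20 ∣ Nat.card X := by
    have h1 : 5 ∣ Nat.card X := hP ▸ card_dvd_of_le (le_inf (hPC.trans (centralizer_le_normalizer _)) hPM)
    have h2 : 4 ∣ Nat.card X := hE ▸ card_dvd_of_le
      (le_inf ((hED.trans hDC).trans (centralizer_le_normalizer _)) hEM)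
    omega
  have hX120 : Nat.card X ∣ 120 := hN ▸ card_dvd_of_le inf_le_left
  have h16 := sixteen_dvd_centralizer_4320 hn hG hu
  rw [← hMdef, hM] at h16
  have hMn : Nat.card X * Nat.card (Sylow 5 M) ∣ 4320 := by
    have := card_subgroup_dvd_card M
    rwa [hM, hn] at this
  have hne : Nat.card X * Nat.card (Sylow 5 M) ≠ 4320 := fun h =>
    centralizer_ne_top_of_ne_one hG hu1 (eq_top_of_card_eq M (by rw [hM, h, hn]))
  have hfac := card_dvd_factorial_of_card hn hM hne
  rw [hn] at hdG
  have key : ∀ d ∈ divProds [32, 27, 5], ∀ x ∈ ([20, 40, 60, 120] : List ℕ), d % 5 = 1 →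
      16 ∣ x * d → x * d ∣ 4320 → x * d ≠ 4320 → 4320 ∣ (4320 / (x * d)).factorial →
      x = 40 ∧ d = 6 := by decide +kernel
  have hXmem : Nat.card X ∈ ([20, 40, 60, 120] : List ℕ) := by
    have k : ∀ x ∈ List.range 121, 20 ∣ x → x ∣ 120 → x ∈ ([20, 40, 60, 120] : List ℕ) := by decide +kernel
    exact k _ (List.mem_range.2 (Nat.lt_succ_of_le (Nat.le_of_dvd (by norm_num) hX120))) h20 hX120
  obtain ⟨hX40, h6⟩ := key _ (mem_divProds _ (by simp) _ (by simpa using hdG)) _ hXmem hd h16 hMn hne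
    hfac
  rw [hX40, h6] at hM
  -- the kernel of `M` on its six Sylow subgroups is `E`
  have hP' : Nat.card ((P.subtype hPM : Sylow 5 M) : Subgroup M) = 5 :=
    (card_subtype_sylow hPM).trans hP
  obtain ⟨K, hKn, hKN, hKP, hKe⟩ := exists_kernel_six (P.subtype hPM) hP' h6
  have hKC : ∀ k ∈ K, (k : G) ∈ E := by
    intro k hk
    have hkN : (k : G) ∈ N := by
      have h : k ∈ N.subgroupOf M := by
        rw [hNdef, subgroupOf_normalizer_eq hPM]
        exact hKN hk
      exact mem_subgroupOf.1 h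
    have hkC : (k : G) ∈ C := by
      refine mem_centralizer_iff.2 fun w hw => ?_
      set w' : M := ⟨w, hPM hw⟩
      have h1 : w' * k * w'⁻¹ * k⁻¹ ∈ K ⊓ ((P.subtype hPM : Sylow 5 M) : Subgroup M) := by
        refine ⟨K.mul_mem (hKn.conj_mem k hk w') (K.inv_mem hk), ?_⟩
        rw [Sylow.coe_subtype]
        refine mem_subgroupOf.2 ?_
        show w * (k : G) * w⁻¹ * (k : G)⁻¹ ∈ (P : Subgroup G)
        have h2 := (mem_normalizer_iff.1 hkN w⁻¹).1 (inv_mem hw)
        have h3 := mul_mem hw h2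
        rwa [show w * ((k : G) * w⁻¹ * (k : G)⁻¹) = w * (k : G) * w⁻¹ * (k : G)⁻¹ by group] at h3
      rw [hKP, mem_bot] at h1
      have h4 : w * (k : G) * w⁻¹ * (k : G)⁻¹ = 1 := congrArg Subtype.val h1
      calc w * (k : G) = w * (k : G) * w⁻¹ * (k : G)⁻¹ * ((k : G) * w) := by group
        _ = (k : G) * w := by rw [h4, one_mul]
    have h20' : (k : G) ^ 20 = 1 := by
      have hdiv : Nat.card (C ⊓ M : Subgroup G) ∣ 20 := by
        have h1 := card_dvd_of_le (inf_le_inf_right M (centralizer_le_normalizer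
          ((P : Subgroup G) : Set G)))
        rw [← hNdef, ← hX, hX40] at h1
        have h2 : Nat.card (C ⊓ M : Subgroup G) ∣ 5 * c := hC ▸ card_dvd_of_le inf_le_left
        rw [← hD, hD12] at h2
        exact Nat.dvd_gcd h1 h2
      obtain ⟨j, hj⟩ := (Subgroup.orderOf_dvd_natCard _
        (show (k : G) ∈ C ⊓ M from ⟨hkC, k.2⟩)).trans hdiv
      rw [hj, pow_mul, pow_orderOf_eq_one, one_pow]
    have h4 : (k : G) ^ 4 = 1 := by
      by_contra hne4
      have hk4 : k ^ 4 ∈ K ⊓ ((P.subtype hPM : Sylow 5 M) : Subgroup M) := by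
        refine ⟨pow_mem hk 4, ?_⟩
        rw [Sylow.coe_subtype]
        refine mem_subgroupOf.2 ?_
        show (k : G) ^ 4 ∈ (P : Subgroup G)
        exact mem_sylow_of_mem_normalizer P (orderOf_eq_prime (by rw [← pow_mul]; exact h20') hne4)
          (centralizer_le_normalizer _ (pow_mem hkC 4))
      rw [hKP, mem_bot] at hk4
      exact hne4 (congrArg Subtype.val hk4)
    refine hEmem _ (hDmem _ hkC ?_) h4
    rw [← hD, hD12, show (12 : ℕ) = 4 * 3 by norm_num, pow_mul, h4, one_pow]
  have hEK : ∀ x : M, (x : G) ∈ E → x ∈ K := by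
    intro x hx
    refine hKe x (mem_centralizer_iff.2 fun y hy => ?_) ?_
    · rw [Sylow.coe_subtype] at hy
      exact Subtype.ext (mem_centralizer_iff.1 (hDC (hED hx)) _ (mem_subgroupOf.1 hy))
    · apply Subtype.ext
      have h := congrArg Subtype.val (pow_card_eq_one' (x := (⟨x, hx⟩ : E)))
      rw [hE] at h
      rw [SubmonoidClass.coe_pow]
      exact h
  set L := normalizer (E : Set G)
  have hML : M ≤ L := by
    have key : ∀ m ∈ M, ∀ y ∈ E, m * y * m⁻¹ ∈ E := fun m hm y hy =>
      hKC (⟨m, hm⟩ * ⟨y, hEM hy⟩ * ⟨m, hm⟩⁻¹) (hKn.conj_mem _ (hEK ⟨y, hEM hy⟩ hy) _)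
    intro m hm
    refine mem_normalizer_iff.2 fun y => ⟨key m hm y, fun hy => ?_⟩
    have := key m⁻¹ (inv_mem hm) _ hy
    rwa [show m⁻¹ * (m * y * m⁻¹) * m⁻¹⁻¹ = y by group] at this
  have hLtop : L ≠ ⊤ := normalizer_ne_top (fun h => by rw [h, card_bot] at hE; omega)
    (fun h => by rw [h, card_top, hn] at hE; omega)
  have h240 := card_dvd_of_le hML
  rw [hover L hEN hLtop, hM] at h240
  norm_num at h240

end

end Cfsg.Agent.H36
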