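import Cfsg.Agent.H36.Count
import Cfsg.Agent.H36.Fixed
import Cfsg.Agent.H36.Basic
import Mathlib.GroupTheory.Perm.Cycle.Type

/-!
# The centralizer of a Sylow subgroup of prime order acting on its orbits, and parity
-/

set_option autoImplicit false
set_option linter.unusedSectionVars false
set_option linter.style.haveILetI false

namespace Cfsg.Agent.H36

open Subgroup MulAction

variable {G : Type*} [Group G] [Finite G]

/-- In a simple group with `n_p = 1 + m p`, a `p'`-subgroup of `C(P)` embeds in `S_m`. -/
theorem card_dvd_factorial_orbits [IsSimpleGroup G] {p : ℕ} [hp : Fact p.Prime] (P : Sylow p G)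
    (hP : Nat.card (P : Subgroup G) = p) (m : ℕ) (hn : Nat.card (Sylow p G) = 1 + m * p)
    (hm : 0 < m) (D : Subgroup G) (hD : D ≤ centralizer ((P : Subgroup G) : Set G))
    (hcop : Nat.Coprime (Nat.card D) p) : Nat.card D ∣ m.factorial := by
  classical
  set N := normalizer ((P : Subgroup G) : Set G) with hN
  have hNtop : N ≠ ⊤ := by
    intro h
    have h1 : Nat.card (Sylow p G) = N.index := P.card_eq_index_normalizer
    rw [h, index_top, hn] at h1
    have := Nat.mul_pos hm hp.out.pos
    omega
  have hcomm : ∀ (y : D) (u : (P : Subgroup G)) (a : G ⧸ N),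
      (y : G) • (u • a) = u • ((y : G) • a) := by
    intro y u a
    show (y : G) • ((u : G) • a) = (u : G) • ((y : G) • a)
    rw [smul_smul, smul_smul, mem_centralizer_iff.1 (hD y.2) u u.2]
  let f : D →* Equiv.Perm (orbitRel.Quotient (P : Subgroup G) (G ⧸ N)) :=
    { toFun := fun y => Quotient.congr (MulAction.toPerm (y : G)) fun a b => by
        rw [orbitRel_apply, orbitRel_apply]
        constructor
        · rintro ⟨u, hu⟩
          exact ⟨u, by simp only [toPerm_apply] at hu ⊢; rw [← hu, hcomm]⟩
        · rintro ⟨u, hu⟩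
          refine ⟨u, ?_⟩
          simp only [toPerm_apply] at hu ⊢
          rw [← hcomm] at hu
          exact (MulAction.injective (y : G)) hu
      map_one' := by
        ext q
        induction q using Quotient.inductionOn' with
        | _ a => exact congrArg Quotient.mk'' (one_smul G a)
      map_mul' := fun y z => by
        ext q
        induction q using Quotient.inductionOn' with
        | _ a => exact congrArg Quotient.mk'' (mul_smul (y : G) (z : G) a) }
  have hf : ∀ (y : D) (a : G ⧸ N), f y (Quotient.mk'' a) = Quotient.mk'' ((y : G) • a) :=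
    fun _ _ => rfl
  let q₀ : orbitRel.Quotient (P : Subgroup G) (G ⧸ N) := Quotient.mk'' ((1 : G) : G ⧸ N)
  have hfix : ∀ y : D, f y q₀ = q₀ := fun y => by
    rw [hf]
    congr 1
    rw [smul_mk_eq_iff, inv_one, one_mul, mul_one]
    exact centralizer_le_normalizer _ (hD y.2)
  have hmem : ∀ (y : D) (q), q ≠ q₀ ↔ f y q ≠ q₀ := fun y q => by
    conv_rhs => rw [← hfix y, (f y).injective.ne_iff]
  let f' : D →* Equiv.Perm {q // q ≠ q₀} :=
    { toFun := fun y => (f y).subtypePerm (fun q => (hmem y q).symm)
      map_one' := by ext q; simp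
      map_mul' := fun y z => by
        ext q
        show f (y * z) q.1 = f y (f z q.1)
        rw [map_mul, Equiv.Perm.mul_apply] }
  have hinj : Function.Injective f' := by
    rw [injective_iff_map_eq_one]
    intro y hy
    have hq : ∀ q, f y q = q := fun q => by
      rcases eq_or_ne q q₀ with rfl | h
      · exact hfix y
      · exact congrArg Subtype.val (DFunLike.congr_fun hy ⟨q, h⟩)
    apply Subtype.ext
    apply toPermHom_injective hNtop
    rw [OneMemClass.coe_one, map_one]
    ext a
    show (y : G) • a = a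
    obtain ⟨u, hu⟩ : (y : G) • a ∈ MulAction.orbit (P : Subgroup G) a :=
      Quotient.eq''.1 ((hf y a).symm.trans (hq _))
    have hu : (u : G) • a = (y : G) • a := hu
    have hpow : ∀ k : ℕ, (y : G) ^ k • a = (u : G) ^ k • a := by
      intro k
      induction k with
      | zero => simp
      | succ k ih =>
        rw [pow_succ', mul_smul, ih, pow_succ, mul_smul]
        have : (y : G) • ((u : G) ^ k • a) = (u : G) ^ k • ((y : G) • a) := hcomm y (u ^ k) a
        rw [this, hu]
    have h1 := hpow (orderOf (y : G))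
    rw [pow_orderOf_eq_one, one_smul] at h1
    obtain ⟨i, hi⟩ := exists_pow_eq_self_of_coprime (x := u) (n := orderOf (y : G))
      (Nat.Coprime.coprime_dvd_left (Subgroup.orderOf_dvd_natCard D y.2)
        (hcop.coprime_dvd_right ((orderOf_dvd_natCard u).trans (dvd_of_eq hP))))
    have hstab : u ^ orderOf (y : G) ∈ stabilizer (P : Subgroup G) a := by
      rw [mem_stabilizer_iff]
      exact h1.symm
    have h2 : u ∈ stabilizer (P : Subgroup G) a := hi ▸ pow_mem hstab i
    rw [← hu]
    exact h2
  have h := card_dvd_of_injective f' hinj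
  haveI := Fintype.ofFinite {q : orbitRel.Quotient (P : Subgroup G) (G ⧸ N) // q ≠ q₀}
  haveI := Fintype.ofFinite (orbitRel.Quotient (P : Subgroup G) (G ⧸ N))
  rw [Nat.card_eq_fintype_card (α := Equiv.Perm _), Fintype.card_perm, Fintype.card_subtype_compl,
    Fintype.card_subtype_eq] at h
  have hcard := card_orbits_eq P hP m hn
  rw [Nat.card_eq_fintype_card] at hcard
  rwa [hcard, Nat.add_sub_cancel_left] at h

/-- An involution acting through a non-commutative simple group moves a multiple of four points. -/
theorem four_dvd_moved [IsSimpleGroup G] (hG : ¬ IsMulCommutative G) {X : Type*} [MulAction G X]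
    [Finite X] {x : G} (hx : x * x = 1) :
    4 ∣ Nat.card X - Nat.card (fixedBy X x) := by
  classical
  haveI := Fintype.ofFinite X
  have hfix : fixedBy X x = Function.fixedPoints (toPermHom G X x) := rfl
  set σ := toPermHom G X x with hσ
  have hσ2 : σ ^ 2 = 1 := by rw [hσ, ← map_pow, pow_two, hx, map_one]
  have hs : Equiv.Perm.sign σ = 1 := sign_hom_eq_one hG (toPermHom G X) x
  have htwo : ∀ i ∈ σ.cycleType, i = 2 := fun i hi => by
    have h1 := Nat.le_of_dvd (by norm_num)
      ((Equiv.Perm.dvd_of_mem_cycleType hi).trans (orderOf_dvd_of_pow_eq_one hσ2))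
    have h2 := Equiv.Perm.two_le_of_mem_cycleType hi
    omega
  have hrep : σ.cycleType = Multiset.replicate σ.cycleType.card 2 :=
    Multiset.eq_replicate.2 ⟨rfl, htwo⟩
  have hsum : σ.support.card = σ.cycleType.card * 2 := by
    rw [← σ.sum_cycleType]
    conv_lhs => rw [hrep]
    rw [Multiset.sum_replicate, smul_eq_mul]
  rw [Equiv.Perm.sign_of_cycleType, hrep, Multiset.sum_replicate, Multiset.card_replicate,
    smul_eq_mul, neg_one_pow_eq_one_iff_even (by decide)] at hs
  obtain ⟨j, hj⟩ : Even σ.cycleType.card := by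
    obtain ⟨i, hi⟩ := hs
    exact ⟨i - σ.cycleType.card, by omega⟩
  have hsupp : σ.support.card + Nat.card (fixedBy X x) = Nat.card X := by
    rw [hfix, Nat.card_eq_fintype_card, Nat.card_eq_fintype_card,
      ← Finset.card_compl_add_card σ.support, add_comm]
    congr 1
    rw [← Set.toFinset_card]
    congr 1
    ext a
    rw [Set.mem_toFinset]
    simp [Function.fixedPoints, Function.IsFixedPt]
  exact ⟨j, by omega⟩

/-- An element centralizing a Sylow subgroup of prime order fixes `1` mod `p` of the Sylow
subgroups. -/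
theorem card_fixedBy_modEq_one {p : ℕ} [hp : Fact p.Prime] (P : Sylow p G)
    (hP : Nat.card (P : Subgroup G) = p) {x : G}
    (hx : x ∈ centralizer ((P : Subgroup G) : Set G)) :
    Nat.card (fixedBy (G ⧸ normalizer ((P : Subgroup G) : Set G)) x) ≡ 1 [MOD p] := by
  classical
  set N := normalizer ((P : Subgroup G) : Set G)
  have hcomm : ∀ (u : (P : Subgroup G)) (a : G ⧸ N), (u : G) • x • a = x • (u : G) • a := by
    intro u a
    rw [smul_smul, smul_smul, mem_centralizer_iff.1 hx u u.2]
  letI : MulAction (P : Subgroup G) (fixedBy (G ⧸ N) x) :=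
    { smul := fun u a => ⟨(u : G) • a.1, by
        show x • (u : G) • a.1 = (u : G) • a.1
        rw [← hcomm, show x • a.1 = a.1 from a.2]⟩
      one_smul := fun a => Subtype.ext (one_smul G a.1)
      mul_smul := fun u v a => Subtype.ext (mul_smul (u : G) (v : G) a.1) }
  refine (P.isPGroup'.card_modEq_card_fixedPoints (fixedBy (G ⧸ N) x)).trans ?_
  have hc : ∀ u : (P : Subgroup G), (u : G) • ((1 : G) : G ⧸ N) = ((1 : G) : G ⧸ N) := fun u => by
    rw [smul_mk_eq_iff, inv_one, one_mul, mul_one]; exact le_normalizer u.2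
  have hx1 : x • ((1 : G) : G ⧸ N) = ((1 : G) : G ⧸ N) := by
    rw [smul_mk_eq_iff, inv_one, one_mul, mul_one]; exact centralizer_le_normalizer _ hx
  obtain ⟨u, hu⟩ : ∃ u : (P : Subgroup G), orderOf (u : G) = p := by
    obtain ⟨u, hu⟩ := exists_prime_orderOf_dvd_card' (G := (P : Subgroup G)) p (by rw [hP])
    exact ⟨u, by rw [orderOf_coe, hu]⟩
  have h1 := card_fixedBy_eq_one_of_orderOf P hP hu
  have : Nat.card (fixedPoints (P : Subgroup G) (fixedBy (G ⧸ N) x)) = 1 := by
    rw [Nat.card_eq_one_iff_unique]
    refine ⟨⟨fun a b => Subtype.ext (Subtype.ext ?_)⟩,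
      ⟨⟨⟨_, hx1⟩, fun v => Subtype.ext (hc v)⟩⟩⟩
    have := (Nat.card_eq_one_iff_unique.1 h1).1.elim
      ⟨a.1.1, congrArg Subtype.val (a.2 u)⟩ ⟨b.1.1, congrArg Subtype.val (b.2 u)⟩
    exact (congrArg Subtype.val this :)
  rw [this]

/-- A nontrivial element of a simple group does not fix all cosets of a proper subgroup. -/
theorem card_fixedBy_lt_index [IsSimpleGroup G] {H : Subgroup G} (hH : H ≠ ⊤) {x : G}
    (hx : x ≠ 1) : Nat.card (fixedBy (G ⧸ H) x) < H.index := by
  rw [index_eq_card]
  refine lt_of_le_of_ne (Finite.card_subtype_le _) fun h => hx (toPermHom_injective hH ?_)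
  rw [map_one]
  ext a
  obtain ⟨b, hb⟩ := ((Nat.bijective_iff_injective_and_card
    (Subtype.val : fixedBy (G ⧸ H) x → G ⧸ H)).2 ⟨Subtype.val_injective, h⟩).2 a
  rw [← hb]
  exact b.2

end Cfsg.Agent.H36
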