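import Cfsg.Agent.H36.SmallComplement
import Cfsg.Agent.H36.FullNormalizer
import Cfsg.Agent.H36.SmallInvolution
import Cfsg.Agent.H36.PermNormalizer

/-!
# No simple group of order 5040
-/

set_option autoImplicit false
set_option linter.unusedSectionVars false
set_option linter.style.haveILetI false
set_option maxRecDepth 100000

namespace Cfsg.Agent.H36

open Subgroup

theorem search_5040 : ∀ c ∈ ([24, 48, 72] : List ℕ),
    FullNormalizer.search 5040 7 c (divProds [16, 9, 5, 7]) = true := by decide +kernel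

theorem centralizer_candidates_5040 : ∀ f ∈ List.range 19, 4 ∣ 120 - f → 6 * f ∣ 5040 →
    8 ∣ 6 * f → 6 * f ∈ ([24, 48, 72] : List ℕ) := by decide +kernel

theorem inf_candidates_5040 : ∀ x ∈ List.range 141, ∀ i ∈ List.range 10, 14 ∣ x → x * i = 140 →
    x ∈ ([28, 70, 140] : List ℕ) := by decide +kernel

section

variable {G : Type*} [Group G] [Finite G] [IsSimpleGroup G] [Fact (Nat.Prime 7)]

theorem eight_dvd_centralizer_5040 (hn : Nat.card G = 5040) (hG : ¬ IsMulCommutative G) {u : G}
    (hu : orderOf u = 2) : 8 ∣ Nat.card (centralizer ({u} : Set G)) := by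
  by_contra h
  exact false_of_small_involution hG hu (n := 4) (k := 2) (Or.inl ⟨le_rfl, le_rfl⟩)
    (by rw [hn]; norm_num) (by rw [hn]; norm_num) (by simpa using h)

theorem centralizer_singleton_ne_top_5040 (hG : ¬ IsMulCommutative G) {u : G} (hu : u ≠ 1) :
    centralizer ({u} : Set G) ≠ ⊤ := by
  intro h
  apply hu
  have : u ∈ center G := mem_center_iff.2 fun x =>
    mem_centralizer_singleton_iff.1 (h ▸ mem_top x : x ∈ centralizer ({u} : Set G))
  rwa [center_eq_bot_of_simple hG, mem_bot] at this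

theorem false_5040_thirty_six (hn : Nat.card G = 5040) (hG : ¬ IsMulCommutative G) (P : Sylow 7 G)
    (hP : Nat.card (P : Subgroup G) = 7) (hk : Nat.card (Sylow 7 G) = 36)
    (hC : Nat.card (centralizer ((P : Subgroup G) : Set G)) = 7 * 10) : False := by
  classical
  haveI : Fact (Nat.Prime 2) := ⟨Nat.prime_two⟩
  set N := normalizer ((P : Subgroup G) : Set G) with hNdef
  have hN : Nat.card N = 140 := card_normalizer_of_card_sylow P hn hk (by norm_num)
  obtain ⟨D, hDC, hD, -, hDN⟩ := exists_centralizer_complement hP hC (by norm_num)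
  obtain ⟨⟨u, huD⟩, hu'⟩ := exists_prime_orderOf_dvd_card' (G := D) 2 (by rw [hD]; norm_num)
  have hu : orderOf u = 2 := by rw [← hu']; exact (orderOf_mk u huD).symm
  have hu1 : u ≠ 1 := fun h => by rw [h, orderOf_one] at hu; omega
  set M := centralizer ({u} : Set G) with hMdef
  have hPM : (P : Subgroup G) ≤ M := fun x hx =>
    mem_centralizer_singleton_iff.2 (mem_centralizer_iff.1 (hDC huD) x hx)
  obtain ⟨hd, hdG, hM⟩ := card_eq_inf_mul P hPM
  rw [← hNdef] at hM
  set X := N ⊓ M with hX
  have h14 : 14 ∣ Nat.card X := by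
    have h1 : 7 ∣ Nat.card X := hP ▸ card_dvd_of_le (le_inf le_normalizer hPM)
    have h2 : 2 ∣ Nat.card X := by
      rw [← hu]
      exact Subgroup.orderOf_dvd_natCard _
        ⟨centralizer_le_normalizer _ (hDC huD), mem_centralizer_singleton_iff.2 rfl⟩
    omega
  have hXmem : Nat.card X ∈ ([28, 70, 140] : List ℕ) := by
    have hlt := relIndex_centralizer_lt D N hDN huD hu1
    rw [hD, ← hMdef] at hlt
    have hmul := relIndex_mul_relIndex (⊥ : Subgroup G) X N bot_le inf_le_left
    rw [relIndex_bot_left, relIndex_bot_left, hX, inf_relIndex_left, hN] at hmul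
    have hle : Nat.card X ≤ 140 :=
      Nat.le_of_dvd (by norm_num) (hN ▸ card_dvd_of_le inf_le_left)
    exact inf_candidates_5040 _ (List.mem_range.2 (Nat.lt_succ_of_le hle)) _
      (List.mem_range.2 hlt) h14 hmul
  have h8 := eight_dvd_centralizer_5040 hn hG hu
  rw [← hMdef, hM] at h8
  have hMn : Nat.card X * Nat.card (Sylow 7 M) ∣ 5040 := by
    have := card_subgroup_dvd_card M
    rwa [hM, hn] at this
  have hne : Nat.card X * Nat.card (Sylow 7 M) ≠ 5040 := fun h =>
    centralizer_singleton_ne_top_5040 hG hu1 (eq_top_of_card_eq M (by rw [hM, h, hn]))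
  have hfac := card_dvd_factorial_of_card hn hM hne
  rw [hn] at hdG
  have key : ∀ d ∈ divProds [16, 9, 5, 7], ∀ x ∈ ([28, 70, 140] : List ℕ), d % 7 = 1 →
      8 ∣ x * d → x * d ∣ 5040 → x * d ≠ 5040 → 5040 ∣ (5040 / (x * d)).factorial →
      x * d = 560 := by decide +kernel
  rw [key _ (mem_divProds _ (by simp) _ (by simpa using hdG)) _ hXmem hd h8 hMn hne hfac] at hM
  have hidx : M.index = 9 := (index_eq_of_card hn hM).trans (by norm_num)
  have h := two_mul_card_normalizer_dvd hG (p := 7) (by norm_num)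
    (centralizer_singleton_ne_top_5040 hG hu1) (by rw [← hMdef, hidx]; norm_num) P hP
  rw [← hNdef, hN, ← hMdef, hidx] at h
  norm_num [Nat.factorial] at h

theorem false_5040_c3 (hn : Nat.card G = 5040) (hG : ¬ IsMulCommutative G) (P : Sylow 7 G)
    (hP : Nat.card (P : Subgroup G) = 7) (hk : Nat.card (Sylow 7 G) = 120)
    (hC : Nat.card (centralizer ((P : Subgroup G) : Set G)) = 7 * 3) : False := by
  classical
  haveI : Fact (Nat.Prime 3) := ⟨Nat.prime_three⟩
  set N := normalizer ((P : Subgroup G) : Set G) with hNdef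
  have hN : Nat.card N = 42 := card_normalizer_of_card_sylow P hn hk (by norm_num)
  obtain ⟨D, -, hD, -, hDN⟩ := exists_centralizer_complement hP hC (by norm_num)
  set L := normalizer (D : Set G) with hLdef
  have hLtop : L ≠ ⊤ := normalizer_ne_top (fun h => by rw [h, card_bot] at hD; omega)
    (fun h => by rw [h, card_top, hn] at hD; omega)
  obtain ⟨A, hA, hDA⟩ := Sylow.exists_subgroup_card_pow_succ (p := 3) (n := 1) (H := D)
    (by rw [hn]; norm_num) (by rw [hD]; norm_num)
  have h9 : 9 ∣ Nat.card L := by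
    have h := card_dvd_of_le (le_normalizer_of_comm hDA (comm_of_card_eq_sq hA))
    rwa [hA] at h
  obtain ⟨hd, hdG, hL⟩ := card_eq_inf_mul P (le_normalizer.trans hDN)
  rw [inf_eq_left.2 hDN, hN] at hL
  rw [hn] at hdG
  have hLn : 42 * Nat.card (Sylow 7 L) ∣ 5040 := by
    have := card_subgroup_dvd_card L
    rwa [hLdef, hL, hn] at this
  have hne : 42 * Nat.card (Sylow 7 L) ≠ 5040 := fun h =>
    hLtop (eq_top_of_card_eq L (by rw [hLdef, hL, h, hn]))
  have key : ∀ d ∈ divProds [16, 9, 5, 7], d % 7 = 1 → 42 * d ∣ 5040 → 9 ∣ 42 * d →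
      42 * d ≠ 5040 → 5040 ∣ (5040 / (42 * d)).factorial → 42 * d = 630 := by decide +kernel
  rw [hLdef, hL] at h9
  rw [key _ (mem_divProds _ (by simp) _ (by simpa using hdG)) hd hLn h9 hne
    (card_dvd_factorial_of_card hn hL hne)] at hL
  have hidx : L.index = 8 := (index_eq_of_card hn hL).trans (by norm_num)
  have h := two_mul_card_normalizer_dvd hG (p := 7) (by norm_num) hLtop
    (by rw [hidx]; norm_num) P hP
  rw [← hNdef, hN, hidx] at h
  norm_num [Nat.factorial] at h

theorem false_5040_c2 (hn : Nat.card G = 5040) (hG : ¬ IsMulCommutative G) (P : Sylow 7 G)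
    (hP : Nat.card (P : Subgroup G) = 7) (hk : Nat.card (Sylow 7 G) = 120)
    (hC : Nat.card (centralizer ((P : Subgroup G) : Set G)) = 7 * 2) : False := by
  classical
  haveI : Fact (Nat.Prime 2) := ⟨Nat.prime_two⟩
  set N := normalizer ((P : Subgroup G) : Set G) with hNdef
  have hN : Nat.card N = 42 := card_normalizer_of_card_sylow P hn hk (by norm_num)
  obtain ⟨D, hDC, hD, -, hDN⟩ := exists_centralizer_complement hP hC (by norm_num)
  obtain ⟨⟨u, huD⟩, hu'⟩ := exists_prime_orderOf_dvd_card' (G := D) 2 (by rw [hD])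
  have hu : orderOf u = 2 := by rw [← hu']; exact (orderOf_mk u huD).symm
  have huu : u * u = 1 := by rw [← pow_two, ← hu, pow_orderOf_eq_one]
  have hu1 : u ≠ 1 := fun h => by rw [h, orderOf_one] at hu; omega
  set M := centralizer ({u} : Set G) with hMdef
  have hNM : N ≤ M := by
    have h := relIndex_centralizer_lt D N hDN huD hu1
    rw [hD] at h
    refine relIndex_eq_one.1 ?_
    exact Nat.le_antisymm (Nat.lt_succ_iff.1 h) (Nat.one_le_iff_ne_zero.2 FiniteIndex.index_ne_zero)
  obtain ⟨hd, hdG, hM⟩ := card_eq_inf_mul P (le_normalizer.trans hNM)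
  rw [inf_eq_left.2 hNM, hN] at hM
  rw [hn] at hdG
  have h8 := eight_dvd_centralizer_5040 hn hG hu
  rw [← hMdef, hM] at h8
  have hMn : 42 * Nat.card (Sylow 7 M) ∣ 5040 := by
    have := card_subgroup_dvd_card M
    rwa [hM, hn] at this
  have hne : 42 * Nat.card (Sylow 7 M) ≠ 5040 := fun h =>
    centralizer_singleton_ne_top_5040 hG hu1 (eq_top_of_card_eq M (by rw [hM, h, hn]))
  have key : ∀ d ∈ divProds [16, 9, 5, 7], d % 7 = 1 → 42 * d ∣ 5040 → 8 ∣ 42 * d →
      42 * d ≠ 5040 → 42 * d = 336 := by decide +kernel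
  rw [key _ (mem_divProds _ (by simp) _ (by simpa using hdG)) hd hMn h8 hne] at hM
  have hidx : M.index = 15 := (index_eq_of_card hn hM).trans (by norm_num)
  have h1 := card_fixedBy_modEq_one_of_le P hP hNM (hDC huD)
  have h2 := four_dvd_moved hG (X := G ⧸ M) huu
  rw [← index_eq_card, hidx] at h2
  have h3 := card_fixedBy_lt_index (centralizer_singleton_ne_top_5040 hG hu1) hu1
  rw [← hMdef, hidx] at h3
  rw [Nat.ModEq] at h1
  omega

theorem false_5040_c1 (hn : Nat.card G = 5040) (hG : ¬ IsMulCommutative G) (P : Sylow 7 G)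
    (hP : Nat.card (P : Subgroup G) = 7) (hk : Nat.card (Sylow 7 G) = 120)
    (hC : Nat.card (centralizer ((P : Subgroup G) : Set G)) = 7 * 1) : False := by
  classical
  haveI := Fintype.ofFinite G
  haveI : Fact (Nat.Prime 2) := ⟨Nat.prime_two⟩
  set N := normalizer ((P : Subgroup G) : Set G) with hNdef
  have hN : Nat.card N = 42 := card_normalizer_of_card_sylow P hn hk (by norm_num)
  haveI : IsCyclic (P : Subgroup G) := isCyclic_of_prime_card hP
  letI : CommGroup (P : Subgroup G) := IsCyclic.commGroup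
  have hCP : centralizer ((P : Subgroup G) : Set G) = P := by
    refine (eq_of_le_of_card_ge (fun a ha b hb => ?_) (le_of_eq (hC.trans hP.symm))).symm
    exact congrArg Subtype.val (mul_comm (⟨b, hb⟩ : (P : Subgroup G)) ⟨a, ha⟩)
  obtain ⟨⟨u, huN⟩, hu'⟩ := exists_prime_orderOf_dvd_card' (G := N) 2 (by rw [hN]; norm_num)
  have hu : orderOf u = 2 := by rw [← hu']; exact (orderOf_mk u huN).symm
  have huu : u * u = 1 := by rw [← pow_two, ← hu, pow_orderOf_eq_one]
  have hu1 : u ≠ 1 := fun h => by rw [h, orderOf_one] at hu; omega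
  have he : (P : Subgroup G).relIndex N = 7 - 1 := by
    have h := card_normalizer_eq_mul (P : Subgroup G)
    rw [← hNdef, hN, hCP, hP] at h
    omega
  obtain ⟨f, hf, hf1, hf4⟩ := exists_card_centralizer_involution hG P hP (by norm_num) hCP
    (by rw [hN]) (m := 17) (by rw [hk]) huu hu1 huN
  have h8 := eight_dvd_centralizer_5040 hn hG hu
  have hdvd : 6 * f ∣ 5040 := by
    have := card_subgroup_dvd_card (centralizer ({u} : Set G))
    rwa [hn, hf] at this
  rw [hf] at h8
  exact FullNormalizer.false_of_search hG hP hCP he (by norm_num) huu hu1 huN hn hf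
    (divProds [16, 9, 5, 7]) (fun d hd => mem_divProds _ (by simp) d (by simpa using hd))
    (search_5040 _ (centralizer_candidates_5040 f (List.mem_range.2 (by omega)) hf4 hdvd h8))

end

end Cfsg.Agent.H36
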