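import Cfsg.Agent.H36.Basic
import Mathlib.Algebra.Group.Action.Pointwise.Set.Basic

/-!
# A group preserving an affine plane of order four permutes five parallel classes
-/

set_option autoImplicit false
set_option linter.unusedSectionVars false
set_option linter.style.haveILetI false

namespace Cfsg.Agent.H36

open scoped Pointwise

variable {G : Type*} [Group G] [Finite G] {X : Type*} [MulAction G X] [Finite X]

/-- If a simple group of order not dividing `5!` preserves lines of four points, five through each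
point and one through any two, then an element fixing a point fixes all lines through it. -/
theorem smul_line_eq [IsSimpleGroup G] (h120 : ¬ Nat.card G ∣ 120) (Ls : Set (Set X))
    (hinv : ∀ (g : G), ∀ S ∈ Ls, g • S ∈ Ls) (hfour : ∀ S ∈ Ls, Nat.card S = 4)
    (hjoin : ∀ a b : X, a ≠ b → ∃ S ∈ Ls, a ∈ S ∧ b ∈ S)
    (huniq : ∀ S ∈ Ls, ∀ T ∈ Ls, ∀ a b : X, a ≠ b → a ∈ S → b ∈ S → a ∈ T → b ∈ T → S = T)
    (hfive : ∀ a : X, Nat.card {S : Ls // a ∈ S.1} = 5)
    {o : X} {g : G} (hg : g • o = o) {S : Set X} (hS : S ∈ Ls) (hoS : o ∈ S) : g • S = S := by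
  classical
  -- through a point outside a line there is exactly one line missing it
  have hpar : ∀ T : Ls, ∀ a : X, a ∉ T.1 → ∃! U : Ls, a ∈ U.1 ∧ Disjoint U.1 T.1 := by
    intro T a ha
    have hj : ∀ b : T.1, ∃ U : {S : Ls // a ∈ S.1}, (b : X) ∈ U.1.1 := fun b => by
      obtain ⟨U, hU, hbU, haU⟩ := hjoin b a (fun h => ha (h ▸ b.2))
      exact ⟨⟨⟨U, hU⟩, haU⟩, hbU⟩
    choose f hf using hj
    have hinj : Function.Injective f := by
      intro b c hbc
      by_contra hne
      have := huniq T.1 T.2 (f b).1.1 (f b).1.2 b c (fun h => hne (Subtype.ext h)) b.2 c.2 (hf b)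
        (hbc ▸ hf c)
      exact ha (this ▸ (f b).2)
    haveI := Fintype.ofFinite {S : Ls // a ∈ S.1}
    haveI := Fintype.ofFinite T.1
    have h1 : (Finset.univ \ Finset.univ.image f).card = 1 := by
      rw [Finset.card_sdiff_of_subset (Finset.subset_univ _), Finset.card_univ,
        Finset.card_image_of_injective _ hinj, Finset.card_univ, ← Nat.card_eq_fintype_card,
        ← Nat.card_eq_fintype_card, hfive, hfour T.1 T.2]
    obtain ⟨U, hU⟩ := Finset.card_eq_one.1 h1
    have hmem : ∀ V : {S : Ls // a ∈ S.1}, Disjoint V.1.1 T.1 ↔ V = U := by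
      intro V
      rw [show V = U ↔ V ∈ (Finset.univ \ Finset.univ.image f) by rw [hU, Finset.mem_singleton],
        Finset.mem_sdiff]
      constructor
      · intro hd
        refine ⟨Finset.mem_univ _, fun h => ?_⟩
        obtain ⟨b, -, rfl⟩ := Finset.mem_image.1 h
        exact Set.disjoint_left.1 hd (hf b) b.2
      · rintro ⟨-, h⟩
        refine Set.disjoint_left.2 fun b hbV hbT => h (Finset.mem_image.2 ⟨⟨b, hbT⟩,
          Finset.mem_univ _, ?_⟩)
        exact Subtype.ext (Subtype.ext (huniq _ (f ⟨b, hbT⟩).1.2 _ V.1.2 a b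
          (fun h => ha (h ▸ hbT)) (f ⟨b, hbT⟩).2 (hf ⟨b, hbT⟩) V.2 hbV))
    exact ⟨U.1, ⟨U.2, (hmem U).2 rfl⟩, fun V hV => congrArg Subtype.val ((hmem ⟨V, hV.1⟩).1 hV.2)⟩
  let R : Setoid Ls :=
    { r := fun S T => S = T ∨ Disjoint S.1 T.1
      iseqv :=
        { refl := fun S => Or.inl rfl
          symm := fun h => h.imp Eq.symm fun h => h.symm
          trans := fun {S T U} h1 h2 => by
            rcases h1 with rfl | h1
            · exact h2
            rcases h2 with rfl | h2
            · exact Or.inr h1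
            by_cases hd : Disjoint S.1 U.1
            · exact Or.inr hd
            obtain ⟨r, hrS, hrU⟩ := Set.not_disjoint_iff.1 hd
            exact Or.inl ((hpar T r (Set.disjoint_left.1 h1 hrS)).unique ⟨hrS, h1⟩
              ⟨hrU, h2.symm⟩) } }
  have hone : ∀ S T : Ls, o ∈ S.1 → o ∈ T.1 → R.r S T → S = T := fun S T hS hT h =>
    h.resolve_right fun hd => Set.disjoint_left.1 hd hS hT
  have hcard : Nat.card (Quotient R) = 5 := by
    rw [← hfive o]
    refine (Nat.card_eq_of_bijective (fun S : {S : Ls // o ∈ S.1} => Quotient.mk R S.1)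
      ⟨fun S T h => Subtype.ext (hone _ _ S.2 T.2 (Quotient.exact h)), fun q => ?_⟩).symm
    induction q using Quotient.inductionOn with
    | _ T =>
      by_cases ho : o ∈ T.1
      · exact ⟨⟨T, ho⟩, rfl⟩
      · obtain ⟨U, ⟨hoU, hU⟩, -⟩ := hpar T o ho
        exact ⟨⟨U, hoU⟩, Quotient.sound (Or.inr hU)⟩
  haveI : Finite (Quotient R) := Nat.finite_of_card_ne_zero (by omega)
  haveI := Fintype.ofFinite (Quotient R)
  letI : MulAction G Ls :=
    { smul := fun g S => ⟨g • S.1, hinv g S.1 S.2⟩
      one_smul := fun S => Subtype.ext (one_smul G S.1)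
      mul_smul := fun g h S => Subtype.ext (mul_smul g h S.1) }
  have hR : ∀ (g : G) (S T : Ls), R.r S T ↔ R.r (g • S) (g • T) := fun g S T =>
    or_congr (smul_left_cancel_iff g).symm Set.disjoint_smul_set.symm
  let f : G →* Equiv.Perm (Quotient R) :=
    { toFun := fun g => Quotient.congr (MulAction.toPerm g) (hR g)
      map_one' := by
        ext q
        induction q using Quotient.inductionOn with
        | _ T => exact congrArg (Quotient.mk R) (one_smul G T)
      map_mul' := fun g h => by
        ext q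
        induction q using Quotient.inductionOn with
        | _ T => exact congrArg (Quotient.mk R) (mul_smul g h T) }
  have hf : f g = 1 := by
    rcases Subgroup.Normal.eq_bot_or_eq_top (H := f.ker) inferInstance with hb | ht
    · exfalso
      have h := Subgroup.card_dvd_of_injective f (f.ker_eq_bot_iff.1 hb)
      rw [Nat.card_perm, hcard] at h
      exact h120 h
    · exact MonoidHom.mem_ker.1 (ht ▸ Subgroup.mem_top g)
  have hrel : R.r (g • (⟨S, hS⟩ : Ls)) ⟨S, hS⟩ :=
    Quotient.exact (DFunLike.congr_fun hf (Quotient.mk R ⟨S, hS⟩))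
  exact congrArg Subtype.val (hone _ _ (show o ∈ g • S from ⟨o, hoS, hg⟩) hoS hrel)

end Cfsg.Agent.H36
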