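import Cfsg.Agent.H36.SmallComplement
import Cfsg.Agent.H36.ParallelClasses
import Cfsg.Agent.H36.PermNormalizer
import Mathlib.GroupTheory.Perm.Fin

/-!
# Ninety-six Sylow `5`-subgroups in a group of order 5760

The normalizer `L` of a subgroup `W` of order three has index sixteen. If an involution centralizes
`P` its fixed points contradict parity. Otherwise `L / W` is the symmetric group on the five
`W`-orbits, the fixed point sets of elements of order three are the lines of an affine plane, and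
the group permutes its five parallel classes.
-/

set_option autoImplicit false
set_option linter.unusedSectionVars false
set_option linter.style.haveILetI false

namespace Cfsg.Agent.H36

open Subgroup
open scoped Pointwise

theorem card_fixed_perm_five : ∀ σ : Equiv.Perm (Fin 5), σ ^ 3 = 1 → σ ≠ 1 →
    (Finset.univ.filter fun i => σ i = i).card = 2 := by decide +kernel

theorem card_three_cycles_five :
    (Finset.univ.filter fun σ : Equiv.Perm (Fin 5) => σ ^ 3 = 1 ∧ σ ≠ 1).card = 20 := by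
  decide +kernel

theorem isConj_three_cycles_five {σ τ : Equiv.Perm (Fin 5)} (h1 : σ ^ 3 = 1) (h2 : σ ≠ 1)
    (h3 : τ ^ 3 = 1) (h4 : τ ≠ 1) : IsConj σ τ := by
  rw [Equiv.Perm.isConj_iff_cycleType_eq]
  have key : ∀ ρ : Equiv.Perm (Fin 5), ρ ^ 3 = 1 → ρ ≠ 1 → ρ.cycleType = {3} := by
    intro ρ hρ hρ1
    have hsupp : ρ.support.card = 3 := by
      have h := card_fixed_perm_five ρ hρ hρ1
      have h' := Finset.card_compl (Finset.univ.filter fun i => ρ i = i)
      have he : ρ.support = (Finset.univ.filter fun i => ρ i = i)ᶜ := by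
        ext i
        simp
      rw [he, h', h, Fintype.card_fin]
    exact (card_support_eq_three_iff.1 hsupp).cycleType
  rw [key σ h1 h2, key τ h3 h4]

/-- A `p`-group `P` normalizing `K` fixes `|K|` modulo `p` elements of `K`. -/
theorem card_inf_centralizer_modEq {G : Type*} [Group G] [Finite G] {p : ℕ} [Fact p.Prime]
    (P K : Subgroup G) (hP : IsPGroup p P) (h : P ≤ normalizer (K : Set G)) :
    Nat.card K ≡ Nat.card (K ⊓ centralizer (P : Set G) : Subgroup G) [MOD p] := by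
  letI : MulAction P K :=
    { smul := fun u k => ⟨(u : G) * k * (u : G)⁻¹, (mem_normalizer_iff.1 (h u.2) k).1 k.2⟩
      one_smul := fun k => Subtype.ext (show (1 : G) * k * (1 : G)⁻¹ = k by group)
      mul_smul := fun u v k => Subtype.ext (show ((u : G) * v) * k * ((u : G) * v)⁻¹ =
        (u : G) * ((v : G) * k * (v : G)⁻¹) * (u : G)⁻¹ by group) }
  refine (hP.card_modEq_card_fixedPoints K).trans ?_
  have : Nat.card (MulAction.fixedPoints P K) =
      Nat.card (K ⊓ centralizer (P : Set G) : Subgroup G) := by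
    refine Nat.card_congr
      { toFun := fun k => ⟨k.1.1, k.1.2, mem_centralizer_iff.2 fun u hu =>
          mul_inv_eq_iff_eq_mul.1 (congrArg Subtype.val (k.2 ⟨u, hu⟩))⟩
        invFun := fun k => ⟨⟨k.1, k.2.1⟩, fun u => Subtype.ext (mul_inv_eq_iff_eq_mul.2
          (mem_centralizer_iff.1 k.2.2 u u.2))⟩
        left_inv := fun k => rfl
        right_inv := fun k => rfl }
  rw [this]

theorem card_normalizer_three_5760 {G : Type*} [Group G] [Finite G] [IsSimpleGroup G]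
    [Fact (Nat.Prime 5)] (hn : Nat.card G = 5760) (P : Sylow 5 G)
    (hk : Nat.card (Sylow 5 G) = 96) (W : Subgroup G) (hW : Nat.card W = 3)
    (hWN : normalizer ((P : Subgroup G) : Set G) ≤ normalizer (W : Set G)) :
    Nat.card (normalizer (W : Set G)) = 360 ∧ normalizer (W : Set G) ≠ ⊤ := by
  haveI : Fact (Nat.Prime 3) := ⟨Nat.prime_three⟩
  set L := normalizer (W : Set G) with hLdef
  have hLtop : L ≠ ⊤ := normalizer_ne_top (fun h => by rw [h, card_bot] at hW; omega)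
    (fun h => by rw [h, card_top, hn] at hW; omega)
  refine ⟨?_, hLtop⟩
  obtain ⟨A, hA, hWA⟩ := Sylow.exists_subgroup_card_pow_succ (p := 3) (n := 1) (H := W)
    (by rw [hn]; norm_num) (by rw [hW]; norm_num)
  have h9 : 9 ∣ Nat.card L := by
    have h := card_dvd_of_le (le_normalizer_of_comm hWA (comm_of_card_eq_sq hA))
    rwa [hA] at h
  obtain ⟨hd, hdG, hL⟩ := card_eq_inf_mul P (le_normalizer.trans hWN)
  rw [inf_eq_left.2 hWN, card_normalizer_of_card_sylow P hn hk (N := 60) (by norm_num)] at hL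
  rw [hn] at hdG
  have hLn : 60 * Nat.card (Sylow 5 L) ∣ 5760 := by
    have := card_subgroup_dvd_card L
    rwa [hLdef, hL, hn] at this
  have hne : 60 * Nat.card (Sylow 5 L) ≠ 5760 := fun h =>
    hLtop (eq_top_of_card_eq L (by rw [hLdef, hL, h, hn]))
  rw [hLdef, hL] at h9
  have key : ∀ d ∈ divProds [128, 9, 5], d % 5 = 1 → 60 * d ∣ 5760 → 9 ∣ 60 * d →
      60 * d ≠ 5760 → 60 * d = 360 := by decide +kernel
  rw [hLdef, hL]
  exact key _ (mem_divProds _ (by simp) _ (by simpa using hdG)) hd hLn h9 hne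

theorem false_5760_c6 {G : Type*} [Group G] [Finite G] [IsSimpleGroup G] [Fact (Nat.Prime 5)]
    (hn : Nat.card G = 5760) (hG : ¬ IsMulCommutative G) (P : Sylow 5 G)
    (hP : Nat.card (P : Subgroup G) = 5) (hk : Nat.card (Sylow 5 G) = 96)
    (hC : Nat.card (centralizer ((P : Subgroup G) : Set G)) = 5 * 6) : False := by
  haveI : Fact (Nat.Prime 2) := ⟨Nat.prime_two⟩
  obtain ⟨D, hDC, hD, -, hDN⟩ := exists_centralizer_complement hP hC (by norm_num)
  obtain ⟨⟨u, huD⟩, hu'⟩ := exists_prime_orderOf_dvd_card' (G := D) 2 (by rw [hD]; norm_num)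
  have hu : orderOf u = 2 := by rw [← hu']; exact (orderOf_mk u huD).symm
  have huu : u * u = 1 := by rw [← pow_two, ← hu, pow_orderOf_eq_one]
  have hu1 : u ≠ 1 := fun h => by rw [h, orderOf_one] at hu; omega
  rcases exists_normalized_small D _ hDN (Or.inl hD) with ⟨W, -, hW, hWN⟩ | ⟨h, -⟩
  swap
  · omega
  obtain ⟨hL, hLtop⟩ := card_normalizer_three_5760 hn P hk W hW hWN
  set L := normalizer (W : Set G)
  have hidx : L.index = 16 := (index_eq_of_card hn hL).trans (by norm_num)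
  have h1 := card_fixedBy_modEq_one_of_le P hP hWN (hDC huD)
  have h2 := four_dvd_moved hG (X := G ⧸ L) huu
  rw [← index_eq_card, hidx] at h2
  have h3 := card_fixedBy_lt_index hLtop hu1
  rw [hidx] at h3
  rw [Nat.ModEq] at h1
  omega

/-- The data left in the case `|C(P)| = 15`. -/
structure Plane5760 (G : Type*) [Group G] [Finite G] [Fact (Nat.Prime 5)] where
  P : Sylow 5 G
  W : Subgroup G
  hn : Nat.card G = 5760
  hP : Nat.card (P : Subgroup G) = 5
  hC : Nat.card (centralizer ((P : Subgroup G) : Set G)) = 5 * 3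
  hW : Nat.card W = 3
  hWC : W ≤ centralizer ((P : Subgroup G) : Set G)
  hWmem : ∀ x ∈ centralizer ((P : Subgroup G) : Set G), x ^ 3 = 1 → x ∈ W
  hWN : normalizer ((P : Subgroup G) : Set G) ≤ normalizer (W : Set G)
  hL : Nat.card (normalizer (W : Set G)) = 360
  hLtop : normalizer (W : Set G) ≠ ⊤

namespace Plane5760

variable {G : Type*} [Group G] [Finite G] [IsSimpleGroup G] [Fact (Nat.Prime 5)] (S : Plane5760 G)

/-- The normalizer of `W`. -/
abbrev L : Subgroup G := normalizer (S.W : Set G)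

/-- The point fixed by `L`. -/
abbrev o : G ⧸ S.L := ((1 : G) : G ⧸ S.L)

theorem hWL : S.W ≤ S.L := le_normalizer

theorem hPL : (S.P : Subgroup G) ≤ S.L := le_normalizer.trans S.hWN

theorem hidx : S.L.index = 16 := (index_eq_of_card S.hn S.hL).trans (by norm_num)

theorem card_points : Nat.card (G ⧸ S.L) = 16 := by rw [← index_eq_card, S.hidx]

theorem smul_o_iff (g : G) : g • S.o = S.o ↔ g ∈ S.L := by
  rw [smul_mk_eq_iff, inv_one, one_mul, mul_one]

theorem pow_three (w : G) (hw : w ∈ S.W) : w ^ 3 = 1 := by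
  have h := congrArg Subtype.val (pow_card_eq_one' (x := (⟨w, hw⟩ : S.W)))
  rw [S.hW] at h
  exact h

theorem card_fixedBy_mod_three {y : G} (hy : y ^ 3 = 1) :
    Nat.card (MulAction.fixedBy (G ⧸ S.L) y) % 3 = 1 := by
  classical
  haveI : Fact (Nat.Prime 3) := ⟨Nat.prime_three⟩
  haveI := Fintype.ofFinite (G ⧸ S.L)
  let f : Function.End (G ⧸ S.L) := fun q => y • q
  have hpow : f ^ 3 ^ 1 = 1 := by
    funext q
    show y • y • y • q = q
    rw [smul_smul, smul_smul, show y * y * y = y ^ 3 by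
      rw [pow_succ, pow_succ, pow_one], hy, one_smul]
  have h := Equiv.Perm.card_fixedPoints_modEq hpow
  rw [← Nat.card_eq_fintype_card, ← Nat.card_eq_fintype_card, S.card_points] at h
  have hF : Nat.card (MulAction.fixedBy (G ⧸ S.L) y) =
      Nat.card (Function.fixedPoints fun q : G ⧸ S.L => y • q) := rfl
  rw [hF]
  exact h.symm

theorem eq_o_of_smul_eq {w : G} (hw : w ∈ S.W) (hw1 : w ≠ 1) {q : G ⧸ S.L} (hq : w • q = q) :
    q = S.o := by
  have h1 := card_fixedBy_modEq_one_of_le S.P S.hP S.hWN (S.hWC hw)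
  have h2 := S.card_fixedBy_mod_three (S.pow_three w hw)
  have h3 := card_fixedBy_lt_index S.hLtop hw1
  rw [S.hidx] at h3
  have key : ∀ f : ℕ, f % 5 = 1 → f % 3 = 1 → f < 16 → f = 1 := by omega
  have hone : Nat.card (MulAction.fixedBy (G ⧸ S.L) w) = 1 := key _ h1 h2 h3
  exact congrArg Subtype.val ((Nat.card_eq_one_iff_unique.1 hone).1.elim
    ⟨q, hq⟩ ⟨S.o, (S.smul_o_iff w).2 (S.hWL hw)⟩)

theorem comm {y : G} (hy : y ∈ S.L) (hy3 : y ^ 3 = 1) {w : G} (hw : w ∈ S.W) :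
    y * w = w * y := by
  by_cases hw1 : w = 1
  · rw [hw1, mul_one, one_mul]
  haveI : Fact (Nat.Prime 3) := ⟨Nat.prime_three⟩
  have ho3 : orderOf w = 3 := orderOf_eq_prime (S.pow_three w hw) hw1
  have hz : y * w * y⁻¹ ∈ zpowers w := by
    rw [eq_of_le_of_card_ge (zpowers_le.2 hw) (by rw [S.hW, Nat.card_zpowers, ho3])]
    exact (mem_normalizer_iff.1 hy w).1 hw
  classical
  rw [mem_zpowers_iff_mem_range_orderOf, ho3, Finset.mem_image] at hz
  obtain ⟨i, hi, hwi⟩ := hz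
  rw [Finset.mem_range] at hi
  interval_cases i
  · rw [pow_zero] at hwi
    exact absurd (conj_eq_one_iff.1 hwi.symm) hw1
  · rw [pow_one] at hwi
    exact (mul_inv_eq_iff_eq_mul.1 hwi.symm)
  · exfalso
    have h2 : y * (y * w * y⁻¹) * y⁻¹ = w ^ 4 := by
      rw [← hwi, ← conj_pow, ← hwi, ← pow_mul]
    have h3 : y * (y * (y * w * y⁻¹) * y⁻¹) * y⁻¹ = w ^ 8 := by
      rw [h2, ← conj_pow, ← hwi, ← pow_mul]
    rw [show y * (y * (y * w * y⁻¹) * y⁻¹) * y⁻¹ = y ^ 3 * w * (y ^ 3)⁻¹ by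
        simp only [pow_succ, pow_zero, one_mul, mul_inv_rev, mul_assoc], hy3,
      one_mul, inv_one, mul_one, ← pow_mod_orderOf w 8, ho3] at h3
    norm_num at h3
    rw [pow_two] at h3
    exact hw1 (left_eq_mul.1 h3)

theorem card_orbit {q : G ⧸ S.L} (hq : q ≠ S.o) : Nat.card (MulAction.orbit S.W q) = 3 := by
  rw [← S.hW]
  refine (Nat.card_eq_of_bijective (fun w : S.W => (⟨w • q, MulAction.mem_orbit q w⟩ :
    MulAction.orbit S.W q)) ⟨fun a b h => ?_, fun ⟨r, w, hw⟩ => ⟨w, Subtype.ext hw⟩⟩).symm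
  have h : (a : G) • q = (b : G) • q := congrArg Subtype.val h
  by_contra hne
  refine hq (S.eq_o_of_smul_eq (b⁻¹ * a).2 (fun h1 => hne ?_) ?_)
  · exact (inv_mul_eq_one.1 (Subtype.ext h1 : b⁻¹ * a = 1)).symm
  · push_cast
    rw [mul_smul, h, inv_smul_smul]

theorem smul_ne_o {g : G} (hg : g ∈ S.L) {q : G ⧸ S.L} (hq : q ≠ S.o) : g • q ≠ S.o := fun h =>
  hq (by rwa [← (S.smul_o_iff g).2 hg, smul_left_cancel_iff] at h)

theorem o_notMem_orbit {q : G ⧸ S.L} (hq : q ≠ S.o) : S.o ∉ MulAction.orbit S.W q := by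
  rintro ⟨w, hw⟩
  exact S.smul_ne_o (S.hWL w.2) hq hw

theorem smul_orbit_eq {g : G} (hg : g ∈ S.L) (q : G ⧸ S.L) :
    g • MulAction.orbit S.W q = MulAction.orbit S.W (g • q) := by
  ext r
  rw [Set.mem_smul_set]
  constructor
  · rintro ⟨_, ⟨w, rfl⟩, rfl⟩
    refine ⟨⟨g * w * g⁻¹, (mem_normalizer_iff.1 hg w).1 w.2⟩, ?_⟩
    show (g * w * g⁻¹) • g • q = g • (w : G) • q
    rw [smul_smul, smul_smul, inv_mul_cancel_right]
  · rintro ⟨w, rfl⟩
    refine ⟨(g⁻¹ * w * g) • q, ⟨⟨g⁻¹ * w * g, ?_⟩, rfl⟩, ?_⟩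
    · have := (mem_normalizer_iff.1 (inv_mem hg : g⁻¹ ∈ S.L) w).1 w.2
      simpa using this
    · show g • (g⁻¹ * w * g) • q = (w : G) • g • q
      rw [smul_smul, smul_smul, mul_assoc, mul_inv_cancel_left]

/-- The action of `L` on the five `W`-orbits. -/
theorem exists_blocks : ∃ (φ : S.L →* Equiv.Perm (Fin 5)) (b : {q : G ⧸ S.L // q ≠ S.o} → Fin 5),
    Function.Surjective b ∧ (∀ q r, b q = b r ↔ r.1 ∈ MulAction.orbit S.W q.1) ∧
    ∀ (g : S.L) (q : {q : G ⧸ S.L // q ≠ S.o}),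
      φ g (b q) = b ⟨(g : G) • q.1, S.smul_ne_o g.2 q.2⟩ := by
  classical
  haveI := Fintype.ofFinite (G ⧸ S.L)
  let Bl : Set (Set (G ⧸ S.L)) := {T | ∃ q, q ≠ S.o ∧ T = MulAction.orbit S.W q}
  letI : MulAction S.L Bl :=
    { smul := fun g T => ⟨(g : G) • T.1, by
        obtain ⟨q, hq, hT⟩ := T.2
        exact ⟨(g : G) • q, S.smul_ne_o g.2 hq, by rw [hT, S.smul_orbit_eq g.2]⟩⟩
      one_smul := fun T => Subtype.ext (one_smul G T.1)
      mul_smul := fun g h T => Subtype.ext (mul_smul (g : G) (h : G) T.1) }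
  let bl : {q : G ⧸ S.L // q ≠ S.o} → Bl := fun q => ⟨_, q.1, q.2, rfl⟩
  have hbl : ∀ q r, bl q = bl r ↔ r.1 ∈ MulAction.orbit S.W q.1 := fun q r =>
    ⟨fun h => MulAction.orbit_eq_iff.1 (congrArg Subtype.val h).symm,
      fun h => Subtype.ext (MulAction.orbit_eq_iff.2 h).symm⟩
  have hsurj : Function.Surjective bl := by
    rintro ⟨T, q, hq, rfl⟩
    exact ⟨⟨q, hq⟩, rfl⟩
  haveI := Fintype.ofFinite Bl
  have hB : Fintype.card Bl = 5 := by
    have h := Nat.card_congr (Equiv.sigmaFiberEquiv bl)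
    have hfib : ∀ T : Bl, Nat.card {q // bl q = T} = 3 := by
      intro T
      obtain ⟨q, rfl⟩ := hsurj T
      rw [← S.card_orbit q.2]
      refine Nat.card_congr
        { toFun := fun r => ⟨r.1.1, (hbl q r.1).1 r.2.symm⟩
          invFun := fun r => ⟨⟨r.1, fun h => S.o_notMem_orbit q.2 (by have := r.2; rwa [h] at this)⟩,
            ((hbl q _).2 r.2).symm⟩
          left_inv := fun r => rfl
          right_inv := fun r => rfl }
    rw [Nat.card_sigma, Finset.sum_congr rfl (fun T _ => hfib T), Finset.sum_const, Finset.card_univ,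
      Nat.card_eq_fintype_card (α := {q : G ⧸ S.L // q ≠ S.o}),
      Fintype.card_subtype_compl, Fintype.card_subtype_eq, smul_eq_mul] at h
    have h16 := S.card_points
    rw [Nat.card_eq_fintype_card] at h16
    omega
  let e : Bl ≃ Fin 5 := Fintype.equivFinOfCardEq hB
  refine ⟨e.permCongrHom.toMonoidHom.comp (MulAction.toPermHom S.L Bl), fun q => e (bl q),
    e.surjective.comp hsurj, fun q r => e.injective.eq_iff.trans (hbl q r), fun g q => ?_⟩
  have : g • bl q = bl ⟨(g : G) • q.1, S.smul_ne_o g.2 q.2⟩ :=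
    Subtype.ext (S.smul_orbit_eq g.2 q.1)
  simp [← this]

variable {S} {φ : S.L →* Equiv.Perm (Fin 5)} {b : {q : G ⧸ S.L // q ≠ S.o} → Fin 5}

theorem smul_mem_orbit_of_mem_ker (hb : ∀ q r, b q = b r ↔ r.1 ∈ MulAction.orbit S.W q.1)
    (hφ : ∀ (g : S.L) (q : {q : G ⧸ S.L // q ≠ S.o}),
      φ g (b q) = b ⟨(g : G) • q.1, S.smul_ne_o g.2 q.2⟩)
    {k : S.L} (hk : φ k = 1) {q : G ⧸ S.L} (hq : q ≠ S.o) :
    ∃ w ∈ S.W, (k : G) • q = w • q := by
  have h := hφ k ⟨q, hq⟩
  rw [hk, Equiv.Perm.one_apply, hb] at h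
  obtain ⟨w, hw⟩ := h
  exact ⟨w, w.2, hw.symm⟩

theorem mem_ker_of_mem (hbs : Function.Surjective b)
    (hb : ∀ q r, b q = b r ↔ r.1 ∈ MulAction.orbit S.W q.1)
    (hφ : ∀ (g : S.L) (q : {q : G ⧸ S.L // q ≠ S.o}),
      φ g (b q) = b ⟨(g : G) • q.1, S.smul_ne_o g.2 q.2⟩)
    {w : G} (hw : w ∈ S.W) : (⟨w, S.hWL hw⟩ : S.L) ∈ φ.ker := by
  refine MonoidHom.mem_ker.2 (Equiv.ext fun i => ?_)
  obtain ⟨q, rfl⟩ := hbs i
  rw [hφ, Equiv.Perm.one_apply, eq_comm, hb]
  exact ⟨⟨w, hw⟩, rfl⟩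

theorem map_ker_eq (hbs : Function.Surjective b)
    (hb : ∀ q r, b q = b r ↔ r.1 ∈ MulAction.orbit S.W q.1)
    (hφ : ∀ (g : S.L) (q : {q : G ⧸ S.L // q ≠ S.o}),
      φ g (b q) = b ⟨(g : G) • q.1, S.smul_ne_o g.2 q.2⟩) :
    φ.ker.map S.L.subtype = S.W := by
  classical
  haveI : Fact (Nat.Prime 3) := ⟨Nat.prime_three⟩
  set K := φ.ker.map S.L.subtype with hK
  have hWK : S.W ≤ K := fun w hw => ⟨⟨w, S.hWL hw⟩, mem_ker_of_mem hbs hb hφ hw, rfl⟩
  have hKL : K ≤ S.L := map_subtype_le _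
  have hKS : ∀ k ∈ K, ∀ q, q ≠ S.o → ∃ w ∈ S.W, k • q = w • q := by
    rintro _ ⟨k, hk, rfl⟩ q hq
    exact smul_mem_orbit_of_mem_ker hb hφ hk hq
  obtain ⟨q₀, hq₀⟩ : ∃ q : G ⧸ S.L, q ≠ S.o := ⟨_, (hbs 0).choose.2⟩
  have ho5 : ∀ x ∈ (S.P : Subgroup G), x ≠ 1 → orderOf x = 5 := fun x hx hx1 => by
    have := Subgroup.orderOf_dvd_natCard _ hx
    rw [S.hP] at this
    exact ((Nat.dvd_prime (by norm_num)).1 this).resolve_left (by simpa using hx1)
  have hKP : K ⊓ (S.P : Subgroup G) = ⊥ := by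
    rw [eq_bot_iff]
    rintro x ⟨hxK, hxP⟩
    rw [mem_bot]
    by_contra hx1
    have hinj : ∀ i < 5, ∀ j < 5, i < j → x ^ i • q₀ = x ^ j • q₀ → False := by
      intro i hi j hj hij h
      rw [show x ^ j = x ^ i * x ^ (j - i) by rw [← pow_add]; congr 1; omega, mul_smul,
        smul_left_cancel_iff] at h
      have hne : x ^ (j - i) ≠ 1 := fun h1 => by
        have := Nat.le_of_dvd (by omega) (orderOf_dvd_of_pow_eq_one h1)
        rw [ho5 x hxP hx1] at this
        omega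
      exact hq₀ (congrArg Subtype.val ((Nat.card_eq_one_iff_unique.1
        (card_fixedBy_eq_one_of_le S.P S.hP S.hWN (pow_mem hxP _)
          (ho5 _ (pow_mem hxP _) hne))).1.elim ⟨q₀, h.symm⟩
            ⟨S.o, (S.smul_o_iff _).2 (pow_mem (S.hPL hxP) _)⟩))
    obtain ⟨i, j, hij, h⟩ : ∃ i j : Fin 5, i ≠ j ∧ x ^ (i : ℕ) • q₀ = x ^ (j : ℕ) • q₀ := by
      by_contra hno
      push Not at hno
      have hmem : ∀ i : Fin 5, x ^ (i : ℕ) • q₀ ∈ MulAction.orbit S.W q₀ := fun i => by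
        obtain ⟨w, hw, hw'⟩ := hKS (x ^ (i : ℕ)) (pow_mem hxK _) q₀ hq₀
        exact ⟨⟨w, hw⟩, hw'.symm⟩
      have hc := Nat.card_le_card_of_injective
        (fun i : Fin 5 => (⟨_, hmem i⟩ : MulAction.orbit S.W q₀)) fun a c hac => by
          by_contra hne
          exact hno a c hne (congrArg Subtype.val hac)
      rw [S.card_orbit hq₀, Nat.card_eq_fintype_card, Fintype.card_fin] at hc
      omega
    rcases lt_or_gt_of_ne hij with hlt | hlt
    · exact hinj i i.2 j j.2 hlt h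
    · exact hinj j j.2 i i.2 hlt h.symm
  have hKn : ∀ g ∈ S.L, g ∈ normalizer (K : Set G) := by
    have key : ∀ g ∈ S.L, ∀ k ∈ K, g * k * g⁻¹ ∈ K := by
      rintro g hg _ ⟨k, hk, rfl⟩
      exact ⟨⟨g, hg⟩ * k * ⟨g, hg⟩⁻¹, (MonoidHom.normal_ker φ).conj_mem k hk _, rfl⟩
    intro g hg
    refine mem_normalizer_iff.2 fun k => ⟨key g hg k, fun h => ?_⟩
    have := key g⁻¹ (inv_mem hg) _ h
    rwa [show g⁻¹ * (g * k * g⁻¹) * g⁻¹⁻¹ = k by group] at this
  have hKC : K ⊓ centralizer ((S.P : Subgroup G) : Set G) = S.W := by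
    refine le_antisymm ?_ (le_inf hWK S.hWC)
    rintro k ⟨hkK, hkC⟩
    refine S.hWmem k hkC ?_
    have h15 : k ^ (5 * 3) = 1 := by
      obtain ⟨i, hi⟩ := S.hC ▸ Subgroup.orderOf_dvd_natCard _ hkC
      rw [hi, pow_mul, pow_orderOf_eq_one, one_pow]
    by_contra hne
    have h5 : k ^ 3 ∈ (S.P : Subgroup G) := mem_sylow_of_mem_normalizer S.P
      (orderOf_eq_prime (by rw [← pow_mul]; exact h15) hne)
      (centralizer_le_normalizer _ (pow_mem hkC 3))
    exact hne (mem_bot.1 (hKP ▸ (⟨pow_mem hkK 3, h5⟩ : k ^ 3 ∈ K ⊓ (S.P : Subgroup G))))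
  set K₀ := K ⊓ centralizer (S.W : Set G) with hK₀
  have hK₀3 : ∀ k ∈ K₀, k ^ 3 = 1 := by
    rintro k ⟨hkK, hkW⟩
    apply toPermHom_injective S.hLtop
    rw [map_one]
    ext q
    show k ^ 3 • q = q
    by_cases hq : q = S.o
    · rw [hq]; exact (S.smul_o_iff _).2 (pow_mem (hKL hkK) 3)
    obtain ⟨w, hw, hkq⟩ := hKS k hkK q hq
    have hc : Commute k w := (mem_centralizer_iff.1 hkW w hw).symm
    rw [show k ^ 3 = k * k * k by rw [pow_succ, pow_succ, pow_one], mul_smul, mul_smul, hkq,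
      smul_smul k w, hc.eq, mul_smul, hkq, smul_smul w w, smul_smul k (w * w),
      (hc.mul_right hc).eq, mul_smul, hkq, smul_smul, show w * w * w = w ^ 3 by
        rw [pow_succ, pow_succ, pow_one], S.pow_three w hw, one_smul]
  have hWcomm : S.W ≤ centralizer (S.W : Set G) := fun a ha => mem_centralizer_iff.2 fun c hc =>
    S.comm (S.hWL hc) (S.pow_three c hc) ha
  have hK₀W : Nat.card K₀ = 3 := by
    have hp3 : IsPGroup 3 K₀ := fun k => ⟨1, Subtype.ext (by
      rw [pow_one, SubmonoidClass.coe_pow]; exact hK₀3 k k.2)⟩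
    obtain ⟨i, hi⟩ := hp3.exists_card_eq
    have h3K : 3 ∣ Nat.card K₀ := S.hW ▸ card_dvd_of_le (le_inf hWK hWcomm)
    have hi2 : i ≤ 2 := by
      have h : Nat.card K₀ ∣ 360 := S.hL ▸ card_dvd_of_le (inf_le_left.trans hKL)
      rw [hi] at h
      by_contra hlt
      exact absurd ((pow_dvd_pow 3 (by omega : 3 ≤ i)).trans h) (by norm_num)
    have hnorm : (S.P : Subgroup G) ≤ normalizer (K₀ : Set G) := by
      intro x hx
      have hxW : x ∈ centralizer (S.W : Set G) := mem_centralizer_iff.2 fun w hw =>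
        (mem_centralizer_iff.1 (S.hWC hw) x hx).symm
      refine mem_normalizer_iff.2 fun k => and_congr (mem_normalizer_iff.1 (hKn x (S.hPL hx)) k) ?_
      exact ((mul_mem_cancel_right (inv_mem hxW)).trans (mul_mem_cancel_left hxW)).symm
    have hmod := card_inf_centralizer_modEq (S.P : Subgroup G) K₀ S.P.isPGroup' hnorm
    have heq : K₀ ⊓ centralizer ((S.P : Subgroup G) : Set G) = S.W :=
      le_antisymm ((inf_le_inf_right _ inf_le_left).trans hKC.le)
        (le_inf (le_inf hWK hWcomm) S.hWC)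
    rw [heq, S.hW, hi, Nat.ModEq] at hmod
    rw [hi] at h3K ⊢
    interval_cases i <;> first | rfl | norm_num at hmod
  obtain ⟨w₀, hw₀⟩ := exists_prime_orderOf_dvd_card' (G := S.W) 3 (by rw [S.hW])
  have hw₀' : orderOf (w₀ : G) = 3 := by rw [orderOf_coe, hw₀]
  have hz : zpowers (w₀ : G) = S.W :=
    eq_of_le_of_card_ge (zpowers_le.2 w₀.2) (by rw [S.hW, Nat.card_zpowers, hw₀'])
  have hle : Nat.card K ≤ 2 * 3 := by
    have hmul := relIndex_mul_relIndex (⊥ : Subgroup G) K₀ K bot_le inf_le_left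
    rw [relIndex_bot_left, relIndex_bot_left, hK₀, inf_relIndex_left, ← hK₀, hK₀W] at hmul
    have hlt : (centralizer (S.W : Set G)).relIndex K < 3 := by
      rw [← hz, centralizer_zpowers, ← S.hW]
      exact relIndex_centralizer_lt S.W K hKL w₀.2
        (fun h => by rw [h, orderOf_one] at hw₀'; omega)
    rw [← hmul]
    omega
  have hmod := card_inf_centralizer_modEq (S.P : Subgroup G) K S.P.isPGroup'
    (fun x hx => hKn x (S.hPL hx))
  rw [hKC, S.hW, Nat.ModEq] at hmod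
  have h3K : 3 ∣ Nat.card K := S.hW ▸ card_dvd_of_le hWK
  have hpos : 0 < Nat.card K := Nat.card_pos
  exact (eq_of_le_of_card_ge hWK (by rw [S.hW]; omega)).symm

theorem surjective_hom (hker : φ.ker.map S.L.subtype = S.W) : Function.Surjective φ := by
  rw [← MonoidHom.range_eq_top]
  apply eq_top_of_card_eq
  have h := φ.ker.card_mul_index
  rw [index_ker, S.hL] at h
  have hk3 : Nat.card φ.ker = 3 := by
    rw [← S.hW, ← hker, card_map_of_injective S.L.subtype_injective]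
  rw [hk3] at h
  rw [Nat.card_perm, Nat.card_eq_fintype_card (α := Fin 5), Fintype.card_fin]
  simp only [Nat.factorial]
  omega

theorem card_fixedBy_ne_seven (hker : φ.ker.map S.L.subtype = S.W) {y : G} (hyL : y ∈ S.L)
    (hy3 : y ^ 3 = 1) (hy1 : y ≠ 1) : Nat.card (MulAction.fixedBy (G ⧸ S.L) y) ≠ 7 := by
  classical
  intro h7
  let T := {g : G // IsConj y g ∧ g ∈ S.L}
  have hnotW : ∀ g : S.L, (g : G) ^ 3 = 1 → (g : G) ∉ S.W → φ g ^ 3 = 1 ∧ φ g ≠ 1 := by
    intro g hg hgW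
    refine ⟨by rw [← map_pow, show g ^ 3 = 1 from Subtype.ext hg, map_one], fun h => hgW ?_⟩
    rw [← hker]
    exact ⟨g, h, rfl⟩
  have hconjT : ∀ g : T, (g : G) ^ 3 = 1 ∧ (g : G) ∉ S.W := by
    rintro ⟨g, hg, hgL⟩
    obtain ⟨a, rfl⟩ := isConj_iff.1 hg
    refine ⟨by rw [conj_pow, hy3, mul_one, mul_inv_cancel], fun hgW => ?_⟩
    have hne : a * y * a⁻¹ ≠ 1 := fun h => hy1 (conj_eq_one_iff.1 h)
    have hone : Nat.card (MulAction.fixedBy (G ⧸ S.L) (a * y * a⁻¹)) ≤ 1 :=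
      Finite.card_le_one_iff_subsingleton.2 ⟨fun r s => Subtype.ext
        ((S.eq_o_of_smul_eq hgW hne r.2).trans (S.eq_o_of_smul_eq hgW hne s.2).symm)⟩
    have hinj : Nat.card (MulAction.fixedBy (G ⧸ S.L) y) ≤
        Nat.card (MulAction.fixedBy (G ⧸ S.L) (a * y * a⁻¹)) := by
      refine Nat.card_le_card_of_injective (fun r => ⟨a • r.1, ?_⟩) fun r s h =>
        Subtype.ext (smul_left_cancel a (congrArg Subtype.val h))
      show (a * y * a⁻¹) • a • r.1 = a • r.1
      rw [smul_smul, inv_mul_cancel_right, mul_smul, show y • r.1 = r.1 from r.2]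
    omega
  let C3 := {σ : Equiv.Perm (Fin 5) // σ ^ 3 = 1 ∧ σ ≠ 1}
  let ψ : T → C3 := fun g => ⟨φ ⟨g.1, g.2.2⟩, hnotW ⟨g.1, g.2.2⟩ (hconjT g).1 (hconjT g).2⟩
  have hfib : ∀ σ τ : C3, Nat.card {g // ψ g = σ} ≤ Nat.card {g // ψ g = τ} := by
    intro σ τ
    obtain ⟨π, hπ⟩ := isConj_iff.1 (isConj_three_cycles_five σ.2.1 σ.2.2 τ.2.1 τ.2.2)
    obtain ⟨l, rfl⟩ := surjective_hom hker π
    refine Nat.card_le_card_of_injective (fun g => ⟨⟨(l : G) * g.1.1 * (l : G)⁻¹,
      g.1.2.1.trans (isConj_iff.2 ⟨l, rfl⟩), mul_mem (mul_mem l.2 g.1.2.2) (inv_mem l.2)⟩,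
      ?_⟩) fun g h hgh => Subtype.ext (Subtype.ext ?_)
    · apply Subtype.ext
      show φ (l * ⟨g.1.1, g.1.2.2⟩ * l⁻¹) = τ.1
      rw [map_mul, map_mul, map_inv, show φ ⟨g.1.1, g.1.2.2⟩ = σ.1 from
        congrArg Subtype.val g.2, hπ]
    · exact mul_left_cancel (mul_right_cancel
        (congrArg (fun z => ((z.1 : T) : G)) hgh : (l : G) * g.1.1 * (l : G)⁻¹ = _))
  obtain ⟨σ₀, hσ₀⟩ : ∃ σ : C3, ψ ⟨y, IsConj.refl y, hyL⟩ = σ := ⟨_, rfl⟩
  set m := Nat.card {g // ψ g = σ₀} with hm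
  have hm1 : 1 ≤ m := by
    haveI : Nonempty {g // ψ g = σ₀} := ⟨⟨_, hσ₀⟩⟩
    exact Nat.card_pos
  have hm3 : m ≤ 3 := by
    rw [hm, ← S.hW]
    refine Nat.card_le_card_of_injective (fun g => (⟨g.1.1 * y⁻¹, ?_⟩ : S.W)) fun g h hgh =>
      Subtype.ext (Subtype.ext (mul_right_cancel (congrArg Subtype.val hgh)))
    rw [← hker]
    refine ⟨⟨g.1.1, g.1.2.2⟩ * ⟨y, hyL⟩⁻¹, ?_, rfl⟩
    rw [SetLike.mem_coe, MonoidHom.mem_ker, map_mul, map_inv, mul_inv_eq_one]
    exact congrArg Subtype.val (g.2.trans hσ₀.symm)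
  have hT : Nat.card T = 20 * m := by
    haveI := Fintype.ofFinite C3
    rw [← Nat.card_congr (Equiv.sigmaFiberEquiv ψ), Nat.card_sigma,
      Finset.sum_congr rfl (g := fun _ => m) (fun σ _ =>
        le_antisymm (hfib σ σ₀) (hfib σ₀ σ)), Finset.sum_const, Finset.card_univ,
      Fintype.card_subtype, smul_eq_mul]
    congr 1
  have h := card_fixedBy_mul_card_class S.L y
  rw [h7, S.hidx, show Nat.card {g : G // IsConj y g ∧ g ∈ S.L} = 20 * m from hT] at h
  omega

/-- An element of order three fixing two points fixes exactly a block and its base point. -/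
theorem fixedBy_eq (hbs : Function.Surjective b)
    (hb : ∀ q r, b q = b r ↔ r.1 ∈ MulAction.orbit S.W q.1)
    (hφ : ∀ (g : S.L) (q : {q : G ⧸ S.L // q ≠ S.o}),
      φ g (b q) = b ⟨(g : G) • q.1, S.smul_ne_o g.2 q.2⟩)
    {y : G} (hyL : y ∈ S.L) (hy3 : y ^ 3 = 1) (hy1 : y ≠ 1) {q : G ⧸ S.L} (hq : q ≠ S.o)
    (hyq : y • q = q) :
    MulAction.fixedBy (G ⧸ S.L) y = insert S.o (MulAction.orbit S.W q) := by
  classical
  haveI := Fintype.ofFinite (G ⧸ S.L)
  have hker := map_ker_eq hbs hb hφ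
  set F := MulAction.fixedBy (G ⧸ S.L) y with hF
  have hsub : insert S.o (MulAction.orbit S.W q) ⊆ F := by
    rintro r (rfl | ⟨w, rfl⟩)
    · exact (S.smul_o_iff y).2 hyL
    · show y • (w : G) • q = (w : G) • q
      rw [smul_smul, S.comm hyL hy3 w.2, mul_smul, hyq]
  have hins : (insert S.o (MulAction.orbit S.W q) : Set (G ⧸ S.L)).ncard = 4 := by
    rw [Set.ncard_insert_of_notMem (S.o_notMem_orbit hq), ← Nat.card_coe_set_eq, S.card_orbit hq]
  have h1 : φ ⟨y, hyL⟩ ≠ 1 := fun h => hq (S.eq_o_of_smul_eq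
    (hker ▸ (⟨⟨y, hyL⟩, h, rfl⟩ : y ∈ φ.ker.map S.L.subtype)) hy1 hyq)
  have h3 : φ ⟨y, hyL⟩ ^ 3 = 1 := by
    rw [← map_pow, show (⟨y, hyL⟩ : S.L) ^ 3 = 1 from Subtype.ext hy3, map_one]
  set F' : Finset {q : G ⧸ S.L // q ≠ S.o} := Finset.univ.filter fun r => y • r.1 = r.1 with hF'
  have hfibre : ∀ i ∈ F'.image b, (F'.filter fun r => b r = i).card ≤ 3 := by
    intro i _
    obtain ⟨q', rfl⟩ := hbs i
    have h := S.card_orbit q'.2
    rw [Nat.card_eq_fintype_card, ← Set.toFinset_card] at h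
    rw [← h]
    refine Finset.card_le_card_of_injOn Subtype.val (fun r hr => ?_) Subtype.val_injective.injOn
    rw [Finset.mem_coe, Set.mem_toFinset]
    exact (hb _ _).1 (Finset.mem_filter.1 hr).2.symm
  have hsub' : F'.image b ⊆ Finset.univ.filter fun i => φ ⟨y, hyL⟩ i = i := by
    intro i hi
    obtain ⟨r, hr, rfl⟩ := Finset.mem_image.1 hi
    refine Finset.mem_filter.2 ⟨Finset.mem_univ _, ?_⟩
    rw [hφ]
    congr 1
    exact Subtype.ext (Finset.mem_filter.1 hr).2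
  have hcard : F'.card ≤ 6 := by
    refine (Finset.card_le_mul_card_image (f := b) F' 3 hfibre).trans ?_
    have := Finset.card_le_card hsub'
    rw [card_fixed_perm_five _ h3 h1] at this
    omega
  have hins' : F.toFinset ⊆ insert S.o (F'.map ⟨Subtype.val, Subtype.val_injective⟩) := by
    intro r hr
    by_cases h : r = S.o
    · rw [h]; exact Finset.mem_insert_self _ _
    · exact Finset.mem_insert_of_mem (Finset.mem_map.2 ⟨⟨r, h⟩,
        Finset.mem_filter.2 ⟨Finset.mem_univ _, (Set.mem_toFinset.1 hr : r ∈ F)⟩, rfl⟩)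
  have hle := (Finset.card_le_card hins').trans (Finset.card_insert_le _ _)
  rw [← Set.ncard_eq_toFinset_card', Finset.card_map] at hle
  have hge := Set.ncard_le_ncard hsub (Set.toFinite F)
  rw [hins] at hge
  have hmod := S.card_fixedBy_mod_three hy3
  have h7 := card_fixedBy_ne_seven hker hyL hy3 hy1
  rw [← hF, Nat.card_coe_set_eq] at hmod h7
  exact (Set.eq_of_subset_of_ncard_le hsub (by rw [hins]; omega) (Set.toFinite F)).symm

theorem exists_fixing (hbs : Function.Surjective b)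
    (hb : ∀ q r, b q = b r ↔ r.1 ∈ MulAction.orbit S.W q.1)
    (hφ : ∀ (g : S.L) (q : {q : G ⧸ S.L // q ≠ S.o}),
      φ g (b q) = b ⟨(g : G) • q.1, S.smul_ne_o g.2 q.2⟩)
    {q : G ⧸ S.L} (hq : q ≠ S.o) : ∃ y ∈ S.L, orderOf y = 3 ∧ y • q = q := by
  classical
  haveI := Fintype.ofFinite (G ⧸ S.L)
  haveI : Fact (Nat.Prime 3) := ⟨Nat.prime_three⟩
  have horbit : MulAction.orbit S.L q = {r | r ≠ S.o} := by
    ext r
    refine ⟨fun ⟨g, hg⟩ => hg ▸ S.smul_ne_o g.2 hq, fun hr => ?_⟩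
    obtain ⟨g, hg⟩ := surjective_hom (map_ker_eq hbs hb hφ)
      (Equiv.swap (b ⟨q, hq⟩) (b ⟨r, hr⟩))
    have h := hφ g ⟨q, hq⟩
    rw [hg, Equiv.swap_apply_left, hb] at h
    obtain ⟨w, hw⟩ := h
    have hw : (w : G) • r = (g : G) • q := hw
    refine ⟨⟨(w : G), S.hWL w.2⟩⁻¹ * g, ?_⟩
    show ((w : G)⁻¹ * g) • q = r
    rw [mul_smul, ← hw, inv_smul_smul]
  have hcard : Nat.card (MulAction.orbit S.L q) * Nat.card (MulAction.stabilizer S.L q) = 360 := by
    rw [← S.hL, ← Nat.card_prod, Nat.card_congr (MulAction.orbitProdStabilizerEquivGroup S.L q)]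
  have h15 : Nat.card (MulAction.orbit S.L q) = 15 := by
    rw [horbit]
    show Nat.card {r // r ≠ S.o} = 15
    rw [Nat.card_eq_fintype_card, Fintype.card_subtype_compl, Fintype.card_subtype_eq,
      ← Nat.card_eq_fintype_card, S.card_points]
  rw [h15] at hcard
  obtain ⟨y, hy⟩ := exists_prime_orderOf_dvd_card' (G := MulAction.stabilizer S.L q) 3
    (by rw [show Nat.card (MulAction.stabilizer S.L q) = 24 by omega]; norm_num)
  exact ⟨(y : S.L), (y : S.L).2, by rw [orderOf_coe, orderOf_coe, hy], y.2⟩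

/-- The fixed point sets of elements of order three with four fixed points. -/
def lines (S : Plane5760 G) : Set (Set (G ⧸ S.L)) :=
  {T | ∃ y : G, orderOf y = 3 ∧ T = MulAction.fixedBy (G ⧸ S.L) y ∧ T.ncard = 4}

theorem smul_mem_lines (g : G) {T : Set (G ⧸ S.L)} (hT : T ∈ S.lines) : g • T ∈ S.lines := by
  obtain ⟨y, hy, rfl, hc⟩ := hT
  refine ⟨g * y * g⁻¹, ?_, ?_, by rw [Set.ncard_smul_set, hc]⟩
  · rw [← MulAut.conj_apply, MulEquiv.orderOf_eq, hy]
  · ext r
    rw [Set.mem_smul_set_iff_inv_smul_mem]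
    show y • g⁻¹ • r = g⁻¹ • r ↔ (g * y * g⁻¹) • r = r
    rw [mul_smul, mul_smul]
    exact (smul_left_cancel_iff g).symm.trans (by rw [smul_inv_smul])

theorem false_of_plane (S : Plane5760 G) : False := by
  classical
  obtain ⟨φ, b, hbs, hb, hφ⟩ := S.exists_blocks
  have hbase : ∀ T ∈ S.lines, S.o ∈ T → ∀ q ∈ T, q ≠ S.o →
      T = insert S.o (MulAction.orbit S.W q) := by
    rintro T ⟨y, hy, rfl, -⟩ hoT q hqT hq
    exact fixedBy_eq hbs hb hφ ((S.smul_o_iff y).1 hoT) (by rw [← hy]; exact pow_orderOf_eq_one y)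
      (fun h => by rw [h, orderOf_one] at hy; omega) hq hqT
  have hline : ∀ q, q ≠ S.o → insert S.o (MulAction.orbit S.W q) ∈ S.lines := by
    intro q hq
    obtain ⟨y, hyL, hy, hyq⟩ := exists_fixing hbs hb hφ hq
    have h := fixedBy_eq hbs hb hφ hyL (by rw [← hy]; exact pow_orderOf_eq_one y)
      (fun h => by rw [h, orderOf_one] at hy; omega) hq hyq
    refine ⟨y, hy, h.symm, ?_⟩
    rw [Set.ncard_insert_of_notMem (S.o_notMem_orbit hq), ← Nat.card_coe_set_eq, S.card_orbit hq]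
  have htrans : ∀ a : G ⧸ S.L, ∃ g : G, g • S.o = a := fun a => MulAction.exists_smul_eq G S.o a
  choose sec hsec using hbs
  have hfive : ∀ a : G ⧸ S.L, Nat.card {T : S.lines // a ∈ T.1} = 5 := by
    intro a
    obtain ⟨g, rfl⟩ := htrans a
    rw [← Fintype.card_fin 5, ← Nat.card_eq_fintype_card (α := Fin 5)]
    refine (Nat.card_eq_of_bijective (fun i : Fin 5 =>
      (⟨⟨g • insert S.o (MulAction.orbit S.W (sec i).1), smul_mem_lines g (hline _ (sec i).2)⟩,
        Set.smul_mem_smul_set (Set.mem_insert _ _)⟩ : {T : S.lines // g • S.o ∈ T.1}))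
      ⟨fun i j h => ?_, fun U => ?_⟩).symm
    · have h : insert S.o (MulAction.orbit S.W (sec i).1) =
          insert S.o (MulAction.orbit S.W (sec j).1) :=
        smul_left_cancel g (congrArg (fun U => (U.1 : Set (G ⧸ S.L))) h)
      have hmem : (sec j).1 ∈ insert S.o (MulAction.orbit S.W (sec i).1) :=
        h ▸ Set.mem_insert_of_mem _ (MulAction.mem_orbit_self _)
      have hbb := (hb (sec i) (sec j)).2 (hmem.resolve_left (sec j).2)
      rwa [hsec, hsec] at hbb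
    · obtain ⟨⟨U, hU⟩, hgU⟩ := U
      have hmem : S.o ∈ g⁻¹ • U := Set.mem_inv_smul_set_iff.2 hgU
      obtain ⟨q, hqU, hq⟩ : ∃ q ∈ g⁻¹ • U, q ≠ S.o := by
        obtain ⟨y, -, -, hc⟩ := smul_mem_lines g⁻¹ hU
        exact Set.exists_ne_of_one_lt_ncard (by rw [hc]; norm_num) S.o
      refine ⟨b ⟨q, hq⟩, Subtype.ext (Subtype.ext ?_)⟩
      have hq' : q ∈ MulAction.orbit S.W (sec (b ⟨q, hq⟩)).1 :=
        (hb (sec (b ⟨q, hq⟩)) ⟨q, hq⟩).1 (hsec _)
      show g • insert S.o (MulAction.orbit S.W (sec (b ⟨q, hq⟩)).1) = U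
      rw [← MulAction.orbit_eq_iff.2 hq', ← hbase _ (smul_mem_lines g⁻¹ hU) hmem q hqU hq,
        smul_inv_smul]
  obtain ⟨g, hg⟩ := surjective_hom (map_ker_eq (fun i => ⟨sec i, hsec i⟩) hb hφ)
    (Equiv.swap (0 : Fin 5) 1)
  have hgK : φ g = 1 := by
    refine Equiv.ext fun i => ?_
    rw [← hsec i, hφ, Equiv.Perm.one_apply, eq_comm, hb]
    have hfix := smul_line_eq (by rw [S.hn]; norm_num) S.lines (fun h T hT => smul_mem_lines h hT)
      (fun T ⟨_, _, _, hc⟩ => by rw [Nat.card_coe_set_eq, hc])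
      (fun a c hac => by
        obtain ⟨h, rfl⟩ := htrans a
        have hc : h⁻¹ • c ≠ S.o := fun hc => hac (by rw [← hc, smul_inv_smul])
        exact ⟨_, smul_mem_lines h (hline _ hc), Set.smul_mem_smul_set (Set.mem_insert _ _),
          Set.mem_smul_set_iff_inv_smul_mem.2 (Set.mem_insert_of_mem _
            (MulAction.mem_orbit_self _))⟩)
      (fun T hT U hU a c hac haT hcT haU hcU => by
        obtain ⟨h, rfl⟩ := htrans a
        have hc : h⁻¹ • c ≠ S.o := fun hc => hac (by rw [← hc, smul_inv_smul])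
        apply smul_left_cancel h⁻¹
        rw [hbase _ (smul_mem_lines h⁻¹ hT) (Set.mem_inv_smul_set_iff.2 haT) _
            (Set.smul_mem_smul_set hcT) hc,
          hbase _ (smul_mem_lines h⁻¹ hU) (Set.mem_inv_smul_set_iff.2 haU) _
            (Set.smul_mem_smul_set hcU) hc])
      hfive ((S.smul_o_iff g).2 g.2) (hline _ (sec i).2) (Set.mem_insert _ _)
    have hmem : (g : G) • (sec i).1 ∈ insert S.o (MulAction.orbit S.W (sec i).1) :=
      hfix ▸ Set.smul_mem_smul_set (Set.mem_insert_of_mem _ (MulAction.mem_orbit_self _))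
    exact hmem.resolve_left (S.smul_ne_o g.2 (sec i).2)
  rw [hg] at hgK
  exact absurd (congrArg (fun σ : Equiv.Perm (Fin 5) => σ 0) hgK) (by decide)

end Plane5760

theorem false_5760_c3 {G : Type*} [Group G] [Finite G] [IsSimpleGroup G] [Fact (Nat.Prime 5)]
    (hn : Nat.card G = 5760) (P : Sylow 5 G)
    (hP : Nat.card (P : Subgroup G) = 5) (hk : Nat.card (Sylow 5 G) = 96)
    (hC : Nat.card (centralizer ((P : Subgroup G) : Set G)) = 5 * 3) : False := by
  obtain ⟨W, hWC, hW, hWmem, hWN⟩ := exists_centralizer_complement hP hC (by norm_num)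
  obtain ⟨hL, hLtop⟩ := card_normalizer_three_5760 hn P hk W hW hWN
  exact Plane5760.false_of_plane ⟨P, W, hn, hP, hC, hW, hWC, hWmem, hWN, hL, hLtop⟩

end Cfsg.Agent.H36
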