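import Cfsg.Agent.H33.SharplyThreeEven
import Cfsg.Agent.H27.PermFamily
import Cfsg.Agent.Linear.Order
import Cfsg.Agent.H36.Basic

/-!
# Recognition of `PSL₂(2^f)` from the centralizers of involutions
-/

set_option autoImplicit false
set_option linter.unusedSectionVars false
set_option linter.style.haveILetI false

namespace Cfsg.Agent.H36.EvenPSL

open Subgroup

set_option maxHeartbeats 1000000

variable {G : Type*} [Group G] [Finite G] {q : ℕ}

theorem nonempty_psl_of_pgl {F' : Type} [Field F'] [Fintype F'] (hF' : Fintype.card F' = q)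
    (hq : Even q) {F : Type*} [Field F] [Fintype F] (hF : Fintype.card F = q)
    (e : G ≃* Matrix.ProjGenLinGroup (Fin 2) F') :
    Nonempty (G ≃* Matrix.ProjectiveSpecialLinearGroup (Fin 2) F) := by
  haveI : Finite (Matrix.ProjGenLinGroup (Fin 2) F') := Finite.of_equiv G e.toEquiv
  have hc : Nat.card (Subgroup.center (Matrix.SpecialLinearGroup (Fin 2) F')) = 1 := by
    rw [Linear.card_center_SL, Fintype.card_fin, hF']
    refine (Nat.prime_two.coprime_iff_not_dvd.2 ?_)
    have := Fintype.one_lt_card (α := F')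
    have := Nat.even_iff.1 hq
    omega
  have hbij : Function.Bijective
      (Matrix.ProjectiveSpecialLinearGroup.toPGL (n := Fin 2) (R := F')) := by
    refine (Nat.bijective_iff_injective_and_card _).2
      ⟨Matrix.ProjectiveSpecialLinearGroup.toPGL_injective, ?_⟩
    rw [Linear.card_PGL_eq, ← (Subgroup.center (Matrix.SpecialLinearGroup (Fin 2) F')).index_mul_card,
      hc, mul_one, index_eq_card]
  exact ⟨(e.trans (MulEquiv.ofBijective _ hbij).symm).trans
    (H27.PermFamily.pslCongr (FiniteField.ringEquivOfCardEq (K := F') (K' := F)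
      (by rw [hF, hF'])))⟩

/-- A group of order `(q + 1) q (q - 1)`, `q = 2^f`, whose involutions are conjugate with
centralizers of order `q`, and whose Sylow `2`-subgroups have exponent `2`, is `PSL₂(q)`. -/
theorem nonempty_psl (f : ℕ) (hf : 1 ≤ f) (hq : q = 2 ^ f)
    (hn : Nat.card G = (q + 1) * q * (q - 1))
    (hcent : ∀ u : G, u * u = 1 → u ≠ 1 → Nat.card (centralizer ({u} : Set G)) = q)
    (hconj : ∀ u v : G, u * u = 1 → u ≠ 1 → v * v = 1 → v ≠ 1 → IsConj u v)
    (hexp : ∀ S : Sylow 2 G, ∀ x ∈ (S : Subgroup G), x * x = 1)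
    {F : Type*} [Field F] [Fintype F] (hF : Fintype.card F = q) :
    Nonempty (G ≃* Matrix.ProjectiveSpecialLinearGroup (Fin 2) F) := by
  classical
  haveI : Fact (Nat.Prime 2) := ⟨Nat.prime_two⟩
  have hq2 : 2 ≤ q := hq ▸ le_self_pow₀ (by norm_num) (by omega)
  have hqeven : Even q := hq ▸ (Nat.even_pow.2 ⟨even_two, by omega⟩)
  have hqmod := Nat.even_iff.1 hqeven
  have hodd1 : ¬ 2 ∣ (q + 1) * (q - 1) := fun h => by
    rcases (Nat.Prime.dvd_mul Nat.prime_two).1 h with h | h <;> omega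
  have hn' : Nat.card G = 2 ^ f * ((q + 1) * (q - 1)) := by rw [hn, ← hq]; ring
  have hS : ∀ S : Sylow 2 G, Nat.card (S : Subgroup G) = q := fun S =>
    (card_sylow_eq hn' S rfl hodd1).trans hq.symm
  have hC : ∀ (S : Sylow 2 G) (s : G), s ∈ (S : Subgroup G) → s ≠ 1 →
      centralizer ({s} : Set G) = S := by
    intro S s hs hs1
    refine (eq_of_le_of_card_ge ?_ (by rw [hcent s (hexp S s hs) hs1, hS])).symm
    intro x hx
    rw [mem_centralizer_singleton_iff]
    have h := hexp S _ (mul_mem hs hx)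
    calc x * s = s * (s * x * (s * x)) * x := by
          simp only [← mul_assoc]; rw [hexp S s hs, one_mul, mul_assoc (x * s), hexp S x hx, mul_one]
      _ = s * x := by rw [h, mul_one]
  -- two Sylow subgroups sharing an involution are equal
  have hTI : ∀ (S T : Sylow 2 G) (s : G), s ∈ (S : Subgroup G) → s ∈ (T : Subgroup G) → s ≠ 1 →
      S = T := fun S T s hs ht hs1 => Sylow.ext ((hC S s hs hs1).symm.trans (hC T s ht hs1))
  have hstab : ∀ (g : G) (Q : Sylow 2 G), g • Q = Q ↔ g ∈ normalizer ((Q : Subgroup G) : Set G) :=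
    fun g Q => Sylow.smul_eq_iff_mem_normalizer
  -- a Sylow subgroup acts semiregularly on the others
  have hfree : ∀ (S Q : Sylow 2 G), Q ≠ S → ∀ s ∈ (S : Subgroup G), s • Q = Q → s = 1 := by
    intro S Q hQ s hs hsQ
    by_contra hs1
    have h2 : orderOf s = 2 := orderOf_eq_prime (by rw [pow_two, hexp S s hs]) hs1
    have hz : IsPGroup 2 (zpowers s) :=
      IsPGroup.of_card (n := 1) (by rw [Nat.card_zpowers, h2, pow_one])
    have h3 : s ∈ (Q : Subgroup G) :=
      ((hz.inf_normalizer_sylow Q).le ⟨mem_zpowers s, (hstab s Q).1 hsQ⟩).2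
    exact hQ (hTI Q S s h3 hs hs1)
  obtain ⟨a⟩ := Sylow.nonempty (p := 2) (G := G)
  -- there are `q + 1` Sylow subgroups
  set N := normalizer ((a : Subgroup G) : Set G) with hNdef
  set A := (a : Subgroup G).subgroupOf N with hAdef
  obtain ⟨⟨z, hzmem⟩, hz1'⟩ : ∃ z : (a : Subgroup G), z ≠ 1 := by
    haveI : Nontrivial (a : Subgroup G) :=
      Finite.one_lt_card_iff_nontrivial.1 (by rw [hS]; omega)
    exact exists_ne 1
  have hz1 : z ≠ 1 := fun h => hz1' (Subtype.ext h)
  let c : N ⧸ A → {t : (a : Subgroup G) // t ≠ 1} := fun u =>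
    ⟨⟨(u.out : G) * z * (u.out : G)⁻¹, (mem_normalizer_iff.1 u.out.2 z).1 hzmem⟩,
      fun h => hz1 (conj_eq_one_iff.1 (congrArg Subtype.val h))⟩
  have hc : Function.Bijective c := by
    constructor
    · intro u v h
      have h' : (u.out : G) * z * (u.out : G)⁻¹ = v.out * z * (v.out : G)⁻¹ :=
        congrArg (fun t => ((t : {t : (a : Subgroup G) // t ≠ 1}).1 : G)) h
      rw [← QuotientGroup.out_eq' u, ← QuotientGroup.out_eq' v, QuotientGroup.eq, mem_subgroupOf,
        ← hC a z hzmem hz1, mem_centralizer_singleton_iff]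
      push_cast
      calc (u.out : G)⁻¹ * v.out * z
          = (u.out : G)⁻¹ * (v.out * z * (v.out : G)⁻¹) * v.out := by group
        _ = z * ((u.out : G)⁻¹ * v.out) := by rw [← h']; group
    · rintro ⟨⟨t, ht⟩, ht1⟩
      have ht1' : t ≠ 1 := fun h => ht1 (Subtype.ext h)
      obtain ⟨g, hg⟩ := isConj_iff.1
        (hconj z t (hexp a z hzmem) hz1 (hexp a t ht) ht1')
      have hgN : g ∈ N := by
        rw [hNdef, mem_normalizer_iff_map_conj_eq]
        refine eq_of_le_of_card_ge ?_ (by rw [card_map_of_injective (MulAut.conj g).injective])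
        rintro _ ⟨y, hy, rfl⟩
        show g * y * g⁻¹ ∈ (a : Subgroup G)
        rw [SetLike.mem_coe, ← hC a z hzmem hz1, mem_centralizer_singleton_iff] at hy
        rw [← hC a t ht ht1', mem_centralizer_singleton_iff, ← hg]
        calc g * y * g⁻¹ * (g * z * g⁻¹) = g * (y * z) * g⁻¹ := by group
          _ = g * (z * y) * g⁻¹ := by rw [hy]
          _ = g * z * g⁻¹ * (g * y * g⁻¹) := by group
      refine ⟨((⟨g, hgN⟩ : N) : N ⧸ A), ?_⟩
      obtain ⟨w, hw⟩ := QuotientGroup.mk_out_eq_mul A (⟨g, hgN⟩ : N)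
      apply Subtype.ext
      apply Subtype.ext
      show ((((⟨g, hgN⟩ : N) : N ⧸ A).out : G)) * z * (((((⟨g, hgN⟩ : N) : N ⧸ A).out : G)))⁻¹ = t
      rw [hw, Subgroup.coe_mul, ← hg]
      have hwA : ((w : N) : G) ∈ (a : Subgroup G) := w.2
      have hcomm := mem_centralizer_singleton_iff.1 ((hC a z hzmem hz1).symm ▸ hwA)
      calc g * ((w : N) : G) * z * (g * ((w : N) : G))⁻¹
          = g * (((w : N) : G) * z) * ((w : N) : G)⁻¹ * g⁻¹ := by group
        _ = g * z * g⁻¹ := by rw [hcomm]; group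
  haveI := Fintype.ofFinite (a : Subgroup G)
  have hNA : Nat.card N = (q - 1) * q := by
    have h1 := Nat.card_eq_of_bijective c hc
    rw [Nat.card_eq_fintype_card (α := {t : (a : Subgroup G) // t ≠ 1}),
      Fintype.card_subtype_compl, Fintype.card_subtype_eq, ← Nat.card_eq_fintype_card, hS] at h1
    rw [A.card_eq_card_quotient_mul_card_subgroup, h1,
      Nat.card_congr (subgroupOfEquivOfLe le_normalizer).toEquiv, hS]
  have hn2 : Nat.card (Sylow 2 G) = q + 1 := by
    have h1 := card_sylow_mul_normalizer a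
    rw [← hNdef, hNA, hn] at h1
    have h2 : 0 < (q - 1) * q := Nat.mul_pos (by omega) (by omega)
    refine Nat.eq_of_mul_eq_mul_right h2 (h1.trans ?_)
    ring
  haveI := Fintype.ofFinite (Sylow 2 G)
  have hcardα : Fintype.card (Sylow 2 G) = q + 1 := by rw [← Nat.card_eq_fintype_card, hn2]
  -- only the identity fixes three points
  have fix3 : ∀ (g : G) (x y w : Sylow 2 G), x ≠ y → x ≠ w → y ≠ w →
      g • x = x → g • y = y → g • w = w → g = 1 := by
    intro g x y w hxy hxw hyw hgx hgy hgw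
    have hodd : ¬ 2 ∣ orderOf g := by
      intro h2
      set u := g ^ (orderOf g / 2) with hu
      have ho : 0 < orderOf g := orderOf_pos g
      have hu2 : orderOf u = 2 := by
        rw [hu, orderOf_pow_of_dvd (Nat.div_pos (Nat.le_of_dvd ho h2) two_pos).ne'
          (Nat.div_dvd_of_dvd h2), Nat.div_div_self h2 ho.ne']
      have huz : IsPGroup 2 (zpowers u) :=
        IsPGroup.of_card (n := 1) (by rw [Nat.card_zpowers, hu2, pow_one])
      have hu1 : u ≠ 1 := fun h => by rw [h, orderOf_one] at hu2; omega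
      exact hxy (hTI x y u
        ((huz.inf_normalizer_sylow x).le ⟨mem_zpowers u, pow_mem ((hstab g x).1 hgx) _⟩).2
        ((huz.inf_normalizer_sylow y).le ⟨mem_zpowers u, pow_mem ((hstab g y).1 hgy) _⟩).2 hu1)
    let orb : ↥(x : Subgroup G) → {Q : Sylow 2 G // Q ≠ x} := fun s => ⟨(s : G) • y, fun h => hxy
      (by rw [← inv_smul_smul (s : G) y, h, (hstab _ x).2 (le_normalizer (inv_mem s.2))])⟩
    have horb : Function.Bijective orb := by
      refine (Nat.bijective_iff_injective_and_card orb).2 ⟨fun s t h => ?_, ?_⟩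
      · have h' : (s : G) • y = (t : G) • y := congrArg Subtype.val h
        have h1 := hfree x y (Ne.symm hxy) ((t : G)⁻¹ * s) (mul_mem (inv_mem t.2) s.2)
          (by rw [mul_smul, h', inv_smul_smul])
        exact Subtype.ext (inv_mul_eq_one.1 h1).symm
      · rw [hS, Nat.card_eq_fintype_card, Fintype.card_subtype_compl, Fintype.card_subtype_eq,
          hcardα, Nat.add_sub_cancel]
    obtain ⟨⟨s, hs⟩, hsw⟩ := horb.2 ⟨w, Ne.symm hxw⟩
    have hsw' : s • y = w := congrArg Subtype.val hsw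
    have hs1 : s ≠ 1 := fun h => hyw (by rw [← hsw', h, one_smul])
    have h1 : g * s * g⁻¹ ∈ (x : Subgroup G) := (mem_normalizer_iff.1 ((hstab g x).1 hgx) s).1 hs
    have h2 := hfree x y (Ne.symm hxy) (s⁻¹ * (g * s * g⁻¹)) (mul_mem (inv_mem hs) h1) (by
      rw [mul_smul, inv_smul_eq_iff, hsw']
      calc (g * s * g⁻¹) • y = g • s • g⁻¹ • y := by rw [mul_smul, mul_smul]
        _ = w := by rw [inv_smul_eq_iff.2 hgy.symm, hsw', hgw])
    have hgs : g ∈ (x : Subgroup G) := by
      rw [← hC x s hs hs1, mem_centralizer_singleton_iff]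
      exact mul_inv_eq_iff_eq_mul.1 (inv_mul_eq_one.1 h2).symm
    have h3 : orderOf g ∣ 2 ^ f := by
      rw [← hq, ← hS x]; exact orderOf_dvd_natCard _ hgs
    obtain ⟨i, -, hi⟩ := (Nat.dvd_prime_pow Nat.prime_two).1 h3
    rcases i.eq_zero_or_pos with rfl | hi0
    · exact orderOf_eq_one_iff.1 hi
    · exact absurd (hi ▸ dvd_pow_self 2 hi0.ne') hodd
  -- three points, and sharp triple transitivity
  obtain ⟨e₀⟩ : Nonempty (Fin 3 ↪ Sylow 2 G) :=
    Function.Embedding.nonempty_of_card_le (by rw [Fintype.card_fin, hcardα]; omega)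
  have emb : ∀ x y w : Sylow 2 G, x ≠ y → x ≠ w → y ≠ w →
      ∃ e : Fin 3 ↪ Sylow 2 G, e 0 = x ∧ e 1 = y ∧ e 2 = w :=
    fun x y w hxy hxw hyw => ⟨⟨![x, y, w], by
      intro i j h
      fin_cases i <;> fin_cases j <;> first | rfl | simp_all⟩, rfl, rfl, rfl⟩
  let act : G → (Fin 3 ↪ Sylow 2 G) := fun g =>
    e₀.trans ⟨fun Q => g • Q, MulAction.injective g⟩
  have hact : Function.Bijective act := by
    refine (Nat.bijective_iff_injective_and_card act).2 ⟨fun g k h => ?_, ?_⟩
    · have h' : ∀ i, g • e₀ i = k • e₀ i := fun i => DFunLike.congr_fun h i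
      have := fix3 (k⁻¹ * g) (e₀ 0) (e₀ 1) (e₀ 2) (e₀.injective.ne (by decide))
        (e₀.injective.ne (by decide)) (e₀.injective.ne (by decide))
        (by rw [mul_smul, h', inv_smul_smul]) (by rw [mul_smul, h', inv_smul_smul])
        (by rw [mul_smul, h', inv_smul_smul])
      exact (inv_mul_eq_one.1 this).symm
    · rw [hn, Nat.card_eq_fintype_card, Fintype.card_embedding_eq, hcardα, Fintype.card_fin]
      simp only [Nat.descFactorial_succ, Nat.descFactorial_zero, mul_one, Nat.sub_zero,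
        Nat.add_sub_cancel]
      rw [show q + 1 - 2 = q - 1 by omega]
      ring
  have trans3 : ∀ x y w x' y' w' : Sylow 2 G, x ≠ y → x ≠ w → y ≠ w → x' ≠ y' → x' ≠ w' →
      y' ≠ w' → ∃ g : G, g • x = x' ∧ g • y = y' ∧ g • w = w' := by
    intro x y w x' y' w' h1 h2 h3 h4 h5 h6
    obtain ⟨u, rfl, rfl, rfl⟩ := emb x y w h1 h2 h3
    obtain ⟨v, rfl, rfl, rfl⟩ := emb x' y' w' h4 h5 h6
    obtain ⟨g, hg⟩ := hact.2 u
    obtain ⟨k, hk⟩ := hact.2 v
    have hg' : ∀ i, g • e₀ i = u i := fun i => DFunLike.congr_fun hg i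
    have hk' : ∀ i, k • e₀ i = v i := fun i => DFunLike.congr_fun hk i
    refine ⟨k * g⁻¹, ?_, ?_, ?_⟩ <;> rw [← hg', ← hk', mul_smul, inv_smul_smul]
  let D : H33.SharpOdd.Data G (Sylow 2 G) :=
    { a := e₀ 0
      b := e₀ 1
      c := e₀ 2
      hab := e₀.injective.ne (by decide)
      hac := e₀.injective.ne (by decide)
      hbc := e₀.injective.ne (by decide)
      odd := hcardα ▸ hqeven.add_one
      fix3 := fix3
      trans3 := trans3 }
  obtain ⟨F', _, _, hF', ⟨e⟩⟩ := D.exists_field hcardα fun g hg =>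
    fix3 g _ _ _ D.hab D.hac D.hbc (hg _) (hg _) (hg _)
  exact nonempty_psl_of_pgl hF' hqeven hF e

end Cfsg.Agent.H36.EvenPSL
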