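import Cfsg.Agent.H36.Basic
import Mathlib.Tactic.NormNum.Prime
import Mathlib.Tactic.IntervalCases

/-!
# Sylow numbers for numeric group orders
-/

set_option autoImplicit false
set_option linter.unusedSectionVars false
set_option linter.style.haveILetI false

namespace Cfsg.Agent.H36

variable {G : Type*} [Group G] [Finite G] {p : ℕ} [hp : Fact p.Prime]

/-- Sylow numbers lie in the (decidable) list of candidates `1 + k p` dividing the index. -/
theorem card_sylow_mem {n : ℕ} (hn : Nat.card G = n) (a m : ℕ) (hpm : n = p ^ a * m)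
    (hm : ¬ p ∣ m) (S : Finset ℕ)
    (hS : ∀ k ∈ Finset.range (m / p + 1), (1 + k * p) ∣ m → 1 + k * p ∈ S) :
    Nat.card (Sylow p G) ∈ S := by
  obtain ⟨hd, hmod⟩ := card_sylow_dvd hn hpm hm
  have e : Nat.card (Sylow p G) = 1 + Nat.card (Sylow p G) / p * p := by
    have := Nat.div_add_mod (Nat.card (Sylow p G)) p
    rw [hmod, mul_comm] at this
    omega
  have hpos : 0 < m := Nat.pos_of_ne_zero fun h => hm (h ▸ dvd_zero p)
  rw [e]
  exact hS _ (Finset.mem_range.2 (Nat.lt_succ_of_le (Nat.div_le_div_right (Nat.le_of_dvd hpos hd))))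
    (e ▸ hd)

/-- A Sylow subgroup of a simple group whose order has a second prime divisor is not normal. -/
theorem card_sylow_ne_one' [IsSimpleGroup G] (q : ℕ) (hq : q.Prime) (hpq : q ≠ p)
    (h1 : p ∣ Nat.card G) (h2 : q ∣ Nat.card G) : Nat.card (Sylow p G) ≠ 1 :=
  card_sylow_ne_one h1 fun k h => hpq ((Nat.prime_dvd_prime_iff_eq hq hp.out).1
    (hq.dvd_of_dvd_pow (h ▸ h2)))

/-- Sylow candidates with `1` removed. -/
theorem card_sylow_mem' [IsSimpleGroup G] {n : ℕ} (hn : Nat.card G = n) (a m q : ℕ)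
    (hpm : n = p ^ a * m) (hm : ¬ p ∣ m) (ha : 0 < a) (hq : q.Prime) (hqm : q ∣ m) (S : Finset ℕ)
    (hS : ∀ k ∈ Finset.range (m / p + 1), 0 < k → (1 + k * p) ∣ m → 1 + k * p ∈ S) :
    Nat.card (Sylow p G) ∈ S := by
  have h1 : Nat.card (Sylow p G) ≠ 1 := card_sylow_ne_one' q hq (fun h => hm (h ▸ hqm))
    (by rw [hn, hpm]; exact dvd_mul_of_dvd_left (dvd_pow_self p ha.ne') m)
    (by rw [hn, hpm]; exact dvd_mul_of_dvd_right hqm _)
  have := card_sylow_mem hn a m hpm hm (insert 1 S) (fun k hk hd => by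
    rcases k.eq_zero_or_pos with rfl | h
    · simp
    · exact Finset.mem_insert_of_mem (hS k hk h hd))
  exact (Finset.mem_insert.1 this).resolve_left h1

theorem not_isMulCommutative_of_dvd [IsSimpleGroup G] {p q : ℕ} (hp : p.Prime) (hq : q.Prime)
    (hpq : p ≠ q) (h1 : p ∣ Nat.card G) (h2 : q ∣ Nat.card G) : ¬ IsMulCommutative G :=
  not_comm_of_simple fun h => hpq <| ((Nat.prime_dvd_prime_iff_eq hp h).1 h1).trans
    ((Nat.prime_dvd_prime_iff_eq hq h).1 h2).symm

/-- All products of divisors of the entries of a list. -/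
def divProds : List ℕ → List ℕ
  | [] => [1]
  | a :: L => ((List.range (a + 1)).filter (fun x => a % x = 0)).flatMap
      (fun x => (divProds L).map (fun y => x * y))

theorem mem_divProds : ∀ (L : List ℕ), (∀ a ∈ L, a ≠ 0) → ∀ d, d ∣ L.prod → d ∈ divProds L
  | [], _, d, hd => by simpa [divProds] using hd
  | a :: L, h0, d, hd => by
      rw [List.prod_cons] at hd
      obtain ⟨x, y, hx, hy, rfl⟩ := exists_dvd_and_dvd_of_dvd_mul hd
      simp only [divProds, List.mem_flatMap, List.mem_filter, List.mem_range, List.mem_map,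
        decide_eq_true_eq]
      refine ⟨x, ⟨Nat.lt_succ_of_le (Nat.le_of_dvd (Nat.pos_of_ne_zero (h0 a (by simp))) hx),
        Nat.mod_eq_zero_of_dvd hx⟩, y, mem_divProds L (fun b hb => h0 b (by simp [hb])) y hy, rfl⟩

/-- Sylow candidates when the index is given as a product of small factors. -/
theorem card_sylow_mem_list [IsSimpleGroup G] {n : ℕ} (hn : Nat.card G = n) (a q : ℕ) (L : List ℕ)
    (hpm : n = p ^ a * L.prod) (hm : ¬ p ∣ L.prod) (ha : 0 < a) (hq : q.Prime) (hqm : q ∣ L.prod)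
    (S : Finset ℕ) (hS : ∀ d ∈ divProds L, d ≠ 1 → d % p = 1 → d ∈ S) :
    Nat.card (Sylow p G) ∈ S := by
  obtain ⟨hd, hmod⟩ := card_sylow_dvd hn hpm hm
  have h1 : Nat.card (Sylow p G) ≠ 1 := card_sylow_ne_one' q hq (fun h => hm (h ▸ hqm))
    (by rw [hn, hpm]; exact dvd_mul_of_dvd_left (dvd_pow_self p ha.ne') _)
    (by rw [hn, hpm]; exact dvd_mul_of_dvd_right hqm _)
  refine hS _ (mem_divProds L (fun b hb h0 => hm ?_) _ hd) h1 hmod
  rw [List.prod_eq_zero (h0 ▸ hb)]
  exact dvd_zero p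

end Cfsg.Agent.H36
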