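import Cfsg.Agent.H36.Count
import Cfsg.Agent.H36.Numeric
import Cfsg.Agent.H36.Normalizers
import Mathlib.GroupTheory.IndexNormal
import Mathlib.GroupTheory.Perm.Cycle.Type
import Mathlib.GroupTheory.Transfer
import Mathlib.GroupTheory.Abelianization.Defs
import Mathlib.Data.ZMod.Units

/-!
# There is no group with exactly 21 Sylow 5-subgroups

Reduction to a faithful action on the 21 Sylow subgroups, then: the Sylow subgroup has order 5
(two distinct maximal intersections would give six different maximal subgroups on four orbits),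
and the transfer into `N(P)/C(P)` of a 2-element is non-trivial.
-/

set_option autoImplicit false
set_option linter.unusedSectionVars false
set_option linter.style.haveILetI false

namespace Cfsg.Agent.H36

open Subgroup MulAction

universe u

variable {G : Type u} [Group G] [Finite G]

section General

variable {p : ℕ} [hp : Fact p.Prime]

/-- A subgroup containing all Sylow `p`-subgroups has the same number of them. -/
theorem card_sylow_eq_of_forall_le (L : Subgroup G) (h : ∀ Q : Sylow p G, (Q : Subgroup G) ≤ L) :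
    Nat.card (Sylow p L) = Nat.card (Sylow p G) := by
  refine (Nat.card_congr (Equiv.ofBijective (fun Q : Sylow p G => Q.subtype (h Q)) ⟨?_, ?_⟩)).symm
  · intro P Q hPQ
    exact Sylow.subtype_injective hPQ
  · intro S
    obtain ⟨Q, hQ⟩ := (S.2.map L.subtype).exists_le_sylow
    refine ⟨Q, Sylow.ext (S.3 (Q.subtype (h Q)).2 ?_)⟩
    intro x hx
    rw [Sylow.coe_subtype, mem_subgroupOf]
    exact hQ ⟨x, hx, rfl⟩

/-- A normal subgroup containing one Sylow subgroup contains all. -/
theorem forall_sylow_le (L : Subgroup G) [hL : L.Normal] {P : Sylow p G} (h : (P : Subgroup G) ≤ L)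
    (Q : Sylow p G) : (Q : Subgroup G) ≤ L := by
  obtain ⟨g, rfl⟩ := MulAction.exists_smul_eq G P Q
  intro y hy
  rw [mem_smul_sylow_iff] at hy
  have := hL.conj_mem _ (h hy) g
  simpa [mul_assoc] using this

/-- Factoring out the kernel of the action on Sylow subgroups keeps their number. -/
theorem card_sylow_quotient (Z : Subgroup G) [Z.Normal]
    (hZ : ∀ P : Sylow p G, Z ≤ normalizer ((P : Subgroup G) : Set G)) :
    Nat.card (Sylow p (G ⧸ Z)) = Nat.card (Sylow p G) := by
  refine (Nat.card_congr (Equiv.ofBijective _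
    ⟨?_, Sylow.mapSurjective_surjective (QuotientGroup.mk'_surjective Z) p⟩)).symm
  intro P Q hPQ
  have h : (P : Subgroup G).map (QuotientGroup.mk' Z) = (Q : Subgroup G).map (QuotientGroup.mk' Z) :=
    by simpa using congrArg (fun S : Sylow p (G ⧸ Z) => (S : Subgroup (G ⧸ Z))) hPQ
  have hle : (Q : Subgroup G) ≤ normalizer ((P : Subgroup G) : Set G) := by
    intro x hx
    obtain ⟨y, hy, hxy⟩ := h ▸ Subgroup.mem_map_of_mem (QuotientGroup.mk' Z) hx
    have hz : y⁻¹ * x ∈ Z := QuotientGroup.eq.1 hxy
    rw [show x = y * (y⁻¹ * x) by group]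
    exact mul_mem (le_normalizer hy) (hZ P hz)
  apply Sylow.ext
  refine (eq_of_le_of_card_ge (fun x hx => ?_) (card_sylow_congr P Q).le).symm
  exact ((Q.2.inf_normalizer_sylow P).le (⟨hx, hle hx⟩ : x ∈ (Q : Subgroup G) ⊓ _)).2

end General

instance fact_prime_five : Fact (Nat.Prime 5) := ⟨by norm_num⟩

/-- Step 1: the Sylow subgroup has order 5 if the action on the Sylow subgroups is faithful. -/
theorem sylow21_card (h21 : Nat.card (Sylow 5 G) = 21)
    (hfaith : ∀ g : G, (∀ P : Sylow 5 G, g • P = P) → g = 1) (P : Sylow 5 G) :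
    Nat.card (P : Subgroup G) = 5 := by
  classical
  set c := Nat.card (P : Subgroup G) with hc
  have hcard : ∀ Q : Sylow 5 G, Nat.card (Q : Subgroup G) = c := fun Q => card_sylow_congr Q P
  have hstab : ∀ R S : Sylow 5 G, MulAction.stabilizer (R : Subgroup G) S =
      (S : Subgroup G).subgroupOf (R : Subgroup G) := by
    intro R S
    ext x
    rw [MulAction.mem_stabilizer_iff, mem_subgroupOf]
    show (x : G) • S = S ↔ _
    rw [Sylow.smul_eq_iff_mem_normalizer]
    refine ⟨fun hx => ((R.2.inf_normalizer_sylow S).le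
      (⟨x.2, hx⟩ : (x : G) ∈ (R : Subgroup G) ⊓ _)).2, fun hx => le_normalizer hx⟩
  -- every intersection has index 5
  have hidx : ∀ R S : Sylow 5 G, S ≠ R → ((S : Subgroup G).subgroupOf (R : Subgroup G)).index = 5 := by
    intro R S hne
    have horb : Nat.card (MulAction.orbit (R : Subgroup G) S) =
        ((S : Subgroup G).subgroupOf (R : Subgroup G)).index := by
      rw [Nat.card_congr (MulAction.orbitEquivQuotientStabilizer _ _), hstab, index_eq_card]
    obtain ⟨j, hj⟩ := R.2.index ((S : Subgroup G).subgroupOf (R : Subgroup G))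
    rw [hj] at horb ⊢
    have hle : 5 ^ j ≤ 21 := by
      rw [← horb, ← h21]
      exact Nat.card_le_card_of_injective _ Subtype.coe_injective
    rcases j with _ | _ | j
    · exfalso
      rw [pow_zero, index_eq_one, subgroupOf_eq_top] at hj
      exact hne (Sylow.ext (R.3 S.2 hj))
    · rfl
    · exfalso
      have : 5 ^ 2 ≤ 5 ^ (j + 1 + 1) := Nat.pow_le_pow_right (by norm_num) (by omega)
      omega
  have hmin : c ≠ 1 → (Nat.card (P : Subgroup G)).minFac = 5 := fun h1 => by
    obtain ⟨k, hk⟩ := P.2.exists_card_eq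
    have hk0 : k ≠ 0 := fun h => h1 (by rw [hc, hk, h, pow_zero])
    rw [hk, Nat.pow_minFac hk0, (fact_prime_five).out.minFac_eq]
  have hc1 : c ≠ 1 := fun h1 => by
    obtain ⟨Q, hQ⟩ : ∃ Q : Sylow 5 G, Q ≠ P := by
      haveI : Nontrivial (Sylow 5 G) := Finite.one_lt_card_iff_nontrivial.1 (by omega)
      exact exists_ne P
    have h5 := ((Q : Subgroup G).subgroupOf (P : Subgroup G)).index_dvd_card
    rw [hidx P Q hQ, ← hc, h1] at h5
    norm_num at h5
  have hint : ∀ R S : Sylow 5 G, S ≠ R → 5 * Nat.card ↥((R : Subgroup G) ⊓ (S : Subgroup G)) = c := by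
    intro R S hne
    have h1 := ((S : Subgroup G).subgroupOf (R : Subgroup G)).card_mul_index
    rw [hidx R S hne, hcard, ← inf_subgroupOf_left,
      Nat.card_congr (subgroupOfEquivOfLe (inf_le_left (a := (R : Subgroup G)))).toEquiv] at h1
    omega
  have hnorm : ∀ R S : Sylow 5 G, S ≠ R → ∀ r : (R : Subgroup G),
      (R : Subgroup G) ⊓ ((r • S : Sylow 5 G) : Subgroup G) = (R : Subgroup G) ⊓ (S : Subgroup G) := by
    intro R S hne r
    have hn : ((S : Subgroup G).subgroupOf (R : Subgroup G)).Normal := by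
      refine normal_of_index_eq_minFac_card ?_
      rw [hidx R S hne, hcard, hmin hc1]
    ext x
    simp only [mem_inf, and_congr_right_iff]
    intro hx
    show x ∈ (((r : G) • S : Sylow 5 G) : Subgroup G) ↔ _
    rw [mem_smul_sylow_iff]
    constructor
    · intro h
      simpa [mem_subgroupOf, mul_assoc] using hn.conj_mem
        ⟨(r : G)⁻¹ * x * r, mul_mem (mul_mem (inv_mem r.2) hx) r.2⟩ (by simpa [mem_subgroupOf] using h) r
    · intro h
      simpa [mem_subgroupOf, mul_assoc] using hn.conj_mem ⟨x, hx⟩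
        (by simpa [mem_subgroupOf] using h) r⁻¹
  by_contra hne5
  obtain ⟨Q, hQP⟩ : ∃ Q : Sylow 5 G, Q ≠ P := by
    haveI : Nontrivial (Sylow 5 G) := Finite.one_lt_card_iff_nontrivial.1 (by omega)
    exact exists_ne P
  set D := (P : Subgroup G) ⊓ (Q : Subgroup G) with hD
  have hDne : D ≠ ⊥ := fun h => by
    have := hint P Q hQP
    rw [← hD, h, card_bot] at this
    omega
  -- some Sylow subgroup does not contain `D`
  obtain ⟨R, hR⟩ : ∃ R : Sylow 5 G, ¬ D ≤ (R : Subgroup G) := by
    by_contra hall
    push_neg at hall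
    apply hDne
    rw [eq_bot_iff_forall]
    exact fun d hd => hfaith d fun R =>
      Sylow.smul_eq_iff_mem_normalizer.2 (le_normalizer (hall R hd))
  -- the six subgroups containing `D`
  let Ω := {S : Sylow 5 G // S = P ∨ S ∈ MulAction.orbit (P : Subgroup G) Q}
  have hΩ : ∀ S : Ω, D ≤ ((S.1 : Sylow 5 G) : Subgroup G) := by
    rintro ⟨S, rfl | ⟨u, rfl⟩⟩
    · exact inf_le_left
    · exact (hnorm P Q hQP u).symm.le.trans inf_le_right
  have hΩR : ∀ S : Ω, S.1 ≠ R := fun S h => hR (h ▸ hΩ S)
  have hΩcard : Nat.card Ω = 6 := by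
    have e : Nat.card (MulAction.orbit (P : Subgroup G) Q) = 5 := by
      rw [Nat.card_congr (MulAction.orbitEquivQuotientStabilizer _ _), hstab, ← index_eq_card,
        hidx P Q hQP]
    have hnot : P ∉ MulAction.orbit (P : Subgroup G) Q := by
      rintro ⟨u, hu⟩
      apply hQP
      have hu' : (u : G) • Q = P := hu
      rw [show Q = (u : G)⁻¹ • P from eq_inv_smul_iff.2 hu']
      exact Sylow.smul_eq_iff_mem_normalizer.2 (inv_mem (le_normalizer u.2))
    rw [show Nat.card Ω = (insert P (MulAction.orbit (P : Subgroup G) Q) : Set (Sylow 5 G)).ncard from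
      Nat.card_coe_set_eq _, Set.ncard_insert_of_notMem hnot, ← Nat.card_coe_set_eq, e]
  let f : Ω → MulAction.orbitRel.Quotient (R : Subgroup G) (Sylow 5 G) := fun S => Quotient.mk'' S.1
  have hf : Function.Injective f := by
    intro S S' hSS'
    by_contra hne
    have hne' : S.1 ≠ S'.1 := fun h => hne (Subtype.ext h)
    obtain ⟨r, hr⟩ := (Quotient.eq'' (s₁ := MulAction.orbitRel (R : Subgroup G) (Sylow 5 G))).1 hSS'
    have hr' : r • S'.1 = S.1 := hr
    have h1 := hnorm R S'.1 (hΩR S') r
    rw [hr'] at h1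
    have hle : D ≤ (S.1 : Subgroup G) ⊓ (S'.1 : Subgroup G) := le_inf (hΩ S) (hΩ S')
    have hDS : D = (S.1 : Subgroup G) ⊓ (S'.1 : Subgroup G) := by
      refine eq_of_le_of_card_ge hle ?_
      have h2 := hint S.1 S'.1 hne'.symm
      have h3 := hint P Q hQP
      rw [← hD] at h3
      omega
    have hle2 : (R : Subgroup G) ⊓ (S.1 : Subgroup G) ≤ D := by
      rw [hDS]
      exact le_inf inf_le_right (h1.le.trans inf_le_right)
    have heq : (R : Subgroup G) ⊓ (S.1 : Subgroup G) = D := by
      refine eq_of_le_of_card_ge hle2 ?_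
      have h2 := hint R S.1 (hΩR S)
      have h3 := hint P Q hQP
      rw [← hD] at h3
      omega
    exact hR (heq ▸ inf_le_left)
  have h6 := Nat.card_le_card_of_injective f hf
  rw [hΩcard] at h6
  -- but there are only five orbits
  haveI := Fintype.ofFinite (MulAction.orbitRel.Quotient (R : Subgroup G) (Sylow 5 G))
  have hsum := Nat.card_congr (MulAction.selfEquivSigmaOrbits (R : Subgroup G) (Sylow 5 G))
  have hrow : ∀ q : MulAction.orbitRel.Quotient (R : Subgroup G) (Sylow 5 G),
      q ≠ Quotient.mk'' R → Nat.card (MulAction.orbit (R : Subgroup G) q.out) = 5 := by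
    intro q hq
    have hne : q.out ≠ R := fun h => hq ((Quotient.out_eq' q).symm.trans (congrArg _ h))
    rw [Nat.card_congr (MulAction.orbitEquivQuotientStabilizer _ _), hstab, ← index_eq_card,
      hidx R _ hne]
  rw [Nat.card_sigma, h21, ← Finset.add_sum_erase _ _ (Finset.mem_univ (Quotient.mk'' R)),
    Finset.sum_congr rfl (fun q hq => hrow q (Finset.ne_of_mem_erase hq)), Finset.sum_const,
    smul_eq_mul, Finset.card_erase_of_mem (Finset.mem_univ _), Finset.card_univ] at hsum
  rw [Nat.card_eq_fintype_card] at h6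
  omega

/-- A prime-order element normalizing a subgroup of order 5 with 5-part trivial fixes `1 mod 5`
cosets. -/
theorem card_fixedBy_modEq_one_five (P : Sylow 5 G) (hP : Nat.card (P : Subgroup G) = 5) {z : G}
    (hz : z ∈ centralizer ((P : Subgroup G) : Set G)) :
    Nat.card (MulAction.fixedBy (G ⧸ normalizer ((P : Subgroup G) : Set G)) z) % 5 = 1 := by
  classical
  set N := normalizer ((P : Subgroup G) : Set G)
  let F : SubMulAction (P : Subgroup G) (G ⧸ N) :=
    { carrier := MulAction.fixedBy (G ⧸ N) z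
      smul_mem' := fun u a (ha : z • a = a) => by
        show z • (u : G) • a = (u : G) • a
        rw [smul_smul, ← mem_centralizer_iff.1 hz u u.2, mul_smul, ha] }
  have h := P.2.card_modEq_card_fixedPoints (α := F)
  obtain ⟨y, hy⟩ := exists_prime_orderOf_dvd_card' (G := (P : Subgroup G)) 5 (by rw [hP])
  rw [← Subgroup.orderOf_coe] at hy
  have hone := card_fixedBy_eq_one_of_orderOf P hP hy
  have hbase : ∀ g ∈ N, g • ((1 : G) : G ⧸ N) = ((1 : G) : G ⧸ N) := fun g hg => by
    rw [smul_mk_eq_iff]; simpa using hg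
  have hzN : z ∈ N := centralizer_le_normalizer _ hz
  have hfix : Nat.card (MulAction.fixedPoints (P : Subgroup G) F) = 1 := by
    rw [Nat.card_eq_one_iff_unique]
    refine ⟨⟨fun a b => ?_⟩, ⟨⟨⟨((1 : G) : G ⧸ N), hbase z hzN⟩, fun u => Subtype.ext ?_⟩⟩⟩
    · have ha : (a.1.1 : G ⧸ N) ∈ MulAction.fixedBy (G ⧸ N) (y : G) :=
        congrArg Subtype.val (a.2 y)
      have hb : (b.1.1 : G ⧸ N) ∈ MulAction.fixedBy (G ⧸ N) (y : G) :=
        congrArg Subtype.val (b.2 y)
      have e := congrArg Subtype.val ((Nat.card_eq_one_iff_unique.1 hone).1.elim ⟨_, ha⟩ ⟨_, hb⟩)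
      exact Subtype.ext (Subtype.ext e)
    · exact hbase u (le_normalizer u.2)
  rw [hfix] at h
  exact h

/-- No element of order 7 centralizes a Sylow 5-subgroup. -/
theorem sylow21_seven (h21 : Nat.card (Sylow 5 G) = 21)
    (hfaith : ∀ g : G, (∀ P : Sylow 5 G, g • P = P) → g = 1)
    (P : Sylow 5 G) (hP : Nat.card (P : Subgroup G) = 5) :
    ¬ 7 ∣ Nat.card (normalizer ((P : Subgroup G) : Set G)) := by
  intro h7
  haveI : Fact (Nat.Prime 7) := ⟨by norm_num⟩
  set N := normalizer ((P : Subgroup G) : Set G) with hN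
  have h7C : 7 ∣ Nat.card (centralizer ((P : Subgroup G) : Set G)) := by
    have h := card_normalizer_eq_mul (P : Subgroup G)
    rw [h] at h7
    rcases (Nat.Prime.dvd_mul (by norm_num)).1 h7 with h | h
    · exact h
    · exfalso
      have := h.trans (relIndex_centralizer_dvd_of_prime (by norm_num : Nat.Prime 5) _ hP)
      norm_num at this
  obtain ⟨⟨w, hw⟩, hw'⟩ := exists_prime_orderOf_dvd_card' 7 h7C
  rw [← Subgroup.orderOf_coe] at hw'
  have h1 : Nat.card (MulAction.fixedBy (G ⧸ N) w) % 5 = 1 := card_fixedBy_modEq_one_five P hP hw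
  have hw'' : orderOf w = 7 := hw'
  have hidx : Nat.card (G ⧸ N) = 21 := by
    rw [← index_eq_card]; exact P.card_eq_index_normalizer.symm.trans h21
  have hpg : IsPGroup 7 (zpowers w) :=
    IsPGroup.of_card (n := 1) (by rw [Nat.card_zpowers, hw', pow_one])
  have h := hpg.card_modEq_card_fixedPoints (G ⧸ N)
  have hset : MulAction.fixedPoints (zpowers w) (G ⧸ N) = MulAction.fixedBy (G ⧸ N) w := by
    ext a
    exact ⟨fun h => h ⟨w, mem_zpowers w⟩,
      fun h v => (zpowers_le (H := MulAction.stabilizer G a)).2 h v.2⟩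
  rw [hset, hidx] at h
  have hle : Nat.card (MulAction.fixedBy (G ⧸ N) w) ≤ 21 :=
    hidx ▸ Nat.card_le_card_of_injective _ Subtype.coe_injective
  have hall : Nat.card (MulAction.fixedBy (G ⧸ N) w) = 21 := by
    unfold Nat.ModEq at h
    omega
  have huniv : MulAction.fixedBy (G ⧸ N) w = Set.univ := by
    refine Set.eq_of_subset_of_ncard_le (Set.subset_univ _) ?_ (Set.toFinite _)
    rw [Set.ncard_univ, ← Nat.card_coe_set_eq, hall, hidx]
  have : w = 1 := hfaith w fun Q => by
    obtain ⟨g, rfl⟩ := MulAction.exists_smul_eq G P Q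
    have hg : w • ((g : G) : G ⧸ N) = ((g : G) : G ⧸ N) :=
      (huniv ▸ Set.mem_univ _ : ((g : G) : G ⧸ N) ∈ MulAction.fixedBy (G ⧸ N) w)
    rw [smul_mk_eq_iff] at hg
    rw [smul_smul, show w * g = g * (g⁻¹ * w * g) by group, mul_smul,
      Sylow.smul_eq_iff_mem_normalizer.2 hg]
  rw [this, orderOf_one] at hw''
  norm_num at hw''

/-- An involution centralizing a Sylow 5-subgroup fixes exactly one coset, in a perfect group. -/
theorem sylow21_involution (h21 : Nat.card (Sylow 5 G) = 21)
    (hfaith : ∀ g : G, (∀ P : Sylow 5 G, g • P = P) → g = 1) (hperf : commutator G = ⊤)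
    (P : Sylow 5 G) (hP : Nat.card (P : Subgroup G) = 5) {z : G} (hz2 : orderOf z = 2)
    (hz : z ∈ centralizer ((P : Subgroup G) : Set G)) :
    Nat.card (MulAction.fixedBy (G ⧸ normalizer ((P : Subgroup G) : Set G)) z) = 1 := by
  classical
  set N := normalizer ((P : Subgroup G) : Set G) with hN
  have hidx : Nat.card (G ⧸ N) = 21 := by
    rw [← index_eq_card]; exact P.card_eq_index_normalizer.symm.trans h21
  haveI := Fintype.ofFinite (G ⧸ N)
  let σ : Equiv.Perm (G ⧸ N) := MulAction.toPermHom G (G ⧸ N) z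
  have hσ2 : σ ^ 2 = 1 := by
    rw [← map_pow, show z ^ 2 = 1 from hz2 ▸ pow_orderOf_eq_one z, map_one]
  have hsign : Equiv.Perm.sign σ = 1 := by
    have hle : commutator G ≤ (Equiv.Perm.sign.comp (MulAction.toPermHom G (G ⧸ N))).ker :=
      Abelianization.commutator_subset_ker _
    rw [hperf] at hle
    exact hle (mem_top z)
  rw [Equiv.Perm.sign_of_pow_two_eq_one hσ2, ← Nat.card_eq_fintype_card, hidx] at hsign
  have hfp : Fintype.card (Function.fixedPoints ⇑σ) = Nat.card (MulAction.fixedBy (G ⧸ N) z) := by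
    rw [← Nat.card_eq_fintype_card]; rfl
  rw [hfp] at hsign
  have h1 := card_fixedBy_modEq_one_five P hP hz
  set f := Nat.card (MulAction.fixedBy (G ⧸ N) z) with hf
  have hle : f ≤ 21 := hidx ▸ Nat.card_le_card_of_injective _ Subtype.coe_injective
  have hne : f ≠ 21 := fun hall => by
    have huniv : MulAction.fixedBy (G ⧸ N) z = Set.univ := by
      refine Set.eq_of_subset_of_ncard_le (Set.subset_univ _) ?_ (Set.toFinite _)
      rw [Set.ncard_univ, ← Nat.card_coe_set_eq, ← hf, hall, hidx]
    have : z = 1 := hfaith z fun Q => by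
      obtain ⟨g, rfl⟩ := MulAction.exists_smul_eq G P Q
      have hg : z • ((g : G) : G ⧸ N) = ((g : G) : G ⧸ N) :=
        (huniv ▸ Set.mem_univ _ : ((g : G) : G ⧸ N) ∈ MulAction.fixedBy (G ⧸ N) z)
      rw [smul_mk_eq_iff] at hg
      rw [smul_smul, show z * g = g * (g⁻¹ * z * g) by group, mul_smul,
        Sylow.smul_eq_iff_mem_normalizer.2 hg]
    rw [this, orderOf_one] at hz2
    norm_num at hz2
  have hcases : f = 1 ∨ f = 6 ∨ f = 11 ∨ f = 16 := by omega
  have hpar := σ.two_dvd_card_support hσ2
  have hsupp : σ.support.card = 21 - f := by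
    rw [← hfp, ← hidx, Nat.card_eq_fintype_card, Equiv.Perm.card_fixedPoints,
      Equiv.Perm.sum_cycleType, Nat.sub_sub_self (Finset.card_le_univ _)]
  rw [hsupp] at hpar
  rcases hcases with h | h | h | h
  · exact h
  · omega
  · rw [h] at hsign
    exact absurd hsign (by decide)
  · omega

/-- The final step: a perfect group cannot act in this way. -/
theorem sylow21_perfect (h21 : Nat.card (Sylow 5 G) = 21)
    (hfaith : ∀ g : G, (∀ P : Sylow 5 G, g • P = P) → g = 1) (hperf : commutator G = ⊤)
    (P : Sylow 5 G) (hP : Nat.card (P : Subgroup G) = 5) : False := by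
  classical
  haveI : Fact (Nat.Prime 2) := ⟨Nat.prime_two⟩
  set N := normalizer ((P : Subgroup G) : Set G) with hN
  set C := centralizer ((P : Subgroup G) : Set G) with hC
  have hidx : N.index = 21 := P.card_eq_index_normalizer.symm.trans h21
  haveI : IsCyclic (P : Subgroup G) := isCyclic_of_prime_card hP
  let φ : N →* (ZMod 5)ˣ :=
    ((Units.mapEquiv (ZMod.ringEquivCongr hP).toMulEquiv).toMonoidHom.comp
      (IsCyclic.mulAutMulEquiv (P : Subgroup G)).toMonoidHom).comp
      (P : Subgroup G).normalizerMonoidHom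
  have hφ : ∀ n : N, φ n = 1 ↔ (n : G) ∈ C := by
    intro n
    have h : (P : Subgroup G).normalizerMonoidHom n = 1 ↔ (n : G) ∈ C := by
      rw [← MonoidHom.mem_ker, normalizerMonoidHom_ker, mem_subgroupOf]
    rw [← h]
    simp only [φ, MonoidHom.coe_comp, MulEquiv.coe_toMonoidHom, Function.comp_apply]
    exact (map_eq_one_iff _ (Units.mapEquiv (ZMod.ringEquivCongr hP).toMulEquiv).injective).trans
      (map_eq_one_iff _ (IsCyclic.mulAutMulEquiv (P : Subgroup G)).injective)
  -- the transfer is trivial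
  have htriv : ∀ g : G, MonoidHom.transfer φ g = 1 := fun g => by
    have hle : commutator G ≤ (MonoidHom.transfer φ).ker := Abelianization.commutator_subset_ker _
    rw [hperf] at hle
    exact hle (mem_top g)
  -- a 2-element of `N` outside `C`
  have hrel : 2 ∣ C.relIndex N := by
    have hdvd : C.relIndex N ∣ 4 :=
      relIndex_centralizer_dvd_of_prime (by norm_num : Nat.Prime 5) _ hP
    have hne : C.relIndex N ≠ 1 := by
      intro h
      rw [relIndex_eq_one] at h
      haveI : IsMulCommutative (P : Subgroup G) := IsCyclic.isMulCommutative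
      have hc := MonoidHom.ker_transferSylow_isComplement' P h
      have hle : commutator G ≤ (MonoidHom.transferSylow P h).ker := by
        open scoped IsMulCommutative in exact Abelianization.commutator_subset_ker _
      rw [hperf, top_le_iff] at hle
      rw [hle, isComplement'_top_left] at hc
      rw [hc, card_bot] at hP
      omega
    obtain ⟨i, hi, hi'⟩ := (Nat.dvd_prime_pow Nat.prime_two (m := 2)).1 hdvd
    rw [hi']
    exact dvd_pow_self 2 (fun h => hne (by rw [hi', h, pow_zero]))
  obtain ⟨x, hxN, hxC, hx2⟩ : ∃ x : G, x ∈ N ∧ x ∉ C ∧ ∃ k, orderOf x = 2 ^ k := by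
    by_contra hno
    push_neg at hno
    obtain ⟨S⟩ := Sylow.nonempty (p := 2) (G := N)
    apply S.not_dvd_index
    refine hrel.trans ?_
    rw [relIndex]
    refine index_dvd_of_le ?_
    intro s hs
    rw [mem_subgroupOf]
    by_contra hsC
    obtain ⟨k, hk⟩ := IsPGroup.iff_orderOf.1 S.2 ⟨s, hs⟩
    refine hno s s.2 hsC k (((Subgroup.orderOf_coe s).trans ?_).trans hk)
    exact (Subgroup.orderOf_mk (H := (S : Subgroup N)) s hs).symm
  -- fixed points of an involution outside `C` are not centralized
  have hinvC : ∀ t : G, orderOf t = 2 → ∀ g : G, t • ((g : G) : G ⧸ N) = (g : G ⧸ N) →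
      g⁻¹ * t * g ∈ C → Nat.card (MulAction.fixedBy (G ⧸ N) t) = 1 := by
    intro t ht g _ hgC
    have h1 := sylow21_involution h21 hfaith hperf P hP (z := g⁻¹ * t * g)
      (by rw [show g⁻¹ * t * g = MulAut.conj g⁻¹ t by simp, MulEquiv.orderOf_eq, ht]) hgC
    rw [← h1]
    refine Nat.card_congr
      { toFun := fun q => ⟨g⁻¹ • q.1, ?_⟩
        invFun := fun q => ⟨g • q.1, ?_⟩
        left_inv := fun q => Subtype.ext (smul_inv_smul g q.1)
        right_inv := fun q => Subtype.ext (inv_smul_smul g q.1) }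
    · have hq : t • q.1 = q.1 := q.2
      show (g⁻¹ * t * g) • g⁻¹ • q.1 = g⁻¹ • q.1
      rw [smul_smul, show g⁻¹ * t * g * g⁻¹ = g⁻¹ * t by group, mul_smul, hq]
    · have hq : (g⁻¹ * t * g) • q.1 = q.1 := q.2
      show t • g • q.1 = g • q.1
      rw [smul_smul, show t * g = g * (g⁻¹ * t * g) by group, mul_smul, hq]
  have hbase : ∀ g ∈ N, g • ((1 : G) : G ⧸ N) = ((1 : G) : G ⧸ N) := fun g hg => by
    rw [smul_mk_eq_iff]; simpa using hg
  haveI : N.FiniteIndex := inferInstance
  by_cases hexinv : ∃ t : G, orderOf t = 2 ∧ t ∈ N ∧ t ∉ C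
  · obtain ⟨t, ht, htN, htC⟩ := hexinv
    have hfix : ∀ (g : G) (hg : g⁻¹ * t * g ∈ N), φ ⟨g⁻¹ * t * g, hg⟩ = -1 := by
      intro g hg
      have hne : φ ⟨g⁻¹ * t * g, hg⟩ ≠ 1 := fun h => by
        have hgC : g⁻¹ * t * g ∈ C := (hφ _).1 h
        have hone := hinvC t ht g ((smul_mk_eq_iff N t g).2 hg) hgC
        have heq := congrArg Subtype.val ((Nat.card_eq_one_iff_unique.1 hone).1.elim
          ⟨((g : G) : G ⧸ N), (smul_mk_eq_iff N t g).2 hg⟩ ⟨((1 : G) : G ⧸ N), hbase t htN⟩)
        have hgN : g⁻¹ * 1 ∈ N := QuotientGroup.eq.1 heq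
        rw [mul_one, inv_mem_iff] at hgN
        apply htC
        rw [hC, mem_centralizer_iff]
        intro u hu
        have hu' : g⁻¹ * u * g ∈ (P : Subgroup G) := (mem_normalizer_iff''.1 hgN u).1 hu
        have := mem_centralizer_iff.1 hgC _ hu'
        calc u * t = g * ((g⁻¹ * u * g) * (g⁻¹ * t * g)) * g⁻¹ := by group
          _ = t * u := by rw [this]; group
      have hsq : φ ⟨g⁻¹ * t * g, hg⟩ * φ ⟨g⁻¹ * t * g, hg⟩ = 1 := by
        rw [← map_mul, ← map_one φ]
        refine congrArg φ (Subtype.ext ?_)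
        show g⁻¹ * t * g * (g⁻¹ * t * g) = 1
        calc g⁻¹ * t * g * (g⁻¹ * t * g) = g⁻¹ * (t * t) * g := by group
          _ = 1 := by rw [← pow_two, ← ht, pow_orderOf_eq_one]; group
      have key : ∀ a : (ZMod 5)ˣ, a ≠ 1 → a * a = 1 → a = -1 := by decide
      exact key _ hne hsq
    have hv := htriv t
    haveI := Fintype.ofFinite (Quotient (MulAction.orbitRel (zpowers t) (G ⧸ N)))
    rw [MonoidHom.transfer_eq_prod_quotient_orbitRel_zpowers_quot] at hv
    haveI : DecidablePred fun q : Quotient (MulAction.orbitRel (zpowers t) (G ⧸ N)) =>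
      t • q.out = q.out := fun _ => Classical.dec _
    rw [Finset.prod_congr rfl (g := fun q : Quotient (MulAction.orbitRel (zpowers t) (G ⧸ N)) =>
      if t • q.out = q.out then (-1 : (ZMod 5)ˣ) else 1) (fun q _ => ?_), Finset.prod_ite,
      Finset.prod_const, Finset.prod_const_one, mul_one] at hv
    swap
    · by_cases hq : t • q.out = q.out
      · rw [if_pos hq]
        have hper : Function.minimalPeriod (t • ·) q.out = 1 :=
          Function.minimalPeriod_eq_one_iff_isFixedPt.2 hq
        have hgN : q.out.out⁻¹ * t * q.out.out ∈ N := by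
          rw [← smul_mk_eq_iff, QuotientGroup.out_eq']; exact hq
        rw [← hfix q.out.out hgN]
        congr 2
        rw [hper, pow_one]
      · rw [if_neg hq]
        have hper : Function.minimalPeriod (t • ·) q.out = 2 := by
          haveI : Fact (Nat.Prime 2) := ⟨Nat.prime_two⟩
          refine Function.minimalPeriod_eq_prime ?_ ?_
          · show t • t • q.out = q.out
            rw [smul_smul, ← pow_two, ← ht, pow_orderOf_eq_one, one_smul]
          · exact hq
        rw [← map_one φ]
        refine congrArg φ (Subtype.ext ?_)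
        show q.out.out⁻¹ * t ^ Function.minimalPeriod (t • ·) q.out * q.out.out = 1
        rw [hper, ← ht, pow_orderOf_eq_one]
        group
    -- the number of fixed cycles is the number of fixed cosets, which is odd
    have hcount : (Finset.univ.filter
        (fun q : Quotient (MulAction.orbitRel (zpowers t) (G ⧸ N)) => t • q.out = q.out)).card =
        Nat.card (MulAction.fixedBy (G ⧸ N) t) := by
      rw [← Fintype.card_coe, ← Nat.card_eq_fintype_card]
      refine Nat.card_eq_of_bijective (fun q => ⟨q.1.out, (Finset.mem_filter.1 q.2).2⟩) ⟨?_, ?_⟩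
      · intro a b hab
        have h' : a.1.out = b.1.out := congrArg Subtype.val hab
        exact Subtype.ext ((Quotient.out_eq' a.1).symm.trans
          ((congrArg Quotient.mk'' h').trans (Quotient.out_eq' b.1)))
      · rintro ⟨a, ha⟩
        set q : Quotient (MulAction.orbitRel (zpowers t) (G ⧸ N)) := Quotient.mk'' a
        have hout : q.out = a := by
          obtain ⟨v, hv⟩ := (Quotient.eq'' (s₁ := MulAction.orbitRel (zpowers t) (G ⧸ N))).1
            (Quotient.out_eq' q)
          exact hv.symm.trans ((zpowers_le (H := MulAction.stabilizer G a)).2 ha v.2)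
        refine ⟨⟨q, Finset.mem_filter.2 ⟨Finset.mem_univ _, ?_⟩⟩, Subtype.ext hout⟩
        rw [hout]; exact ha
    have hodd : Odd (Nat.card (MulAction.fixedBy (G ⧸ N) t)) := by
      have hpg : IsPGroup 2 (zpowers t) :=
        IsPGroup.of_card (n := 1) (by rw [Nat.card_zpowers, ht, pow_one])
      have h := hpg.card_modEq_card_fixedPoints (G ⧸ N)
      have hset : MulAction.fixedPoints (zpowers t) (G ⧸ N) = MulAction.fixedBy (G ⧸ N) t := by
        ext a
        exact ⟨fun h => h ⟨t, mem_zpowers t⟩,
          fun h v => (zpowers_le (H := MulAction.stabilizer G a)).2 h v.2⟩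
      rw [hset, ← index_eq_card, hidx] at h
      exact Nat.odd_iff.2 h.symm
    rw [hcount, hodd.neg_one_pow] at hv
    exact absurd hv (by decide)
  · push_neg at hexinv
    obtain ⟨k, hk⟩ := hx2
    have hk0 : k ≠ 0 := fun h => hxC (by
      rw [h, pow_zero, orderOf_eq_one_iff] at hk
      rw [hk]; exact one_mem _)
    set t := x ^ 2 ^ (k - 1) with htdef
    have ht : orderOf t = 2 := by
      rw [htdef, orderOf_pow' _ (pow_ne_zero _ (by norm_num)), hk,
        Nat.gcd_eq_right (pow_dvd_pow 2 (by omega)), Nat.pow_div (by omega) two_pos,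
        show k - (k - 1) = 1 by omega, pow_one]
    have htN : t ∈ N := pow_mem hxN _
    have hone : Nat.card (MulAction.fixedBy (G ⧸ N) t) = 1 :=
      sylow21_involution h21 hfaith hperf P hP ht (hexinv t ht htN)
    have hsub := (Nat.card_eq_one_iff_unique.1 hone).1
    have hv := htriv x
    haveI := Fintype.ofFinite (Quotient (MulAction.orbitRel (zpowers x) (G ⧸ N)))
    rw [MonoidHom.transfer_eq_prod_quotient_orbitRel_zpowers_quot] at hv
    set q₀ : Quotient (MulAction.orbitRel (zpowers x) (G ⧸ N)) := Quotient.mk'' ((1 : G) : G ⧸ N)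
    have hout : q₀.out = ((1 : G) : G ⧸ N) := by
      obtain ⟨v, hv'⟩ := (Quotient.eq'' (s₁ := MulAction.orbitRel (zpowers x) (G ⧸ N))).1
        (Quotient.out_eq' q₀)
      exact hv'.symm.trans
        ((zpowers_le (H := MulAction.stabilizer G ((1 : G) : G ⧸ N))).2 (hbase x hxN) v.2)
    rw [Finset.prod_eq_single q₀ (fun q _ hq => ?_) (fun h => absurd (Finset.mem_univ _) h)] at hv
    swap
    · set m := Function.minimalPeriod (x • ·) q.out with hm
      have hxm : x ^ m • q.out = q.out := by
        rw [← smul_iterate_apply]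
        exact Function.isPeriodicPt_minimalPeriod _ _
      have hdvd : orderOf x ∣ m := by
        by_contra hnd
        -- then `t` is a power of `x ^ m`, so it fixes `q.out`
        have hg : Nat.gcd m (2 ^ k) ∣ 2 ^ (k - 1) := by
          obtain ⟨i, hi, hi'⟩ := (Nat.dvd_prime_pow Nat.prime_two).1 (Nat.gcd_dvd_right m (2 ^ k))
          rw [hi']
          refine pow_dvd_pow 2 (Nat.le_sub_one_of_lt (lt_of_le_of_ne hi fun h => hnd ?_))
          rw [hk]
          exact (h ▸ hi') ▸ Nat.gcd_dvd_left m (2 ^ k)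
        have htm : t ∈ zpowers (x ^ m) := by
          have hmem : x ^ Nat.gcd m (2 ^ k) ∈ zpowers (x ^ m) := by
            refine mem_zpowers_iff.2 ⟨Nat.gcdA m (2 ^ k), ?_⟩
            rw [← zpow_natCast x m, ← zpow_mul, ← zpow_natCast x (Nat.gcd m (2 ^ k)),
              Nat.gcd_eq_gcd_ab, zpow_add, zpow_mul x ((2 ^ k : ℕ) : ℤ), zpow_natCast x (2 ^ k),
              ← hk, pow_orderOf_eq_one, one_zpow, mul_one]
          obtain ⟨j, hj⟩ := hg
          rw [htdef, hj, pow_mul]
          exact pow_mem hmem j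
        have hfix : t • q.out = q.out :=
          (zpowers_le (H := MulAction.stabilizer G q.out)).2 hxm htm
        have heq : q.out = ((1 : G) : G ⧸ N) :=
          congrArg Subtype.val (hsub.elim ⟨q.out, hfix⟩ ⟨_, hbase t htN⟩)
        exact hq ((Quotient.out_eq' q).symm.trans (congrArg Quotient.mk'' heq))
      obtain ⟨j, hj⟩ := hdvd
      rw [← map_one φ]
      refine congrArg φ (Subtype.ext ?_)
      show q.out.out⁻¹ * x ^ Function.minimalPeriod (x • ·) q.out * q.out.out = 1
      rw [← hm, hj, pow_mul, pow_orderOf_eq_one, one_pow]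
      group
    have hper : Function.minimalPeriod (x • ·) q₀.out = 1 :=
      Function.minimalPeriod_eq_one_iff_isFixedPt.2 (by rw [hout]; exact hbase x hxN)
    have hgN : (q₀.out.out : G) ∈ N := by
      have : ((q₀.out.out : G) : G ⧸ N) = ((1 : G) : G ⧸ N) := by
        rw [QuotientGroup.out_eq', hout]
      have h' := QuotientGroup.eq.1 this
      rwa [mul_one, inv_mem_iff] at h'
    apply hxC
    have hval : φ ((⟨q₀.out.out, hgN⟩ : N)⁻¹ * ⟨x, hxN⟩ * ⟨q₀.out.out, hgN⟩) = 1 := by
      rw [← hv]
      refine congrArg φ (Subtype.ext ?_)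
      show (q₀.out.out)⁻¹ * x * q₀.out.out = _
      simp only [hper, pow_one]
    rw [map_mul, map_mul, map_inv, mul_comm (φ ⟨q₀.out.out, hgN⟩)⁻¹, inv_mul_cancel_right] at hval
    exact (hφ ⟨x, hxN⟩).1 hval

theorem sylow21_aux : ∀ (n : ℕ) (H : Type u) [Group H] [Finite H], Nat.card H = n →
    Nat.card (Sylow 5 H) ≠ 21 := by
  intro n
  induction n using Nat.strong_induction_on with
  | _ n ih =>
    intro H _ _ hn h21
    classical
    -- faithfulness
    let Z := (MulAction.toPermHom H (Sylow 5 H)).ker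
    have hZle : ∀ P : Sylow 5 H, Z ≤ normalizer ((P : Subgroup H) : Set H) := fun P z hz =>
      Sylow.smul_eq_iff_mem_normalizer.1
        (congrArg (fun e : Equiv.Perm (Sylow 5 H) => e P) (MonoidHom.mem_ker.1 hz))
    have hZ : Z = ⊥ := by
      by_contra hZ
      have hlt : Nat.card (H ⧸ Z) < n := by
        rw [← hn, ← Z.card_mul_index, index_eq_card]
        exact lt_mul_of_one_lt_left Nat.card_pos (Z.one_lt_card_iff_ne_bot.2 hZ)
      exact ih _ hlt (H ⧸ Z) rfl ((card_sylow_quotient Z hZle).trans h21)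
    have hfaith : ∀ g : H, (∀ P : Sylow 5 H, g • P = P) → g = 1 := fun g hg => by
      have : g ∈ Z := MonoidHom.mem_ker.2 (Equiv.ext hg)
      rwa [hZ, mem_bot] at this
    obtain ⟨P⟩ := Sylow.nonempty (p := 5) (G := H)
    have hP := sylow21_card h21 hfaith P
    -- no proper normal subgroup contains a Sylow subgroup
    have hmin : ∀ L : Subgroup H, L.Normal → (P : Subgroup H) ≤ L → L = ⊤ := by
      intro L hL hPL
      by_contra hne
      have hlt : Nat.card L < n := by
        rw [← hn]
        exact lt_of_le_of_ne (card_le_card_group L) fun h => hne (eq_top_of_card_eq L h)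
      exact ih _ hlt L rfl
        ((card_sylow_eq_of_forall_le L (forall_sylow_le L hPL)).trans h21)
    by_cases hperf : commutator H = ⊤
    · exact sylow21_perfect h21 hfaith hperf P hP
    set L := commutator H with hL
    have hnle : ¬ (P : Subgroup H) ≤ L := fun h => hperf (hmin L inferInstance h)
    have h5L : ¬ 5 ∣ Nat.card L := by
      intro h5
      obtain ⟨S⟩ := Sylow.nonempty (p := 5) (G := L)
      obtain ⟨Q, hQ⟩ := (S.2.map L.subtype).exists_le_sylow
      have heq : (S : Subgroup L).map L.subtype = Q := eq_of_le_of_card_ge hQ (by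
        rw [(card_sylow_congr Q P).trans hP, card_subtype]
        exact Nat.le_of_dvd Nat.card_pos (S.dvd_card_of_dvd_card h5))
      exact hnle (forall_sylow_le L (heq ▸ map_subtype_le _ : (Q : Subgroup H) ≤ L) P)
    have hLP : L ⊔ (P : Subgroup H) = ⊤ :=
      hmin _ (Subgroup.Normal.of_commutator_le _ le_sup_left) le_sup_right
    -- hence `|H| = 5 |L|`
    have hcardH : Nat.card H ∣ Nat.card L * 5 := by
      rw [← L.card_mul_index, ← hP]
      refine Nat.mul_dvd_mul_left _ ?_
      have h2 : L.index = L.relIndex (L ⊔ (P : Subgroup H)) := by rw [hLP, relIndex_top_right]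
      rw [h2, sup_comm, relIndex_sup_right]
      exact relIndex_dvd_card _ _
    haveI : Fact (Nat.Prime 7) := ⟨by norm_num⟩
    have hN := card_sylow_mul_normalizer P
    rw [h21] at hN
    have h7 : 7 ∣ Nat.card L := by
      have : 7 ∣ Nat.card L * 5 := (hN ▸ Dvd.dvd.mul_right (by norm_num) _ : 7 ∣ Nat.card H).trans hcardH
      exact (Nat.Coprime.dvd_of_dvd_mul_right (by norm_num) this)
    have h49 : ¬ 7 ^ 2 ∣ Nat.card H := fun h => by
      rw [← hN, show (21 : ℕ) = 7 * 3 from rfl, pow_two, mul_assoc] at h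
      have h' := Nat.dvd_of_mul_dvd_mul_left (by norm_num) h
      exact sylow21_seven h21 hfaith P hP ((Nat.Coprime.dvd_of_dvd_mul_left (by norm_num)) h')
    obtain ⟨S⟩ := Sylow.nonempty (p := 7) (G := L)
    have hScard : Nat.card ((S : Subgroup L).map L.subtype) = 7 := by
      rw [card_subtype]
      obtain ⟨k, hk⟩ := S.2.exists_card_eq
      have h1 := S.dvd_card_of_dvd_card h7
      rcases k with _ | _ | k
      · rw [hk] at h1; norm_num at h1
      · simpa using hk
      · refine absurd ((pow_dvd_pow 7 (by omega : 2 ≤ k + 2)).trans ?_) h49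
        rw [← hk, ← card_subtype L (S : Subgroup L)]
        exact card_subgroup_dvd_card _
    have hfr := Sylow.normalizer_sup_eq_top (N := L) S
    set M := normalizer (((S : Subgroup L).map L.subtype : Subgroup H) : Set H) with hM
    have h5M : 5 ∣ Nat.card M := by
      have h5H : 5 ∣ Nat.card H := hP ▸ card_subgroup_dvd_card _
      have hdvd : Nat.card H ∣ Nat.card L * Nat.card M := by
        rw [← L.card_mul_index, ← relIndex_top_right L, ← show M ⊔ L = ⊤ from hfr,
          relIndex_sup_right]
        exact Nat.mul_dvd_mul_left _ (relIndex_dvd_card _ _)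
      rcases (Nat.Prime.dvd_mul (by norm_num)).1 (h5H.trans hdvd) with h | h
      · exact absurd h h5L
      · exact h
    obtain ⟨⟨y, hyM⟩, hy⟩ := exists_prime_orderOf_dvd_card' (G := M) 5 h5M
    rw [← Subgroup.orderOf_coe] at hy
    have hyC : y ∈ centralizer (((S : Subgroup L).map L.subtype : Subgroup H) : Set H) := by
      have h5C : ¬ 5 ∣ (centralizer (((S : Subgroup L).map L.subtype : Subgroup H) : Set H)).relIndex M :=
        fun h => by
          have := h.trans (relIndex_centralizer_dvd_of_prime (by norm_num : Nat.Prime 7) _ hScard)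
          norm_num at this
      haveI : ((centralizer (((S : Subgroup L).map L.subtype : Subgroup H) : Set H)).subgroupOf M).Normal := by
        rw [hM, ← normalizerMonoidHom_ker]; infer_instance
      set C₇ := (centralizer (((S : Subgroup L).map L.subtype : Subgroup H) : Set H)).subgroupOf M
      have h1 : orderOf (QuotientGroup.mk' C₇ ⟨y, hyM⟩) ∣ 5 := by
        have := orderOf_map_dvd (QuotientGroup.mk' C₇) ⟨y, hyM⟩
        rwa [Subgroup.orderOf_mk, hy] at this
      have h2 : orderOf (QuotientGroup.mk' C₇ ⟨y, hyM⟩) ∣ C₇.index := by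
        rw [index_eq_card]; exact orderOf_dvd_natCard _
      rcases (Nat.dvd_prime (by norm_num)).1 h1 with h | h
      · rw [orderOf_eq_one_iff, QuotientGroup.mk'_apply, QuotientGroup.eq_one_iff] at h
        exact h
      · exact absurd (h ▸ h2) h5C
    obtain ⟨Q, hQ⟩ := exists_sylow_mem hy
    apply sylow21_seven h21 hfaith Q ((card_sylow_congr Q P).trans hP)
    rw [← hScard]
    refine card_dvd_of_le ?_
    refine le_trans ?_ (centralizer_le_normalizer _)
    rw [← sylow_eq_zpowers Q ((card_sylow_congr Q P).trans hP) hy hQ]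
    intro a ha
    rw [mem_centralizer_iff]
    intro v hv
    obtain ⟨j, rfl⟩ := mem_zpowers_iff.1 hv
    have hay : Commute a y := mem_centralizer_iff.1 hyC a ha
    exact ((hay.zpow_right j).symm).eq

/-- No finite group has exactly 21 Sylow 5-subgroups. -/
theorem card_sylow_five_ne_twentyone : Nat.card (Sylow 5 G) ≠ 21 := sylow21_aux _ G rfl

end Cfsg.Agent.H36
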