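import Cfsg.Agent.H36.OrderScreen
import Cfsg.Agent.H36.TwoSylow
import Cfsg.Agent.H86.PerfectSylow
import Cfsg.Agent.H31.FFPlane

/-!
# Simple groups of order 2520: Sylow normalizers
-/

set_option autoImplicit false
set_option linter.unusedSectionVars false
set_option linter.style.haveILetI false

namespace Cfsg.Agent.H36.Alt7

open Subgroup OrderScreen

theorem blockOnly_five :
    blockOnly 2520 5 (fun _ => true) (fun r c => r == 4 && c == 1) = true := by decide +kernel

theorem not_solvable_five : solvable 2520 5 2 2 (fun _ => true) = false := by decide +kernel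

theorem blockOnly_seven :
    blockOnly 2520 7 (fun _ => true) (fun r c => r == 3 && c == 1) = true := by decide +kernel

variable {G : Type*} [Group G] [Finite G] [IsSimpleGroup G]

theorem commutator_eq_top (hG : ¬ IsMulCommutative G) : commutator G = ⊤ :=
  (Subgroup.Normal.eq_bot_or_eq_top (H := commutator G) inferInstance).resolve_left fun h =>
    hG (isMulCommutative_of_forall fun a b => commutatorElement_eq_one_iff_mul_comm.1 (by
      rw [← mem_bot, ← h]
      exact commutator_mem_commutator (mem_top a) (mem_top b)))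

omit [Finite G] [IsSimpleGroup G] in
theorem centralizer_zpowers (y : G) :
    centralizer ((zpowers y : Subgroup G) : Set G) = centralizer {y} := by
  rw [zpowers_eq_closure, centralizer_closure]

/-- A proper subgroup has order at most 360. -/
theorem card_le_of_ne_top (hn : Nat.card G = 2520) (hG : ¬ IsMulCommutative G) {H : Subgroup G}
    (hH : H ≠ ⊤) : Nat.card H ≤ 360 := by
  have h1 := two_mul_card_dvd_factorial hG hH
  have h2 := H.card_mul_index
  rw [hn] at h1 h2
  have h7 : 7 ≤ H.index := by
    by_contra hlt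
    have key : ∀ j ∈ List.range 7, ¬ 2 * 2520 ∣ j.factorial := by decide +kernel
    exact key _ (List.mem_range.2 (by omega)) h1
  nlinarith

theorem card_sylow_five (hn : Nat.card G = 2520) (hG : ¬ IsMulCommutative G)
    [Fact (Nat.Prime 5)] (Q : Sylow 5 G) : Nat.card (Q : Subgroup G) = 5 ∧
      Nat.card (normalizer ((Q : Subgroup G) : Set G)) = 20 ∧
      Nat.card (centralizer ((Q : Subgroup G) : Set G)) = 5 := by
  obtain ⟨P, r, c, hP, hr, hc, hs⟩ := exists_of_blockOnly hG (by omega) (fun _ => true)
    (fun _ _ _ _ => rfl) (fun r c => r == 4 && c == 1) (by rw [hn]; exact blockOnly_five)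
  simp only [Bool.and_eq_true, beq_iff_eq] at hs
  obtain ⟨rfl, rfl⟩ := hs
  have hN := card_normalizer_eq_mul (P : Subgroup G)
  rw [hc, hr] at hN
  have hQ : Nat.card (Q : Subgroup G) = 5 :=
    (card_sylow_congr Q P).trans hP
  have hNQ : Nat.card (normalizer ((Q : Subgroup G) : Set G)) = 20 := by
    have h1 := card_sylow_mul_normalizer P
    have h2 := card_sylow_mul_normalizer Q
    rw [hN] at h1
    exact Nat.eq_of_mul_eq_mul_left Nat.card_pos (h2.trans h1.symm)
  refine ⟨hQ, hNQ, ?_⟩
  obtain ⟨c, hc'⟩ := dvd_card_centralizer_of_prime (Fact.out : Nat.Prime 5) (Q : Subgroup G) hQ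
  have h1 := card_normalizer_eq_mul (Q : Subgroup G)
  have hr1 := one_lt_relIndex_centralizer hG Q (hQ ▸ card_subgroup_dvd_card _)
  have hr4 := relIndex_centralizer_dvd_of_prime (Fact.out : Nat.Prime 5) _ hQ
  set r := (centralizer ((Q : Subgroup G) : Set G)).relIndex
    (normalizer ((Q : Subgroup G) : Set G)) with hr'
  rw [hc', hNQ] at h1
  have hr4' : r ≤ 4 := Nat.le_of_dvd (by norm_num) hr4
  have hcr : c * r = 4 := by nlinarith
  obtain h | h | h : r = 2 ∨ r = 3 ∨ r = 4 := by omega
  · exfalso
    have hc2 : c = 2 := by rw [h] at hcr; omega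
    have := search_of_normalizer hG (by omega) Q hQ h (hc2 ▸ hc') (fun _ => true)
      (fun _ _ _ _ => rfl)
    rw [hn, not_solvable_five] at this
    exact Bool.noConfusion this
  · rw [h] at hr4; omega
  · rw [h] at hcr
    rw [hc', show c = 1 by omega]

theorem card_sylow_seven (hn : Nat.card G = 2520) (hG : ¬ IsMulCommutative G)
    [Fact (Nat.Prime 7)] (Q : Sylow 7 G) : Nat.card (Q : Subgroup G) = 7 ∧
      Nat.card (normalizer ((Q : Subgroup G) : Set G)) = 21 ∧
      Nat.card (centralizer ((Q : Subgroup G) : Set G)) = 7 := by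
  obtain ⟨P, r, c, hP, hr, hc, hs⟩ := exists_of_blockOnly hG (by omega) (fun _ => true)
    (fun _ _ _ _ => rfl) (fun r c => r == 3 && c == 1) (by rw [hn]; exact blockOnly_seven)
  simp only [Bool.and_eq_true, beq_iff_eq] at hs
  obtain ⟨rfl, rfl⟩ := hs
  have hN := card_normalizer_eq_mul (P : Subgroup G)
  rw [hc, hr] at hN
  have hQ : Nat.card (Q : Subgroup G) = 7 := (card_sylow_congr Q P).trans hP
  have hNQ : Nat.card (normalizer ((Q : Subgroup G) : Set G)) = 21 := by
    have h1 := card_sylow_mul_normalizer P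
    have h2 := card_sylow_mul_normalizer Q
    rw [hN] at h1
    exact Nat.eq_of_mul_eq_mul_left Nat.card_pos (h2.trans h1.symm)
  refine ⟨hQ, hNQ, ?_⟩
  obtain ⟨c, hc'⟩ := dvd_card_centralizer_of_prime (Fact.out : Nat.Prime 7) (Q : Subgroup G) hQ
  have h1 := card_normalizer_eq_mul (Q : Subgroup G)
  have hr1 := one_lt_relIndex_centralizer hG Q (hQ ▸ card_subgroup_dvd_card _)
  rw [hc', hNQ] at h1
  have hcr : c * (centralizer ((Q : Subgroup G) : Set G)).relIndex
      (normalizer ((Q : Subgroup G) : Set G)) = 3 := by nlinarith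
  rcases Nat.prime_three.eq_one_or_self_of_dvd c (Dvd.intro _ hcr) with h | h
  · rw [hc', h]
  · rw [h] at hcr; omega

/-- An element of order five is self-centralizing. -/
theorem card_centralizer_five (hn : Nat.card G = 2520) (hG : ¬ IsMulCommutative G) {y : G}
    (hy : orderOf y = 5) : Nat.card (centralizer ({y} : Set G)) = 5 := by
  haveI : Fact (Nat.Prime 5) := ⟨by norm_num⟩
  obtain ⟨Q, hQ⟩ := exists_sylow_mem (p := 5) hy
  obtain ⟨h1, -, h3⟩ := card_sylow_five hn hG Q
  rw [← centralizer_zpowers, sylow_eq_zpowers Q h1 hy hQ] at *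
  exact h3

theorem card_centralizer_seven (hn : Nat.card G = 2520) (hG : ¬ IsMulCommutative G) {y : G}
    (hy : orderOf y = 7) : Nat.card (centralizer ({y} : Set G)) = 7 := by
  haveI : Fact (Nat.Prime 7) := ⟨by norm_num⟩
  obtain ⟨Q, hQ⟩ := exists_sylow_mem (p := 7) hy
  obtain ⟨h1, -, h3⟩ := card_sylow_seven hn hG Q
  rw [← centralizer_zpowers, sylow_eq_zpowers Q h1 hy hQ] at *
  exact h3

/-- The centralizer of an element of order two or three has order prime to 35. -/
theorem not_dvd_card_centralizer (hn : Nat.card G = 2520) (hG : ¬ IsMulCommutative G) {x : G}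
    (hx : orderOf x = 2 ∨ orderOf x = 3) :
    ¬ 5 ∣ Nat.card (centralizer ({x} : Set G)) ∧ ¬ 7 ∣ Nat.card (centralizer ({x} : Set G)) := by
  have key : ∀ (p : ℕ), p.Prime → (p = 5 ∨ p = 7) →
      ¬ p ∣ Nat.card (centralizer ({x} : Set G)) := by
    intro p hp hp57 hdvd
    haveI := Fact.mk hp
    obtain ⟨⟨y, hyC⟩, hy⟩ := exists_prime_orderOf_dvd_card' (G := centralizer ({x} : Set G)) p hdvd
    rw [orderOf_mk] at hy
    have hxy : x ∈ centralizer ({y} : Set G) :=
      mem_centralizer_singleton_iff.2 (mem_centralizer_singleton_iff.1 hyC).symm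
    have h1 := Subgroup.orderOf_dvd_natCard _ hxy
    rcases hp57 with rfl | rfl
    · rw [card_centralizer_five hn hG hy] at h1; rcases hx with h | h <;> rw [h] at h1 <;> omega
    · rw [card_centralizer_seven hn hG hy] at h1; rcases hx with h | h <;> rw [h] at h1 <;> omega
  exact ⟨key 5 (by norm_num) (Or.inl rfl), key 7 (by norm_num) (Or.inr rfl)⟩

theorem card_sylow_three (hn : Nat.card G = 2520) [Fact (Nat.Prime 3)] (P : Sylow 3 G) :
    Nat.card (P : Subgroup G) = 9 := by
  simpa using card_sylow_eq (a := 2) (m := 280) hn P (by norm_num) (by norm_num)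

/-- The normalizer of a Sylow 3-subgroup has order 36. -/
theorem card_normalizer_three (hn : Nat.card G = 2520) (hG : ¬ IsMulCommutative G)
    [Fact (Nat.Prime 3)] (P : Sylow 3 G) :
    Nat.card (normalizer ((P : Subgroup G) : Set G)) = 36 := by
  have hP := card_sylow_three hn P
  have key : ∀ (q : ℕ), q.Prime → (q = 5 ∨ q = 7) →
      ¬ q ∣ Nat.card (normalizer ((P : Subgroup G) : Set G)) := by
    intro q hq hq57 hdvd
    haveI := Fact.mk hq
    obtain ⟨⟨y, hyN⟩, hy⟩ :=
      exists_prime_orderOf_dvd_card' (G := normalizer ((P : Subgroup G) : Set G)) q hdvd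
    rw [orderOf_mk] at hy
    have hle : zpowers y ≤ normalizer ((P : Subgroup G) : Set G) := zpowers_le.2 hyN
    have hinf : (P : Subgroup G) ⊓ zpowers y = ⊥ := by
      apply inf_eq_bot_of_coprime
      rw [hP, Nat.card_zpowers, hy]
      rcases hq57 with rfl | rfl <;> norm_num
    have hsup := H31.FF.card_sup_mul_card_inf hle
    rw [hinf, card_bot, mul_one, hP, Nat.card_zpowers, hy] at hsup
    set H := (P : Subgroup G) ⊔ zpowers y with hH
    obtain ⟨R, hR⟩ := exists_sylow_mem (p := q) hy
    have hR' : Nat.card (R : Subgroup G) = q := by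
      rcases hq57 with rfl | rfl
      · exact (card_sylow_five hn hG R).1
      · exact (card_sylow_seven hn hG R).1
    have hRH : (R : Subgroup G) ≤ H := by
      rw [← sylow_eq_zpowers R hR' hy hR]; exact le_sup_right
    have hS : Nat.card (Sylow q H) = 1 := by
      obtain ⟨hd, hmod⟩ := card_sylow_dvd (p := q) (hsup.trans (by ring : 9 * q = q ^ 1 * 9)) rfl
        (by rcases hq57 with rfl | rfl <;> norm_num)
      have := Nat.le_of_dvd (by norm_num) hd
      rcases hq57 with rfl | rfl
      · obtain h | h : Nat.card (Sylow 5 H) = 1 ∨ Nat.card (Sylow 5 H) = 6 := by omega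
        · exact h
        · rw [h] at hd; omega
      · obtain h | h : Nat.card (Sylow 7 H) = 1 ∨ Nat.card (Sylow 7 H) = 8 := by omega
        · exact h
        · rw [h] at hd; omega
    haveI := (Nat.card_eq_one_iff_unique.1 hS).1
    have hnorm := (R.subtype hRH).normal_of_subsingleton
    rw [Sylow.coe_subtype, normal_subgroupOf_iff_le_normalizer hRH] at hnorm
    have h1 := (card_dvd_of_le hnorm)
    rw [hsup] at h1
    rcases hq57 with rfl | rfl
    · rw [(card_sylow_five hn hG R).2.1] at h1; omega
    · rw [(card_sylow_seven hn hG R).2.1] at h1; omega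
  have h1 := card_sylow_mul_normalizer P
  rw [hn] at h1
  obtain ⟨hd, hmod⟩ := card_sylow_dvd (p := 3) hn (a := 2) (m := 280) (by norm_num) (by norm_num)
  have h5 := key 5 (by norm_num) (Or.inl rfl)
  have h7 := key 7 (by norm_num) (Or.inr rfl)
  set d := Nat.card (Sylow 3 G)
  set N := Nat.card (normalizer ((P : Subgroup G) : Set G))
  have h35 : 35 ∣ d := by
    have e5 : 5 ∣ d := ((Nat.Prime.dvd_mul (by norm_num)).1 (h1 ▸ (by norm_num : 5 ∣ 2520))).resolve_right h5
    have e7 : 7 ∣ d := ((Nat.Prime.dvd_mul (by norm_num)).1 (h1 ▸ (by norm_num : 7 ∣ 2520))).resolve_right h7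
    exact Nat.Coprime.mul_dvd_of_dvd_of_dvd (by norm_num) e5 e7
  have hd' : d = 70 ∨ d = 280 := by
    have key2 : ∀ d ∈ List.range 281, 35 ∣ d → d % 3 = 1 → d ∣ 280 → d = 70 ∨ d = 280 := by
      decide +kernel
    exact key2 d (List.mem_range.2 (Nat.lt_succ_of_le (Nat.le_of_dvd (by norm_num) hd))) h35 hmod hd
  rcases hd' with h | h
  · rw [h] at h1; omega
  · exfalso
    rw [h] at h1
    apply not_normalizer_le_centralizer hG P (hn.symm ▸ (by norm_num))
    have heq : (P : Subgroup G) = normalizer ((P : Subgroup G) : Set G) :=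
      eq_of_le_of_card_ge le_normalizer (show N ≤ _ by omega)
    rw [← heq]
    exact fun a ha => mem_centralizer_iff.2 fun b hb =>
      comm_of_card_eq_sq (p := 3) (hP.trans (by norm_num)) b hb a ha

end Cfsg.Agent.H36.Alt7
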