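import Cfsg.Agent.H36.Alt7Involution

/-!
# Simple groups of order 2520: a character of degree six
-/

set_option autoImplicit false
set_option linter.unusedSectionVars false
set_option linter.style.haveILetI false

open scoped ComplexConjugate

namespace Cfsg.Agent.H36.Alt7

open Subgroup Cfsg Cfsg.Agent.CharBasic Cfsg.Agent.BlockBasic OrderScreen

theorem blockOnly_degree :
    blockOnly 2520 7 (fun f => !(f == 4 || f == 6 || f == 8)) (fun _ _ => false) = true := by
  decide +kernel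

section Fix

variable {G : Type*} [Group G] [Finite G] {d : ℕ} (ρ : Representation ℂ G (Fin d → ℂ))

/-- The vectors fixed by a subgroup. -/
def fix (H : Subgroup G) : Submodule ℂ (Fin d → ℂ) where
  carrier := {v | ∀ h ∈ H, ρ h v = v}
  add_mem' ha hb h hh := by rw [map_add, ha h hh, hb h hh]
  zero_mem' h _ := map_zero _
  smul_mem' c v hv h hh := by rw [map_smul, hv h hh]

theorem mem_fix {H : Subgroup G} {v : Fin d → ℂ} : v ∈ fix ρ H ↔ ∀ h ∈ H, ρ h v = v := Iff.rfl

theorem fix_mono {H K : Subgroup G} (h : H ≤ K) : fix ρ K ≤ fix ρ H := fun _ hv x hx => hv x (h hx)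

theorem mem_fix_sup {H K : Subgroup G} {v : Fin d → ℂ} (h1 : v ∈ fix ρ H) (h2 : v ∈ fix ρ K) :
    v ∈ fix ρ (H ⊔ K) := by
  let S : Subgroup G :=
    { carrier := {g | ρ g v = v}
      one_mem' := by simp
      mul_mem' := fun {a b} ha hb => by
        show ρ (a * b) v = v
        rw [map_mul, Module.End.mul_apply, hb, ha]
      inv_mem' := fun {a} ha => by
        show ρ a⁻¹ v = v
        conv_lhs => rw [← ha]
        rw [← Module.End.mul_apply, ← map_mul, inv_mul_cancel, map_one, Module.End.one_apply] }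
  exact fun x hx => (sup_le (fun a ha => h1 a ha) (fun a ha => h2 a ha) : H ⊔ K ≤ S) hx

/-- The sum of the character over a subgroup. -/
theorem sum_eq (H : Subgroup G) [Fintype H] :
    ∑ h : H, ρ.character h = (Nat.card H : ℂ) * Module.finrank ℂ (fix ρ H) := by
  have h : fix ρ H = Representation.invariants (ρ.comp H.subtype) := by
    ext v
    exact ⟨fun hv g => hv g g.2, fun hv g hg => hv ⟨g, hg⟩⟩
  rw [h]
  haveI : Invertible (Nat.card H : ℂ) := invertibleOfNonzero (Nat.cast_ne_zero.2 Nat.card_pos.ne')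
  rw [← Representation.card_inv_mul_sum_char_eq_finrank (ρ.comp H.subtype),
    ← mul_assoc, mul_inv_cancel₀ (Nat.cast_ne_zero.2 Nat.card_pos.ne'), one_mul]
  rfl

/-- The elements of a group of order `5 e` as products. -/
theorem sum_product {H : Subgroup G} [Fintype H] {y t : G} {e : ℕ} (hy : y ∈ H) (ht : t ∈ H)
    (hy5 : orderOf y = 5) (hte : orderOf t = e) (he : Nat.Coprime 5 e)
    (hH : Nat.card H = 5 * e) (F : G → ℂ) :
    ∑ h : H, F h = ∑ k ∈ Finset.range e, ∑ i ∈ Finset.range 5, F (y ^ i * t ^ k) := by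
  classical
  let f : Fin e × Fin 5 → H := fun x => ⟨y ^ (x.2 : ℕ) * t ^ (x.1 : ℕ),
    mul_mem (pow_mem hy _) (pow_mem ht _)⟩
  have hinf : zpowers y ⊓ zpowers t = ⊥ := inf_eq_bot_of_coprime (by
    rw [Nat.card_zpowers, Nat.card_zpowers, hy5, hte]; exact he)
  have hf : Function.Injective f := by
    rintro ⟨k, i⟩ ⟨k', i'⟩ h
    have h' : y ^ (i : ℕ) * t ^ (k : ℕ) = y ^ (i' : ℕ) * t ^ (k' : ℕ) := congrArg Subtype.val h
    have h1 : (y ^ (i' : ℕ))⁻¹ * y ^ (i : ℕ) = t ^ (k' : ℕ) * (t ^ (k : ℕ))⁻¹ := by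
      rw [eq_mul_inv_iff_mul_eq, mul_assoc, h', inv_mul_cancel_left]
    have h2 : (y ^ (i' : ℕ))⁻¹ * y ^ (i : ℕ) ∈ (zpowers y ⊓ zpowers t : Subgroup G) :=
      Subgroup.mem_inf.2 ⟨mul_mem (inv_mem (pow_mem (mem_zpowers y) _)) (pow_mem (mem_zpowers y) _),
        h1 ▸ mul_mem (pow_mem (mem_zpowers t) _) (inv_mem (pow_mem (mem_zpowers t) _))⟩
    rw [hinf, mem_bot, inv_mul_eq_one] at h2
    rw [h2] at h'
    have h3 := mul_left_cancel h'
    refine Prod.ext (Fin.ext ?_) (Fin.ext ?_)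
    · exact pow_injOn_Iio_orderOf (by simpa [hte] using k.2) (by simpa [hte] using k'.2) h3
    · exact (pow_injOn_Iio_orderOf (x := y) (by simp [hy5]) (by simp [hy5]) h2).symm
  have hb : Function.Bijective f := (Fintype.bijective_iff_injective_and_card f).2
    ⟨hf, by rw [Fintype.card_prod, Fintype.card_fin, Fintype.card_fin,
      ← Nat.card_eq_fintype_card (α := H), hH, mul_comm]⟩
  rw [← (Equiv.ofBijective f hb).sum_comp (fun h => F h), Fintype.sum_prod_type,
    ← Fin.sum_univ_eq_sum_range (fun k => ∑ i ∈ Finset.range 5, F (y ^ i * t ^ k))]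
  refine Finset.sum_congr rfl fun k _ => ?_
  rw [← Fin.sum_univ_eq_sum_range (fun i => F (y ^ i * t ^ (k : ℕ)))]
  exact Finset.sum_congr rfl fun i _ => rfl

end Fix

variable {G : Type*} [Group G] [Finite G] [IsSimpleGroup G] [Fact (Nat.Prime 3)]
  [Fact (Nat.Prime 2)] [Fact (Nat.Prime 5)]

/-- The normalizer of a subgroup of order five. -/
theorem exists_frobenius (hn : Nat.card G = 2520) (hG : ¬ IsMulCommutative G) :
    ∃ (Q : Sylow 5 G) (y t : G), y ∈ (Q : Subgroup G) ∧ orderOf y = 5 ∧ orderOf t = 4 ∧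
      t ∈ normalizer ((Q : Subgroup G) : Set G) ∧
      t * t * y * (t * t)⁻¹ = y⁻¹ ∧
      (∀ u ∈ (Q : Subgroup G), u ≠ 1 → ∃ g : G, g * y * g⁻¹ = u) ∧
      ∀ k i : ℕ, ¬ 4 ∣ k → ∃ g : G, g * t ^ k * g⁻¹ = y ^ i * t ^ k := by
  classical
  obtain ⟨Q⟩ := Sylow.nonempty (p := 5) (G := G)
  obtain ⟨hQ, hN, hC⟩ := card_sylow_five hn hG Q
  obtain ⟨⟨y, hyQ⟩, hy⟩ := exists_prime_orderOf_dvd_card' (G := (Q : Subgroup G)) 5 (by rw [hQ])
  rw [orderOf_mk] at hy
  set N := normalizer ((Q : Subgroup G) : Set G) with hNdef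
  haveI := Fintype.ofFinite N
  haveI := Fintype.ofFinite (Q : Subgroup G)
  have hy1 : y ≠ 1 := fun h => by rw [h, orderOf_one] at hy; omega
  have hQy : zpowers y = (Q : Subgroup G) := sylow_eq_zpowers Q hQ hy hyQ
  have hCy : centralizer ({y} : Set G) = (Q : Subgroup G) := by
    refine (eq_of_le_of_card_ge ?_ (by rw [card_centralizer_five hn hG hy, hQ])).symm
    rw [← hQy]
    exact zpowers_le.2 (mem_centralizer_singleton_iff.2 rfl)
  let f : N → (Q : Subgroup G) := fun n => ⟨n * y * (n : G)⁻¹, (mem_normalizer_iff.1 n.2 y).1 hyQ⟩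
  set S := Finset.univ.image f
  have hfib : ∀ u ∈ S, (Finset.univ.filter fun n => f n = u).card ≤ 5 := by
    intro u hu
    obtain ⟨n₀, -, hn₀⟩ := Finset.mem_image.1 hu
    set QF : Finset G := Finset.univ.map ⟨((↑) : ↥(Q : Subgroup G) → G), Subtype.coe_injective⟩
      with hQF
    have hQF5 : QF.card = 5 := by
      rw [hQF, Finset.card_map, Finset.card_univ, ← Nat.card_eq_fintype_card, hQ]
    refine le_trans ?_ hQF5.le
    refine Finset.card_le_card_of_injOn (fun n : N => (n₀ : G)⁻¹ * n) ?_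
      (fun a _ b _ h => Subtype.ext (mul_left_cancel h))
    intro n hn'
    have h1 : (n : G) * y * (n : G)⁻¹ = n₀ * y * (n₀ : G)⁻¹ :=
      congrArg Subtype.val ((Finset.mem_filter.1 hn').2.trans hn₀.symm)
    have h2 : (n₀ : G)⁻¹ * n ∈ centralizer ({y} : Set G) := mem_centralizer_singleton_iff.2 (by
      calc (n₀ : G)⁻¹ * n * y = (n₀ : G)⁻¹ * ((n : G) * y * (n : G)⁻¹) * n := by group
        _ = y * ((n₀ : G)⁻¹ * n) := by rw [h1]; group)
    rw [hCy] at h2
    exact Finset.mem_map.2 ⟨⟨_, h2⟩, Finset.mem_univ _, rfl⟩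
  have hS : Finset.univ.erase (1 : (Q : Subgroup G)) ⊆ S := by
    have hsub : S ⊆ Finset.univ.erase 1 := by
      intro u hu
      obtain ⟨n, -, rfl⟩ := Finset.mem_image.1 hu
      exact Finset.mem_erase.2 ⟨fun h => hy1 (conj_eq_one_iff.1 (congrArg Subtype.val h)),
        Finset.mem_univ _⟩
    have h4 : (Finset.univ.erase (1 : (Q : Subgroup G))).card = 4 := by
      rw [Finset.card_erase_of_mem (Finset.mem_univ _), Finset.card_univ,
        ← Nat.card_eq_fintype_card, hQ]
    have h20 := Finset.card_le_mul_card_image Finset.univ 5 hfib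
    rw [Finset.card_univ, ← Nat.card_eq_fintype_card, hN] at h20
    exact (Finset.eq_of_subset_of_card_le hsub (by
      rw [h4]; change 4 ≤ (Finset.univ.image f).card; omega)).ge
  have hconj : ∀ u ∈ (Q : Subgroup G), u ≠ 1 → ∃ n ∈ N, n * y * n⁻¹ = u := by
    intro u hu hu1
    have h := hS (Finset.mem_erase.2 ⟨fun h => hu1 (congrArg Subtype.val h),
      Finset.mem_univ (⟨u, hu⟩ : (Q : Subgroup G))⟩)
    obtain ⟨n, -, hn'⟩ := Finset.mem_image.1 h
    exact ⟨n, n.2, congrArg Subtype.val hn'⟩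
  have hy5 : y ^ 5 = 1 := hy ▸ pow_orderOf_eq_one y
  obtain ⟨n, hnN, hny⟩ := hconj (y ^ 2) (pow_mem hyQ 2) (fun h => by
    have := orderOf_dvd_of_pow_eq_one h
    rw [hy] at this
    omega)
  have hconj_pow : ∀ k : ℕ, n ^ k * y * (n ^ k)⁻¹ = y ^ (2 ^ k) := by
    intro k
    induction k with
    | zero => simp
    | succ k ih =>
      rw [pow_succ', show n * n ^ k * y * (n * n ^ k)⁻¹ = n * (n ^ k * y * (n ^ k)⁻¹) * n⁻¹ by group,
        ih, ← conj_pow, hny, ← pow_mul, pow_succ']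
  set t := n ^ 5 with ht
  have hty : ∀ k : ℕ, t ^ k * y * (t ^ k)⁻¹ = y ^ (2 ^ (5 * k)) := fun k => by
    rw [ht, ← pow_mul, hconj_pow]
  have hn20 : n ^ 20 = 1 := orderOf_dvd_iff_pow_eq_one.1 (hN ▸ Subgroup.orderOf_dvd_natCard _ hnN)
  have hmod : ∀ a : ℕ, y ^ a = y ^ (a % 5) := fun a => (pow_mod_orderOf y a).symm.trans (by rw [hy])
  have hne : ∀ k : ℕ, ¬ 4 ∣ k → ∀ a : ℕ, a % 5 ≠ 0 → t ^ k * y ^ a * (t ^ k)⁻¹ ≠ y ^ a := by
    intro k hk a ha h
    rw [← conj_pow, hty, ← pow_mul, hmod, hmod a] at h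
    have h2 := pow_injOn_Iio_orderOf (x := y) (by simp [hy]; omega) (by simp [hy]; omega) h
    have hk' : 2 ^ (5 * k) % 5 ≠ 1 := by
      rw [show 5 * k = 4 * (5 * k / 4) + 5 * k % 4 by omega, pow_add, pow_mul, Nat.mul_mod,
        Nat.pow_mod]
      norm_num
      have : 5 * k % 4 ≠ 0 := by omega
      have : 5 * k % 4 < 4 := Nat.mod_lt _ (by norm_num)
      interval_cases (5 * k % 4) <;> first | omega | norm_num
    rw [Nat.mul_mod] at h2
    have hb : 2 ^ (5 * k) % 5 < 5 := Nat.mod_lt _ (by norm_num)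
    have ha' : a % 5 < 5 := Nat.mod_lt _ (by norm_num)
    generalize 2 ^ (5 * k) % 5 = b at h2 hb hk'
    generalize a % 5 = c at h2 ha ha'
    interval_cases b <;> interval_cases c <;> omega
  have ht4 : orderOf t = 4 := by
    refine orderOf_eq_prime_pow (p := 2) (n := 1) ?_ (by rw [ht, ← pow_mul]; simpa using hn20)
    intro h
    refine hne 2 (by norm_num) 1 (by norm_num) ?_
    rw [show t ^ 2 = 1 by simpa using h]
    group
  refine ⟨Q, y, t, hyQ, hy, ht4, pow_mem hnN 5, ?_, fun u hu hu1 => ?_, fun k i hk => ?_⟩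
  · rw [← pow_two, hty, hmod]
    norm_num
    exact eq_inv_of_mul_eq_one_left (by rw [← pow_succ, hy5])
  · obtain ⟨g, -, hg⟩ := hconj u hu hu1
    exact ⟨g, hg⟩
  · let φ : ↥(Q : Subgroup G) → ↥(Q : Subgroup G) := fun u => ⟨(u : G) * (t ^ k * (u : G)⁻¹ * (t ^ k)⁻¹),
      mul_mem u.2 ((mem_normalizer_iff.1 (pow_mem (pow_mem hnN 5) k) _).1 (inv_mem u.2))⟩
    have hinj : Function.Injective φ := by
      intro a b hab
      have h : (a : G) * (t ^ k * (a : G)⁻¹ * (t ^ k)⁻¹) = b * (t ^ k * (b : G)⁻¹ * (t ^ k)⁻¹) :=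
        congrArg Subtype.val hab
      by_contra hne'
      have hmem : (b : G)⁻¹ * a ∈ zpowers y := by rw [hQy]; exact mul_mem (inv_mem b.2) a.2
      obtain ⟨j, hj, hje⟩ := Finset.mem_image.1 ((mem_zpowers_iff_mem_range_orderOf (x := y)).1 hmem)
      rw [hy, Finset.mem_range] at hj
      refine hne k hk j ?_ ?_
      · intro h0
        rw [show j = 0 by omega, pow_zero] at hje
        exact hne' (Subtype.ext (inv_mul_eq_one.1 hje.symm).symm)
      · rw [hje]
        calc t ^ k * ((b : G)⁻¹ * a) * (t ^ k)⁻¹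
            = (t ^ k * (b : G)⁻¹ * (t ^ k)⁻¹) * (t ^ k * (a : G)⁻¹ * (t ^ k)⁻¹)⁻¹ := by group
          _ = (b : G)⁻¹ * ((b : G) * (t ^ k * (b : G)⁻¹ * (t ^ k)⁻¹)) *
                (t ^ k * (a : G)⁻¹ * (t ^ k)⁻¹)⁻¹ := by group
          _ = (b : G)⁻¹ * a := by rw [← h]; group
    obtain ⟨u, hu⟩ := (Finite.injective_iff_surjective.1 hinj) ⟨y ^ i, pow_mem hyQ i⟩
    refine ⟨u, ?_⟩
    have hu' : (u : G) * (t ^ k * (u : G)⁻¹ * (t ^ k)⁻¹) = y ^ i := congrArg Subtype.val hu
    rw [← hu']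
    group

theorem exists_degree (hn : Nat.card G = 2520) (hG : ¬ IsMulCommutative G) :
    ∃ (χ : IrrCharacter G) (d : ℕ), (d = 4 ∨ d = 6 ∨ d = 8) ∧ (χ : G → ℂ) 1 = (d : ℂ) := by
  haveI : Fact (Nat.Prime 7) := ⟨by norm_num⟩
  by_contra hno
  push Not at hno
  have hok : ∀ (χ : IrrCharacter G) (f : ℕ), 2 ≤ f → (χ : G → ℂ) 1 = (f : ℂ) →
      (!(f == 4 || f == 6 || f == 8)) = true := by
    intro χ f _ hf
    simp only [Bool.not_eq_true', Bool.or_eq_false_iff, beq_eq_false_iff_ne]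
    exact ⟨⟨fun h => hno χ f (Or.inl h) hf, fun h => hno χ f (Or.inr (Or.inl h)) hf⟩,
      fun h => hno χ f (Or.inr (Or.inr h)) hf⟩
  obtain ⟨-, -, -, -, -, -, h⟩ := exists_of_blockOnly hG (p := 7) (by omega) _ hok
    (fun _ _ => false) (by rw [hn]; exact blockOnly_degree)
  exact Bool.noConfusion h

/-- The multiplicities of the eigenvalues of an element of order four conjugate to its inverse. -/
theorem exists_multiplicities (hn : Nat.card G = 2520) (hG : ¬ IsMulCommutative G) {d : ℕ}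
    (ρ : Representation ℂ G (Fin d → ℂ)) (hker : ∀ g, ρ.character g = ρ.character 1 → g = 1)
    {t : G} (ht : orderOf t = 4) :
    ∃ n₁ n₂ n₃ : ℕ, n₁ + n₂ + 2 * n₃ = d ∧ Even n₂ ∧ 0 < n₁ + n₂ ∧ 0 < n₃ ∧
      ρ.character t = (n₁ : ℂ) - n₂ ∧ ρ.character t⁻¹ = (n₁ : ℂ) - n₂ ∧
      ρ.character (t * t) = (n₁ : ℂ) + n₂ - 2 * n₃ := by
  classical
  obtain ⟨b, μ, hb, hμ, -⟩ := exists_eigenbasis_rep ρ t
  rw [ht] at hμ
  have hpow : ∀ (k : ℕ) i, ρ (t ^ k) (b i) = μ i ^ k • b i := by
    intro k i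
    induction k with
    | zero => simp
    | succ k ih =>
      rw [pow_succ, map_mul, Module.End.mul_apply, hb, map_smul, ih, smul_smul, ← pow_succ']
  have htr : ∀ k : ℕ, ρ.character (t ^ k) = ∑ i, μ i ^ k := fun k =>
    trace_eq_sum_of_eigenbasis b _ _ (hpow k)
  have hfd : Module.finrank ℂ (Fin d → ℂ) = d := Module.finrank_fin_fun ℂ
  have hI : Complex.I ≠ 0 := Complex.I_ne_zero
  have hfour : ∀ i, μ i = 1 ∨ μ i = -1 ∨ μ i = Complex.I ∨ μ i = -Complex.I := by
    intro i
    have h : (μ i - 1) * (μ i + 1) * ((μ i - Complex.I) * (μ i + Complex.I)) = 0 := by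
      linear_combination hμ i + (1 - μ i ^ 2) * Complex.I_sq
    rcases mul_eq_zero.1 h with h | h <;> rcases mul_eq_zero.1 h with h | h
    · exact Or.inl (by linear_combination h)
    · exact Or.inr (Or.inl (by linear_combination h))
    · exact Or.inr (Or.inr (Or.inl (by linear_combination h)))
    · exact Or.inr (Or.inr (Or.inr (by linear_combination h)))
  set A := Finset.univ.filter fun i => μ i = 1
  set B := Finset.univ.filter fun i => μ i = -1
  set C := Finset.univ.filter fun i => μ i = Complex.I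
  set D := Finset.univ.filter fun i => μ i = -Complex.I
  have hne1 : (1 : ℂ) ≠ -1 := by norm_num
  have hne2 : (1 : ℂ) ≠ Complex.I := fun h => by
    have := congrArg Complex.re h
    simp at this
  have hne3 : (1 : ℂ) ≠ -Complex.I := fun h => by
    have := congrArg Complex.re h
    simp at this
  have hne4 : (-1 : ℂ) ≠ Complex.I := fun h => by
    have := congrArg Complex.re h
    simp at this
  have hne5 : (-1 : ℂ) ≠ -Complex.I := fun h => by
    have := congrArg Complex.re h
    simp at this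
  have hne6 : Complex.I ≠ -Complex.I := fun h => by
    have := congrArg Complex.im h
    norm_num at this
  have hsum : ∀ F : ℂ → ℂ, ∑ i, F (μ i) =
      A.card * F 1 + B.card * F (-1) + C.card * F Complex.I + D.card * F (-Complex.I) := by
    intro F
    simp only [A, B, C, D, Finset.natCast_card_filter, Finset.sum_mul]
    rw [← Finset.sum_add_distrib, ← Finset.sum_add_distrib, ← Finset.sum_add_distrib]
    refine Finset.sum_congr rfl fun i _ => ?_
    rcases hfour i with h | h | h | h <;> rw [h]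
    · simp [hne1, hne2, hne3]
    · simp [hne1.symm, hne4, hne5]
    · simp [hne2.symm, hne4.symm, hne6]
    · simp [hne3.symm, hne5.symm, hne6.symm]
  have hd : A.card + B.card + C.card + D.card = d := by
    have h := hsum fun _ => 1
    simp only [mul_one, Finset.sum_const, Finset.card_univ, Fintype.card_fin, hfd, nsmul_eq_mul] at h
    exact_mod_cast h.symm
  have h1 := (htr 1).trans ((Finset.sum_congr rfl fun i _ => pow_one (μ i)).trans (hsum fun x => x))
  rw [pow_one] at h1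
  obtain ⟨g, hg⟩ := isConj_inv_of_orderOf_four hn hG ht
  have hinv : ρ.character t⁻¹ = ρ.character t := by rw [← hg, Representation.char_conj]
  have hCD : C.card = D.card := by
    have h := congrArg Complex.im
      ((IsChar.inv_apply (show IsCharacter G ρ.character from ⟨d, ρ, rfl⟩) t).symm.trans hinv)
    rw [h1] at h
    simp only [Complex.conj_im, Complex.add_im, Complex.mul_im, Complex.natCast_re,
      Complex.natCast_im, Complex.one_im, Complex.neg_im, Complex.I_im, Complex.I_re,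
      Complex.neg_re, Complex.one_re] at h
    have : (C.card : ℝ) = D.card := by linarith
    exact_mod_cast this
  have h2 : ρ.character (t * t) = (A.card : ℂ) + B.card - 2 * C.card := by
    rw [← pow_two, (htr 2).trans (hsum fun x => x ^ 2), hCD, neg_sq, neg_sq, Complex.I_sq]
    ring
  refine ⟨A.card, B.card, C.card, by omega, ?_, ?_, ?_, ?_, ?_, h2⟩
  · -- the determinant
    have hdet := hom_comm_eq_one hG (MonoidHom.toHomUnits (LinearMap.det.comp ρ))
    have hd1 : LinearMap.det (ρ t) = 1 := congrArg Units.val (DFunLike.congr_fun hdet _)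
    have hd2 : LinearMap.det (ρ t) = ∏ i, μ i := by
      rw [← LinearMap.det_toMatrix b]
      have : LinearMap.toMatrix b b (ρ t) = Matrix.diagonal μ := by
        ext i j
        rw [LinearMap.toMatrix_apply, hb, map_smul, Module.Basis.repr_self, Matrix.diagonal_apply]
        by_cases h : i = j
        · subst h; simp
        · simp [h]
      rw [this, Matrix.det_diagonal]
    have hprod : ∏ i, μ i = (-1) ^ B.card * Complex.I ^ C.card * (-Complex.I) ^ D.card := by
      have e : ∀ i, μ i = (if μ i = -1 then (-1 : ℂ) else 1) * (if μ i = Complex.I then Complex.I else 1) *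
          (if μ i = -Complex.I then -Complex.I else 1) := by
        intro i
        rcases hfour i with h | h | h | h <;> rw [h]
        · simp [hne1, hne2, hne3]
        · simp [hne4, hne5]
        · simp [hne4.symm, hne6]
        · simp [hne5.symm, hne6.symm]
      rw [Finset.prod_congr rfl fun i _ => e i, Finset.prod_mul_distrib, Finset.prod_mul_distrib,
        ← Finset.prod_filter, ← Finset.prod_filter, ← Finset.prod_filter, Finset.prod_const,
        Finset.prod_const, Finset.prod_const]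
    rw [hd2, hprod, hCD, mul_assoc, ← mul_pow, mul_neg, Complex.I_mul_I, neg_neg, one_pow, mul_one] at hd1
    exact (neg_one_pow_eq_one_iff_even (by norm_num)).1 hd1
  · -- `t * t` is not central
    by_contra h0
    have hall : ∀ i, μ i ^ 2 = -1 := fun i => by
      have hA : A = ∅ := Finset.card_eq_zero.1 (by omega)
      have hB : B = ∅ := Finset.card_eq_zero.1 (by omega)
      rcases hfour i with h | h | h | h
      · exact absurd (show i ∈ A from Finset.mem_filter.2 ⟨Finset.mem_univ i, h⟩) (by simp [hA])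
      · exact absurd (show i ∈ B from Finset.mem_filter.2 ⟨Finset.mem_univ i, h⟩) (by simp [hB])
      · rw [h, Complex.I_sq]
      · rw [h, neg_sq, Complex.I_sq]
    have hz : ρ (t ^ 2) = (-1 : ℂ) • 1 := b.ext fun i => by
      rw [hpow, hall]; rfl
    have hcen : t ^ 2 ∈ center G := by
      refine mem_center_iff.2 fun g => ?_
      have h1 : ρ (g * t ^ 2 * g⁻¹ * (t ^ 2)⁻¹) = 1 := by
        have e : ρ (g * t ^ 2 * g⁻¹) = ρ (t ^ 2) := by
          rw [map_mul, map_mul, hz, mul_smul_comm, mul_one, smul_mul_assoc, ← map_mul, mul_inv_cancel,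
            map_one]
        rw [map_mul, e, ← map_mul, mul_inv_cancel, map_one]
      have h3 := hker (g * t ^ 2 * g⁻¹ * (t ^ 2)⁻¹) (by
        show LinearMap.trace ℂ _ (ρ _) = LinearMap.trace ℂ _ (ρ _)
        rw [h1, map_one ρ])
      exact mul_inv_eq_iff_eq_mul.1 (mul_inv_eq_one.1 h3)
    rw [center_eq_bot_of_simple hG, mem_bot] at hcen
    have := orderOf_dvd_of_pow_eq_one hcen
    rw [ht] at this
    omega
  · by_contra h0
    have hzero : C.card = 0 := by omega
    have h3 : ρ.character (t * t) = ρ.character 1 := by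
      rw [h2, Representation.char_one]
      have e : ((Module.finrank ℂ (Fin d → ℂ) : ℕ) : ℂ) = A.card + B.card + C.card + D.card := by
        exact_mod_cast hfd.trans hd.symm
      rw [e, ← hCD, hzero]
      push_cast
      ring
    have := orderOf_dvd_of_pow_eq_one (show t ^ 2 = 1 by rw [pow_two]; exact hker _ h3)
    rw [ht] at this
    omega
  · rw [h1, hCD]; ring
  · rw [hinv, h1, hCD]; ring

theorem degree_table {n₁ n₂ n₃ d m mD m₀ : ℕ} (hd : d = 4 ∨ d = 6 ∨ d = 8)
    (e1 : n₁ + n₂ + 2 * n₃ = d) (e2 : n₂ % 2 = 0) (e3 : 0 < n₁ + n₂) (e4 : 0 < n₃)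
    (e5 : ((5 * m : ℤ) - d) ^ 2 ≤ 64) (e6 : d = 8 → ((5 * m : ℤ) - d) ^ 2 ≠ 64)
    (e7 : (2 * mD : ℤ) = m + ((n₁ : ℤ) + n₂ - 2 * n₃))
    (e8 : (4 * m₀ : ℤ) = m + ((n₁ : ℤ) + n₂ - 2 * n₃) + 2 * ((n₁ : ℤ) - n₂))
    (e9 : m₀ ≤ mD) (e10 : mD ≤ m) : d = 6 ∧ m = 2 ∧ (n₁ : ℤ) + n₂ - 2 * n₃ = 2 := by
  have h5 : -8 ≤ (5 * m : ℤ) - d ∧ (5 * m : ℤ) - d ≤ 8 := by constructor <;> nlinarith
  have h6 : d = 8 → (5 * m : ℤ) - d ≠ 8 ∧ (5 * m : ℤ) - d ≠ -8 := fun h =>
    ⟨fun h' => e6 h (by rw [h']; norm_num), fun h' => e6 h (by rw [h']; norm_num)⟩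
  rcases hd with rfl | rfl | rfl
  · omega
  · omega
  · obtain ⟨h7, h8⟩ := h6 rfl
    omega

/-- A faithful representation of degree six. -/
theorem exists_six (hn : Nat.card G = 2520) (hG : ¬ IsMulCommutative G) :
    ∃ ρ : Representation ℂ G (Fin 6 → ℂ), fix ρ ⊤ = ⊥ ∧
      (∀ z : G, orderOf z = 2 → ρ.character z = 2) ∧
      ∀ y : G, orderOf y = 5 → ρ.character y = 1 := by
  classical
  haveI := Fintype.ofFinite G
  obtain ⟨χ, d, hd, hχ1⟩ := exists_degree hn hG
  obtain ⟨n, ρ, hρirr, hρ⟩ := χ.2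
  have hdn : n = d := by
    have h := congrFun hρ 1
    rw [Representation.char_one, hχ1, Module.finrank_fin_fun] at h
    exact_mod_cast h
  subst hdn
  have htriv : χ ≠ trivialIrr := fun h => by
    rw [h] at hχ1
    have h1 : (1 : ℂ) = n := hχ1
    have : 1 = n := by exact_mod_cast h1
    omega
  have hker : ∀ g, ρ.character g = ρ.character 1 → g = 1 := fun g hg => by
    rw [hρ] at hg
    exact SelfCentral.ker_trivial (fun h => htriv (h.trans (Subtype.ext rfl))) hg
  have hclass : ∀ g x : G, ρ.character (g * x * g⁻¹) = ρ.character x := fun g x =>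
    Representation.char_conj ρ x g
  obtain ⟨Q, y, t, hyQ, hy, ht, htN, htt, hconjQ, hcoset⟩ := exists_frobenius hn hG
  obtain ⟨hQ5, hN20, hC5⟩ := card_sylow_five hn hG Q
  have hy1 : y ≠ 1 := fun h => by rw [h, orderOf_one] at hy; omega
  obtain ⟨n₁, n₂, n₃, hsum, heven, hpos, hpos3, hτ, hτ', ha⟩ :=
    exists_multiplicities hn hG ρ hker ht
  set s := ρ.character y with hs
  have hys : ∀ i ∈ Finset.range 5, i ≠ 0 → ρ.character (y ^ i) = s := by
    intro i hi hi0
    obtain ⟨g, hg⟩ := hconjQ (y ^ i) (pow_mem hyQ i) (fun h => by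
      have h1 := Nat.le_of_dvd (by omega) (orderOf_dvd_of_pow_eq_one h)
      rw [hy] at h1
      rw [Finset.mem_range] at hi
      omega)
    rw [← hg, hclass]
  have hQsum : ∑ i ∈ Finset.range 5, ρ.character (y ^ i) = n + 4 * s := by
    rw [Finset.sum_range_succ', Finset.sum_congr rfl (g := fun _ => s) fun i hi =>
      hys (i + 1) (Finset.mem_range.2 (by rw [Finset.mem_range] at hi; omega)) (Nat.succ_ne_zero i)]
    simp only [Finset.sum_const, Finset.card_range, nsmul_eq_mul, pow_zero, Representation.char_one,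
      Module.finrank_fin_fun, Nat.cast_ofNat]
    ring
  have hcs : ∀ k : ℕ, ¬ 4 ∣ k → ∑ i ∈ Finset.range 5, ρ.character (y ^ i * t ^ k) =
      5 * ρ.character (t ^ k) := by
    intro k hk
    rw [Finset.sum_congr rfl (g := fun _ => ρ.character (t ^ k)) fun i _ => by
      obtain ⟨g, hg⟩ := hcoset k i hk
      rw [← hg, hclass]]
    simp
  -- the three fixed spaces
  set N := normalizer ((Q : Subgroup G) : Set G)
  set H := (Q : Subgroup G) ⊔ zpowers (t * t) with hH
  have ht2 : orderOf (t * t) = 2 := orderOf_eq_prime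
    (by rw [pow_two, show t * t * (t * t) = t ^ 4 by simp only [pow_succ, pow_zero, one_mul, mul_assoc],
      ← ht, pow_orderOf_eq_one])
    (fun h => by
      have := orderOf_dvd_of_pow_eq_one (show t ^ 2 = 1 by rw [pow_two]; exact h)
      rw [ht] at this
      omega)
  have hzN : zpowers (t * t) ≤ N := zpowers_le.2 (mul_mem htN htN)
  have hH10 : Nat.card H = 5 * 2 := by
    have h := H31.FF.card_sup_mul_card_inf hzN
    rw [inf_eq_bot_of_coprime (H := (Q : Subgroup G)) (K := zpowers (t * t))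
      (by rw [hQ5, Nat.card_zpowers, ht2]; norm_num), card_bot, mul_one, hQ5, Nat.card_zpowers,
      ht2] at h
    exact h
  haveI := Fintype.ofFinite (Q : Subgroup G)
  haveI := Fintype.ofFinite N
  haveI := Fintype.ofFinite H
  have e5 := sum_eq ρ (Q : Subgroup G)
  rw [sum_product (e := 1) (t := 1) hyQ (one_mem _) hy orderOf_one (by norm_num) (by rw [hQ5])
    ρ.character, hQ5, Finset.sum_range_one] at e5
  simp only [pow_zero, mul_one, hQsum, Nat.cast_ofNat] at e5
  have e10 := sum_eq ρ H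
  rw [sum_product (e := 2) (le_sup_left (a := (Q : Subgroup G)) hyQ)
    (le_sup_right (a := (Q : Subgroup G)) (mem_zpowers (t * t))) hy ht2 (by norm_num) hH10
    ρ.character, hH10, Finset.sum_range_succ, Finset.sum_range_one] at e10
  have hz1 := hcs 2 (by norm_num)
  simp only [pow_two] at hz1
  simp only [pow_zero, mul_one, pow_one, hQsum, hz1, ha] at e10
  have e20 := sum_eq ρ N
  rw [sum_product (e := 4) (le_normalizer hyQ) htN hy ht (by norm_num) (by rw [hN20])
    ρ.character, hN20, Finset.sum_range_succ, Finset.sum_range_succ, Finset.sum_range_succ,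
    Finset.sum_range_one] at e20
  have ht3 : t ^ 3 = t⁻¹ := eq_inv_of_mul_eq_one_left (by rw [← pow_succ, show 3 + 1 = orderOf t from ht.symm, pow_orderOf_eq_one])
  have hc1 := hcs 1 (by norm_num)
  have hc3 := hcs 3 (by norm_num)
  simp only [pow_one, hτ] at hc1
  simp only [ht3, hτ'] at hc3
  simp only [pow_zero, mul_one, hQsum, pow_one, pow_two, ht3, hc1, hz1, hc3, ha] at e20
  set m := Module.finrank ℂ (fix ρ (Q : Subgroup G)) with hm
  set mD := Module.finrank ℂ (fix ρ H) with hmD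
  set m₀ := Module.finrank ℂ (fix ρ N) with hm0
  have hle1 : mD ≤ m := Submodule.finrank_mono (fix_mono ρ le_sup_left)
  have hle0 : m₀ ≤ mD := Submodule.finrank_mono (fix_mono ρ (sup_le le_normalizer hzN))
  have hmn : m ≤ n := (Submodule.finrank_le _).trans_eq (Module.finrank_fin_fun ℂ)
  have hs' : s = (((5 * m : ℤ) - n : ℤ) : ℂ) / 4 := by push_cast; linear_combination e5 / 4
  -- column orthogonality
  have horth := second_orthogonality_self y
  rw [card_centralizer_five hn hG hy] at horth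
  have hreal : ∀ ψ : IrrCharacter G, (ψ : G → ℂ) y * conj ((ψ : G → ℂ) y) =
      ((Complex.normSq ((ψ : G → ℂ) y) : ℝ) : ℂ) := fun ψ => Complex.mul_conj _
  simp only [hreal, ← Complex.ofReal_sum] at horth
  have horth' : ∑ ψ : IrrCharacter G, Complex.normSq ((ψ : G → ℂ) y) = (5 : ℝ) := by
    exact_mod_cast horth
  have hsq : Complex.normSq ((χ : G → ℂ) y) = (((5 * m : ℤ) - n : ℤ) : ℝ) ^ 2 / 16 := by
    rw [← hρ, ← hs, hs', show ((((5 * m : ℤ) - n : ℤ)) : ℂ) / 4 =
      (((((5 * m : ℤ) - n : ℤ) : ℝ) / 4 : ℝ) : ℂ) by push_cast; ring, Complex.normSq_ofReal]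
    ring
  have htr1 : Complex.normSq (((trivialIrr : IrrCharacter G) : G → ℂ) y) = 1 := map_one Complex.normSq
  have hpair : (1 : ℝ) + (((5 * m : ℤ) - n : ℤ) : ℝ) ^ 2 / 16 ≤ 5 := by
    rw [← horth', ← hsq, ← htr1, ← Finset.sum_pair (f := fun ψ : IrrCharacter G =>
      Complex.normSq ((ψ : G → ℂ) y)) htriv.symm]
    exact Finset.sum_le_sum_of_subset_of_nonneg (Finset.subset_univ _)
      fun ψ _ _ => Complex.normSq_nonneg _
  have hb : ((5 * m : ℤ) - n) ^ 2 ≤ 64 := by
    have : ((((5 * m : ℤ) - n) ^ 2 : ℤ) : ℝ) ≤ ((64 : ℤ) : ℝ) := by push_cast at hpair ⊢; linarith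
    exact_mod_cast this
  have h8 : n = 8 → ((5 * m : ℤ) - n) ^ 2 ≠ 64 := by
    intro h8 h64
    have hzero : ∀ ψ : IrrCharacter G, ψ ≠ trivialIrr → ψ ≠ χ → (ψ : G → ℂ) y = 0 := by
      intro ψ h1 h2
      have hle := Finset.sum_le_sum_of_subset_of_nonneg
        (Finset.subset_univ ({trivialIrr, χ, ψ} : Finset (IrrCharacter G)))
        (f := fun ψ : IrrCharacter G => Complex.normSq ((ψ : G → ℂ) y))
        (fun ψ _ _ => Complex.normSq_nonneg _)
      rw [horth', Finset.sum_insert (by simp [htriv.symm, h1.symm]), Finset.sum_pair h2.symm, hsq,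
        htr1] at hle
      have h64' : (((5 * m : ℤ) - n : ℤ) : ℝ) ^ 2 = 64 := by exact_mod_cast h64
      rw [h64'] at hle
      exact Complex.normSq_eq_zero.1 (le_antisymm (by linarith) (Complex.normSq_nonneg _))
    have h := second_orthogonality_not_isConj (g := y) (h := (1 : G))
      (fun h => hy1 (isConj_one_left.1 h))
    rw [← Finset.sum_subset (Finset.subset_univ ({trivialIrr, χ} : Finset (IrrCharacter G)))
      (fun ψ _ hψ => by
        simp only [Finset.mem_insert, Finset.mem_singleton, not_or] at hψ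
        rw [hzero ψ hψ.1 hψ.2, zero_mul]), Finset.sum_pair htriv.symm, hχ1] at h
    have htv : ∀ g : G, ((trivialIrr : IrrCharacter G) : G → ℂ) g = 1 := fun _ => rfl
    rw [htv, htv, map_one, mul_one, ← hρ, ← hs, hs', map_natCast, h8] at h
    have h' : (4 : ℤ) + ((5 * m : ℤ) - 8) * 8 = 0 := by
      have : ((4 + ((5 * m : ℤ) - 8) * 8 : ℤ) : ℂ) = 0 := by
        push_cast at h ⊢
        linear_combination 4 * h
      exact_mod_cast this
    omega
  have e10' : (2 * mD : ℤ) = m + ((n₁ : ℤ) + n₂ - 2 * n₃) := by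
    have h : ((10 * mD : ℤ) : ℂ) = ((5 * (m + ((n₁ : ℤ) + n₂ - 2 * n₃)) : ℤ) : ℂ) := by
      push_cast at e10 ⊢
      linear_combination e5 - e10
    have : (10 * mD : ℤ) = 5 * (m + ((n₁ : ℤ) + n₂ - 2 * n₃)) := by exact_mod_cast h
    linarith
  have e20' : (4 * m₀ : ℤ) = m + ((n₁ : ℤ) + n₂ - 2 * n₃) + 2 * ((n₁ : ℤ) - n₂) := by
    have h : ((20 * m₀ : ℤ) : ℂ) =
        ((5 * (m + ((n₁ : ℤ) + n₂ - 2 * n₃) + 2 * ((n₁ : ℤ) - n₂)) : ℤ) : ℂ) := by
      push_cast at e20 ⊢
      linear_combination e5 - e20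
    have : (20 * m₀ : ℤ) = 5 * (m + ((n₁ : ℤ) + n₂ - 2 * n₃) + 2 * ((n₁ : ℤ) - n₂)) := by
      exact_mod_cast h
    linarith
  obtain ⟨rfl, hm2, ha2⟩ := degree_table hd hsum (Nat.even_iff.1 heven) hpos hpos3 hb h8 e10' e20'
    hle0 hle1
  refine ⟨ρ, ?_, ?_, ?_⟩
  · rw [← Submodule.finrank_eq_zero]
    haveI := Fintype.ofFinite (⊤ : Subgroup G)
    have h := sum_eq ρ (⊤ : Subgroup G)
    rw [card_top, hn, show ∑ x : (⊤ : Subgroup G), ρ.character x = ∑ g : G, ρ.character g from
      Fintype.sum_equiv topEquiv.toEquiv _ _ fun _ => rfl, hρ] at h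
    have h0 : ∑ g : G, (χ : G → ℂ) g = 0 := by
      have h1 := classInner_irr_of_ne χ.2 (trivialIrr : IrrCharacter G).2
        (fun h => htriv (Subtype.ext h))
      rw [classInner_def] at h1
      have htv : ∀ g : G, ((trivialIrr : IrrCharacter G) : G → ℂ) g = 1 := fun _ => rfl
      simp only [htv, map_one, mul_one] at h1
      exact (mul_eq_zero.1 h1).resolve_left (inv_ne_zero (Nat.cast_ne_zero.2 Nat.card_pos.ne'))
    rw [h0] at h
    exact_mod_cast (mul_eq_zero.1 h.symm).resolve_left (by norm_num)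
  · intro z hz
    obtain ⟨g, hg⟩ := isConj_involutions hn hG ht2 hz
    rw [← hg, hclass, ha]
    have : (((n₁ : ℤ) + n₂ - 2 * n₃ : ℤ) : ℂ) = ((2 : ℤ) : ℂ) := by rw [ha2]
    push_cast at this
    exact this
  · intro x hx
    obtain ⟨S, hxS⟩ := exists_sylow_mem (p := 5) hx
    obtain ⟨g, hg⟩ := MulAction.exists_smul_eq G Q S
    rw [← hg, mem_smul_sylow_iff] at hxS
    obtain ⟨k, hk⟩ := hconjQ _ hxS (fun h => by
      have : x = 1 := by
        have := congrArg (fun u => g * u * g⁻¹) h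
        simpa [mul_assoc] using this
      rw [this, orderOf_one] at hx
      omega)
    have e : x = g * (k * y * k⁻¹) * g⁻¹ := by rw [hk]; group
    rw [e, hclass, hclass, ← hs, hs', hm2]
    norm_num

end Cfsg.Agent.H36.Alt7
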