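import Cfsg.Agent.H36.Alt7Three
import Cfsg.Agent.H25.InvolutionTransfer

/-!
# Simple groups of order 2520: involutions
-/

set_option autoImplicit false
set_option linter.unusedSectionVars false
set_option linter.style.haveILetI false

namespace Cfsg.Agent.H36.Alt7

open Subgroup

variable {G : Type*} [Group G] [Finite G] [IsSimpleGroup G] [Fact (Nat.Prime 3)]
  [Fact (Nat.Prime 2)]

theorem card_centralizer_conj (g x : G) :
    Nat.card (centralizer ({g * x * g⁻¹} : Set G)) = Nat.card (centralizer ({x} : Set G)) := by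
  have h : centralizer ({g * x * g⁻¹} : Set G) =
      (centralizer ({x} : Set G)).map (MulAut.conj g).toMonoidHom := by
    ext a
    constructor
    · intro ha
      refine ⟨g⁻¹ * a * g, mem_centralizer_singleton_iff.2 ?_, ?_⟩
      · have := mem_centralizer_singleton_iff.1 ha
        calc g⁻¹ * a * g * x = g⁻¹ * (a * (g * x * g⁻¹)) * g := by group
          _ = g⁻¹ * ((g * x * g⁻¹) * a) * g := by rw [this]
          _ = x * (g⁻¹ * a * g) := by group
      · show g * (g⁻¹ * a * g) * g⁻¹ = a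
        group
    · rintro ⟨b, hb, rfl⟩
      refine mem_centralizer_singleton_iff.2 ?_
      show g * b * g⁻¹ * (g * x * g⁻¹) = g * x * g⁻¹ * (g * b * g⁻¹)
      calc g * b * g⁻¹ * (g * x * g⁻¹) = g * (b * x) * g⁻¹ := by group
        _ = g * (x * b) * g⁻¹ := by rw [mem_centralizer_singleton_iff.1 hb]
        _ = g * x * g⁻¹ * (g * b * g⁻¹) := by group
  rw [h, card_map_of_injective (MulAut.conj g).injective]

/-- The centralizer of an involution has order prime to nine. -/
theorem not_nine_dvd (hn : Nat.card G = 2520) (hG : ¬ IsMulCommutative G) {z : G}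
    (hz2 : orderOf z = 2) : ¬ 9 ∣ Nat.card (centralizer ({z} : Set G)) := by
  intro h
  obtain ⟨Q, hQ⟩ := Sylow.exists_subgroup_card_pow_prime (G := centralizer ({z} : Set G)) 3 (n := 2)
    (by simpa using h)
  set Q' := Q.map (centralizer ({z} : Set G)).subtype
  have hcard : Nat.card Q' = 9 := by
    rw [card_map_of_injective (subtype_injective _), hQ]; norm_num
  obtain ⟨S, hS⟩ := (IsPGroup.of_card (n := 2) hcard : IsPGroup 3 Q').exists_le_sylow
  have hSe : Q' = S := eq_of_le_of_card_ge hS (by rw [hcard, card_sylow_three hn S])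
  have hzS : z ∈ centralizer ((S : Subgroup G) : Set G) := mem_centralizer_iff.2 fun x hx =>
    mem_centralizer_singleton_iff.1 (map_subtype_le Q (hSe ▸ hx : x ∈ Q'))
  rw [centralizer_sylow_three hn hG S] at hzS
  have := Subgroup.orderOf_dvd_natCard _ hzS
  rw [hz2, card_sylow_three hn S] at this
  omega

/-- An involution of `N(P)` inverts `P`. -/
theorem conj_eq_inv (hn : Nat.card G = 2520) (hG : ¬ IsMulCommutative G) (P : Sylow 3 G) {z : G}
    (hz : z ∈ normalizer ((P : Subgroup G) : Set G)) (hz2 : orderOf z = 2) {x : G}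
    (hx : x ∈ (P : Subgroup G)) : z * x * z⁻¹ = x⁻¹ := by
  have hx' : z * x * z⁻¹ ∈ (P : Subgroup G) := (mem_normalizer_iff.1 hz x).1 hx
  have hzz : z * z = 1 := by rw [← pow_two, ← hz2, pow_orderOf_eq_one]
  refine eq_inv_of_mul_eq_one_right (eq_one_of_commute hn hG P hz hz2 (mul_mem hx hx') ?_)
  have hzinv : z⁻¹ = z := inv_eq_of_mul_eq_one_right hzz
  rw [hzinv] at hx' ⊢
  calc z * (x * (z * x * z)) = z * x * z * ((z * z) * x * z) * 1 := by rw [hzz]; group
    _ = (z * x * z) * x * z := by rw [hzz]; group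
    _ = x * (z * x * z) * z := by rw [comm_sylow_three hn P _ hx' _ hx]

/-- There is an element of order four. -/
theorem exists_orderOf_four (hn : Nat.card G = 2520) (hG : ¬ IsMulCommutative G) :
    ∃ r : G, orderOf r = 4 := by
  obtain ⟨P⟩ := Sylow.nonempty (p := 3) (G := G)
  set N := normalizer ((P : Subgroup G) : Set G)
  have hN : Nat.card N = 36 := card_normalizer_three hn hG P
  obtain ⟨R, hRN, hR⟩ : ∃ R : Subgroup G, R ≤ N ∧ Nat.card R = 4 := by
    obtain ⟨S⟩ := Sylow.nonempty (p := 2) (G := N)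
    refine ⟨(S : Subgroup N).map N.subtype, map_subtype_le _, ?_⟩
    rw [card_map_of_injective N.subtype_injective]
    simpa using card_sylow_eq (a := 2) (m := 9) hN S (by norm_num) (by norm_num)
  by_contra hno
  push Not at hno
  have hinv : ∀ s ∈ R, s ≠ 1 → orderOf s = 2 := by
    intro s hs hs1
    have h := Subgroup.orderOf_dvd_natCard _ hs
    rw [hR] at h
    obtain ⟨j, hj, hje⟩ := (Nat.dvd_prime_pow Nat.prime_two).1 (show orderOf s ∣ 2 ^ 2 from h)
    interval_cases j
    · exact absurd (orderOf_eq_one_iff.1 (by simpa using hje)) hs1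
    · simpa using hje
    · exact absurd (by simpa using hje) (hno s)
  obtain ⟨a, ha, ha1⟩ : ∃ a ∈ R, a ≠ 1 := by
    by_contra h
    push Not at h
    rw [(R.eq_bot_iff_forall).2 h, card_bot] at hR
    omega
  obtain ⟨b, hb, hba⟩ : ∃ b ∈ R, b ∉ zpowers a := by
    by_contra h
    push Not at h
    have := card_dvd_of_le (h : R ≤ zpowers a)
    rw [hR, Nat.card_zpowers, hinv a ha ha1] at this
    omega
  have hb1 : b ≠ 1 := fun h => hba (h ▸ one_mem _)
  have hc : a * b ∈ centralizer ((P : Subgroup G) : Set G) := by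
    refine mem_centralizer_iff.2 fun x hx => ?_
    have h1 := conj_eq_inv hn hG P (hRN hb) (hinv b hb hb1) hx
    have h2 := conj_eq_inv hn hG P (hRN ha) (hinv a ha ha1) (inv_mem hx)
    have : a * b * x * (a * b)⁻¹ = x := by
      calc a * b * x * (a * b)⁻¹ = a * (b * x * b⁻¹) * a⁻¹ := by group
        _ = x := by rw [h1, h2, inv_inv]
    exact (mul_inv_eq_iff_eq_mul.1 this).symm
  rw [centralizer_sylow_three hn hG P] at hc
  have h1 := Subgroup.orderOf_dvd_natCard _ hc
  have h2 := Subgroup.orderOf_dvd_natCard _ (mul_mem ha hb)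
  rw [hR] at h2
  rw [card_sylow_three hn P] at h1
  have hab : a * b = 1 := orderOf_eq_one_iff.1
    (Nat.dvd_one.1 ((show Nat.gcd 4 9 = 1 by norm_num) ▸ Nat.dvd_gcd h2 h1))
  exact hba ((inv_eq_of_mul_eq_one_right hab) ▸ inv_mem (mem_zpowers a))

/-- A four-group centralized by an element of order three. -/
theorem exists_four_group (hn : Nat.card G = 2520) (hG : ¬ IsMulCommutative G) :
    ∃ (M : Subgroup G) (v : G), Nat.card M = 4 ∧ (∀ x ∈ M, x * x = 1) ∧ orderOf v = 3 ∧
      M ≤ centralizer {v} ∧ Nat.card (centralizer ({v} : Set G)) = 36 ∧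
      ∀ a ∈ M, ∀ b ∈ M, a ≠ 1 → b ≠ 1 → ∃ g : G, g * a * g⁻¹ = b := by
  classical
  have hn70 : ¬ Nat.card (Sylow 3 G) ≡ 1 [MOD 3 ^ 2] := by
    obtain ⟨P⟩ := Sylow.nonempty (p := 3) (G := G)
    have h := card_sylow_mul_normalizer P
    rw [card_normalizer_three hn hG P, hn] at h
    rw [show Nat.card (Sylow 3 G) = 70 by omega]
    decide
  obtain ⟨D, P, R, hPR, hD, hDP, hDR, -, -⟩ :=
    exists_two_sylow_normalizer (p := 3) (a := 1) (m := 280) (by rw [hn]; norm_num) (by norm_num) hn70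
  rw [pow_one] at hD
  obtain ⟨⟨v, hvD⟩, hv3⟩ := exists_prime_orderOf_dvd_card' (G := D) 3 (by rw [hD])
  rw [orderOf_mk] at hv3
  set N := normalizer ((P : Subgroup G) : Set G) with hNdef
  set C := centralizer ({v} : Set G) with hCdef
  have hPC : (P : Subgroup G) ≤ C := le_centralizer_of_mem hn (hDP hvD)
  have hNC : N ⊓ C = (P : Subgroup G) := by
    refine (eq_of_le_of_card_ge (le_inf le_normalizer hPC) ?_).symm
    have h2 : Nat.card (N ⊓ C : Subgroup G) ∣ 36 :=
      card_normalizer_three hn hG P ▸ card_dvd_of_le inf_le_left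
    have hodd : ¬ 2 ∣ Nat.card (N ⊓ C : Subgroup G) := by
      intro h
      obtain ⟨⟨z, hz⟩, hz2⟩ := exists_prime_orderOf_dvd_card' (G := (N ⊓ C : Subgroup G)) 2 h
      rw [orderOf_mk] at hz2
      have := eq_one_of_commute hn hG P hz.1 hz2 (hDP hvD)
        (mem_centralizer_singleton_iff.1 hz.2)
      rw [this, orderOf_one] at hv3
      omega
    rw [card_sylow_three hn P]
    have key : ∀ a ∈ List.range 37, a ∣ 36 → ¬ 2 ∣ a → a ≤ 9 := by decide +kernel
    exact key _ (List.mem_range.2 (Nat.lt_succ_of_le (Nat.le_of_dvd (by norm_num) h2))) h2 hodd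
  obtain ⟨hmod, -, hmul⟩ := card_eq_inf_mul P hPC
  rw [hNC, card_sylow_three hn P] at hmul
  obtain ⟨h5, h7⟩ := not_dvd_card_centralizer hn hG (Or.inr hv3)
  rw [← hCdef] at h5 h7
  have hC72 : Nat.card C ∣ 72 := by
    have hdvd : Nat.card C ∣ 2520 := hn ▸ card_subgroup_dvd_card _
    have hc35 : (Nat.card C).Coprime 35 := Nat.Coprime.mul_right
      (((Nat.prime_five).coprime_iff_not_dvd.2 h5).symm)
      (((show Nat.Prime 7 by norm_num).coprime_iff_not_dvd.2 h7).symm)
    exact hc35.dvd_of_dvd_mul_right (show Nat.card C ∣ 72 * 35 from hdvd)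
  have hlt := one_lt_card_sylow_of_le (M := C) hPR hPC (le_centralizer_of_mem hn (hDR hvD))
  have hn8 : Nat.card (Sylow 3 C) ∣ 8 :=
    Nat.dvd_of_mul_dvd_mul_left (k := 9) (by norm_num) (hmul ▸ hC72)
  have hn4 : Nat.card (Sylow 3 C) = 4 := by
    have := Nat.le_of_dvd (by norm_num) hn8
    obtain h | h | h : Nat.card (Sylow 3 C) = 4 ∨ Nat.card (Sylow 3 C) = 7 ∨
        (Nat.card (Sylow 3 C) ≠ 4 ∧ Nat.card (Sylow 3 C) ≠ 7) := by omega
    · exact h
    · rw [h] at hn8; omega
    · omega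
  rw [hn4] at hmul
  -- the normal 3-complement
  set P' : Sylow 3 C := P.subtype hPC with hP'
  have hP'9 : Nat.card (P' : Subgroup C) = 9 := (card_subtype_sylow hPC).trans (card_sylow_three hn P)
  have hNP' : normalizer ((P' : Subgroup C) : Set C) ≤ centralizer ((P' : Subgroup C) : Set C) := by
    have h1 := card_sylow_mul_normalizer P'
    rw [hn4, hmul] at h1
    have h2 : (P' : Subgroup C) = normalizer ((P' : Subgroup C) : Set C) :=
      eq_of_le_of_card_ge le_normalizer (by rw [hP'9]; omega)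
    rw [← h2]
    exact fun a ha => mem_centralizer_iff.2 fun b hb => Subtype.ext
      (comm_sylow_three hn P _ (by simpa [hP', Sylow.coe_subtype, mem_subgroupOf] using hb) _
        (by simpa [hP', Sylow.coe_subtype, mem_subgroupOf] using ha))
  have hcompl := MonoidHom.ker_transferSylow_isComplement' P' hNP'
  set K := (MonoidHom.transferSylow P' hNP').ker with hKdef
  have hK : Nat.card K = 4 := by
    have h := hcompl.card_mul
    rw [hP'9, hmul] at h
    omega
  have hKn : K.Normal := MonoidHom.normal_ker _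
  clear_value K
  set M := K.map C.subtype with hMdef
  have hM : Nat.card M = 4 := by rw [card_map_of_injective C.subtype_injective, hK]
  have hMC : M ≤ C := map_subtype_le _
  have hPM : ∀ p ∈ (P : Subgroup G), ∀ m ∈ M, p * m * p⁻¹ ∈ M := by
    rintro p hp _ ⟨k, hk, rfl⟩
    exact ⟨⟨p, hPC hp⟩ * k * ⟨p, hPC hp⟩⁻¹, hKn.conj_mem k hk _, rfl⟩
  have hfix : ∀ m ∈ M, (∀ p ∈ (P : Subgroup G), p * m * p⁻¹ = m) → m = 1 := by
    intro m hm h
    have h1 : m ∈ centralizer ((P : Subgroup G) : Set G) :=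
      mem_centralizer_iff.2 fun p hp => mul_inv_eq_iff_eq_mul.1 (h p hp)
    rw [centralizer_sylow_three hn hG P] at h1
    have h2 := Subgroup.orderOf_dvd_natCard _ hm
    have h3 := Subgroup.orderOf_dvd_natCard _ h1
    rw [hM] at h2
    rw [card_sylow_three hn P] at h3
    exact orderOf_eq_one_iff.1 (Nat.dvd_one.1 ((show Nat.gcd 4 9 = 1 by norm_num) ▸ Nat.dvd_gcd h2 h3))
  have hsq : ∀ x ∈ M, x * x = 1 := by
    intro x hx
    by_contra hx2
    have h4 : x ^ 4 = 1 := orderOf_dvd_iff_pow_eq_one.1 (hM ▸ Subgroup.orderOf_dvd_natCard _ hx)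
    have ho : orderOf x = 4 := orderOf_eq_prime_pow (p := 2) (n := 1)
      (by simpa [pow_two] using hx2) (by simpa using h4)
    have hgen : zpowers x = M := eq_of_le_of_card_ge (zpowers_le.2 hx) (by rw [Nat.card_zpowers, ho, hM])
    refine hx2 (hfix (x * x) (mul_mem hx hx) fun p hp => ?_)
    have h1 := hPM p hp x hx
    rw [← hgen] at h1
    obtain ⟨i, hi, he⟩ := Finset.mem_image.1 ((mem_zpowers_iff_mem_range_orderOf (x := x)).1 h1)
    rw [ho, Finset.mem_range] at hi
    have e : p * (x * x) * p⁻¹ = x ^ i * x ^ i := by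
      rw [he]; group
    have hne : p * (x * x) * p⁻¹ ≠ 1 := fun h => hx2 (conj_eq_one_iff.1 h)
    rw [e] at hne ⊢
    interval_cases i
    · exact absurd (by simp) hne
    · simp
    · exact absurd (by rw [← pow_add]; exact h4) hne
    · rw [← pow_add, show 3 + 3 = 4 + 2 from rfl, pow_add, h4, one_mul, pow_two]
  refine ⟨M, v, hM, hsq, hv3, hMC, hmul, fun a ha b hb ha1 hb1 => ?_⟩
  obtain ⟨p, hp, hpa⟩ : ∃ p ∈ (P : Subgroup G), p * a * p⁻¹ ≠ a := by
    by_contra h
    push Not at h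
    exact ha1 (hfix a ha h)
  by_contra hno
  push Not at hno
  set a' := p * a * p⁻¹
  set a'' := p * a' * p⁻¹
  have ha' : a' ∈ M := hPM p hp a ha
  have ha'' : a'' ∈ M := hPM p hp a' ha'
  have hne1 : a'' ≠ a := by
    intro h
    apply hpa
    have hc : Commute (p * p) a := by
      show p * p * a = a * (p * p)
      calc p * p * a = a'' * (p * p) := by simp only [a'', a']; group
        _ = a * (p * p) := by rw [h]
    have h5 := hc.pow_left 5
    have hp9 : p ^ 9 = 1 := orderOf_dvd_iff_pow_eq_one.1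
      ((Subgroup.orderOf_dvd_natCard _ hp).trans (card_sylow_three hn P).dvd)
    rw [show (p * p) ^ 5 = p by rw [← pow_two, ← pow_mul, show 2 * 5 = 9 + 1 from rfl, pow_succ, hp9, one_mul]] at h5
    show p * a * p⁻¹ = a
    rw [h5.eq, mul_assoc, mul_inv_cancel, mul_one]
  classical
  haveI := Fintype.ofFinite M
  let S : Finset M := {1, ⟨a, ha⟩, ⟨a', ha'⟩, ⟨a'', ha''⟩, ⟨b, hb⟩}
  have hS : S.card = 5 := by
    have e1 : a' ≠ 1 := fun h => ha1 (conj_eq_one_iff.1 h)
    have e2 : a'' ≠ 1 := fun h => e1 (conj_eq_one_iff.1 h)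
    have e3 : a'' ≠ a' := fun h => hpa (by
      have : p * a' * p⁻¹ = p * a * p⁻¹ := h
      simpa using this)
    have e4 : b ≠ a := fun h => hno 1 (by rw [one_mul, inv_one, mul_one]; exact h.symm)
    have e5 : b ≠ a' := fun h => hno p h.symm
    have e6 : b ≠ a'' := fun h => hno (p * p) (by rw [h]; simp only [a'', a']; group)
    rw [Finset.card_insert_of_notMem, Finset.card_insert_of_notMem, Finset.card_insert_of_notMem,
      Finset.card_pair]
    · exact fun h => e6 (congrArg Subtype.val h).symm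
    · simp only [Finset.mem_insert, Finset.mem_singleton, Subtype.ext_iff]
      exact fun h => h.elim (fun h => e3 h.symm) (fun h => e5 h.symm)
    · simp only [Finset.mem_insert, Finset.mem_singleton, Subtype.ext_iff]
      exact fun h => h.elim (fun h => hpa h.symm) fun h => h.elim (fun h => hne1 h.symm) (fun h => e4 h.symm)
    · simp only [Finset.mem_insert, Finset.mem_singleton, Subtype.ext_iff]
      rintro (h | h | h | h)
      · exact ha1 h.symm
      · exact e1 h.symm
      · exact e2 h.symm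
      · exact hb1 h.symm
  have := Finset.card_le_univ S
  rw [hS, ← Nat.card_eq_fintype_card, hM] at this
  omega

theorem conj_into_sylow_two {x : G} {k : ℕ} (hx : x ^ (2 ^ k) = 1) (T : Sylow 2 G) :
    ∃ g : G, g * x * g⁻¹ ∈ (T : Subgroup G) := by
  have hp : IsPGroup 2 (zpowers x) := by
    obtain ⟨j, -, hj⟩ := (Nat.dvd_prime_pow Nat.prime_two).1 (orderOf_dvd_of_pow_eq_one hx)
    exact IsPGroup.of_card (by rw [Nat.card_zpowers, hj])
  obtain ⟨S, hS⟩ := hp.exists_le_sylow
  obtain ⟨g, hg⟩ := MulAction.exists_smul_eq G S T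
  refine ⟨g, ?_⟩
  rw [← hg, mem_smul_sylow_iff]
  have := hS (mem_zpowers x)
  rwa [show g⁻¹ * (g * x * g⁻¹) * g = x by group]

theorem card_sylow_two (hn : Nat.card G = 2520) (T : Sylow 2 G) : Nat.card (T : Subgroup G) = 8 := by
  simpa using card_sylow_eq (a := 3) (m := 315) hn T (by norm_num) (by norm_num)

/-- All involutions are conjugate into one four-group. -/
theorem exists_four_group_all (hn : Nat.card G = 2520) (hG : ¬ IsMulCommutative G) :
    ∃ (M : Subgroup G) (v : G), Nat.card M = 4 ∧ (∀ x ∈ M, x * x = 1) ∧ orderOf v = 3 ∧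
      M ≤ centralizer {v} ∧
      (∀ m ∈ M, m ≠ 1 → Nat.card (centralizer ({m} : Set G)) = 24) ∧
      (∀ m ∈ M, m ≠ 1 → ∀ x : G, x * m = m * x → orderOf x = 3 → x ∈ zpowers v) ∧
      (∀ a ∈ M, ∀ b ∈ M, a ≠ 1 → b ≠ 1 → ∃ g : G, g * a * g⁻¹ = b) ∧
      ∀ z : G, orderOf z = 2 → ∃ g : G, g * z * g⁻¹ ∈ M := by
  obtain ⟨M, v, hM, hsq, hv3, hMC, hC36, htrans⟩ := exists_four_group hn hG
  obtain ⟨T, hT⟩ := (IsPGroup.of_card (n := 2) (hM.trans (by norm_num)) : IsPGroup 2 M).exists_le_sylow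
  have hT8 := card_sylow_two hn T
  have hidx : (M.subgroupOf (T : Subgroup G)).index = 2 := by
    have h := (M.subgroupOf (T : Subgroup G)).card_mul_index
    rw [Nat.card_congr (subgroupOfEquivOfLe hT).toEquiv, hM, hT8] at h
    omega
  have hcommM : ∀ a ∈ M, ∀ b ∈ M, a * b = b * a := comm_of_card_eq_sq (p := 2) (hM.trans (by norm_num))
  have hmulM : ∀ {a b : G}, a ∈ (T : Subgroup G) → b ∈ (T : Subgroup G) → a ∉ M → b ∉ M →
      a⁻¹ * b ∈ M := by
    intro a b ha hb ha' hb'
    have := (mul_mem_iff_of_index_two hidx (a := (⟨a, ha⟩ : (T : Subgroup G))⁻¹) (b := ⟨b, hb⟩)).2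
      (by simp only [inv_mem_iff, mem_subgroupOf]; exact iff_of_false ha' hb')
    exact mem_subgroupOf.1 this
  -- a central element
  obtain ⟨y, hyM, hy1, hycen⟩ : ∃ y ∈ M, y ≠ 1 ∧ ∀ x ∈ (T : Subgroup G), x * y = y * x := by
    haveI : Nontrivial (T : Subgroup G) := Finite.one_lt_card_iff_nontrivial.1 (by omega)
    haveI := T.2.center_nontrivial
    obtain ⟨⟨⟨c, hcT⟩, hc⟩, hc1⟩ := exists_ne (1 : center (T : Subgroup G))
    have hcc : ∀ x ∈ (T : Subgroup G), x * c = c * x := fun x hx =>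
      congrArg Subtype.val (mem_center_iff.1 hc ⟨x, hx⟩)
    by_cases hcM : c ∈ M
    · exact ⟨c, hcM, fun h => hc1 (Subtype.ext (Subtype.ext h)), hcc⟩
    · obtain ⟨y, hy, hy1⟩ : ∃ y ∈ M, y ≠ 1 := by
        by_contra h
        push Not at h
        rw [(M.eq_bot_iff_forall).2 h, card_bot] at hM
        omega
      refine ⟨y, hy, hy1, fun x hx => ?_⟩
      by_cases hxM : x ∈ M
      · exact hcommM x hxM y hy
      · have hm : c⁻¹ * x ∈ M := hmulM hcT hx hcM hxM
        calc x * y = c * ((c⁻¹ * x) * y) := by group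
          _ = c * (y * (c⁻¹ * x)) := by rw [hcommM _ hm y hy]
          _ = (c * y) * (c⁻¹ * x) := by group
          _ = (y * c) * (c⁻¹ * x) := by rw [hcc y (hT hy)]
          _ = y * x := by group
  have hy2 : orderOf y = 2 := orderOf_eq_prime (by rw [pow_two]; exact hsq y hyM) hy1
  have hv : ∀ m ∈ M, v ∈ centralizer ({m} : Set G) := fun m hm =>
    mem_centralizer_singleton_iff.2 (mem_centralizer_singleton_iff.1 (hMC hm)).symm
  have hy24 : Nat.card (centralizer ({y} : Set G)) = 24 := by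
    have h8 : 8 ∣ Nat.card (centralizer ({y} : Set G)) := hT8 ▸ card_dvd_of_le
      (fun x hx => mem_centralizer_singleton_iff.2 (hycen x hx) : (T : Subgroup G) ≤ _)
    have h3 : 3 ∣ Nat.card (centralizer ({y} : Set G)) :=
      hv3 ▸ Subgroup.orderOf_dvd_natCard _ (hv y hyM)
    have h24 : 24 ∣ Nat.card (centralizer ({y} : Set G)) :=
      Nat.Coprime.mul_dvd_of_dvd_of_dvd (show Nat.Coprime 8 3 by norm_num) h8 h3
    obtain ⟨h5, h7⟩ := not_dvd_card_centralizer hn hG (Or.inl hy2)
    have h9 := not_nine_dvd hn hG hy2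
    obtain ⟨j, hj⟩ := h24
    have hjd : j ∣ 105 := Nat.dvd_of_mul_dvd_mul_left (k := 24) (by norm_num)
      (by have := card_subgroup_dvd_card (centralizer ({y} : Set G)); rw [hn, hj] at this; exact this)
    rw [hj] at h5 h7 h9 ⊢
    have key : ∀ j ∈ List.range 106, j ∣ 105 → ¬ 5 ∣ 24 * j → ¬ 7 ∣ 24 * j → ¬ 9 ∣ 24 * j → j = 1 := by
      decide +kernel
    rw [key j (List.mem_range.2 (Nat.lt_succ_of_le (Nat.le_of_dvd (by norm_num) hjd))) hjd h5 h7 h9]
  have hm24 : ∀ m ∈ M, m ≠ 1 → Nat.card (centralizer ({m} : Set G)) = 24 := by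
    intro m hm hm1
    obtain ⟨g, hg⟩ := htrans y hyM m hm hy1 hm1
    rw [← hg, card_centralizer_conj, hy24]
  have huniq : ∀ m ∈ M, m ≠ 1 → ∀ x : G, x * m = m * x → orderOf x = 3 → x ∈ zpowers v := by
    intro m hm hm1 x hxm hx3
    set W := zpowers v
    have hWM : ∀ a ∈ M, ∀ b ∈ W, a * b = b * a := fun a ha b hb => by
      obtain ⟨i, rfl⟩ := mem_zpowers_iff.1 hb
      exact (Commute.zpow_right (mem_centralizer_singleton_iff.1 (hMC ha)) i).eq
    have hinf : M ⊓ W = ⊥ := inf_eq_bot_of_coprime (by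
      rw [hM, Nat.card_zpowers, hv3]; norm_num)
    have hA : Nat.card (M ⊔ W : Subgroup G) = 12 := by
      rw [H41.card_sup_of_commute M W hWM hinf, hM, Nat.card_zpowers, hv3]
    have hAC : M ⊔ W ≤ centralizer ({m} : Set G) :=
      sup_le (fun a ha => mem_centralizer_singleton_iff.2 (hcommM a ha m hm)) (zpowers_le.2 (hv m hm))
    set A := (M ⊔ W).subgroupOf (centralizer ({m} : Set G))
    have hAidx : A.index = 2 := by
      have h := A.card_mul_index
      rw [Nat.card_congr (subgroupOfEquivOfLe hAC).toEquiv, hA, hm24 m hm hm1] at h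
      omega
    have hxA : x ∈ M ⊔ W := by
      have h2 := mul_self_mem_of_index_two hAidx ⟨x, mem_centralizer_singleton_iff.2 hxm⟩
      have h3 : x * x ∈ M ⊔ W := mem_subgroupOf.1 h2
      have : x = (x * x) * (x * x) := by
        rw [show x * x * (x * x) = x ^ 3 * x by simp only [pow_succ, pow_zero, one_mul, mul_assoc], ← hx3, pow_orderOf_eq_one, one_mul]
      rw [this]
      exact mul_mem h3 h3
    have hle : W ≤ normalizer (M : Set G) := le_trans
      (fun b hb => mem_centralizer_iff.2 fun a ha => hWM a ha b hb) (centralizer_le_normalizer _)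
    rw [← SetLike.mem_coe, coe_mul_of_right_le_normalizer_left _ _ hle] at hxA
    obtain ⟨a, ha, b, hb, rfl⟩ := hxA
    have hc : Commute a b := hWM a ha b hb
    have hb3 : b ^ 3 = 1 := orderOf_dvd_iff_pow_eq_one.1
      (hv3 ▸ Nat.card_zpowers v ▸ Subgroup.orderOf_dvd_natCard W hb)
    have h3 : (a * b) ^ 3 = 1 := by rw [← hx3]; exact pow_orderOf_eq_one _
    rw [hc.mul_pow, hb3, mul_one, pow_succ, pow_two, hsq a ha, one_mul] at h3
    show a * b ∈ W
    rw [h3, one_mul]
    exact hb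
  refine ⟨M, v, hM, hsq, hv3, hMC, hm24, huniq, htrans, fun z hz2 => ?_⟩
  show ∃ g : G, g * z * g⁻¹ ∈ M
  -- conjugate into `M`
  obtain ⟨g, hg⟩ := conj_into_sylow_two (k := 1) (x := z)
    (by rw [pow_one, ← hz2, pow_orderOf_eq_one]) T
  by_cases hgM : g * z * g⁻¹ ∈ M
  · exact ⟨g, hgM⟩
  · rcases H25.thompson_transfer T M hT hidx (g * z * g⁻¹)
      ((MulEquiv.orderOf_eq (MulAut.conj g) z).trans hz2) hg hgM with ⟨K, hK, hKi, -⟩ | ⟨h, hh⟩
    · exfalso
      rcases hK.eq_bot_or_eq_top with h | h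
      · rw [h, index_bot, hn] at hKi; omega
      · rw [h, index_top] at hKi; omega
    · exact ⟨h * g, by
        rw [show h * g * z * (h * g)⁻¹ = h * (g * z * g⁻¹) * h⁻¹ by group]
        exact hh⟩

/-- Any two involutions are conjugate. -/
theorem isConj_involutions (hn : Nat.card G = 2520) (hG : ¬ IsMulCommutative G) {a b : G}
    (ha : orderOf a = 2) (hb : orderOf b = 2) : ∃ g : G, g * a * g⁻¹ = b := by
  obtain ⟨M, v, -, -, -, -, -, -, htrans, hall⟩ := exists_four_group_all hn hG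
  obtain ⟨g, hg⟩ := hall a ha
  obtain ⟨h, hh⟩ := hall b hb
  have hne : ∀ {k x : G}, orderOf x = 2 → k * x * k⁻¹ ≠ 1 := fun hx h => by
    rw [conj_eq_one_iff.1 h, orderOf_one] at hx
    omega
  obtain ⟨k, hk⟩ := htrans _ hg _ hh (hne ha) (hne hb)
  refine ⟨h⁻¹ * k * g, ?_⟩
  calc h⁻¹ * k * g * a * (h⁻¹ * k * g)⁻¹ = h⁻¹ * (k * (g * a * g⁻¹) * k⁻¹) * h := by group
    _ = b := by rw [hk]; group

/-- The centralizers of involutions. -/
theorem exists_local (hn : Nat.card G = 2520) (hG : ¬ IsMulCommutative G) {z : G}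
    (hz2 : orderOf z = 2) :
    Nat.card (centralizer ({z} : Set G)) = 24 ∧ ∃ (M : Subgroup G) (v : G),
      z ∈ M ∧ Nat.card M = 4 ∧ (∀ x ∈ M, x * x = 1) ∧ orderOf v = 3 ∧ M ≤ centralizer {v} ∧
      ∀ m ∈ M, m ≠ 1 → ∀ x : G, x * m = m * x → orderOf x = 3 → x ∈ zpowers v := by
  obtain ⟨M, v, hM, hsq, hv3, hMC, hm24, huniq, -, hall⟩ := exists_four_group_all hn hG
  obtain ⟨g, hgM⟩ := hall z hz2
  set m := g * z * g⁻¹
  have hm1 : m ≠ 1 := fun h => by
    rw [conj_eq_one_iff] at h
    rw [h, orderOf_one] at hz2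
    omega
  have hz' : z = g⁻¹ * m * g⁻¹⁻¹ := by simp only [m]; group
  refine ⟨by rw [hz', card_centralizer_conj, hm24 m hgM hm1], ?_⟩
  set e := (MulAut.conj g⁻¹).toMonoidHom with he
  have hinj : Function.Injective e := (MulAut.conj g⁻¹).injective
  refine ⟨M.map e, e v, ⟨m, hgM, hz'.symm⟩, by rw [card_map_of_injective hinj, hM], ?_,
    (orderOf_injective e hinj v).trans hv3, ?_, ?_⟩
  · rintro _ ⟨x, hx, rfl⟩
    rw [← map_mul, hsq x hx, map_one]
  · rintro _ ⟨x, hx, rfl⟩
    exact mem_centralizer_singleton_iff.2 (by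
      rw [← map_mul, mem_centralizer_singleton_iff.1 (hMC hx), map_mul])
  · rintro _ ⟨a, ha, rfl⟩ ha1 x hxa hx3
    obtain ⟨x', rfl⟩ : ∃ x', e x' = x := (MulAut.conj g⁻¹).surjective x
    rw [← map_mul, ← map_mul] at hxa
    rw [orderOf_injective e hinj] at hx3
    obtain ⟨i, hi⟩ := mem_zpowers_iff.1
      (huniq a ha (fun h => ha1 (by rw [h, map_one])) x' (hinj hxa) hx3)
    exact ⟨i, by show (e v) ^ i = e x'; rw [← map_zpow, hi]⟩

/-- Sylow 2-subgroups are not commutative. -/
theorem false_of_comm_sylow (hn : Nat.card G = 2520) (hG : ¬ IsMulCommutative G) (T₀ : Sylow 2 G)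
    (hcomm : ∀ a ∈ (T₀ : Subgroup G), ∀ b ∈ (T₀ : Subgroup G), a * b = b * a) : False := by
  obtain ⟨M, v, hM, hsq, -, -, -, htrans⟩ := exists_four_group hn hG
  obtain ⟨T, hT⟩ := (IsPGroup.of_card (n := 2) (hM.trans (by norm_num)) : IsPGroup 2 M).exists_le_sylow
  have hT8 := card_sylow_two hn T
  have hidx : (M.subgroupOf (T : Subgroup G)).index = 2 := by
    have h := (M.subgroupOf (T : Subgroup G)).card_mul_index
    rw [Nat.card_congr (subgroupOfEquivOfLe hT).toEquiv, hM, hT8] at h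
    omega
  have hmulM : ∀ {a b : G}, a ∈ (T : Subgroup G) → b ∈ (T : Subgroup G) → a ∉ M → b ∉ M →
      a⁻¹ * b ∈ M := by
    intro a b ha hb ha' hb'
    have := (mul_mem_iff_of_index_two hidx (a := (⟨a, ha⟩ : (T : Subgroup G))⁻¹) (b := ⟨b, hb⟩)).2
      (by simp only [inv_mem_iff, mem_subgroupOf]; exact iff_of_false ha' hb')
    exact mem_subgroupOf.1 this
  have hT' : IsMulCommutative (T : Subgroup G) := by
    obtain ⟨g, rfl⟩ := MulAction.exists_smul_eq G T₀ T
    refine isMulCommutative_of_forall fun a b => Subtype.ext ?_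
    have h := hcomm _ (mem_smul_sylow_iff g a.1 T₀ |>.1 a.2) _ (mem_smul_sylow_iff g b.1 T₀ |>.1 b.2)
    have h' := congrArg (fun x => g * x * g⁻¹) h
    simp only [mul_assoc, mul_inv_cancel_left, inv_mul_cancel_left, mul_inv_cancel, mul_one] at h'
    exact h'
  obtain ⟨r, hr⟩ := exists_orderOf_four hn hG
  obtain ⟨g, hg⟩ := conj_into_sylow_two (k := 2) (x := r)
    (by rw [show 2 ^ 2 = orderOf r from hr.symm ▸ rfl, pow_orderOf_eq_one]) T
  set t := g * r * g⁻¹
  have ht4 : orderOf t = 4 := by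
    rw [← hr]; exact (MulEquiv.orderOf_eq (MulAut.conj g) r)
  have htM : t ∉ M := fun h => by
    have := orderOf_dvd_of_pow_eq_one (show t ^ 2 = 1 by rw [pow_two]; exact hsq t h)
    rw [ht4] at this
    omega
  have hq : t * t ∈ M := by
    have := mul_self_mem_of_index_two hidx ⟨t, hg⟩
    exact mem_subgroupOf.1 this
  have hq1 : t * t ≠ 1 := fun h => by
    have := orderOf_dvd_of_pow_eq_one (show t ^ 2 = 1 by rw [pow_two]; exact h)
    rw [ht4] at this
    omega
  have hsquares : ∀ x ∈ (T : Subgroup G), x * x = 1 ∨ x * x = t * t := by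
    intro x hx
    by_cases hxM : x ∈ M
    · exact Or.inl (hsq x hxM)
    · right
      have hm := hmulM hg hx htM hxM
      have hc : Commute t (t⁻¹ * x) := congrArg Subtype.val
        (hT'.is_comm.comm ⟨t, hg⟩ ⟨t⁻¹ * x, mul_mem (inv_mem hg) hx⟩)
      calc x * x = (t * (t⁻¹ * x)) * (t * (t⁻¹ * x)) := by group
        _ = t * t * ((t⁻¹ * x) * (t⁻¹ * x)) := by
          rw [← mul_assoc, mul_assoc t (t⁻¹ * x) t, ← hc.eq]; group
        _ = t * t := by rw [hsq _ hm, mul_one]
  obtain ⟨m, hm, hm1, hmq⟩ : ∃ m ∈ M, m ≠ 1 ∧ m ≠ t * t := by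
    by_contra h
    push Not at h
    have hsub : (M : Set G) ⊆ {1, t * t} := fun m hm => by
      by_cases h1 : m = 1
      · exact Or.inl h1
      · exact Or.inr (h m hm h1)
    have := Set.ncard_le_ncard hsub (Set.toFinite _)
    have hle2 := Set.ncard_insert_le (1 : G) {t * t}
    rw [Set.ncard_singleton] at hle2
    rw [← Nat.card_coe_set_eq, SetLike.coe_sort_coe, hM] at this
    omega
  obtain ⟨h, hh⟩ := htrans m hm _ hq hm1 hq1
  haveI : IsMulCommutative (T : Subgroup G) := hT'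
  obtain ⟨n, hnN, hne⟩ := Sylow.conj_eq_normalizer_conj_of_mem T m h⁻¹ (hT hm)
    (by rw [inv_inv, hh]; exact hT hq)
  rw [inv_inv, hh] at hne
  have hnt : n * t * n⁻¹ ∈ (T : Subgroup G) := (mem_normalizer_iff.1 hnN t).1 hg
  have he : (n * t * n⁻¹) * (n * t * n⁻¹) = m := by
    calc (n * t * n⁻¹) * (n * t * n⁻¹) = n * (t * t) * n⁻¹ := by group
      _ = m := by rw [hne]; group
  rcases hsquares _ hnt with h' | h' <;> rw [he] at h'
  · exact hm1 h'
  · exact hmq h'

/-- An element of order four is conjugate to its inverse. -/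
theorem isConj_inv_of_orderOf_four (hn : Nat.card G = 2520) (hG : ¬ IsMulCommutative G) {t : G}
    (ht : orderOf t = 4) : ∃ g : G, g * t * g⁻¹ = t⁻¹ := by
  classical
  obtain ⟨T, hT⟩ := (IsPGroup.of_card (n := 2) (by rw [Nat.card_zpowers, ht]; norm_num) :
    IsPGroup 2 (zpowers t)).exists_le_sylow
  have hT8 := card_sylow_two hn T
  have htT : t ∈ (T : Subgroup G) := hT (mem_zpowers t)
  have hidx : ((zpowers t).subgroupOf (T : Subgroup G)).index = 2 := by
    have h := ((zpowers t).subgroupOf (T : Subgroup G)).card_mul_index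
    rw [Nat.card_congr (subgroupOfEquivOfLe hT).toEquiv, Nat.card_zpowers, ht, hT8] at h
    omega
  -- `T` is not commutative
  have hnc : ¬ ∀ s ∈ (T : Subgroup G), s * t = t * s := by
    intro hall
    have hcomm : ∀ a ∈ (T : Subgroup G), ∀ b ∈ (T : Subgroup G), a * b = b * a := by
      by_cases hsub : (T : Subgroup G) ≤ zpowers t
      · intro a ha b hb
        obtain ⟨i, rfl⟩ := mem_zpowers_iff.1 (hsub ha)
        obtain ⟨j, rfl⟩ := mem_zpowers_iff.1 (hsub hb)
        exact ((Commute.refl t).zpow_zpow i j).eq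
      obtain ⟨s, hs, hst⟩ := SetLike.not_le_iff_exists.1 hsub
      have hdec : ∀ x ∈ (T : Subgroup G), ∃ (i : ℕ) (j : ℤ), s ^ i * t ^ j = x := by
        intro x hx
        by_cases hxt : x ∈ zpowers t
        · obtain ⟨j, rfl⟩ := mem_zpowers_iff.1 hxt
          exact ⟨0, j, by simp⟩
        · have := (mul_mem_iff_of_index_two hidx (a := (⟨s, hs⟩ : (T : Subgroup G))⁻¹) (b := ⟨x, hx⟩)).2
            (by simp only [inv_mem_iff, mem_subgroupOf]; exact iff_of_false hst hxt)
          obtain ⟨j, hj⟩ := mem_zpowers_iff.1 (mem_subgroupOf.1 this : s⁻¹ * x ∈ zpowers t)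
          exact ⟨1, j, by rw [pow_one, hj]; exact mul_inv_cancel_left s x⟩
      intro a ha b hb
      obtain ⟨i, j, rfl⟩ := hdec a ha
      obtain ⟨k, l, rfl⟩ := hdec b hb
      have hc : Commute s t := hall s hs
      exact (Commute.mul_left ((Commute.pow_pow_self s i k).mul_right ((hc.pow_left i).zpow_right l))
        ((((hc.pow_left k).zpow_right j).symm).mul_right ((Commute.refl t).zpow_zpow j l))).eq
    exact false_of_comm_sylow hn hG T hcomm
  push Not at hnc
  obtain ⟨s, hs, hst⟩ := hnc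
  refine ⟨s, ?_⟩
  have := (normal_of_index_eq_two hidx).conj_mem ⟨t, htT⟩ (mem_zpowers t) ⟨s, hs⟩
  have hmem : s * t * s⁻¹ ∈ zpowers t := this
  obtain ⟨i, hi, he⟩ := Finset.mem_image.1 ((mem_zpowers_iff_mem_range_orderOf (x := t)).1 hmem)
  rw [ht, Finset.mem_range] at hi
  have ho : orderOf (s * t * s⁻¹) = 4 := (MulEquiv.orderOf_eq (MulAut.conj s) t).trans ht
  interval_cases i
  · rw [← he, pow_zero, orderOf_one] at ho; omega
  · exact absurd (mul_inv_eq_iff_eq_mul.1 (he.symm.trans (pow_one t))) hst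
  · rw [← he] at ho
    have := orderOf_dvd_of_pow_eq_one (show (t ^ 2) ^ 2 = 1 by
      rw [← pow_mul, show 2 * 2 = orderOf t from ht.symm, pow_orderOf_eq_one])
    rw [ho] at this; omega
  · rw [← he]
    refine eq_inv_of_mul_eq_one_left ?_
    rw [← pow_succ, show 3 + 1 = orderOf t from ht.symm, pow_orderOf_eq_one]

end Cfsg.Agent.H36.Alt7
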