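import Cfsg.Agent.H36.NoSimple
import Cfsg.Agent.H36.Orbits
import Mathlib.GroupTheory.SchurZassenhaus

/-!
# Counting in subgroups meeting the normalizer of a Sylow subgroup of prime order
-/

set_option autoImplicit false
set_option linter.unusedSectionVars false
set_option linter.style.haveILetI false

namespace Cfsg.Agent.H36

open Subgroup

variable {G : Type*} [Group G] [Finite G] {p : ℕ} [hp : Fact p.Prime]

/-- `|M| = |N(P) ⊓ M| * n_p(M)` for `M` containing the Sylow subgroup `P`. -/
theorem card_eq_inf_mul (P : Sylow p G) {M : Subgroup G} (hPM : (P : Subgroup G) ≤ M) :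
    Nat.card (Sylow p M) % p = 1 ∧ Nat.card (Sylow p M) ∣ Nat.card G ∧
      Nat.card M = Nat.card (normalizer ((P : Subgroup G) : Set G) ⊓ M : Subgroup G) *
        Nat.card (Sylow p M) := by
  set N := normalizer ((P : Subgroup G) : Set G)
  have hd : N.relIndex M = Nat.card (Sylow p M) := by
    rw [Sylow.card_eq_index_normalizer (P.subtype hPM)]
    exact congrArg index (subgroupOf_normalizer_eq hPM)
  have hmul : Nat.card M = Nat.card (N ⊓ M : Subgroup G) * N.relIndex M := by
    have h := relIndex_mul_relIndex (⊥ : Subgroup G) (N ⊓ M) M bot_le inf_le_right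
    rw [relIndex_bot_left, relIndex_bot_left, inf_relIndex_right] at h
    exact h.symm
  rw [← hd]
  refine ⟨?_, (Dvd.intro_left _ hmul.symm).trans (card_subgroup_dvd_card M), hmul⟩
  rw [hd, card_sylow_modEq_one p M]
  exact Nat.mod_eq_of_lt hp.out.one_lt

/-- An element of order `p` of `P` fixes only one coset of a subgroup containing `N(P)`. -/
theorem card_fixedBy_eq_one_of_le (P : Sylow p G) (hP : Nat.card (P : Subgroup G) = p)
    {M : Subgroup G} (hM : normalizer ((P : Subgroup G) : Set G) ≤ M) {y : G}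
    (hy : y ∈ (P : Subgroup G)) (hy1 : orderOf y = p) :
    Nat.card (MulAction.fixedBy (G ⧸ M) y) = 1 := by
  have hbase : y • ((1 : G) : G ⧸ M) = ((1 : G) : G ⧸ M) := by
    rw [smul_mk_eq_iff, inv_one, one_mul, mul_one]
    exact hM (le_normalizer hy)
  refine Nat.card_eq_one_iff_unique.2 ⟨⟨fun a b => ?_⟩, ⟨⟨_, hbase⟩⟩⟩
  have key : ∀ a : MulAction.fixedBy (G ⧸ M) y, a.1 = ((1 : G) : G ⧸ M) := by
    rintro ⟨a, ha⟩
    revert ha
    refine QuotientGroup.induction_on a fun g => ?_
    intro ha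
    have hg : g⁻¹ * y * g ∈ M := (smul_mk_eq_iff M y g).1 ha
    have hPM : (P : Subgroup G) ≤ M := le_normalizer.trans hM
    have hQ : ((g⁻¹ • P : Sylow p G) : Subgroup G) ≤ M := by
      intro x hx
      rw [mem_smul_sylow_iff, inv_inv] at hx
      obtain ⟨k, hk⟩ := mem_zpowers_iff.1 ((sylow_eq_zpowers P hP hy1 hy).symm ▸ hx)
      have hc : x = (g⁻¹ * y * g) ^ k := by
        rw [show g⁻¹ * y * g = g⁻¹ * y * (g⁻¹)⁻¹ by group, conj_zpow, hk]
        group
      rw [hc]
      exact zpow_mem hg k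
    obtain ⟨m, hm⟩ := MulAction.exists_smul_eq M (P.subtype hPM) ((g⁻¹ • P).subtype hQ)
    rw [Sylow.smul_subtype hPM] at hm
    have hm' : (m : G) • P = g⁻¹ • P := Sylow.subtype_injective hm
    have hgm : g * (m : G) ∈ normalizer ((P : Subgroup G) : Set G) := by
      refine Sylow.smul_eq_iff_mem_normalizer.1 ?_
      rw [mul_smul, hm', smul_inv_smul]
    show (g : G ⧸ M) = ((1 : G) : G ⧸ M)
    rw [QuotientGroup.eq, mul_one]
    refine M.inv_mem ?_
    have := M.mul_mem (hM hgm) (M.inv_mem m.2)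
    rwa [mul_assoc, mul_inv_cancel, mul_one] at this
  exact Subtype.ext ((key a).trans (key b).symm)

/-- An element centralizing `P` fixes `1` mod `p` cosets of a subgroup containing `N(P)`. -/
theorem card_fixedBy_modEq_one_of_le (P : Sylow p G) (hP : Nat.card (P : Subgroup G) = p)
    {M : Subgroup G} (hM : normalizer ((P : Subgroup G) : Set G) ≤ M) {x : G}
    (hx : x ∈ centralizer ((P : Subgroup G) : Set G)) :
    Nat.card (MulAction.fixedBy (G ⧸ M) x) ≡ 1 [MOD p] := by
  classical
  have hcomm : ∀ (u : (P : Subgroup G)) (a : G ⧸ M), (u : G) • x • a = x • (u : G) • a := by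
    intro u a
    rw [smul_smul, smul_smul, mem_centralizer_iff.1 hx u u.2]
  letI : MulAction (P : Subgroup G) (MulAction.fixedBy (G ⧸ M) x) :=
    { smul := fun u a => ⟨(u : G) • a.1, by
        show x • (u : G) • a.1 = (u : G) • a.1
        rw [← hcomm, show x • a.1 = a.1 from a.2]⟩
      one_smul := fun a => Subtype.ext (one_smul G a.1)
      mul_smul := fun u v a => Subtype.ext (mul_smul (u : G) (v : G) a.1) }
  refine (P.isPGroup'.card_modEq_card_fixedPoints (MulAction.fixedBy (G ⧸ M) x)).trans ?_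
  have hc : ∀ u : (P : Subgroup G), (u : G) • ((1 : G) : G ⧸ M) = ((1 : G) : G ⧸ M) := fun u => by
    rw [smul_mk_eq_iff, inv_one, one_mul, mul_one]; exact hM (le_normalizer u.2)
  have hx1 : x • ((1 : G) : G ⧸ M) = ((1 : G) : G ⧸ M) := by
    rw [smul_mk_eq_iff, inv_one, one_mul, mul_one]; exact hM (centralizer_le_normalizer _ hx)
  obtain ⟨u, hu⟩ : ∃ u : (P : Subgroup G), orderOf (u : G) = p := by
    obtain ⟨u, hu⟩ := exists_prime_orderOf_dvd_card' (G := (P : Subgroup G)) p (by rw [hP])
    exact ⟨u, by rw [orderOf_coe, hu]⟩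
  have h1 := card_fixedBy_eq_one_of_le P hP hM u.2 hu
  have : Nat.card (MulAction.fixedPoints (P : Subgroup G) (MulAction.fixedBy (G ⧸ M) x)) = 1 := by
    rw [Nat.card_eq_one_iff_unique]
    refine ⟨⟨fun a b => Subtype.ext (Subtype.ext ?_)⟩,
      ⟨⟨⟨_, hx1⟩, fun v => Subtype.ext (hc v)⟩⟩⟩
    have := (Nat.card_eq_one_iff_unique.1 h1).1.elim
      ⟨a.1.1, congrArg Subtype.val (a.2 u)⟩ ⟨b.1.1, congrArg Subtype.val (b.2 u)⟩
    exact (congrArg Subtype.val this :)
  rw [this]

/-- The elements of order prime to `p` in the centralizer of a Sylow subgroup of order `p` form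
a subgroup, normalized by the normalizer. -/
theorem exists_centralizer_complement {P : Subgroup G} (hP : Nat.card P = p) {c : ℕ}
    (hC : Nat.card (centralizer (P : Set G)) = p * c) (hc : Nat.Coprime p c) :
    ∃ D : Subgroup G, D ≤ centralizer (P : Set G) ∧ Nat.card D = c ∧
      (∀ x ∈ centralizer (P : Set G), x ^ c = 1 → x ∈ D) ∧
      normalizer (P : Set G) ≤ normalizer (D : Set G) := by
  classical
  set C := centralizer (P : Set G)
  have hPC : P ≤ C := fun a ha => mem_centralizer_iff.2 fun b hb => by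
    haveI : IsCyclic P := isCyclic_of_prime_card hP
    letI : CommGroup P := IsCyclic.commGroup
    exact congrArg Subtype.val (mul_comm (⟨b, hb⟩ : P) ⟨a, ha⟩)
  set Q := P.subgroupOf C with hQ
  have hQcard : Nat.card Q = p := by rw [Nat.card_congr (subgroupOfEquivOfLe hPC).toEquiv, hP]
  have hQidx : Q.index = c := by
    have h := Q.card_mul_index
    rw [hQcard, hC] at h
    exact Nat.eq_of_mul_eq_mul_left hp.out.pos h
  have hcent : ∀ q ∈ Q, ∀ g : C, g * q = q * g := fun q hq g =>
    Subtype.ext (mem_centralizer_iff.1 g.2 _ (mem_subgroupOf.1 hq)).symm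
  haveI : Q.Normal := ⟨fun q hq g => by
    rw [hcent q hq g, mul_inv_cancel_right]; exact hq⟩
  obtain ⟨E, hE⟩ := exists_right_complement'_of_coprime (N := Q) (by rw [hQcard, hQidx]; exact hc)
  have hEcard : Nat.card E = c := by
    have h := hE.card_mul_card
    rw [hQcard, hC] at h
    exact Nat.eq_of_mul_eq_mul_left hp.out.pos h
  haveI hEn : E.Normal := ⟨fun e he g => by
    obtain ⟨⟨⟨q, hq⟩, ⟨d, hd⟩⟩, hg⟩ := hE.2 g
    simp only at hg
    subst hg
    have h1 : d * e * d⁻¹ ∈ E := E.mul_mem (E.mul_mem hd he) (E.inv_mem hd)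
    have : q * d * e * (q * d)⁻¹ = d * e * d⁻¹ := by
      calc q * d * e * (q * d)⁻¹ = q * (d * e * d⁻¹) * q⁻¹ := by group
        _ = (d * e * d⁻¹) * q * q⁻¹ := by rw [hcent q hq]
        _ = d * e * d⁻¹ := by rw [mul_inv_cancel_right]
    rw [this]; exact h1⟩
  have hEidx : E.index = p := by
    have h := E.card_mul_index
    rw [hEcard, hC, mul_comm p c] at h
    exact Nat.eq_of_mul_eq_mul_left (hEcard ▸ Nat.card_pos) h
  have hmem : ∀ x : C, (x : G) ^ c = 1 → x ∈ E := by
    intro x hx
    have hxc : x ^ c = 1 := Subtype.ext (by rw [SubmonoidClass.coe_pow, hx]; rfl)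
    rw [← QuotientGroup.eq_one_iff]
    have h1 : orderOf (x : C ⧸ E) ∣ c := orderOf_dvd_of_pow_eq_one
      (by rw [← QuotientGroup.mk_pow, hxc, QuotientGroup.mk_one])
    have h2 : orderOf (x : C ⧸ E) ∣ p := by
      have := orderOf_dvd_natCard (x : C ⧸ E)
      rwa [← index_eq_card, hEidx] at this
    exact orderOf_eq_one_iff.1 (Nat.eq_one_of_dvd_coprimes hc h2 h1)
  refine ⟨E.map C.subtype, map_subtype_le _, by rw [card_map_of_injective C.subtype_injective,
    hEcard], fun x hx hxc => ⟨⟨x, hx⟩, hmem ⟨x, hx⟩ hxc, rfl⟩, fun n hn => ?_⟩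
  have hconj : ∀ m ∈ normalizer (P : Set G), ∀ y ∈ E.map C.subtype,
      m * y * m⁻¹ ∈ E.map C.subtype := by
    rintro m hm _ ⟨e, he, rfl⟩
    have hmC : m * (e : G) * m⁻¹ ∈ C := by
      refine mem_centralizer_iff.2 fun w hw => ?_
      have hw' : m⁻¹ * w * m ∈ P := by
        simpa using (mem_normalizer_iff.1 (inv_mem hm : m⁻¹ ∈ normalizer (P : Set G)) w).1 hw
      have := mem_centralizer_iff.1 e.2 _ hw'
      calc w * (m * (e : G) * m⁻¹) = m * ((m⁻¹ * w * m) * e) * m⁻¹ := by group
        _ = m * ((e : G) * (m⁻¹ * w * m)) * m⁻¹ := by rw [this]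
        _ = m * (e : G) * m⁻¹ * w := by group
    refine ⟨⟨_, hmC⟩, hmem ⟨_, hmC⟩ ?_, rfl⟩
    show (m * (e : G) * m⁻¹) ^ c = 1
    have hec : (e : G) ^ c = 1 := by
      have h := congrArg Subtype.val (pow_card_eq_one' (x := (⟨e, he⟩ : E)))
      rw [hEcard] at h
      exact congrArg Subtype.val h
    rw [conj_pow, hec, mul_one, mul_inv_cancel]
  refine mem_normalizer_iff.2 fun y => ⟨hconj n hn y, fun hy => ?_⟩
  have := hconj n⁻¹ (inv_mem hn) _ hy
  rwa [show n⁻¹ * (n * y * n⁻¹) * n⁻¹⁻¹ = y by group] at this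

/-- A subgroup normalizing `D` permutes `D \ {1}` by conjugation, with point stabilizers the
centralizers. -/
theorem relIndex_centralizer_lt (D N : Subgroup G) (hN : N ≤ normalizer (D : Set G)) {u : G}
    (hu : u ∈ D) (hu1 : u ≠ 1) :
    (centralizer ({u} : Set G)).relIndex N < Nat.card D := by
  classical
  set M := centralizer ({u} : Set G)
  let f : N ⧸ M.subgroupOf N → {d : D // d ≠ 1} := Quotient.lift
    (fun g : N => ⟨⟨(g : G) * u * (g : G)⁻¹, (mem_normalizer_iff.1 (hN g.2) u).1 hu⟩,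
      fun h => hu1 (conj_eq_one_iff.1 (congrArg Subtype.val h))⟩)
    fun a b hab => by
      have h1 : (a : G)⁻¹ * (b : G) ∈ M := by
        simpa [mem_subgroupOf] using QuotientGroup.leftRel_apply.1 hab
      have h2 := mem_centralizer_singleton_iff.1 h1
      refine Subtype.ext (Subtype.ext ?_)
      show (a : G) * u * (a : G)⁻¹ = b * u * (b : G)⁻¹
      calc (a : G) * u * (a : G)⁻¹ = a * (u * ((a : G)⁻¹ * b)) * (b : G)⁻¹ := by group
        _ = a * (((a : G)⁻¹ * b) * u) * (b : G)⁻¹ := by rw [h2]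
        _ = b * u * (b : G)⁻¹ := by group
  have hf : Function.Injective f := by
    intro a b
    refine Quotient.inductionOn₂' a b fun a b h => ?_
    have h : (a : G) * u * (a : G)⁻¹ = b * u * (b : G)⁻¹ :=
      congrArg (fun d : {d : D // d ≠ 1} => ((d : D) : G)) h
    refine QuotientGroup.eq.2 ?_
    rw [mem_subgroupOf]
    push_cast
    refine mem_centralizer_singleton_iff.2 ?_
    calc (a : G)⁻¹ * b * u = (a : G)⁻¹ * ((b : G) * u * (b : G)⁻¹) * b := by group
      _ = (a : G)⁻¹ * ((a : G) * u * (a : G)⁻¹) * b := by rw [h]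
      _ = u * ((a : G)⁻¹ * b) := by group
  have h := Nat.card_le_card_of_injective f hf
  rw [← index_eq_card] at h
  refine lt_of_le_of_lt h ?_
  haveI := Fintype.ofFinite D
  rw [Nat.card_eq_fintype_card, Nat.card_eq_fintype_card]
  exact Fintype.card_subtype_lt (x := (1 : D)) (by simp)

/-- If `C(P) = P`, exactly `p` conjugates of an involution of `N(P)` lie in `N(P)`. -/
theorem card_class_inf_normalizer {P : Subgroup G} (hP : Nat.card P = p)
    (hC : centralizer (P : Set G) = P) (hp3 : 3 ≤ p) {u : G} (hu : u * u = 1) (hu1 : u ≠ 1)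
    (huN : u ∈ normalizer (P : Set G)) :
    Nat.card {g : G // IsConj u g ∧ g ∈ normalizer (P : Set G)} = p := by
  classical
  haveI := Fintype.ofFinite G
  obtain ⟨φ⟩ := SelfCentral.exists_iso hP
  have hinv : ∀ g, IsConj u g → g * g = 1 ∧ g ≠ 1 := by
    intro g hg
    obtain ⟨a, rfl⟩ := isConj_iff.1 hg
    refine ⟨?_, fun h => hu1 (conj_eq_one_iff.1 h)⟩
    rw [show a * u * a⁻¹ * (a * u * a⁻¹) = a * (u * u) * a⁻¹ by group, hu]
    group
  have hnot : ∀ g : G, g * g = 1 → g ≠ 1 → g ∉ P := fun g hg hg1 h =>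
    hg1 (by simpa using SelfCentral.off_of_involution hP (by omega) hg 1 (by simpa using h))
  have hmult : ∀ n : normalizer (P : Set G), (n : G) * n = 1 → (n : G) ≠ 1 →
      SelfCentral.mult φ n = -1 := by
    intro n hn hn1
    have hsq : SelfCentral.mult φ n * SelfCentral.mult φ n = 1 := by
      rw [← SelfCentral.mult_mul, show n * n = 1 from Subtype.ext hn, SelfCentral.mult_one]
    rcases mul_self_eq_one_iff.1 hsq with h | h
    · refine absurd ((SelfCentral.mem_ker_unitHom φ hC n).1 ?_) (hnot _ hn hn1)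
      rw [MonoidHom.mem_ker, Units.ext_iff, SelfCentral.coe_unitHom, h, Units.val_one]
    · exact h
  refine le_antisymm ?_ ?_
  · rw [← hP]
    refine Nat.card_le_card_of_injective (fun g => (⟨g.1 * u, ?_⟩ : P)) fun a b h => Subtype.ext
      (mul_right_cancel (congrArg Subtype.val h))
    refine (SelfCentral.mem_ker_unitHom φ hC (⟨g.1, g.2.2⟩ * ⟨u, huN⟩)).1 ?_
    rw [MonoidHom.mem_ker, Units.ext_iff, SelfCentral.coe_unitHom, SelfCentral.mult_mul,
      hmult _ (hinv g.1 g.2.1).1 (hinv g.1 g.2.1).2, hmult _ hu hu1]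
    norm_num
  · nth_rewrite 1 [← hP]
    refine Nat.card_le_card_of_injective
      (fun r : P => ⟨(r : G) * u * (r : G)⁻¹, isConj_iff.2 ⟨r, rfl⟩,
        mul_mem (mul_mem (le_normalizer r.2) huN) (inv_mem (le_normalizer r.2))⟩) ?_
    intro r s h
    have h : (r : G) * u * (r : G)⁻¹ = s * u * (s : G)⁻¹ := congrArg Subtype.val h
    set w : G := (s : G)⁻¹ * r with hw
    have hwP : w ∈ P := mul_mem (inv_mem s.2) r.2
    have hwu : w * u = u * w := by
      calc w * u = (s : G)⁻¹ * ((r : G) * u * (r : G)⁻¹) * r := by rw [hw]; group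
        _ = (s : G)⁻¹ * ((s : G) * u * (s : G)⁻¹) * r := by rw [h]
        _ = u * w := by rw [hw]; group
    by_cases hw1 : w = 1
    · exact Subtype.ext (eq_of_inv_mul_eq_one hw1).symm
    exfalso
    refine hnot u hu hu1 ((SetLike.ext_iff.1 hC u).1 (mem_centralizer_iff.2 fun x hx => ?_))
    obtain ⟨k, hk⟩ := mem_zpowers_iff.1
      (mem_zpowers_of_prime_card (G := P) hP (g := ⟨w, hwP⟩) (g' := ⟨x, hx⟩)
        (fun hh => hw1 (congrArg Subtype.val hh)))
    have hk : w ^ k = x := congrArg Subtype.val hk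
    rw [← hk]
    exact ((show Commute u w from hwu.symm).zpow_right k).symm.eq

/-- The centralizer of an involution inverting a self-centralizing Sylow subgroup `P` of order `p`
with normalizer of order `p (p - 1)` has order `(p - 1) f`, where the `1 + m p` Sylow subgroups
include `f ≤ m + 1` fixed ones. -/
theorem exists_card_centralizer_involution [IsSimpleGroup G] (hG : ¬ IsMulCommutative G)
    (P : Sylow p G) (hP : Nat.card (P : Subgroup G) = p) (hp3 : 3 ≤ p)
    (hC : centralizer ((P : Subgroup G) : Set G) = P)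
    (hN : Nat.card (normalizer ((P : Subgroup G) : Set G)) = p * (p - 1)) {m : ℕ}
    (hm : Nat.card (Sylow p G) = 1 + m * p) {u : G} (hu : u * u = 1) (hu1 : u ≠ 1)
    (huN : u ∈ normalizer ((P : Subgroup G) : Set G)) :
    ∃ f, Nat.card (centralizer ({u} : Set G)) = (p - 1) * f ∧ f ≤ m + 1 ∧
      4 ∣ (1 + m * p) - f := by
  classical
  haveI := Fintype.ofFinite G
  set N := normalizer ((P : Subgroup G) : Set G) with hNdef
  have hidx : N.index = 1 + m * p := P.card_eq_index_normalizer.symm.trans hm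
  have h1 := card_fixedBy_mul_card_class N u
  rw [card_class_inf_normalizer hP hC hp3 hu hu1 huN, hidx] at h1
  have h2 := card_class_mul_centralizer u
  have h3 : (1 + m * p) * (p * (p - 1)) = Nat.card G := by
    rw [← hN, ← hm, card_sylow_mul_normalizer]
  have huC : u ∉ centralizer ((P : Subgroup G) : Set G) := fun h => hu1 (by
    simpa using SelfCentral.off_of_involution hP (by omega) hu 1
      (by simpa using (SetLike.ext_iff.1 hC u).1 h))
  have h4 := card_fixedBy_le_orbits (X := G ⧸ N) hp.out (P : Subgroup G) hP huN huC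
  have h5 := four_dvd_moved hG (X := G ⧸ N) hu
  rw [← index_eq_card, hidx] at h5
  have h7 : Nat.card (MulAction.orbitRel.Quotient (P : Subgroup G) (G ⧸ N)) = 1 + m :=
    card_orbits_eq P hP m hm
  refine ⟨Nat.card (MulAction.fixedBy (G ⧸ N) u), ?_, (h4.trans_eq h7).trans (by omega), h5⟩
  set f := Nat.card (MulAction.fixedBy (G ⧸ N) u)
  set cl := Nat.card {g : G // IsConj u g}
  set c := Nat.card (centralizer ({u} : Set G))
  have h6 : ((1 + m * p) * p) * c = ((1 + m * p) * p) * ((p - 1) * f) := by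
    calc ((1 + m * p) * p) * c = f * (cl * c) := by rw [← h1, mul_assoc]
      _ = f * ((1 + m * p) * (p * (p - 1))) := by rw [h2, h3]
      _ = ((1 + m * p) * p) * ((p - 1) * f) := by ring
  exact Nat.eq_of_mul_eq_mul_left (by positivity) h6

end Cfsg.Agent.H36
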