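import Cfsg.Agent.H36.Alt7Basic
import Cfsg.Agent.H36.LocalCounting

/-!
# Simple groups of order 2520: the Sylow 3-subgroup
-/

set_option autoImplicit false
set_option linter.unusedSectionVars false
set_option linter.style.haveILetI false

namespace Cfsg.Agent.H36.Alt7

open Subgroup

variable {G : Type*} [Group G] [Finite G] [IsSimpleGroup G] [Fact (Nat.Prime 3)]

theorem comm_sylow_three (hn : Nat.card G = 2520) (P : Sylow 3 G) :
    ∀ a ∈ (P : Subgroup G), ∀ b ∈ (P : Subgroup G), a * b = b * a :=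
  comm_of_card_eq_sq (p := 3) ((card_sylow_three hn P).trans (by norm_num))

theorem le_centralizer_of_mem (hn : Nat.card G = 2520) {P : Sylow 3 G} {v : G}
    (hv : v ∈ (P : Subgroup G)) : (P : Subgroup G) ≤ centralizer {v} := fun a ha =>
  mem_centralizer_singleton_iff.2 (comm_sylow_three hn P a ha v hv)

/-- A 3-element of `N(P)` lies in `P`. -/
theorem mem_sylow_of_pow (P : Sylow 3 G) {x : G}
    (hx : x ∈ normalizer ((P : Subgroup G) : Set G)) {k : ℕ} (hk : x ^ (3 ^ k) = 1) :
    x ∈ (P : Subgroup G) := by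
  have h : IsPGroup 3 (zpowers x) := by
    obtain ⟨j, -, hj⟩ := (Nat.dvd_prime_pow Nat.prime_three).1 (orderOf_dvd_of_pow_eq_one hk)
    exact IsPGroup.of_card (by rw [Nat.card_zpowers, hj])
  have h1 : zpowers x ⊓ normalizer ((P : Subgroup G) : Set G) = zpowers x :=
    inf_eq_left.2 (zpowers_le.2 hx)
  exact (h.inf_normalizer_sylow P ▸ h1.symm ▸ mem_zpowers x : x ∈ zpowers x ⊓ (P : Subgroup G)).2

/-- If `|N(P) ⊓ C(v)| = 18` and `v` is inverted in `N(P)`, then `C(v) ≤ N(P)`. -/
theorem centralizer_line (hn : Nat.card G = 2520) (hG : ¬ IsMulCommutative G) (P : Sylow 3 G)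
    {v : G} (hv : v ∈ (P : Subgroup G)) (hv3 : orderOf v = 3)
    (h18 : Nat.card (normalizer ((P : Subgroup G) : Set G) ⊓ centralizer {v} : Subgroup G) = 18)
    {s : G} (hs : s * v * s⁻¹ = v⁻¹) :
    Nat.card (Sylow 3 (centralizer ({v} : Set G))) = 1 ∧
      centralizer {v} ≤ normalizer ((P : Subgroup G) : Set G) := by
  obtain ⟨hmod, -, hmul⟩ := card_eq_inf_mul P (le_centralizer_of_mem hn hv)
  rw [h18] at hmul
  obtain ⟨h5, h7⟩ := not_dvd_card_centralizer hn hG (Or.inr hv3)
  have hdvd : Nat.card (centralizer ({v} : Set G)) ∣ 2520 := hn ▸ card_subgroup_dvd_card _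
  set C := Nat.card (centralizer ({v} : Set G)) with hC
  set n := Nat.card (Sylow 3 (centralizer ({v} : Set G))) with hn'
  have hC72 : C ∣ 72 := by
    have hc35 : C.Coprime 35 := Nat.Coprime.mul_right
      (((Nat.prime_five).coprime_iff_not_dvd.2 h5).symm)
      (((show Nat.Prime 7 by norm_num).coprime_iff_not_dvd.2 h7).symm)
    exact hc35.dvd_of_dvd_mul_right (show C ∣ 72 * 35 from hdvd)
  have hn4 : n ∣ 4 := Nat.dvd_of_mul_dvd_mul_left (k := 18) (by norm_num) (hmul ▸ hC72)
  have hn4' := Nat.le_of_dvd (by norm_num) hn4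
  obtain h1 | h4 : n = 1 ∨ n = 4 := by omega
  · refine ⟨h1, ?_⟩
    rw [← inf_eq_right]
    exact eq_of_le_of_card_ge inf_le_right (by rw [h18, ← hC, hmul, h1])
  · exfalso
    rw [h4] at hmul
    have hW : Nat.card (zpowers v) = 3 := (Nat.card_zpowers v).trans hv3
    have hle := relIndex_centralizer_dvd_of_prime Nat.prime_three _ hW
    have hN := card_normalizer_eq_mul (zpowers v)
    rw [centralizer_zpowers, ← hC, hmul] at hN
    rw [centralizer_zpowers] at hle
    have hne : (centralizer ({v} : Set G)).relIndex (normalizer ((zpowers v : Subgroup G) : Set G))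
        ≠ 1 := by
      rw [Ne, relIndex_eq_one]
      intro h
      have hsN : s ∈ normalizer ((zpowers v : Subgroup G) : Set G) := by
        apply (mem_normalizer_iff).2
        intro x
        have hmap : (zpowers v).map (MulAut.conj s).toMonoidHom = zpowers v := by
          rw [MonoidHom.map_zpowers]
          show zpowers (s * v * s⁻¹) = zpowers v
          rw [hs, zpowers_inv]
        constructor
        · intro hx
          rw [← hmap]
          exact ⟨x, hx, rfl⟩
        · intro hx
          rw [← hmap] at hx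
          obtain ⟨y, hy, hxy⟩ := hx
          have : y = x := (MulAut.conj s).injective hxy
          exact this ▸ hy
      have h1 := mem_centralizer_singleton_iff.1 (h hsN)
      rw [h1, mul_assoc, mul_inv_cancel, mul_one] at hs
      have h2 : v * v = 1 := by
        calc v * v = v⁻¹ * v := by rw [← hs]
          _ = 1 := inv_mul_cancel v
      have := orderOf_dvd_of_pow_eq_one (show v ^ 2 = 1 by rw [pow_two, h2])
      rw [hv3] at this
      omega
    have h2 : (centralizer ({v} : Set G)).relIndex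
        (normalizer ((zpowers v : Subgroup G) : Set G)) = 2 := by
      rcases Nat.prime_two.eq_one_or_self_of_dvd _ (by simpa using hle) with h | h
      · exact absurd h hne
      · exact h
    rw [h2] at hN
    have := card_subgroup_dvd_card (normalizer ((zpowers v : Subgroup G) : Set G))
    rw [hN, hn] at this
    omega

/-- A Sylow 3-subgroup is self-centralizing. -/
theorem centralizer_sylow_three (hn : Nat.card G = 2520) (hG : ¬ IsMulCommutative G)
    (Q : Sylow 3 G) : centralizer ((Q : Subgroup G) : Set G) = Q := by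
  haveI : Fact (Nat.Prime 2) := ⟨Nat.prime_two⟩
  have hle : ∀ Q : Sylow 3 G, (Q : Subgroup G) ≤ centralizer ((Q : Subgroup G) : Set G) :=
    fun Q a ha => mem_centralizer_iff.2 fun b hb => comm_sylow_three hn Q b hb a ha
  have hn70 : ¬ Nat.card (Sylow 3 G) ≡ 1 [MOD 3 ^ 2] := by
    obtain ⟨P⟩ := Sylow.nonempty (p := 3) (G := G)
    have h := card_sylow_mul_normalizer P
    rw [card_normalizer_three hn hG P, hn] at h
    rw [show Nat.card (Sylow 3 G) = 70 by omega]
    decide
  obtain ⟨D, P, R, hPR, hD, hDP, hDR, -, -⟩ :=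
    exists_two_sylow_normalizer (p := 3) (a := 1) (m := 280) (by rw [hn]; norm_num) (by norm_num) hn70
  rw [pow_one] at hD
  obtain ⟨⟨v, hvD⟩, hv3⟩ := exists_prime_orderOf_dvd_card' (G := D) 3 (by rw [hD])
  rw [orderOf_mk] at hv3
  have hv1 : v ≠ 1 := fun h => by rw [h, orderOf_one] at hv3; omega
  set N := normalizer ((P : Subgroup G) : Set G) with hNdef
  have hN : Nat.card N = 36 := card_normalizer_three hn hG P
  set C := centralizer ((P : Subgroup G) : Set G) with hCdef
  have hCN : C ≤ N := centralizer_le_normalizer _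
  have hC : Nat.card C = 9 := by
    by_contra hne
    have h1 := card_normalizer_eq_mul (P : Subgroup G)
    rw [← hNdef, ← hCdef, hN] at h1
    have hr := one_lt_relIndex_centralizer hG P (hn.symm ▸ by norm_num : 3 ∣ Nat.card G)
    rw [← hNdef, ← hCdef] at hr
    obtain ⟨k, hk⟩ := card_sylow_three hn P ▸ card_dvd_of_le (hle P)
    have hk2 : Nat.card C = 18 ∧ C.relIndex N = 2 := by
      set r := C.relIndex N
      rw [← hCdef] at hk
      rw [hk] at h1 hne ⊢
      have hk1 : k ≠ 1 := fun h => hne (by omega)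
      have hk0 : k ≠ 0 := fun h => by rw [h] at h1; omega
      have h4 : k * r = 4 := by nlinarith
      have : k ≤ 2 := by nlinarith
      obtain rfl : k = 2 := by omega
      omega
    obtain ⟨r, hrN, hrC⟩ : ∃ r ∈ N, r ∉ C := by
      by_contra h
      push Not at h
      have := card_dvd_of_le (h : N ≤ C)
      have := Nat.le_of_dvd Nat.card_pos this
      omega
    have hsq : r * r ∈ C := by
      have := mul_self_mem_of_index_two (H := C.subgroupOf N) hk2.2 ⟨r, hrN⟩
      exact mem_subgroupOf.1 this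
    have hinv : ∀ x ∈ (P : Subgroup G), r * x * r⁻¹ = x⁻¹ := by
      intro x hx
      have hx' : r * x * r⁻¹ ∈ (P : Subgroup G) := (mem_normalizer_iff.1 hrN x).1 hx
      have hw : x * (r * x * r⁻¹) = 1 := by
        haveI : IsMulCommutative (P : Subgroup G) :=
          IsPGroup.isMulCommutative_of_card_eq_prime_sq (p := 3) ((card_sylow_three hn P).trans (by norm_num))
        refine H86.PerfectSylow.eq_one_of_fixed (commutator_eq_top hG) P (mul_mem hx hx') ?_
        intro n hnN
        set w := x * (r * x * r⁻¹) with hw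
        have hwC : ∀ c ∈ C, c * w * c⁻¹ = w := fun c hc => by
          rw [← mem_centralizer_iff.1 hc w (mul_mem hx hx')]; group
        have hwr : r * w * r⁻¹ = w := by
          have e : r * r * x * (r * r)⁻¹ = x := by
            rw [← mem_centralizer_iff.1 hsq x hx]; group
          calc r * w * r⁻¹ = (r * x * r⁻¹) * (r * r * x * (r * r)⁻¹) := by rw [hw]; group
            _ = w := by rw [e, hw, comm_sylow_three hn P _ hx' _ hx]
        by_cases hnC : n ∈ C
        · exact hwC n hnC
        · have hnr : r⁻¹ * n ∈ C := by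
            have := (Subgroup.mul_mem_iff_of_index_two (H := C.subgroupOf N) hk2.2
              (a := (⟨r, hrN⟩ : N)⁻¹) (b := ⟨n, hnN⟩)).2 (by
                simp only [inv_mem_iff, mem_subgroupOf]; exact iff_of_false hrC hnC)
            exact mem_subgroupOf.1 this
          calc n * w * n⁻¹ = r * ((r⁻¹ * n) * w * (r⁻¹ * n)⁻¹) * r⁻¹ := by group
            _ = w := by rw [hwC _ hnr, hwr]
      exact eq_inv_of_mul_eq_one_right hw
    have h18 : Nat.card (N ⊓ centralizer {v} : Subgroup G) = 18 := by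
      have hsub : C ≤ N ⊓ centralizer {v} :=
        le_inf hCN (centralizer_le (Set.singleton_subset_iff.2 (hDP hvD)))
      have h2 := card_dvd_of_le hsub
      have h3 := card_dvd_of_le (inf_le_left : N ⊓ centralizer {v} ≤ N)
      rw [hk2.1] at h2
      rw [hN] at h3
      have h4 : Nat.card (N ⊓ centralizer {v} : Subgroup G) ≠ 36 := by
        intro h36
        have he : N ⊓ centralizer {v} = N := eq_of_le_of_card_ge inf_le_left (by rw [h36, hN])
        have h5 := mem_centralizer_singleton_iff.1 ((inf_eq_left.1 he) hrN)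
        have h6 := hinv v (hDP hvD)
        rw [h5, mul_assoc, mul_inv_cancel, mul_one] at h6
        have : v * v = 1 := by nth_rewrite 1 [h6]; exact inv_mul_cancel v
        have := orderOf_dvd_of_pow_eq_one (show v ^ 2 = 1 by rwa [pow_two])
        rw [hv3] at this
        omega
      obtain ⟨j, hj⟩ := h2
      rw [hj] at h3 h4 ⊢
      have hj2 : j ∣ 2 := Nat.dvd_of_mul_dvd_mul_left (k := 18) (by norm_num) h3
      rcases (Nat.dvd_prime Nat.prime_two).1 hj2 with rfl | rfl
      · rfl
      · exact absurd rfl h4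
    obtain ⟨h1, -⟩ := centralizer_line hn hG P (hDP hvD) hv3 h18 (hinv v (hDP hvD))
    have := one_lt_card_sylow_of_le (M := centralizer {v}) hPR
      (le_centralizer_of_mem hn (hDP hvD)) (le_centralizer_of_mem hn (hDR hvD))
    omega
  -- transport to any Sylow subgroup
  have hP : C = P := (eq_of_le_of_card_ge (hle P) (by rw [card_sylow_three hn P, ← hCdef, hC])).symm
  refine le_antisymm ?_ (hle Q)
  obtain ⟨g, rfl⟩ := MulAction.exists_smul_eq G P Q
  intro z hz
  have hzP : g⁻¹ * z * g ∈ C := mem_centralizer_iff.2 fun x hx => by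
    have h := mem_centralizer_iff.1 hz (g * x * g⁻¹) (by
      show g * x * g⁻¹ ∈ ((g • P : Sylow 3 G) : Subgroup G)
      rw [mem_smul_sylow_iff, show g⁻¹ * (g * x * g⁻¹) * g = x by group]
      exact hx)
    calc x * (g⁻¹ * z * g) = g⁻¹ * ((g * x * g⁻¹) * z) * g := by group
      _ = g⁻¹ * (z * (g * x * g⁻¹)) * g := by rw [h]
      _ = g⁻¹ * z * g * x := by group
  rw [hP] at hzP
  rw [mem_smul_sylow_iff]
  exact hzP

/-- Two commuting involutions of `N(P)`, the first centralizing and the second inverting `v`. -/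
theorem centralizer_involution_line (hn : Nat.card G = 2520) (hG : ¬ IsMulCommutative G)
    (P : Sylow 3 G) {z r v : G} (hz : z ∈ normalizer ((P : Subgroup G) : Set G))
    (hz2 : orderOf z = 2) (hr : r ∈ normalizer ((P : Subgroup G) : Set G)) (hr2 : orderOf r = 2)
    (hzr : z * r = r * z) (hzr' : z ≠ r) (hv : v ∈ (P : Subgroup G)) (hv3 : orderOf v = 3)
    (hzv : z * v = v * z) (hrv : r * v * r⁻¹ = v⁻¹) :
    centralizer {z} ≤ normalizer ((P : Subgroup G) : Set G) ∧
      ∀ x ∈ (P : Subgroup G), z * x = x * z → x ∈ zpowers v := by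
  classical
  haveI : Fact (Nat.Prime 2) := ⟨Nat.prime_two⟩
  set N := normalizer ((P : Subgroup G) : Set G) with hNdef
  have hN : Nat.card N = 36 := card_normalizer_three hn hG P
  have hzC : z ∉ (P : Subgroup G) := fun h => by
    have := Subgroup.orderOf_dvd_natCard _ h
    rw [hz2, card_sylow_three hn P] at this
    omega
  have hvN : v ∈ N := le_normalizer hv
  have hzc : z ∈ centralizer ({v} : Set G) := mem_centralizer_singleton_iff.2 hzv
  have hv1 : v⁻¹ ≠ v := fun h => by
    have := orderOf_dvd_of_pow_eq_one (show v ^ 2 = 1 by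
      rw [pow_two]; nth_rewrite 1 [← h]; exact inv_mul_cancel v)
    rw [hv3] at this
    omega
  have hrc : r ∉ centralizer ({v} : Set G) := fun h => by
    rw [mem_centralizer_singleton_iff.1 h, mul_assoc, mul_inv_cancel, mul_one] at hrv
    exact hv1 hrv.symm
  have h18 : Nat.card (N ⊓ centralizer {v} : Subgroup G) = 18 := by
    set H := N ⊓ centralizer {v}
    have h2 : 2 ∣ Nat.card H := hz2 ▸ Subgroup.orderOf_dvd_natCard H ⟨hz, hzc⟩
    have h9 : 9 ∣ Nat.card H := card_sylow_three hn P ▸
      card_dvd_of_le (le_inf le_normalizer (le_centralizer_of_mem hn hv) : (P : Subgroup G) ≤ H)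
    have h3 : Nat.card H ∣ 36 := hN ▸ card_dvd_of_le inf_le_left
    have h4 : Nat.card H ≠ 36 := fun h36 => hrc
      ((inf_eq_left.1 (eq_of_le_of_card_ge (inf_le_left : H ≤ N) (by rw [h36, hN]))) hr)
    obtain ⟨j, hj⟩ : 18 ∣ Nat.card H := Nat.Coprime.mul_dvd_of_dvd_of_dvd (by norm_num) h2 h9
    rw [hj] at h3 h4 ⊢
    have hj2 : j ∣ 2 := Nat.dvd_of_mul_dvd_mul_left (k := 18) (by norm_num) h3
    rcases (Nat.dvd_prime Nat.prime_two).1 hj2 with rfl | rfl
    · rfl
    · exact absurd rfl h4
  obtain ⟨-, hCv⟩ := centralizer_line hn hG P hv hv3 h18 hrv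
  -- the normalizer of `⟨v⟩`
  have hNv : normalizer ((zpowers v : Subgroup G) : Set G) ≤ N := by
    intro g hg
    have hgC : ∀ c ∈ centralizer ({v} : Set G), g * c * g⁻¹ ∈ centralizer ({v} : Set G) := by
      intro c hc
      rw [← centralizer_zpowers] at hc ⊢
      refine mem_centralizer_iff.2 fun x hx => ?_
      have hx' : g⁻¹ * x * g ∈ zpowers v := (mem_normalizer_iff''.1 hg x).1 hx
      have h := mem_centralizer_iff.1 hc _ hx'
      calc x * (g * c * g⁻¹) = g * ((g⁻¹ * x * g) * c) * g⁻¹ := by group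
        _ = g * (c * (g⁻¹ * x * g)) * g⁻¹ := by rw [h]
        _ = g * c * g⁻¹ * x := by group
    have key : ∀ a ∈ (P : Subgroup G), g * a * g⁻¹ ∈ (P : Subgroup G) := fun a ha => by
      refine mem_sylow_of_pow P (hCv (hgC a (le_centralizer_of_mem hn hv ha))) (k := 2) ?_
      rw [conj_pow, show a ^ (3 ^ 2) = 1 from orderOf_dvd_iff_pow_eq_one.1
        ((Subgroup.orderOf_dvd_natCard _ ha).trans (card_sylow_three hn P).dvd), mul_one,
        mul_inv_cancel]
    have hfin : (P : Subgroup G).map (MulAut.conj g).toMonoidHom = P :=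
      eq_of_le_of_card_ge (by rintro _ ⟨a, ha, rfl⟩; exact key a ha)
        (le_of_eq (card_map_of_injective (MulAut.conj g).injective).symm)
    refine mem_normalizer_iff.2 fun a => ⟨key a, fun ha => ?_⟩
    rw [← hfin] at ha
    obtain ⟨b, hb, e⟩ := ha
    exact (MulAut.conj g).injective e ▸ hb
  -- the centralizer of `z`
  set K := centralizer ({z} : Set G) with hKdef
  have hvK : v ∈ K := mem_centralizer_singleton_iff.2 hzv.symm
  have hrK : r ∈ K := mem_centralizer_singleton_iff.2 hzr.symm
  have hzK : z ∈ K := mem_centralizer_singleton_iff.2 rfl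
  have h9 : ¬ 9 ∣ Nat.card K := by
    intro h
    obtain ⟨Q, hQ⟩ := Sylow.exists_subgroup_card_pow_prime (G := K) 3 (n := 2) (by simpa using h)
    have hcard : Nat.card (Q.map K.subtype) = 9 := by
      rw [card_map_of_injective K.subtype_injective, hQ]; norm_num
    obtain ⟨S, hS⟩ := (IsPGroup.of_card (n := 2) hcard : IsPGroup 3 (Q.map K.subtype)).exists_le_sylow
    have hSe : Q.map K.subtype = S := eq_of_le_of_card_ge hS
      (by rw [hcard, card_sylow_three hn S])
    have hzS : z ∈ centralizer ((S : Subgroup G) : Set G) := mem_centralizer_iff.2 fun x hx => by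
      have hxK : x ∈ K := map_subtype_le Q (hSe ▸ hx)
      exact mem_centralizer_singleton_iff.1 hxK
    rw [centralizer_sylow_three hn hG S] at hzS
    have := Subgroup.orderOf_dvd_natCard _ hzS
    rw [hz2, card_sylow_three hn S] at this
    omega
  obtain ⟨h5, h7⟩ := not_dvd_card_centralizer hn hG (Or.inl hz2)
  rw [← hKdef] at h5 h7
  have hK24 : Nat.card K ∣ 24 := by
    have hdvd : Nat.card K ∣ 2520 := hn ▸ card_subgroup_dvd_card _
    have hc35 : (Nat.card K).Coprime 35 := Nat.Coprime.mul_right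
      (((Nat.prime_five).coprime_iff_not_dvd.2 h5).symm)
      (((show Nat.Prime 7 by norm_num).coprime_iff_not_dvd.2 h7).symm)
    have h72 : Nat.card K ∣ 72 := hc35.dvd_of_dvd_mul_right (show Nat.card K ∣ 72 * 35 from hdvd)
    have key : ∀ a ∈ List.range 73, a ∣ 72 → ¬ 9 ∣ a → a ∣ 24 := by decide +kernel
    exact key _ (List.mem_range.2 (Nat.lt_succ_of_le (Nat.le_of_dvd (by norm_num) h72))) h72 h9
  set W := (zpowers v).subgroupOf K with hWdef
  have hW : Nat.card W = 3 := by
    rw [Nat.card_congr (subgroupOfEquivOfLe (zpowers_le.2 hvK)).toEquiv, Nat.card_zpowers, hv3]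
  have hWn : W.Normal := by
    obtain ⟨Q, hQ⟩ := (IsPGroup.of_card (n := 1) (by rw [hW, pow_one]) :
      IsPGroup 3 W).exists_le_sylow
    have hQ3 : Nat.card (Q : Subgroup K) = 3 := by
      obtain ⟨j, hj⟩ := IsPGroup.iff_card.1 Q.isPGroup'
      have h1 : 3 ^ j ∣ 24 := hj ▸ (card_subgroup_dvd_card (Q : Subgroup K)).trans hK24
      have hj1 : j < 2 := by
        by_contra hlt
        exact absurd ((pow_dvd_pow 3 (not_lt.1 hlt)).trans h1) (by norm_num)
      have hj0 : 3 ∣ 3 ^ j := by
        have := card_dvd_of_le hQ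
        rwa [hW, hj] at this
      obtain rfl | rfl : j = 0 ∨ j = 1 := by omega
      · norm_num at hj0
      · simpa using hj
    have hWQ : W = Q := eq_of_le_of_card_ge hQ (by rw [hW, hQ3])
    have hmul := card_sylow_mul_normalizer Q
    have hNK : 12 ∣ Nat.card (normalizer ((Q : Subgroup K) : Set K)) := by
      refine Nat.Coprime.mul_dvd_of_dvd_of_dvd (show Nat.Coprime 4 3 by norm_num) ?_
        (by have := card_dvd_of_le (le_normalizer (H := (Q : Subgroup K))); rwa [hQ3] at this)
      have hmem : ∀ x : K, (x : G) * v * (x : G)⁻¹ ∈ zpowers v →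
          x ∈ normalizer ((Q : Subgroup K) : Set K) := by
        intro x hx
        rw [← hWQ, hWdef]
        have hmap : (zpowers v).map (MulAut.conj (x : G)).toMonoidHom = zpowers v := by
          refine eq_of_le_of_card_ge ?_ (le_of_eq (card_map_of_injective (MulAut.conj (x : G)).injective).symm)
          rw [MonoidHom.map_zpowers]
          exact zpowers_le.2 hx
        refine mem_normalizer_iff.2 fun y => ?_
        simp only [mem_subgroupOf, coe_mul, InvMemClass.coe_inv]
        constructor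
        · intro hy; rw [← hmap]; exact ⟨_, hy, rfl⟩
        · intro hy
          rw [← hmap] at hy
          obtain ⟨b, hb, e⟩ := hy
          exact (MulAut.conj (x : G)).injective e ▸ hb
      let A := H41.card_sup_of_commute (zpowers (⟨z, hzK⟩ : K)) (zpowers (⟨r, hrK⟩ : K))
        (fun a ha b hb => by
          obtain ⟨i, rfl⟩ := mem_zpowers_iff.1 ha
          obtain ⟨j, rfl⟩ := mem_zpowers_iff.1 hb
          exact (Commute.zpow_zpow (show Commute (⟨z, hzK⟩ : K) ⟨r, hrK⟩ from Subtype.ext hzr) i j))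
        (by
          rw [eq_bot_iff]
          rintro x ⟨hx1, hx2⟩
          rw [mem_bot]
          by_contra hne
          have e1 : zpowers x = zpowers (⟨z, hzK⟩ : K) := eq_of_le_of_card_ge (zpowers_le.2 hx1) (by
            rw [Nat.card_zpowers, orderOf_mk, hz2]
            exact (Finite.one_lt_card_iff_nontrivial).2 ((nontrivial_iff_ne_bot _).2 (by simpa using hne)))
          have e2 : zpowers x = zpowers (⟨r, hrK⟩ : K) := eq_of_le_of_card_ge (zpowers_le.2 hx2) (by
            rw [Nat.card_zpowers, orderOf_mk, hr2]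
            exact (Finite.one_lt_card_iff_nontrivial).2 ((nontrivial_iff_ne_bot _).2 (by simpa using hne)))
          have e3 : (⟨r, hrK⟩ : K) ∈ zpowers (⟨z, hzK⟩ : K) := by rw [← e1, e2]; exact mem_zpowers _
          obtain ⟨i, hi, e4⟩ := (mem_zpowers_iff_mem_range_orderOf (x := (⟨z, hzK⟩ : K))).1 e3 |>
            Finset.mem_image.1
          rw [orderOf_mk, hz2, Finset.mem_range] at hi
          interval_cases i
          · rw [pow_zero] at e4
            have : r = 1 := congrArg Subtype.val e4.symm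
            rw [this, orderOf_one] at hr2
            omega
          · rw [pow_one] at e4
            exact hzr' (congrArg Subtype.val e4))
      rw [Nat.card_zpowers, Nat.card_zpowers, orderOf_mk, orderOf_mk, hz2, hr2] at A
      refine (show 2 * 2 = 4 from rfl) ▸ A ▸ card_dvd_of_le (sup_le (zpowers_le.2 (hmem _ ?_))
        (zpowers_le.2 (hmem _ ?_)))
      · show z * v * z⁻¹ ∈ zpowers v
        rw [hzv]; simp
      · show r * v * r⁻¹ ∈ zpowers v
        rw [hrv]; exact inv_mem (mem_zpowers v)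
    have h1 : Nat.card (Sylow 3 K) = 1 := by
      have hmod := card_sylow_modEq_one 3 K
      rw [Nat.ModEq] at hmod
      obtain ⟨j, hj⟩ := hNK
      rw [hj] at hmul
      have := Nat.le_of_dvd (by norm_num) hK24
      have hpos := Nat.card_pos (α := K)
      have hS := Nat.card_pos (α := Sylow 3 K)
      have : Nat.card (Sylow 3 K) * (12 * j) ≥ Nat.card (Sylow 3 K) * 12 := by
        refine Nat.mul_le_mul_left _ ?_
        rcases Nat.eq_zero_or_pos j with rfl | h
        · simp at hmul; omega
        · omega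
      omega
    haveI := (Nat.card_eq_one_iff_unique.1 h1).1
    rw [hWQ]
    exact Q.normal_of_subsingleton
  have hKN : K ≤ N := by
    refine le_trans ?_ hNv
    exact (normal_subgroupOf_iff_le_normalizer (zpowers_le.2 hvK)).1 hWn
  refine ⟨hKN, fun x hx hzx => ?_⟩
  have hxK : x ∈ K := mem_centralizer_singleton_iff.2 hzx.symm
  set A := (P : Subgroup G) ⊓ K
  have hA : zpowers v = A := by
    refine eq_of_le_of_card_ge (le_inf (zpowers_le.2 hv) (zpowers_le.2 hvK)) ?_
    rw [Nat.card_zpowers, hv3]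
    have h1 : Nat.card A ∣ 9 := card_sylow_three hn P ▸ card_dvd_of_le inf_le_left
    have h2 : Nat.card A ∣ 24 := (card_dvd_of_le inf_le_right).trans hK24
    exact Nat.le_of_dvd (by norm_num) (Nat.dvd_gcd h1 h2)
  exact hA.symm ▸ ⟨hx, hxK⟩

/-- An involution normalizing a Sylow 3-subgroup fixes none of its non-trivial elements. -/
theorem eq_one_of_commute (hn : Nat.card G = 2520) (hG : ¬ IsMulCommutative G) (P : Sylow 3 G)
    {z : G} (hz : z ∈ normalizer ((P : Subgroup G) : Set G)) (hz2 : orderOf z = 2) {v : G}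
    (hv : v ∈ (P : Subgroup G)) (hzv : z * v = v * z) : v = 1 := by
  classical
  haveI : Fact (Nat.Prime 2) := ⟨Nat.prime_two⟩
  by_contra hv1
  set N := normalizer ((P : Subgroup G) : Set G) with hNdef
  have hN : Nat.card N = 36 := card_normalizer_three hn hG P
  have hP9 : ∀ x ∈ (P : Subgroup G), x ^ 9 = 1 := fun x hx =>
    orderOf_dvd_iff_pow_eq_one.1 ((Subgroup.orderOf_dvd_natCard _ hx).trans (card_sylow_three hn P).dvd)
  have hzz : z * z = 1 := by rw [← pow_two, ← hz2, pow_orderOf_eq_one]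
  have hzinv : z⁻¹ = z := inv_eq_of_mul_eq_one_right hzz
  -- `z` does not centralize `P`
  have hzC : ¬ ∀ x ∈ (P : Subgroup G), z * x = x * z := fun h => by
    have h1 : z ∈ centralizer ((P : Subgroup G) : Set G) :=
      mem_centralizer_iff.2 fun x hx => (h x hx).symm
    rw [centralizer_sylow_three hn hG P] at h1
    have := Subgroup.orderOf_dvd_natCard _ h1
    rw [hz2, card_sylow_three hn P] at this
    omega
  have horder : ∀ x ∈ (P : Subgroup G), x ≠ 1 → (z * x = x * z ∨ z * x * z⁻¹ = x⁻¹) →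
      orderOf x = 3 := by
    intro x hx hx1 hc
    have h9 : orderOf x ∣ 3 ^ 2 := orderOf_dvd_of_pow_eq_one (hP9 x hx)
    obtain ⟨j, hj, hje⟩ := (Nat.dvd_prime_pow Nat.prime_three).1 h9
    interval_cases j
    · rw [pow_zero] at hje; exact absurd (orderOf_eq_one_iff.1 hje) hx1
    · simpa using hje
    · exfalso
      have htop : zpowers x = P := eq_of_le_of_card_ge (zpowers_le.2 hx)
        (by rw [Nat.card_zpowers, hje, card_sylow_three hn P]; norm_num)
      rcases hc with hc | hc
      · refine hzC fun y hy => ?_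
        rw [← htop] at hy
        obtain ⟨i, rfl⟩ := mem_zpowers_iff.1 hy
        exact (Commute.zpow_right hc i)
      · rw [← htop] at hv
        obtain ⟨i, rfl⟩ := mem_zpowers_iff.1 hv
        have h1 : z * x ^ i * z⁻¹ = (x ^ i)⁻¹ := by rw [← conj_zpow, hc, inv_zpow]
        rw [hzv, mul_assoc, mul_inv_cancel, mul_one] at h1
        have h2 : (x ^ i) ^ 2 = 1 := by
          rw [pow_two]; nth_rewrite 1 [h1]; exact inv_mul_cancel _
        have h3 : orderOf (x ^ i) ∣ Nat.gcd 2 9 :=
          Nat.dvd_gcd (orderOf_dvd_of_pow_eq_one h2) (orderOf_dvd_of_pow_eq_one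
            (hP9 _ (zpow_mem hx i)))
        exact hv1 (orderOf_eq_one_iff.1 (Nat.dvd_one.1 (by simpa using h3)))
  have hv3 : orderOf v = 3 := horder v hv hv1 (Or.inl hzv)
  obtain ⟨w, hw, hw1, hzw⟩ : ∃ w ∈ (P : Subgroup G), w ≠ 1 ∧ z * w * z⁻¹ = w⁻¹ := by
    push Not at hzC
    obtain ⟨x, hx, hzx⟩ := hzC
    have hx' : z * x * z⁻¹ ∈ (P : Subgroup G) := (mem_normalizer_iff.1 hz x).1 hx
    refine ⟨x * (z * x * z⁻¹)⁻¹, mul_mem hx (inv_mem hx'), fun h => hzx ?_, ?_⟩
    · have : x = z * x * z⁻¹ := mul_inv_eq_one.1 h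
      nth_rewrite 2 [this]
      group
    · have e : z * (z * x * z⁻¹) * z⁻¹ = x := by
        rw [hzinv, show z * (z * x * z) * z = (z * z) * x * (z * z) by group, hzz, one_mul, mul_one]
      calc z * (x * (z * x * z⁻¹)⁻¹) * z⁻¹
          = (z * x * z⁻¹) * (z * (z * x * z⁻¹) * z⁻¹)⁻¹ := by group
        _ = (x * (z * x * z⁻¹)⁻¹)⁻¹ := by rw [e]; group
  have hw3 : orderOf w = 3 := horder w hw hw1 (Or.inr hzw)
  have hinvne : ∀ {x : G}, orderOf x = 3 → x⁻¹ ≠ x := fun {x} hx h => by
    have := orderOf_dvd_of_pow_eq_one (show x ^ 2 = 1 by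
      rw [pow_two]; nth_rewrite 1 [← h]; exact inv_mul_cancel x)
    rw [hx] at this
    omega
  have hvw : zpowers v ⊓ zpowers w = ⊥ := by
    rw [eq_bot_iff]
    rintro x ⟨hx1, hx2⟩
    rw [mem_bot]
    obtain ⟨i, rfl⟩ := mem_zpowers_iff.1 hx1
    obtain ⟨j, hj⟩ := mem_zpowers_iff.1 hx2
    have h1 : z * v ^ i * z⁻¹ = v ^ i := by
      rw [(Commute.zpow_right hzv i).eq, mul_assoc, mul_inv_cancel, mul_one]
    have h2 : z * w ^ j * z⁻¹ = (w ^ j)⁻¹ := by rw [← conj_zpow, hzw, inv_zpow]
    rw [hj, h1] at h2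
    by_contra hne
    refine hinvne (horder (v ^ i) (zpow_mem hv i) hne (Or.inl (Commute.zpow_right hzv i).eq)) h2.symm
  have hspan : zpowers v ⊔ zpowers w = (P : Subgroup G) := by
    refine eq_of_le_of_card_ge (sup_le (zpowers_le.2 hv) (zpowers_le.2 hw)) ?_
    rw [H41.card_sup_of_commute _ _ (fun a ha b hb => comm_sylow_three hn P a
      (zpowers_le.2 hv ha) b (zpowers_le.2 hw hb)) hvw, Nat.card_zpowers, Nat.card_zpowers, hv3,
      hw3, card_sylow_three hn P]
  have hdec : ∀ x ∈ (P : Subgroup G), ∃ a ∈ zpowers v, ∃ b ∈ zpowers w, a * b = x := by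
    intro x hx
    rw [← hspan] at hx
    haveI : IsMulCommutative (P : Subgroup G) :=
      IsPGroup.isMulCommutative_of_card_eq_prime_sq (p := 3) ((card_sylow_three hn P).trans (by norm_num))
    have hle : zpowers w ≤ normalizer ((zpowers v : Subgroup G) : Set G) :=
      le_trans (fun b hb => mem_centralizer_iff.2 fun a ha => comm_sylow_three hn P a
        (zpowers_le.2 hv ha) b (zpowers_le.2 hw hb)) (centralizer_le_normalizer _)
    rw [← SetLike.mem_coe, coe_mul_of_right_le_normalizer_left _ _ hle] at hx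
    obtain ⟨a, ha, b, hb, e⟩ := hx
    exact ⟨a, ha, b, hb, e⟩
  have hcent : ∀ s : G, s * v = v * s → s * w = w * s →
      s ∈ centralizer ((P : Subgroup G) : Set G) := by
    intro s h1 h2
    refine mem_centralizer_iff.2 fun x hx => ?_
    obtain ⟨a, ha, b, hb, rfl⟩ := hdec x hx
    obtain ⟨i, rfl⟩ := mem_zpowers_iff.1 ha
    obtain ⟨j, rfl⟩ := mem_zpowers_iff.1 hb
    exact ((Commute.zpow_right h1 i).mul_right (Commute.zpow_right h2 j)).eq.symm
  -- a four-group of `N(P)` through `z`
  obtain ⟨R, hzR, hRN, hR⟩ : ∃ R : Subgroup G, z ∈ R ∧ R ≤ N ∧ Nat.card R = 4 := by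
    have hp : IsPGroup 2 (zpowers (⟨z, hz⟩ : N)) := IsPGroup.of_card (n := 1)
      (by rw [Nat.card_zpowers, orderOf_mk, hz2, pow_one])
    obtain ⟨S, hS⟩ := hp.exists_le_sylow
    refine ⟨(S : Subgroup N).map N.subtype, ⟨⟨z, hz⟩, hS (mem_zpowers _), rfl⟩,
      map_subtype_le _, ?_⟩
    rw [card_map_of_injective N.subtype_injective]
    simpa using card_sylow_eq (a := 2) (m := 9) hN S (by norm_num) (by norm_num)
  have hRc : ∀ a ∈ R, ∀ b ∈ R, a * b = b * a := comm_of_card_eq_sq (p := 2) (hR.trans (by norm_num))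
  have hR9 : ∀ s ∈ R, s ∈ centralizer ((P : Subgroup G) : Set G) → s = 1 := fun s hs hc => by
    rw [centralizer_sylow_three hn hG P] at hc
    have h1 := Subgroup.orderOf_dvd_natCard _ hs
    have h2 := Subgroup.orderOf_dvd_natCard _ hc
    rw [hR] at h1
    rw [card_sylow_three hn P] at h2
    exact orderOf_eq_one_iff.1 (Nat.dvd_one.1 ((show Nat.gcd 4 9 = 1 by norm_num) ▸ Nat.dvd_gcd h1 h2))
  have hact : ∀ s ∈ R, (s * v * s⁻¹ = v ∨ s * v * s⁻¹ = v⁻¹) ∧
      (s * w * s⁻¹ = w ∨ s * w * s⁻¹ = w⁻¹) := by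
    intro s hs
    have hsv : s * v * s⁻¹ ∈ (P : Subgroup G) := (mem_normalizer_iff.1 (hRN hs) v).1 hv
    have hsw : s * w * s⁻¹ ∈ (P : Subgroup G) := (mem_normalizer_iff.1 (hRN hs) w).1 hw
    have hsz := hRc s hs z hzR
    have ev : z * (s * v * s⁻¹) * z⁻¹ = s * v * s⁻¹ := by
      calc z * (s * v * s⁻¹) * z⁻¹ = (z * s) * v * (z * s)⁻¹ := by group
        _ = (s * z) * v * (s * z)⁻¹ := by rw [hsz]
        _ = s * (z * v * z⁻¹) * s⁻¹ := by group
        _ = s * v * s⁻¹ := by rw [hzv]; group
    have ew : z * (s * w * s⁻¹) * z⁻¹ = (s * w * s⁻¹)⁻¹ := by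
      calc z * (s * w * s⁻¹) * z⁻¹ = (z * s) * w * (z * s)⁻¹ := by group
        _ = (s * z) * w * (s * z)⁻¹ := by rw [hsz]
        _ = s * (z * w * z⁻¹) * s⁻¹ := by group
        _ = (s * w * s⁻¹)⁻¹ := by rw [hzw]; group
    have hmem3 : ∀ (u : G), orderOf u = 3 → ∀ x ∈ zpowers u, x ≠ 1 → x = u ∨ x = u⁻¹ := by
      intro u hu x hx hx1
      have := (mem_zpowers_iff_mem_range_orderOf (x := u)).1 hx
      obtain ⟨i, hi, rfl⟩ := Finset.mem_image.1 this
      rw [hu, Finset.mem_range] at hi
      interval_cases i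
      · exact absurd (pow_zero u) hx1
      · left; exact pow_one u
      · right
        refine eq_inv_of_mul_eq_one_left ?_
        rw [← pow_succ]
        simpa [hu] using pow_orderOf_eq_one u
    constructor
    · obtain ⟨a, ha, b, hb, e⟩ := hdec _ hsv
      rw [← e] at ev
      obtain ⟨i, rfl⟩ := mem_zpowers_iff.1 ha
      obtain ⟨j, rfl⟩ := mem_zpowers_iff.1 hb
      have h1 : z * (v ^ i * w ^ j) * z⁻¹ = v ^ i * (w ^ j)⁻¹ := by
        rw [← inv_zpow, ← hzw, conj_zpow]
        have := (Commute.zpow_right hzv i).eq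
        calc z * (v ^ i * w ^ j) * z⁻¹ = (z * v ^ i) * w ^ j * z⁻¹ := by group
          _ = v ^ i * (z * w ^ j * z⁻¹) := by rw [this]; group
      rw [ev] at h1
      have hwj : w ^ j = 1 := by
        have h2 := mul_left_cancel h1
        by_contra hne
        exact hinvne (horder _ (zpow_mem hw j) hne
          (Or.inr (by rw [← conj_zpow, hzw, inv_zpow]))) h2.symm
      rw [hwj, mul_one] at e
      exact hmem3 v hv3 _ (e ▸ ha) fun h => hv1 (conj_eq_one_iff.1 h)
    · obtain ⟨a, ha, b, hb, e⟩ := hdec _ hsw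
      rw [← e] at ew
      obtain ⟨i, rfl⟩ := mem_zpowers_iff.1 ha
      obtain ⟨j, rfl⟩ := mem_zpowers_iff.1 hb
      have h1 : z * (v ^ i * w ^ j) * z⁻¹ = v ^ i * (w ^ j)⁻¹ := by
        rw [← inv_zpow, ← hzw, conj_zpow]
        have := (Commute.zpow_right hzv i).eq
        calc z * (v ^ i * w ^ j) * z⁻¹ = (z * v ^ i) * w ^ j * z⁻¹ := by group
          _ = v ^ i * (z * w ^ j * z⁻¹) := by rw [this]; group
      rw [ew, mul_inv_rev, comm_sylow_three hn P _ (inv_mem (zpow_mem hw j)) _
        (inv_mem (zpow_mem hv i))] at h1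
      have hvi : v ^ i = 1 := by
        have h2 := mul_right_cancel h1
        by_contra hne
        exact hinvne (horder _ (zpow_mem hv i) hne (Or.inl (Commute.zpow_right hzv i).eq)) h2
      rw [hvi, one_mul] at e
      exact hmem3 w hw3 _ (e ▸ hb) fun h => hw1 (conj_eq_one_iff.1 h)
  have hcomm_of : ∀ {s u : G}, s * u * s⁻¹ = u → s * u = u * s := fun h => mul_inv_eq_iff_eq_mul.1 h
  obtain ⟨r, hrR, hrv, hrw⟩ : ∃ r ∈ R, r * v * r⁻¹ = v⁻¹ ∧ r * w = w * r := by
    obtain ⟨s, hs, hsz⟩ : ∃ s ∈ R, s ∉ zpowers z := by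
      by_contra h
      push Not at h
      have := card_dvd_of_le (h : R ≤ zpowers z)
      rw [hR, Nat.card_zpowers, hz2] at this
      omega
    obtain ⟨h1, h2⟩ := hact s hs
    have hszR : s * z ∈ R := mul_mem hs hzR
    have eszv : (s * z) * v * (s * z)⁻¹ = s * v * s⁻¹ := by
      calc (s * z) * v * (s * z)⁻¹ = s * (z * v * z⁻¹) * s⁻¹ := by group
        _ = s * v * s⁻¹ := by rw [hzv]; group
    have eszw : (s * z) * w * (s * z)⁻¹ = (s * w * s⁻¹)⁻¹ := by
      calc (s * z) * w * (s * z)⁻¹ = s * (z * w * z⁻¹) * s⁻¹ := by group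
        _ = (s * w * s⁻¹)⁻¹ := by rw [hzw]; group
    rcases h1 with h1 | h1
    · exfalso
      rcases h2 with h2 | h2
      · exact hsz ((hR9 s hs (hcent s (hcomm_of h1) (hcomm_of h2))).symm ▸ one_mem _)
      · have h3 := hR9 _ hszR (hcent _ (hcomm_of (eszv.trans h1))
          (hcomm_of (eszw.trans (by rw [h2, inv_inv]))))
        exact hsz (by rw [eq_inv_of_mul_eq_one_left h3]; exact inv_mem (mem_zpowers z))
    · rcases h2 with h2 | h2
      · exact ⟨s, hs, h1, hcomm_of h2⟩
      · exact ⟨s * z, hszR, eszv.trans h1, hcomm_of (eszw.trans (by rw [h2, inv_inv]))⟩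
  have hrz : z ≠ r := fun h => by
    rw [← h, hzv, mul_assoc, mul_inv_cancel, mul_one] at hrv
    exact hinvne hv3 hrv.symm
  have hr2 : orderOf r = 2 := by
    refine orderOf_eq_prime (hR9 _ (pow_mem hrR 2) (hcent _ ?_ ?_)) fun h => ?_
    · have e : r ^ 2 * v * (r ^ 2)⁻¹ = v := by
        rw [show r ^ 2 * v * (r ^ 2)⁻¹ = r * (r * v * r⁻¹) * r⁻¹ by rw [pow_two]; group, hrv,
          show r * v⁻¹ * r⁻¹ = (r * v * r⁻¹)⁻¹ by group, hrv, inv_inv]
      exact hcomm_of e
    · exact (Commute.pow_left hrw 2).eq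
    · rw [h, one_mul, inv_one, mul_one] at hrv
      exact hinvne hv3 hrv.symm
  have hrN := hRN hrR
  have hzr := hRc z hzR r hrR
  obtain ⟨hCz, hPz⟩ := centralizer_involution_line hn hG P hz hz2 hrN hr2 hzr hrz hv hv3 hzv hrv
  obtain ⟨hCr, hPr⟩ :=
    centralizer_involution_line hn hG P hrN hr2 hz hz2 hzr.symm hrz.symm hw hw3 hrw hzw
  -- the centre of a Sylow 2-subgroup containing `R`
  obtain ⟨T, hT⟩ := (IsPGroup.of_card (n := 2) (hR.trans (by norm_num)) : IsPGroup 2 R).exists_le_sylow
  have hT8 : Nat.card (T : Subgroup G) = 8 := by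
    simpa using card_sylow_eq (a := 3) (m := 315) hn T (by norm_num) (by norm_num)
  have hTN : (T : Subgroup G) ⊓ N = R := by
    refine (eq_of_le_of_card_ge (le_inf hT hRN) ?_).symm
    rw [hR]
    have h1 : Nat.card ((T : Subgroup G) ⊓ N : Subgroup G) ∣ 8 := hT8 ▸ card_dvd_of_le inf_le_left
    have h2 : Nat.card ((T : Subgroup G) ⊓ N : Subgroup G) ∣ 36 := hN ▸ card_dvd_of_le inf_le_right
    exact Nat.le_of_dvd (by norm_num) (Nat.dvd_gcd h1 h2)
  have hnotle : ∀ {u : G}, centralizer {u} ≤ N → ¬ (T : Subgroup G) ≤ centralizer {u} := by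
    intro u hu h
    have := card_dvd_of_le (h.trans hu)
    rw [hT8, hN] at this
    omega
  have hRn : ∀ t ∈ (T : Subgroup G), ∀ a ∈ R, t * a * t⁻¹ ∈ R := by
    have hidx : (R.subgroupOf (T : Subgroup G)).index = 2 := by
      have h := (R.subgroupOf (T : Subgroup G)).card_mul_index
      rw [Nat.card_congr (subgroupOfEquivOfLe hT).toEquiv, hR, hT8] at h
      omega
    intro t ht a ha
    have := (normal_of_index_eq_two hidx).conj_mem ⟨a, hT ha⟩ ha ⟨t, ht⟩
    exact this
  obtain ⟨t, ht, htz⟩ : ∃ t ∈ (T : Subgroup G), t * z * t⁻¹ ≠ z := by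
    by_contra h
    push Not at h
    exact hnotle hCz fun t ht => mem_centralizer_singleton_iff.2 (hcomm_of (h t ht))
  have htzR := hRn t ht z hzR
  have hRlist : ∀ u ∈ R, u = 1 ∨ u = z ∨ u = r ∨ u = z * r := by
    intro u hu
    classical
    haveI := Fintype.ofFinite R
    by_contra hne
    push Not at hne
    have hzr1 : z * r ≠ 1 := fun h => hrz ((eq_inv_of_mul_eq_one_left h).trans
      (inv_eq_of_mul_eq_one_right (by rw [← pow_two, ← hr2, pow_orderOf_eq_one])))
    let S : Finset R := {1, ⟨z, hzR⟩, ⟨r, hrR⟩, ⟨z * r, mul_mem hzR hrR⟩, ⟨u, hu⟩}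
    have hS : S.card = 5 := by
      have hz1 : z ≠ 1 := fun h => by rw [h, orderOf_one] at hz2; omega
      have hr1 : r ≠ 1 := fun h => by rw [h, orderOf_one] at hr2; omega
      rw [Finset.card_insert_of_notMem, Finset.card_insert_of_notMem, Finset.card_insert_of_notMem,
        Finset.card_pair]
      · exact fun h => hne.2.2.2 (congrArg Subtype.val h).symm
      · simp only [Finset.mem_insert, Finset.mem_singleton, Subtype.ext_iff]
        rintro (h | h)
        · exact hz1 (mul_eq_right.1 h.symm)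
        · exact hne.2.2.1 h.symm
      · simp only [Finset.mem_insert, Finset.mem_singleton, Subtype.ext_iff]
        rintro (h | h | h)
        · exact hrz h
        · exact hr1 (mul_eq_left.1 h.symm)
        · exact hne.2.1 h.symm
      · simp only [Finset.mem_insert, Finset.mem_singleton, Subtype.ext_iff]
        rintro (h | h | h | h)
        · exact hz1 h.symm
        · exact hr1 h.symm
        · exact hzr1 h.symm
        · exact hne.1 h.symm
    have := Finset.card_le_univ S
    rw [hS, ← Nat.card_eq_fintype_card, hR] at this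
    omega
  obtain ⟨y, hyT, hy1, hycen⟩ : ∃ y ∈ (T : Subgroup G), y ≠ 1 ∧
      ∀ x ∈ (T : Subgroup G), x * y = y * x := by
    haveI : Nontrivial (T : Subgroup G) := Finite.one_lt_card_iff_nontrivial.1 (by omega)
    haveI := T.2.center_nontrivial
    obtain ⟨⟨⟨y, hyT⟩, hy⟩, hy1⟩ := exists_ne (1 : center (T : Subgroup G))
    exact ⟨y, hyT, fun h => hy1 (Subtype.ext (Subtype.ext h)),
      fun x hx => congrArg Subtype.val (mem_center_iff.1 hy ⟨x, hx⟩)⟩
  have hyR : y ∈ R := hTN ▸ ⟨hyT, hCz (mem_centralizer_singleton_iff.2 (hycen z (hT hzR)).symm)⟩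
  have hyzr : y = z * r := by
    rcases hRlist y hyR with h | h | h | h
    · exact absurd h hy1
    · exact absurd (fun x hx => mem_centralizer_singleton_iff.2 (h ▸ hycen x hx)) (hnotle hCz)
    · exact absurd (fun x hx => mem_centralizer_singleton_iff.2 (h ▸ hycen x hx)) (hnotle hCr)
    · exact h
  have htr : t * z * t⁻¹ = r := by
    rcases hRlist _ htzR with h | h | h | h
    · exact absurd (conj_eq_one_iff.1 h) (fun e => by rw [e, orderOf_one] at hz2; omega)
    · exact absurd h htz
    · exact h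
    · exfalso
      rw [← hyzr] at h
      apply htz
      have h1 : z = t⁻¹ * y * t := by rw [← h]; group
      have h2 : z = y := by rw [h1, mul_assoc, ← hycen t ht]; group
      rw [h2, hycen t ht, mul_assoc, mul_inv_cancel, mul_one]
  -- the conjugate of `v`
  set u := t * v * t⁻¹
  have hru : r * u = u * r := by
    rw [← htr]
    calc (t * z * t⁻¹) * (t * v * t⁻¹) = t * (z * v) * t⁻¹ := by group
      _ = (t * v * t⁻¹) * (t * z * t⁻¹) := by rw [hzv]; group
  have hu3 : u ^ (3 ^ 1) = 1 := by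
    rw [pow_one, conj_pow, ← hv3, pow_orderOf_eq_one, mul_one, mul_inv_cancel]
  have huP : u ∈ (P : Subgroup G) :=
    mem_sylow_of_pow P (hCr (mem_centralizer_singleton_iff.2 hru.symm)) hu3
  have huw : u ∈ zpowers w := hPr u huP hru
  haveI : IsMulCommutative (P : Subgroup G) :=
    IsPGroup.isMulCommutative_of_card_eq_prime_sq (p := 3) ((card_sylow_three hn P).trans (by norm_num))
  obtain ⟨n, hnN, hne⟩ := Sylow.conj_eq_normalizer_conj_of_mem P v t⁻¹ hv (by
    rw [inv_inv]; exact huP)
  rw [inv_inv] at hne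
  have hnv : n⁻¹ * v * n ∈ zpowers v := by
    have hle : N ≤ normalizer ((zpowers v : Subgroup G) : Set G) := by
      have hsub : (P : Subgroup G) ⊔ R ≤ normalizer ((zpowers v : Subgroup G) : Set G) := by
        refine sup_le ?_ ?_
        · exact le_trans (le_centralizer_of_mem hn hv)
            (centralizer_zpowers (G := G) v ▸ centralizer_le_normalizer _)
        · intro s hs
          have hcs : s * v * s⁻¹ ∈ zpowers v := by
            rcases (hact s hs).1 with h | h <;> rw [h]
            · exact mem_zpowers v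
            · exact inv_mem (mem_zpowers v)
          have hmap : (zpowers v).map (MulAut.conj s).toMonoidHom = zpowers v := by
            refine eq_of_le_of_card_ge ?_ (le_of_eq (card_map_of_injective (MulAut.conj s).injective).symm)
            rw [MonoidHom.map_zpowers]
            exact zpowers_le.2 hcs
          refine mem_normalizer_iff.2 fun x => ⟨fun hx => hmap ▸ ⟨x, hx, rfl⟩, fun hx => ?_⟩
          rw [← hmap] at hx
          obtain ⟨b, hb, e⟩ := hx
          exact (MulAut.conj s).injective e ▸ hb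
      refine le_trans ?_ hsub
      refine (eq_of_le_of_card_ge (sup_le le_normalizer hRN) ?_).ge
      have hinf : (P : Subgroup G) ⊓ R = ⊥ := inf_eq_bot_of_coprime (by
        rw [card_sylow_three hn P, hR]; norm_num)
      have h := H31.FF.card_sup_mul_card_inf (A := (P : Subgroup G)) (B := R) hRN
      rw [hinf, card_bot, mul_one, card_sylow_three hn P, hR] at h
      rw [h, hN]
    exact (mem_normalizer_iff''.1 (hle hnN) v).1 (mem_zpowers v)
  have hu1 : u ∈ zpowers v ⊓ zpowers w := ⟨show t * v * t⁻¹ ∈ _ from hne ▸ hnv, huw⟩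
  rw [hvw, mem_bot] at hu1
  exact hv1 (conj_eq_one_iff.1 hu1)

end Cfsg.Agent.H36.Alt7
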