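import Cfsg.Agent.H86.PrimeOrderBlock
import Cfsg.Agent.BlockBasic.Local
import Cfsg.Agent.BlockBasic.Orth
import Cfsg.Agent.H36.DegreeEq
import Cfsg.Agent.H36.NoSimple
import Cfsg.Agent.H84.ItoSylow

/-!
# The degree equation of the principal block in a simple group

For a Sylow subgroup `P` of prime order `p` with `|N(P) : C(P)| = r`, the signed degrees in the
principal block satisfy `1 + ∑ F = θ`. If `|C(P)| > p`, none of the signed degrees `F` (nor
`-θ (p - 1) / r`) is one of `1 - p`, `1 - 2 p`, `p + 1`.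
-/

set_option autoImplicit false
set_option linter.unusedSectionVars false
set_option linter.style.haveILetI false

open scoped ComplexConjugate

namespace Cfsg.Agent.H36.BlockDegree

open Cfsg Subgroup Cfsg.Agent.CharBasic Cfsg.Agent.BlockBasic Cfsg.Agent.H36.SelfCentral

variable {G : Type*} [Group G] [Finite G]

/-- A signed degree that forces `|C(P)| = p`. -/
def Small (p : ℕ) (F : ℤ) : Prop := F = 1 - p ∨ F = 1 - 2 * p ∨ F = p + 1

instance (p : ℕ) (F : ℤ) : Decidable (Small p F) := by unfold Small; infer_instance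

/-- A character with value `±1` on all `x ^ i * y ^ j`, `p ∤ i`, does not have small degree. -/
theorem not_small [IsSimpleGroup G] (hG : ¬ IsMulCommutative G) {χ : G → ℂ}
    (hχ : IsCharacter G χ) {p q : ℕ} (hp : p.Prime) (hq : q.Prime) (hpq : p ≠ q) {x y : G}
    (hx : orderOf x = p) (hy : orderOf y = q) (hxy : Commute x y) {δ : ℤ} (hδ : δ = 1 ∨ δ = -1)
    (hval : ∀ i j : ℕ, ¬ p ∣ i → χ (x ^ i * y ^ j) = δ) {f : ℕ} (hf : χ 1 = f) :
    ¬ Small p (δ * f) := by
  classical
  intro hsmall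
  have hp2 := hp.two_le
  obtain ⟨d, ρ, hρ⟩ := hχ
  have hcop : Nat.Coprime p q := (Nat.coprime_primes hp hq).2 hpq
  have hg : orderOf (x * y) = p * q := by
    rw [hxy.orderOf_mul_eq_mul_orderOf_of_coprime (by rw [hx, hy]; exact hcop), hx, hy]
  obtain ⟨b, ν, hb, hν, -⟩ := exists_eigenbasis_rep ρ (x * y)
  rw [hg] at hν
  have hfd : ((Module.finrank ℂ (Fin d → ℂ) : ℕ) : ℂ) = f := by
    rw [← hf, ← congrFun hρ 1, Representation.char_one]
  have hfd' : Fintype.card (Fin (Module.finrank ℂ (Fin d → ℂ))) = f := by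
    rw [Fintype.card_fin]; exact_mod_cast hfd
  have hpow : ∀ (k : ℕ) i, ρ ((x * y) ^ k) (b i) = ν i ^ k • b i := by
    intro k i
    induction k with
    | zero => simp
    | succ k ih =>
      rw [pow_succ, map_mul, Module.End.mul_apply, hb, map_smul, ih, smul_smul, ← pow_succ']
  have htr : ∀ k : ℕ, χ ((x * y) ^ k) = ∑ i, ν i ^ k := fun k => by
    rw [← congrFun hρ]
    exact trace_eq_sum_of_eigenbasis b _ _ (hpow k)
  -- the eigenvalues of `y ^ p` and of `x ^ q`
  set μ : Fin (Module.finrank ℂ (Fin d → ℂ)) → ℂ := fun i => ν i ^ p with hμ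
  set T := Finset.univ.filter fun i => ν i ^ q = 1 with hT
  have hμq : ∀ i, μ i ^ q = 1 := fun i => by rw [hμ, ← pow_mul]; exact hν i
  have hgy : ∀ i j : ℕ, (x * y) ^ (q * i + p * j) = x ^ (q * i) * y ^ (p * j) := by
    intro i j
    rw [hxy.mul_pow, pow_add, pow_add,
      show x ^ (p * j) = 1 by rw [pow_mul, ← hx, pow_orderOf_eq_one, one_pow],
      show y ^ (q * i) = 1 by rw [pow_mul, ← hy, pow_orderOf_eq_one, one_pow], mul_one, one_mul]
  have hsum : ∀ j : ℕ, ∑ i, μ i ^ j + ((p : ℂ) - 1) * δ = (p : ℂ) * ∑ i ∈ T, μ i ^ j := by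
    intro j
    have h1 : ∑ k ∈ Finset.range p, χ ((x * y) ^ (q * k + p * j)) =
        ∑ i, μ i ^ j + ((p : ℂ) - 1) * δ := by
      rw [← Finset.add_sum_erase _ _ (Finset.mem_range.2 hp.pos)]
      congr 1
      · rw [htr, mul_zero, zero_add]
        simp only [hμ, ← pow_mul]
      · rw [Finset.sum_congr rfl (g := fun _ => (δ : ℂ)) fun k hk => by
            rw [hgy]
            refine hval _ _ fun hdvd => ?_
            obtain ⟨hk0, hkp⟩ := Finset.mem_erase.1 hk
            rw [Finset.mem_range] at hkp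
            rcases hp.dvd_mul.1 hdvd with h | h
            · exact hpq ((Nat.prime_dvd_prime_iff_eq hp hq).1 h)
            · exact hk0 (Nat.eq_zero_of_dvd_of_lt h hkp),
          Finset.sum_const, Finset.card_erase_of_mem (Finset.mem_range.2 hp.pos),
          Finset.card_range, nsmul_eq_mul, Nat.cast_sub hp.one_le, Nat.cast_one]
    rw [← h1]
    simp only [htr]
    rw [Finset.sum_comm, hT, Finset.sum_filter, Finset.mul_sum]
    refine Finset.sum_congr rfl fun i _ => ?_
    have h2 : ∀ k : ℕ, ν i ^ (q * k + p * j) = (ν i ^ q) ^ k * μ i ^ j := fun k => by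
      rw [hμ, ← pow_mul, ← pow_mul, ← pow_add]
    simp only [h2, ← Finset.sum_mul]
    split_ifs with h
    · simp [h]
    · have h3 := geom_sum_mul (ν i ^ q) p
      rw [← pow_mul, mul_comm q p, hν, sub_self, mul_eq_zero] at h3
      rw [h3.resolve_right (sub_ne_zero.2 h), zero_mul, mul_zero]
  -- counting each eigenvalue
  have hroot : ∀ z : ℂ, z ^ q = 1 → ∑ j ∈ Finset.range q, z ^ j = if z = 1 then (q : ℂ) else 0 := by
    intro z hz
    split_ifs with h
    · simp [h]
    · have h3 := geom_sum_mul z q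
      rw [hz, sub_self, mul_eq_zero] at h3
      exact h3.resolve_right (sub_ne_zero.2 h)
  have hcount : ∀ w : ℂ, w ^ q = 1 →
      ((Finset.univ.filter fun i => μ i = w).card : ℤ) + ((p : ℤ) - 1) * δ * (if w = 1 then 1 else 0) =
        (p : ℤ) * (T.filter fun i => μ i = w).card := by
    intro w hw
    have hw0 : w ≠ 0 := by rintro rfl; rw [zero_pow hq.ne_zero] at hw; exact zero_ne_one hw
    have h := Finset.sum_congr rfl (s₁ := Finset.range q) fun j (_ : j ∈ Finset.range q) =>
      congrArg (fun S : ℂ => (w⁻¹) ^ j * S) (hsum j)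
    simp only [mul_add, Finset.mul_sum] at h
    rw [Finset.sum_add_distrib, Finset.sum_comm] at h
    have h4 : ∀ i, ∑ j ∈ Finset.range q, w⁻¹ ^ j * μ i ^ j = if μ i = w then (q : ℂ) else 0 := by
      intro i
      simp only [← mul_pow]
      rw [hroot _ (by rw [mul_pow, inv_pow, hw, hμq, inv_one, mul_one])]
      simp only [inv_mul_eq_one₀ hw0, eq_comm (a := w)]
    have h5 : ∑ j ∈ Finset.range q, w⁻¹ ^ j * (((p : ℂ) - 1) * δ) =
        (if w = 1 then (q : ℂ) else 0) * (((p : ℂ) - 1) * δ) := by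
      rw [← Finset.sum_mul, hroot _ (by rw [inv_pow, hw, inv_one])]
      simp only [inv_eq_one]
    rw [Finset.sum_congr rfl (fun i _ => h4 i), h5, ← Finset.sum_filter, Finset.sum_const,
      nsmul_eq_mul, Finset.sum_comm (s := Finset.range q) (t := T),
      Finset.sum_congr rfl (fun i (_ : i ∈ T) => by
        rw [Finset.sum_congr rfl (fun j _ => mul_left_comm _ (p : ℂ) _), ← Finset.mul_sum, h4 i]),
      ← Finset.mul_sum, ← Finset.sum_filter, Finset.sum_const, nsmul_eq_mul] at h
    have hqC : (q : ℂ) ≠ 0 := Nat.cast_ne_zero.2 hq.ne_zero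
    have h6 : (((Finset.univ.filter fun i => μ i = w).card : ℂ) +
        ((p : ℂ) - 1) * δ * (if w = 1 then 1 else 0)) * q =
          ((p : ℂ) * (T.filter fun i => μ i = w).card) * q := by
      rw [mul_assoc (p : ℂ), ← h]
      split_ifs <;> ring
    have h7 := mul_right_cancel₀ hqC h6
    split_ifs at h7 ⊢ <;> exact_mod_cast h7
  have h1 := hcount 1 (one_pow q)
  rw [if_pos rfl, mul_one] at h1
  set A := (Finset.univ.filter fun i => μ i = 1).card with hA
  by_cases hall : ∀ i, μ i = 1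
  · -- `y ^ p` lies in the kernel
    have hyp : χ (y ^ p) = χ 1 := by
      have : (x * y) ^ p = y ^ p := by
        rw [hxy.mul_pow, show x ^ p = 1 by rw [← hx, pow_orderOf_eq_one], one_mul]
      rw [← this, htr, hf, Finset.sum_congr rfl (g := fun _ => (1 : ℂ)) fun i _ => hall i,
        Finset.sum_const, Finset.card_univ, hfd', nsmul_one]
    have hχ' : IsCharacter G χ := ⟨d, ρ, hρ⟩
    obtain ⟨N, hN, hmem, -⟩ := IsChar.exists_kernel hχ'
    rcases hN.eq_bot_or_eq_top with hb' | ht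
    · have h2 := mem_bot.1 (hb' ▸ (hmem (y ^ p)).2 hyp)
      have h3 := orderOf_dvd_of_pow_eq_one h2
      rw [hy] at h3
      exact hpq ((Nat.prime_dvd_prime_iff_eq hq hp).1 h3).symm
    · have h2 := (hmem x).1 (ht ▸ mem_top x)
      have h3 := hval 1 0 (by rw [Nat.dvd_one]; exact hp.ne_one)
      rw [pow_one, pow_zero, mul_one, h2, hf] at h3
      have h4 : (f : ℤ) = δ := by exact_mod_cast h3
      unfold Small at hsmall
      rcases hδ with rfl | rfl <;> omega
  · obtain ⟨i₀, hi₀⟩ := not_forall.1 hall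
    set w := μ i₀ with hw
    have h2 := hcount w (hμq i₀)
    rw [if_neg hi₀, mul_zero, add_zero] at h2
    set B := (Finset.univ.filter fun i => μ i = w).card with hB
    have hB1 : 1 ≤ B := Finset.card_pos.2 ⟨i₀, Finset.mem_filter.2 ⟨Finset.mem_univ _, rfl⟩⟩
    have hAB : A + B ≤ f := by
      rw [hA, hB, ← hfd', ← Finset.card_univ, ← Finset.card_union_of_disjoint
        (Finset.disjoint_filter.2 fun i _ h h' => hi₀ (h'.symm.trans h))]
      exact Finset.card_le_univ _
    have hBp : B = p ∧ A + B = f := by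
      have hBle : p ≤ B := by
        obtain ⟨k, hk⟩ : (p : ℤ) ∣ (B : ℤ) := ⟨_, h2⟩
        exact Nat.le_of_dvd hB1 (Int.natCast_dvd_natCast.1 ⟨k, hk⟩)
      set a := (T.filter fun i => μ i = (1 : ℂ)).card with ha
      unfold Small at hsmall
      have hA1 : (δ = -1 → p - 1 ≤ A) ∧ (δ = 1 → 1 ≤ A) := by
        constructor
        · rintro rfl
          have : (0 : ℤ) ≤ (p : ℤ) * a := by positivity
          omega
        · rintro rfl
          rcases Nat.eq_zero_or_pos a with h0 | h0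
          · rw [h0, Nat.cast_zero, mul_zero] at h1; omega
          · have : (p : ℤ) ≤ (p : ℤ) * a := le_mul_of_one_le_right (by positivity) (by exact_mod_cast h0)
            omega
      rcases hδ with rfl | rfl
      · have := hA1.2 rfl; omega
      · have := hA1.1 rfl; omega
    have hrest : ∀ i, μ i ≠ w → μ i = 1 := by
      intro i hi
      by_contra hi1
      have hlt : (Finset.univ.filter fun i => μ i = 1) ∪ (Finset.univ.filter fun i => μ i = w) ⊂
          Finset.univ := Finset.ssubset_iff_subset_ne.2 ⟨Finset.subset_univ _, fun h => by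
        have := h.symm ▸ Finset.mem_univ i
        simp [hi, hi1] at this⟩
      have := Finset.card_lt_card hlt
      rw [Finset.card_union_of_disjoint
        (Finset.disjoint_filter.2 fun i _ h h' => hi₀ (h'.symm.trans h)), Finset.card_univ, hfd',
        ← hA, ← hB, hBp.2] at this
      exact lt_irrefl _ this
    have hdet := hom_comm_eq_one hG (MonoidHom.toHomUnits (LinearMap.det.comp ρ))
    have hd1 : LinearMap.det (ρ ((x * y) ^ p)) = 1 := congrArg Units.val (DFunLike.congr_fun hdet _)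
    have hd2 : LinearMap.det (ρ ((x * y) ^ p)) = ∏ i, μ i := by
      rw [← LinearMap.det_toMatrix b]
      have : LinearMap.toMatrix b b (ρ ((x * y) ^ p)) = Matrix.diagonal μ := by
        ext i j
        rw [LinearMap.toMatrix_apply, hpow, map_smul, Module.Basis.repr_self, Matrix.diagonal_apply]
        by_cases h : i = j
        · subst h; simp [hμ]
        · simp [h]
      rw [this, Matrix.det_diagonal]
    rw [hd2, ← Finset.prod_filter_mul_prod_filter_not Finset.univ (fun i => μ i = w),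
      Finset.prod_congr rfl (fun i hi => (Finset.mem_filter.1 hi).2), Finset.prod_const, ← hB,
      Finset.prod_eq_one (fun i hi => hrest i (Finset.mem_filter.1 hi).2), mul_one, hBp.1] at hd1
    apply hi₀
    rw [← pow_one w, ← hcop.gcd_eq_one, pow_gcd_eq_one]
    exact ⟨hd1, hμq i₀⟩

/-- The degree equation, with the conditions on the signed degrees. -/
theorem exists_data [IsSimpleGroup G] (hG : ¬ IsMulCommutative G) {p : ℕ} [Fact p.Prime]
    (P : Sylow p G) (hP : Nat.card (P : Subgroup G) = p) {r c : ℕ}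
    (hr : (centralizer ((P : Subgroup G) : Set G)).relIndex
      (normalizer ((P : Subgroup G) : Set G)) = r)
    (hc : Nat.card (centralizer ((P : Subgroup G) : Set G)) = p * c) :
    ∃ (L : List ℤ) (θ : ℤ), L.length + 1 = r ∧
      (∀ F ∈ L, 2 ≤ F.natAbs ∧ F.natAbs ∣ Nat.card G ∧ (p : ℤ) ∣ F - 1 ∧
        (c ≠ 1 → ¬ Small p F) ∧
        ∃ χ : IrrCharacter G, (χ : G → ℂ) 1 = (F.natAbs : ℂ)) ∧
      2 ≤ θ.natAbs ∧ θ.natAbs ∣ Nat.card G ∧ (p : ℤ) ∣ θ - r ∧
      (c ≠ 1 → ¬ Small p (-(((p - 1) / r : ℕ) * θ))) ∧ 1 + L.sum = θ ∧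
      1 + (L.map fun F => F ^ 2).sum + ((p - 1) / r : ℕ) * θ ^ 2 ≤ Nat.card G ∧
      ∃ χ : IrrCharacter G, (χ : G → ℂ) 1 = (θ.natAbs : ℂ) := by
  classical
  haveI := Fintype.ofFinite G
  have hp : p.Prime := Fact.out
  obtain ⟨M, hM⟩ := exists_isPModular hp
  obtain ⟨X, Y, εX, ε, hB, hXY, hXc, hYc, hX, hε, hY, hYeq, hrel, htriv, -⟩ :=
    H86.Abelian.exists_structure_full P hP hM
  rw [show (centralizer ((P : Subgroup G) : Set G)).relIndex (normalizer (P : Set G)) = r from hr]
    at hXc hY hYc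
  have hrdvd : r ∣ p - 1 := hr ▸ relIndex_centralizer_dvd_of_prime hp _ hP
  have hr0 : r ≠ 0 := hr ▸ FiniteIndex.index_ne_zero
  obtain ⟨θ₀, hθ₀⟩ : Y.Nonempty := by
    rw [← Finset.card_pos, hYc]
    exact Nat.div_pos (Nat.le_of_dvd (by have := hp.two_le; omega) hrdvd) (by omega)
  have hne : ∀ χ : IrrCharacter G, χ ≠ trivialIrr →
      2 ≤ charDegree (χ : G → ℂ) ∧ charDegree (χ : G → ℂ) ∣ Nat.card G := by
    intro χ hχ
    obtain ⟨d, hd, hd1, hd2⟩ := exists_degree_two_le hG (χ := χ)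
      (fun h => hχ (h.trans (Subtype.ext rfl)))
    have := H84.charDegree_of_eq hd1
    exact ⟨by omega, by rw [this]; exact hd2⟩
  have hdeg : ∀ χ : IrrCharacter G, (χ : G → ℂ) 1 = (charDegree (χ : G → ℂ) : ℂ) := fun χ =>
    (H83.charDegree_eq χ.2).1
  have hθtriv : θ₀ ≠ trivialIrr := fun h => Finset.disjoint_left.1 hXY htriv (h ▸ hθ₀)
  obtain ⟨hθ2, hθd⟩ := hne θ₀ hθtriv
  set t := charDegree (θ₀ : G → ℂ) with ht
  have h1reg : ¬ p ∣ orderOf (1 : G) := by rw [orderOf_one, Nat.dvd_one]; exact hp.ne_one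
  have hYdeg : ∀ θ ∈ Y, (θ : G → ℂ) 1 = t := fun θ hθ => by
    rw [hYeq θ hθ θ₀ hθ₀ 1 h1reg, hdeg]
  have hεX1 : εX trivialIrr = 1 := by
    obtain ⟨h1, h2, h3⟩ := hX _ htriv
    obtain ⟨x, hx⟩ := exists_prime_orderOf_dvd_card' (G := (P : Subgroup G)) p (by rw [hP])
    have h4 := h3 x x.2 (fun h => by
      rw [← orderOf_coe, h, orderOf_one] at hx; exact hp.ne_one hx.symm) 1 (one_mem _)
        (by rw [orderOf_one, Nat.dvd_one]; exact hp.ne_one)
    have h5 : ((1 : ℤ) : ℂ) = (εX trivialIrr : ℂ) := by rw [← h4, Int.cast_one]; rfl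
    exact_mod_cast h5.symm
  have heq : ε * t = ∑ χ ∈ X, εX χ * charDegree (χ : G → ℂ) := by
    have h := hrel θ₀ hθ₀ 1 h1reg
    simp only [hdeg] at h
    exact_mod_cast h
  have hεsq : ε * ε = 1 := by rcases hε with rfl | rfl <;> norm_num
  -- the sum of the exceptional characters on singular sections
  have hYsum : ∀ x ∈ (P : Subgroup G), x ≠ 1 → ∀ y ∈ centralizer ((P : Subgroup G) : Set G),
      ¬ p ∣ orderOf y → ∑ θ ∈ Y, (θ : G → ℂ) (x * y) = ((-ε : ℤ) : ℂ) := by
    intro x hx hx1 y hy hy'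
    have hox : orderOf x = p := by
      have := Subgroup.orderOf_dvd_natCard _ hx
      rw [hP] at this
      exact ((Nat.dvd_prime hp).1 this).resolve_left (by simpa using hx1)
    have hcomm : Commute x y := mem_centralizer_iff.1 hy x hx
    have hsing : p ∣ orderOf (x * y) := by
      rw [hcomm.orderOf_mul_eq_mul_orderOf_of_coprime
        (by rw [hox]; exact hp.coprime_iff_not_dvd.2 hy'), hox]
      exact dvd_mul_right _ _
    have h := blockKernel_eq_zero_of_regular_of_singular hM (isPBlock_principalBlock (G := G) M)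
      h1reg hsing
    have hset : (principalBlock M G : Set (IrrCharacter G)) = ↑(X ∪ Y) := by
      ext χ; simp [hB]
    rw [blockKernel, hset, finsum_mem_coe_finset, Finset.sum_union hXY,
      Finset.sum_congr rfl (g := fun χ => ((εX χ * charDegree (χ : G → ℂ) : ℤ) : ℂ)) (fun χ hχ => by
        rw [(hX χ hχ).2.2 x hx hx1 y hy hy', map_intCast, hdeg]; push_cast; ring),
      ← Int.cast_sum, ← heq,
      Finset.sum_congr rfl (g := fun θ : IrrCharacter G => (t : ℂ) * conj ((θ : G → ℂ) (x * y)))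
        (fun θ hθ => by rw [hYdeg θ hθ]), ← Finset.mul_sum, ← map_sum] at h
    push_cast at h
    have h2 : conj (∑ θ ∈ Y, (θ : G → ℂ) (x * y)) = ((-ε : ℤ) : ℂ) := by
      apply mul_left_cancel₀ (show (t : ℂ) ≠ 0 by exact_mod_cast (by omega : t ≠ 0))
      push_cast
      linear_combination h
    rw [← map_intCast (starRingEnd ℂ) (-ε)] at h2
    exact (starRingEnd ℂ).injective h2
  -- small degrees
  have hsmallX : ∀ {χ : G → ℂ} {δ : ℤ} {f : ℕ}, IsCharacter G χ → (δ = 1 ∨ δ = -1) →
      (∀ x ∈ (P : Subgroup G), x ≠ 1 → ∀ y ∈ centralizer ((P : Subgroup G) : Set G),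
        ¬ p ∣ orderOf y → χ (x * y) = δ) → χ 1 = f → c ≠ 1 → ¬ Small p (δ * f) := by
    intro χ δ f hχ hδ hv hf hc1
    obtain ⟨q, hq, hqc⟩ := Nat.exists_prime_and_dvd hc1
    haveI := Fact.mk hq
    obtain ⟨⟨y, hyC⟩, hy⟩ := exists_prime_orderOf_dvd_card'
      (G := centralizer ((P : Subgroup G) : Set G)) q (hc ▸ dvd_mul_of_dvd_right hqc p)
    rw [orderOf_mk] at hy
    have hpq : p ≠ q := by
      rintro rfl
      obtain ⟨c', rfl⟩ := hqc
      have h1 : p ^ 2 ∣ Nat.card G := by
        rw [pow_two]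
        exact (Dvd.intro c' (by ring)).trans (hc ▸ card_subgroup_dvd_card _)
      have h2 : p ^ 2 ∣ Nat.card (P : Subgroup G) := by
        rw [Sylow.card_eq_multiplicity]
        exact pow_dvd_pow p ((hp.pow_dvd_iff_le_factorization Nat.card_pos.ne').1 h1)
      rw [hP] at h2
      have := Nat.le_of_dvd hp.pos h2
      nlinarith [hp.two_le]
    obtain ⟨⟨x, hxP⟩, hx⟩ := exists_prime_orderOf_dvd_card' (G := (P : Subgroup G)) p (by rw [hP])
    rw [orderOf_mk] at hx
    refine not_small hG hχ hp hq hpq hx hy (mem_centralizer_iff.1 hyC x hxP) hδ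
      (fun i j hi => hv _ (pow_mem hxP i) (fun h => hi (hx ▸ orderOf_dvd_of_pow_eq_one h)) _
        (pow_mem hyC j) fun h => hpq ?_) hf
    exact (Nat.prime_dvd_prime_iff_eq hp hq).1 (h.trans ((orderOf_pow_dvd (x := y) j).trans hy.dvd))
  refine ⟨(X.erase trivialIrr).toList.map fun χ => εX χ * charDegree (χ : G → ℂ), ε * t,
    ?_, ?_, ?_, ?_, ?_, ?_, ?_, ?_, θ₀, ?_⟩
  · rw [List.length_map, Finset.length_toList, Finset.card_erase_of_mem htriv, hXc]
    omega
  · intro F hF
    obtain ⟨χ, hχ, rfl⟩ := List.mem_map.1 hF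
    obtain ⟨hχ1, hχX⟩ := Finset.mem_erase.1 (Finset.mem_toList.1 hχ)
    obtain ⟨hs, hmod, hv⟩ := hX χ hχX
    obtain ⟨hd2, hdd⟩ := hne χ hχ1
    have hs2 : εX χ * εX χ = 1 := by rcases hs with h | h <;> rw [h] <;> norm_num
    have habs : (εX χ * charDegree (χ : G → ℂ)).natAbs = charDegree (χ : G → ℂ) := by
      rcases hs with h | h <;> simp [h]
    refine ⟨by omega, by rw [habs]; exact hdd, ?_, fun hc1 => ?_, χ, by rw [habs]; exact hdeg χ⟩
    · obtain ⟨k, hk⟩ := Int.modEq_iff_dvd.1 hmod.symm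
      exact ⟨εX χ * k, by linear_combination εX χ * hk + hs2⟩
    · exact hsmallX (IsIrr.isCharacter χ.2) hs (fun x hx hx1 y hy hy' => hv x hx hx1 y hy hy')
        (hdeg χ) hc1
  · rcases hε with rfl | rfl <;> simp <;> omega
  · rcases hε with rfl | rfl <;> simpa using hθd
  · obtain ⟨k, hk⟩ := Int.modEq_iff_dvd.1 (hY θ₀ hθ₀).symm
    rw [← ht] at hk
    exact ⟨ε * k, by linear_combination ε * hk + (r : ℤ) * hεsq⟩
  · intro hc1
    have hchar : IsCharacter G (fun g => ∑ θ ∈ Y, (θ : G → ℂ) g) := by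
      have h := IsChar.sum Y (fun θ : IrrCharacter G => (θ : G → ℂ))
        (fun θ _ => IsIrr.isCharacter θ.2)
      convert h using 1
      funext g
      rw [Finset.sum_apply]
    have h := hsmallX hchar (δ := -ε) (f := (p - 1) / r * t)
      (by rcases hε with rfl | rfl <;> norm_num) hYsum
      (by simp only [Finset.sum_congr rfl hYdeg, Finset.sum_const, nsmul_eq_mul, hYc]; push_cast; rfl)
      hc1
    convert h using 2
    push_cast
    ring
  · rw [Finset.sum_map_toList, heq, ← Finset.add_sum_erase _ _ htriv, hεX1, one_mul]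
    have h1 : charDegree ((trivialIrr : IrrCharacter G) : G → ℂ) = 1 :=
      H84.charDegree_of_eq (by rw [Nat.cast_one]; rfl)
    rw [h1, Nat.cast_one]
  · rw [List.map_map, Finset.sum_map_toList]
    have h1 : (charDegree ((trivialIrr : IrrCharacter G) : G → ℂ) : ℤ) = 1 := by
      rw [H84.charDegree_of_eq (χ := ((trivialIrr : IrrCharacter G) : G → ℂ)) (n := 1)
        (by rw [Nat.cast_one]; rfl)]
      norm_num
    have hall : ∑ χ : IrrCharacter G, (charDegree (χ : G → ℂ) : ℤ) ^ 2 = Nat.card G := by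
      have h : ∑ χ : IrrCharacter G, ((charDegree (χ : G → ℂ) : ℂ)) ^ 2 = (Nat.card G : ℂ) := by
        rw [← sum_sq_degree]
        exact Finset.sum_congr rfl fun χ _ => by rw [hdeg]
      exact_mod_cast h
    have hle := Finset.sum_le_sum_of_subset_of_nonneg (Finset.subset_univ (X ∪ Y))
      (f := fun χ : IrrCharacter G => (charDegree (χ : G → ℂ) : ℤ) ^ 2)
      (fun χ _ _ => sq_nonneg _)
    rw [hall, Finset.sum_union hXY, ← Finset.add_sum_erase _ _ htriv, h1,
      Finset.sum_congr rfl (g := fun _ => (t : ℤ) ^ 2) (fun θ hθ => by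
        rw [H84.charDegree_of_eq (hYdeg θ hθ)] : ∀ θ ∈ Y,
          (charDegree (θ : G → ℂ) : ℤ) ^ 2 = (t : ℤ) ^ 2),
      Finset.sum_const, nsmul_eq_mul, hYc] at hle
    refine le_trans (le_of_eq ?_) hle
    have hsq : ∀ χ ∈ X.erase trivialIrr, (εX χ * charDegree (χ : G → ℂ)) ^ 2 =
        (charDegree (χ : G → ℂ) : ℤ) ^ 2 := fun χ hχ => by
      rcases (hX χ (Finset.mem_of_mem_erase hχ)).1 with h | h <;> rw [h] <;> ring
    simp only [Function.comp_def]
    rw [Finset.sum_congr rfl hsq, mul_pow, pow_two ε, hεsq]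
    ring
  · rw [hdeg]
    rcases hε with rfl | rfl <;> simp [ht]

end Cfsg.Agent.H36.BlockDegree
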