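import Cfsg.Agent.H36.Fixed
import Mathlib.Algebra.BigOperators.Fin

/-!
# Counting elements and orbits
-/

set_option autoImplicit false
set_option linter.unusedSectionVars false
set_option linter.style.haveILetI false

namespace Cfsg.Agent.H36

open Subgroup

variable {G : Type*} [Group G] [Finite G]

theorem card_orderOf_add4_le {a b c d : ℕ} (hab : a ≠ b) (hac : a ≠ c) (had : a ≠ d)
    (hbc : b ≠ c) (hbd : b ≠ d) (hcd : c ≠ d) :
    Nat.card {g : G // orderOf g = a} + Nat.card {g : G // orderOf g = b} +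
      Nat.card {g : G // orderOf g = c} + Nat.card {g : G // orderOf g = d} ≤ Nat.card G := by
  rw [← Nat.card_sum, ← Nat.card_sum, ← Nat.card_sum]
  refine Nat.card_le_card_of_injective
    (Sum.elim (Sum.elim (Sum.elim Subtype.val Subtype.val) Subtype.val) Subtype.val) ?_
  rintro (((⟨x, hx⟩ | ⟨x, hx⟩) | ⟨x, hx⟩) | ⟨x, hx⟩) (((⟨y, hy⟩ | ⟨y, hy⟩) | ⟨y, hy⟩) | ⟨y, hy⟩) h <;>
    simp only [Sum.elim_inl, Sum.elim_inr] at h <;> subst h <;>
    first
      | rfl
      | (exfalso; omega)

/-- With Sylow subgroups of order `p` and `n_p = 1 + m p`, a Sylow subgroup has `1 + m` orbits on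
the cosets of its normalizer. -/
theorem card_orbits_eq {p : ℕ} [hp : Fact p.Prime] (P : Sylow p G)
    (hP : Nat.card (P : Subgroup G) = p) (m : ℕ) (hn : Nat.card (Sylow p G) = 1 + m * p) :
    Nat.card (MulAction.orbitRel.Quotient (P : Subgroup G)
      (G ⧸ normalizer ((P : Subgroup G) : Set G))) = 1 + m := by
  classical
  set N := normalizer ((P : Subgroup G) : Set G)
  let c : G ⧸ N := ((1 : G) : G ⧸ N)
  have hc : ∀ u : (P : Subgroup G), (u : G) • c = c := fun u => by
    rw [smul_mk_eq_iff, inv_one, one_mul, mul_one]; exact le_normalizer u.2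
  have horb : ∀ q : MulAction.orbitRel.Quotient (P : Subgroup G) (G ⧸ N),
      Nat.card (MulAction.orbit (P : Subgroup G) q.out) = if q = Quotient.mk'' c then 1 else p := by
    intro q
    split_ifs with hq
    · have hout : q.out = c := by
        obtain ⟨u, hu⟩ := (Quotient.eq'' (s₁ := MulAction.orbitRel (P : Subgroup G) (G ⧸ N))).1
          ((Quotient.out_eq' q).trans hq)
        exact hu.symm.trans (hc u)
      rw [hout, Nat.card_eq_one_iff_unique]
      refine ⟨⟨fun a b => Subtype.ext ?_⟩, ⟨⟨c, MulAction.mem_orbit_self c⟩⟩⟩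
      obtain ⟨u, hu⟩ := a.2
      obtain ⟨v, hv⟩ := b.2
      rw [← hu, ← hv]
      exact (hc u).trans (hc v).symm
    · rw [Nat.card_congr (MulAction.orbitEquivQuotientStabilizer _ q.out), ← index_eq_card]
      haveI : Fact (Nat.card (P : Subgroup G)).Prime := ⟨by rw [hP]; exact hp.out⟩
      rcases (MulAction.stabilizer (P : Subgroup G) q.out).eq_bot_or_eq_top_of_prime_card with h | h
      · rw [h, index_bot, hP]
      · exfalso
        obtain ⟨u, hu⟩ : ∃ u : (P : Subgroup G), u ≠ 1 := by
          haveI : Nontrivial (P : Subgroup G) :=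
            Finite.one_lt_card_iff_nontrivial.1 (by rw [hP]; exact hp.out.one_lt)
          exact exists_ne 1
        have hord : orderOf (u : G) = p := by
          rw [Subgroup.orderOf_coe]
          refine orderOf_eq_prime ?_ hu
          have hh := pow_card_eq_one' (x := u)
          rwa [hP] at hh
        have h1 : (u : G) • q.out = q.out := (h ▸ Subgroup.mem_top u : u ∈ MulAction.stabilizer _ q.out)
        have hsub := (Nat.card_eq_one_iff_unique.1 (card_fixedBy_eq_one_of_orderOf P hP hord)).1
        have h3 := congrArg Subtype.val (hsub.elim ⟨q.out, h1⟩ ⟨c, hc u⟩)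
        exact hq ((Quotient.out_eq' q).symm.trans (congrArg _ h3))
  have hsum := Nat.card_congr (MulAction.selfEquivSigmaOrbits (P : Subgroup G) (G ⧸ N))
  haveI := Fintype.ofFinite (MulAction.orbitRel.Quotient (P : Subgroup G) (G ⧸ N))
  have hidx : Nat.card (G ⧸ N) = 1 + m * p := by
    rw [← index_eq_card]; exact P.card_eq_index_normalizer.symm.trans hn
  rw [Nat.card_sigma, Finset.sum_congr rfl (fun q _ => horb q), hidx,
    ← Finset.add_sum_erase _ _ (Finset.mem_univ (Quotient.mk'' c)), if_pos rfl,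
    Finset.sum_congr rfl (fun q hq => if_neg (Finset.ne_of_mem_erase hq)), Finset.sum_const,
    smul_eq_mul, Finset.card_erase_of_mem (Finset.mem_univ _), Finset.card_univ] at hsum
  rw [Nat.card_eq_fintype_card]
  have hpos : 0 < Fintype.card (MulAction.orbitRel.Quotient (P : Subgroup G) (G ⧸ N)) :=
    Fintype.card_pos_iff.2 ⟨Quotient.mk'' c⟩
  have := Nat.eq_of_mul_eq_mul_right hp.out.pos (Nat.add_left_cancel hsum)
  change 0 < Fintype.card (Quotient (MulAction.orbitRel (P : Subgroup G) (G ⧸ N))) at hpos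
  show Fintype.card (Quotient (MulAction.orbitRel (P : Subgroup G) (G ⧸ N))) = 1 + m
  omega

theorem card_orbits_le {p : ℕ} [hp : Fact p.Prime] (P : Sylow p G)
    (hP : Nat.card (P : Subgroup G) = p) (m : ℕ) (hn : Nat.card (Sylow p G) = 1 + m * p) :
    Nat.card (MulAction.orbitRel.Quotient (P : Subgroup G)
      (G ⧸ normalizer ((P : Subgroup G) : Set G))) ≤ 1 + m :=
  (card_orbits_eq P hP m hn).le

end Cfsg.Agent.H36
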