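import Cfsg.Agent.H35.BrauerHom
import Mathlib.GroupTheory.PGroup
import Mathlib.Algebra.CharP.Basic
import Mathlib.Data.ZMod.Basic

/-!
# Idempotents and double cosets of `p`-subgroups in group algebras of characteristic `p`

A non-zero central idempotent is not killed by the sum of a `p`-subgroup, so a conjugation
invariant set whose sum divides it contains an element `y` for which `T ∩ yTy⁻¹` centralizes `y`.
-/

set_option autoImplicit false

open MonoidAlgebra

namespace Cfsg.Agent.H36.DoubleCoset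

variable {G : Type*} [Group G] [Fintype G] {k : Type*} [CommRing k]

theorem coeff_mul_sum (a b : MonoidAlgebra k G) (c : G) :
    (a * b).coeff c = ∑ u : G, a.coeff u * b.coeff (u⁻¹ * c) := by
  classical
  induction a using MonoidAlgebra.induction_linear with
  | zero => simp
  | add x y hx hy => simp [add_mul, Finset.sum_add_distrib, hx, hy]
  | single g r =>
    rw [coeff_single_mul_apply, Finset.sum_eq_single g]
    · simp [coeff_single]
    · intro u _ hu
      simp [coeff_single, Finsupp.single_apply, Ne.symm hu]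
    · simp

open scoped Classical in
/-- The sum of the elements of a subgroup. -/
noncomputable def subSum (T : Subgroup G) : MonoidAlgebra k G := ∑ u : T, single (u : G) 1

open scoped Classical in
theorem coeff_mul_subSum (T : Subgroup G) (a : MonoidAlgebra k G) (c : G) :
    (a * subSum T).coeff c = ∑ u : T, a.coeff (c * (u : G)⁻¹) := by
  simp [subSum, Finset.mul_sum, coeff_sum, Finsupp.finsetSum_apply, coeff_mul_single_apply]

variable {p : ℕ} [Fact p.Prime] [CharP k p]

/-- An idempotent commuting with a `p`-subgroup and killed by its sum is zero. -/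
theorem eq_zero_of_mul_subSum {T : Subgroup G} (hT : IsPGroup p T) {e : MonoidAlgebra k G}
    (hidem : e * e = e) (hcomm : ∀ u ∈ T, single u 1 * e = e * single u 1)
    (h0 : e * subSum T = 0) : e = 0 := by
  classical
  by_contra hne
  let φ : ZMod p →+* k := ZMod.castHom dvd_rfl k
  let Φ : (T → ZMod p) →+ MonoidAlgebra k G :=
    { toFun := fun c => ∑ u : T, φ (c u) • (e * single (u : G) 1)
      map_zero' := by simp
      map_add' := fun c d => by simp [add_smul, Finset.sum_add_distrib] }
  have hΦ : ∀ c, Φ c = ∑ u : T, φ (c u) • (e * single (u : G) 1) := fun _ => rfl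
  have hshift : ∀ (s : T) (c : T → ZMod p),
      Φ (fun u => c (u * s⁻¹)) = Φ c * single (s : G) 1 := by
    intro s c
    rw [hΦ, hΦ, Finset.sum_mul, ← Equiv.sum_comp (Equiv.mulRight s)
      (fun u => φ (c (u * s⁻¹)) • (e * single (u : G) 1))]
    refine Finset.sum_congr rfl fun u _ => ?_
    simp [mul_assoc, single_mul_single]
  let V : AddSubgroup (MonoidAlgebra k G) := Φ.range
  haveI : Finite V := Finite.of_surjective Φ.rangeRestrict Φ.rangeRestrict_surjective
  have hmem : ∀ (t : T) (v : V), (v : MonoidAlgebra k G) * single ((t : G))⁻¹ 1 ∈ V := by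
    rintro t ⟨v, c, rfl⟩
    exact ⟨_, hshift t⁻¹ c⟩
  letI : MulAction T V :=
    { smul := fun t v => ⟨_, hmem t v⟩
      one_smul := fun v => Subtype.ext (show (v : MonoidAlgebra k G) * single ((1 : T) : G)⁻¹ (1 : k) = (v : MonoidAlgebra k G) by
        simp [← one_def])
      mul_smul := fun s t v => Subtype.ext
        (show (v : MonoidAlgebra k G) * single ((s * t : T) : G)⁻¹ (1 : k) =
          (v : MonoidAlgebra k G) * single (t : G)⁻¹ (1 : k) * single (s : G)⁻¹ (1 : k) by
          simp [mul_assoc, single_mul_single]) }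
  have he : e ∈ V := by
    refine ⟨Pi.single 1 1, ?_⟩
    rw [hΦ, Finset.sum_eq_single (1 : T)]
    · simp [← one_def]
    · intro u _ hu; simp [Pi.single_apply, hu]
    · simp
  have hpV : ∀ v : MonoidAlgebra k G, p • v = 0 := by
    intro v
    rw [← Nat.cast_smul_eq_nsmul k, CharP.cast_eq_zero, zero_smul]
  have hdvd : p ∣ Nat.card V := by
    have hord : addOrderOf (⟨e, he⟩ : V) = p :=
      addOrderOf_eq_prime (Subtype.ext (hpV e)) fun h => hne (congrArg Subtype.val h)
    exact hord ▸ addOrderOf_dvd_natCard _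
  have h0fix : (0 : V) ∈ MulAction.fixedPoints T V := fun t =>
    Subtype.ext (show (0 : MonoidAlgebra k G) * single ((t : G))⁻¹ 1 = 0 from zero_mul _)
  obtain ⟨⟨v, hv⟩, hfix, hv0⟩ :=
    hT.exists_fixed_point_of_prime_dvd_card_of_fixed_point V hdvd h0fix
  have hinv : ∀ t : T, v * single (t : G) 1 = v := fun t => by
    have h1 : v * single ((t⁻¹ : T) : G)⁻¹ (1 : k) = v := congrArg Subtype.val (hfix t⁻¹)
    simpa using h1
  -- `v` is a multiple of the subgroup sum
  let r : G → G := fun h => Quotient.out (QuotientGroup.mk h : G ⧸ T)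
  let w : MonoidAlgebra k G :=
    .ofCoeff (Finsupp.equivFunOnFinite.symm fun h => if h = r h then v.coeff h else 0)
  have hw : v = w * subSum T := by
    apply coeff_injective
    ext c
    have hrc : r c * 1 = r c := mul_one _
    have ht : (r c)⁻¹ * c ∈ T := QuotientGroup.eq.1 (Quotient.out_eq _)
    rw [coeff_mul_subSum, Finset.sum_eq_single (⟨(r c)⁻¹ * c, ht⟩ : T)]
    · have hr : r (r c) = r c := by simp [r]
      have hval : v.coeff (r c) = v.coeff c := by
        have := congrArg (fun x => x.coeff c) (hinv ⟨(r c)⁻¹ * c, ht⟩)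
        simpa [coeff_mul_single_apply, mul_assoc] using this
      simp [w, mul_assoc, hr, hval]
    · intro u _ hu
      have hru : r (c * (u : G)⁻¹) = r c :=
        congrArg Quotient.out (QuotientGroup.eq.2 (by simp))
      have hne' : c * (u : G)⁻¹ ≠ r c := fun h => hu (Subtype.ext (by simp [← h, mul_assoc]))
      simp [w, hru, hne']
    · simp
  have hcT : subSum T * e = e * subSum T := by
    simp only [subSum, Finset.sum_mul, Finset.mul_sum]
    exact Finset.sum_congr rfl fun u _ => hcomm u u.2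
  obtain ⟨c, hc⟩ := hv
  have hve : v * e = v := by
    rw [← hc, hΦ, Finset.sum_mul]
    refine Finset.sum_congr rfl fun u _ => ?_
    rw [smul_mul_assoc, mul_assoc, hcomm u u.2, ← mul_assoc, hidem]
  apply hv0
  refine Subtype.ext (show (0 : MonoidAlgebra k G) = v from ?_)
  rw [← hve, hw, mul_assoc, hcT, h0, mul_zero]

/-- A set closed under conjugation by `T`, none of whose members `y` is centralized by
`T ∩ yTy⁻¹`, has a sum killed by that of `T`. -/
theorem mul_subSum_eq_zero {T : Subgroup G} (hT : IsPGroup p T) (L : G → Prop)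
    (hL : ∀ u ∈ T, ∀ y, L y → L (u * y * u⁻¹))
    (hno : ∀ y, L y → ∃ u ∈ T, y⁻¹ * u * y ∈ T ∧ u * y ≠ y * u)
    (K : MonoidAlgebra k G) (hK : ∀ y, L y → K.coeff y = 1) (hK0 : ∀ y, ¬ L y → K.coeff y = 0) :
    K * subSum T = 0 := by
  classical
  apply coeff_injective
  ext c
  rw [coeff_mul_subSum, coeff_zero, Finsupp.coe_zero, Pi.zero_apply]
  have hsum : ∑ u : T, K.coeff (c * (u : G)⁻¹) =
      ((Finset.univ.filter fun u : T => L (c * (u : G)⁻¹)).card : k) := by
    rw [Finset.card_filter, Nat.cast_sum]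
    refine Finset.sum_congr rfl fun u _ => ?_
    by_cases h : L (c * (u : G)⁻¹)
    · simp [h, hK _ h]
    · simp [h, hK0 _ h]
  rw [hsum, CharP.cast_eq_zero_iff k p, ← Fintype.card_subtype, ← Nat.card_eq_fintype_card]
  let S := {y : G // L y ∧ y⁻¹ * c ∈ T}
  have hST : Nat.card {u : T // L (c * (u : G)⁻¹)} = Nat.card S := Nat.card_congr
    { toFun := fun u => ⟨c * (u.1 : G)⁻¹, u.2, by simp [mul_assoc]⟩
      invFun := fun y => ⟨⟨y.1⁻¹ * c, y.2.2⟩, by simpa using y.2.1⟩
      left_inv := fun u => by ext; simp [mul_assoc]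
      right_inv := fun y => by ext; simp }
  rw [hST]
  let R : Subgroup G := T ⊓ T.map (MulAut.conj c).toMonoidHom
  have hR : ∀ u ∈ R, c⁻¹ * u * c ∈ T := by
    rintro u ⟨-, x, hx, rfl⟩
    simpa [mul_assoc] using hx
  letI : MulAction R S :=
    { smul := fun u y => ⟨(u : G) * y.1 * (u : G)⁻¹, hL u u.2.1 y.1 y.2.1, by
        have h1 : ((u : G) * y.1 * (u : G)⁻¹)⁻¹ * c =
            (u : G) * (y.1⁻¹ * c) * (c⁻¹ * (u : G) * c)⁻¹ := by group
        rw [h1]
        exact T.mul_mem (T.mul_mem u.2.1 y.2.2) (T.inv_mem (hR u u.2))⟩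
      one_smul := fun y => Subtype.ext
        (show ((1 : R) : G) * y.1 * ((1 : R) : G)⁻¹ = y.1 by simp)
      mul_smul := fun a b y => Subtype.ext
        (show ((a * b : R) : G) * y.1 * ((a * b : R) : G)⁻¹ =
          (a : G) * ((b : G) * y.1 * (b : G)⁻¹) * (a : G)⁻¹ by simp [mul_assoc]) }
  haveI : IsEmpty (MulAction.fixedPoints R S) := ⟨fun ⟨y, hy⟩ => by
    obtain ⟨u, huT, huy, hne⟩ := hno y.1 y.2.1
    refine hne ?_
    have huc : c⁻¹ * u * c ∈ T := by
      have h1 : c⁻¹ * u * c = (y.1⁻¹ * c)⁻¹ * (y.1⁻¹ * u * y.1) * (y.1⁻¹ * c) := by group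
      rw [h1]
      exact T.mul_mem (T.mul_mem (T.inv_mem y.2.2) huy) y.2.2
    have huR : u ∈ R := ⟨huT, ⟨c⁻¹ * u * c, huc, by simp [mul_assoc]⟩⟩
    exact mul_inv_eq_iff_eq_mul.1 (congrArg Subtype.val (hy ⟨u, huR⟩))⟩
  have h := (hT.to_le (inf_le_left : R ≤ T)).card_modEq_card_fixedPoints S
  rw [Nat.card_of_isEmpty (α := MulAction.fixedPoints R S)] at h
  exact Nat.modEq_zero_iff_dvd.1 h

/-- If a non-zero central idempotent is a multiple of the sum of a `T`-invariant set `L`, some
member `y` of `L` is centralized by `T ∩ yTy⁻¹`. -/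
theorem exists_centralized {T : Subgroup G} (hT : IsPGroup p T) {e W K : MonoidAlgebra k G}
    (hidem : e * e = e) (hne : e ≠ 0) (hcomm : ∀ u ∈ T, single u 1 * e = e * single u 1)
    (he : e = W * K) (L : G → Prop) (hL : ∀ u ∈ T, ∀ y, L y → L (u * y * u⁻¹))
    (hK : ∀ y, L y → K.coeff y = 1) (hK0 : ∀ y, ¬ L y → K.coeff y = 0) :
    ∃ y, L y ∧ ∀ u ∈ T, y⁻¹ * u * y ∈ T → u * y = y * u := by
  by_contra hno
  push Not at hno
  refine hne (eq_zero_of_mul_subSum hT hidem hcomm ?_)
  rw [he, mul_assoc, mul_subSum_eq_zero hT L hL hno K hK hK0, mul_zero]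

end Cfsg.Agent.H36.DoubleCoset

namespace Cfsg.Agent.H36.DoubleCoset

open Cfsg.Agent.BlockBasic

variable {G : Type*} [Group G] [Finite G] {p : ℕ} {M : Ideal AlgInt}

/-- Reduction of a local-integral element of the complex group algebra modulo the maximal ideal. -/
noncomputable def red (hM : IsPModular p M) (z : MonoidAlgebra ℂ G) (hz : IsIntElt M z) :
    MonoidAlgebra (locRing hM ⧸ locMax hM) G :=
  .ofCoeff (Finsupp.equivFunOnFinite.symm fun g => Ideal.Quotient.mk (locMax hM) ⟨z.coeff g, hz g⟩)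

theorem coeff_red (hM : IsPModular p M) (z : MonoidAlgebra ℂ G) (hz : IsIntElt M z) (g : G) :
    (red hM z hz).coeff g = Ideal.Quotient.mk (locMax hM) ⟨z.coeff g, hz g⟩ := by
  simp [red]

theorem red_congr (hM : IsPModular p M) {z w : MonoidAlgebra ℂ G} (hz : IsIntElt M z)
    (hw : IsIntElt M w) (h : ∀ g, MemLocalIdeal M (z.coeff g - w.coeff g)) :
    red hM z hz = red hM w hw := by
  apply coeff_injective
  ext g
  rw [coeff_red, coeff_red, Ideal.Quotient.mk_eq_mk_iff_sub_mem, mem_locMax]
  exact h g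

theorem red_mul [Fintype G] (hM : IsPModular p M) {z w : MonoidAlgebra ℂ G} (hz : IsIntElt M z)
    (hw : IsIntElt M w) : red hM (z * w) (hz.mul hM hw) = red hM z hz * red hM w hw := by
  apply coeff_injective
  ext g
  rw [coeff_red]
  conv_rhs => rw [coeff_mul_sum]
  simp only [coeff_red, ← map_mul, ← map_sum]
  congr 1
  apply Subtype.ext
  simp [coeff_mul_sum]

theorem charP_residue [Fact p.Prime] (hM : IsPModular p M) :
    CharP (locRing hM ⧸ locMax hM) p := by
  haveI := locMax_isMaximal hM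
  refine (CharP.charP_iff_prime_eq_zero (Fact.out : p.Prime)).mpr ?_
  rw [← map_natCast (Ideal.Quotient.mk (locMax hM)), Ideal.Quotient.eq_zero_iff_mem]
  exact natCast_p_mem_locMax hM

end Cfsg.Agent.H36.DoubleCoset
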