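import Cfsg.Agent.H80.Unitarise

/-!
# Elements with clustered eigenvalues commute with their conjugates
-/

set_option linter.style.haveILetI false

namespace Cfsg.Agent.H36.FeitSmallDegree

open Subgroup

universe u

variable {G : Type u} [Group G] [Finite G]

/-- Elements near to a scalar commute with their conjugates, in an isometric action. -/
theorem conjugates_le_centralizer_aux {n : ℕ} {E : Type u} [NormedAddCommGroup E]
    [InnerProductSpace ℂ E] (hn : 0 < n)
    (ρ : Representation ℂ G (Fin n → ℂ)) (e : (Fin n → ℂ) ≃ₗ[ℂ] E) (φ : G →* (E →L[ℂ] E))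
    (hiso : ∀ g x, ‖φ g x‖ = ‖x‖) (hinj : Function.Injective φ)
    (heq : ∀ g x, φ g (e x) = e (ρ g x)) {z : G} {m : ℕ} (b : Module.Basis (Fin m) ℂ (Fin n → ℂ))
    (μ : Fin m → ℂ) (hb : ∀ i, ρ z (b i) = μ i • b i) (c : ℂ) (hc : ∀ i, ‖μ i - c‖ < 1 / 2) :
    Group.conjugatesOfSet ({z} : Set G) ⊆
      centralizer (Group.conjugatesOfSet ({z} : Set G)) := by
  haveI : FiniteDimensional ℂ E := e.finiteDimensional
  haveI : Nonempty (Fin n) := ⟨⟨0, hn⟩⟩
  haveI : Nontrivial E := e.symm.toEquiv.nontrivial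
  have hnear : H80.Jordan.Near φ z := by
    refine ⟨c, H80.Jordan.norm_sub_lt φ hiso (b.map e) μ (fun i => ?_) c _ (by norm_num) hc⟩
    rw [Module.Basis.map_apply, heq, hb, map_smul]
  intro a ha c' hc'
  have hnc : ∀ {g : G}, g ∈ Group.conjugatesOfSet ({z} : Set G) → H80.Jordan.Near φ g := by
    intro g hg
    obtain ⟨g', hg', hconj⟩ := Group.mem_conjugatesOfSet_iff.1 hg
    rw [Set.mem_singleton_iff] at hg'
    obtain ⟨u, hu⟩ := isConj_iff.1 hconj
    rw [hg'] at hu
    exact hu ▸ H80.Jordan.near_conj φ hiso u hnear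
  exact (H80.Jordan.near_commute φ hiso hinj (hnc hc') (hnc ha)).eq

/-- Elements near to a scalar commute with their conjugates. -/
theorem conjugates_le_centralizer {n : ℕ} (ρ : Representation ℂ G (Fin n → ℂ))
    (hρ : Function.Injective ρ) {z : G} {m : ℕ} (b : Module.Basis (Fin m) ℂ (Fin n → ℂ))
    (μ : Fin m → ℂ) (hb : ∀ i, ρ z (b i) = μ i • b i) (c : ℂ) (hc : ∀ i, ‖μ i - c‖ < 1 / 2)
    (hn : 0 < n) :
    Group.conjugatesOfSet ({z} : Set G) ⊆
      centralizer (Group.conjugatesOfSet ({z} : Set G)) := by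
  haveI := Fintype.ofFinite G
  have heq : ∀ g x, H80.Jordan.isoAction ρ g (H80.Jordan.orbitEquiv ρ x) =
      H80.Jordan.orbitEquiv ρ (ρ g x) := fun g x => by
    rw [H80.Jordan.isoAction_apply, LinearEquiv.symm_apply_apply]
  have hiso : ∀ g x, ‖H80.Jordan.isoAction ρ g x‖ = ‖x‖ := fun g x =>
    H80.Jordan.norm_isoAction ρ g x
  have h0 := @conjugates_le_centralizer_aux.{u} G _ _ n (LinearMap.range (H80.Jordan.orbitMap ρ)) _ _ hn ρ
    (H80.Jordan.orbitEquiv ρ)
  have h1 := h0 (H80.Jordan.isoAction ρ)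
  have h2 := h1 hiso (H80.Jordan.isoAction_injective ρ hρ)
  exact h2 heq b μ hb c hc

end Cfsg.Agent.H36.FeitSmallDegree
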