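import Cfsg.Agent.H36.FeitNear
import Cfsg.Agent.CharInduce.Induce
import Cfsg.Agent.CharInduce.Transport
import Cfsg.Agent.CharBasic.Kernel
import Cfsg.Agent.CharBasic.Integral
import Cfsg.Agent.Cores.PCore
import Cfsg.Agent.PGroups.Basic
import Cfsg.Prelude.Def_Blocks
import Mathlib.Analysis.Complex.Trigonometric
import Mathlib.RingTheory.RootsOfUnity.Complex
import Mathlib.GroupTheory.Nilpotent

/-!
# Linear groups of degree less than twice a prime
-/

set_option autoImplicit false
set_option linter.style.haveILetI false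

namespace Cfsg.Agent.H36.FeitSmallDegree

open Subgroup Cfsg Cfsg.Agent.CharBasic
open scoped ComplexConjugate commutatorElement

universe u

theorem not_sq_dvd_factorial {p : ℕ} (hp : p.Prime) : ∀ {m : ℕ}, m < 2 * p → ¬ p ^ 2 ∣ m.factorial := by
  intro m
  induction m with
  | zero =>
    intro _ h
    rw [Nat.factorial_zero] at h
    have h1 := Nat.le_of_dvd one_pos h
    nlinarith [hp.two_le]
  | succ k ih =>
    intro hk h
    rw [Nat.factorial_succ] at h
    by_cases hd : p ∣ k + 1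
    · obtain ⟨c, hc⟩ := hd
      have hc1 : c = 1 := by
        rcases c with _ | _ | c
        · omega
        · rfl
        · exfalso; nlinarith
      subst hc1
      rw [hc, mul_one, pow_two] at h
      have h1 : p ∣ k.factorial := Nat.dvd_of_mul_dvd_mul_left hp.pos h
      have := (hp.dvd_factorial).1 h1
      omega
    · exact ih (by omega) ((Nat.Coprime.pow_left 2 (hp.coprime_iff_not_dvd.2 hd)).dvd_of_dvd_mul_left h)

/-- Multiplicities of roots of unity from the power sums. -/
theorem two_values {ι : Type*} [Fintype ι] {p : ℕ} (hp : p.Prime) (e : ℕ) (he : e ≠ 0) (q : ℕ)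
    (f : ι → ℂ) (hf : ∀ i, f i ^ p = 1) {ω : ℂ} (hω : IsPrimitiveRoot ω p)
    (hsum : ∀ k, (e : ℂ) * ∑ i, f i ^ k = (p : ℂ) * ω ^ k + (q : ℂ)) :
    (∀ i, f i = 1 ∨ f i = ω) ∧
      e * (Finset.univ.filter fun i => f i = ω).card = p := by
  classical
  have hp0 : (p : ℂ) ≠ 0 := Nat.cast_ne_zero.2 hp.ne_zero
  have hgeo : ∀ r : ℂ, r ^ p = 1 → ∑ k ∈ Finset.range p, r ^ k = if r = 1 then (p : ℂ) else 0 := by
    intro r hr
    split_ifs with h
    · simp [h]
    · rw [geom_sum_eq h, hr, sub_self, zero_div]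
  have hω1 : ω ≠ 1 := hω.ne_one hp.one_lt
  have main : ∀ η : ℂ, η ^ p = 1 → (e : ℂ) * ((Finset.univ.filter fun i => f i = η).card : ℂ) =
      (if η = ω then (p : ℂ) else 0) + (if η = 1 then (q : ℂ) else 0) := by
    intro η hη
    have hη0 : η ≠ 0 := fun h => by simp [h, zero_pow hp.ne_zero] at hη
    have hpow : ∀ a : ℂ, a ^ p = 1 → (a / η) ^ p = 1 := fun a ha => by
      rw [div_pow, ha, hη, div_one]
    have h : ∑ k ∈ Finset.range p, (η⁻¹) ^ k * ((e : ℂ) * ∑ i, f i ^ k) =
        ∑ k ∈ Finset.range p, (η⁻¹) ^ k * ((p : ℂ) * ω ^ k + (q : ℂ)) := by simp only [hsum]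
    have hl : ∑ k ∈ Finset.range p, (η⁻¹) ^ k * ((e : ℂ) * ∑ i, f i ^ k) =
        (e : ℂ) * ∑ i, ∑ k ∈ Finset.range p, (f i / η) ^ k := by
      simp only [Finset.mul_sum]
      rw [Finset.sum_comm]
      exact Finset.sum_congr rfl fun i _ => Finset.sum_congr rfl fun k _ => by
        rw [div_pow, inv_pow]; field_simp
    have hr : ∑ k ∈ Finset.range p, (η⁻¹) ^ k * ((p : ℂ) * ω ^ k + (q : ℂ)) =
        (p : ℂ) * ∑ k ∈ Finset.range p, (ω / η) ^ k + (q : ℂ) * ∑ k ∈ Finset.range p, (1 / η) ^ k := by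
      simp only [Finset.mul_sum, ← Finset.sum_add_distrib]
      exact Finset.sum_congr rfl fun k _ => by
        rw [div_pow, div_pow, inv_pow, one_pow]; field_simp
    rw [hl, hr, hgeo _ (hpow ω hω.pow_eq_one), hgeo _ (hpow 1 (one_pow p))] at h
    rw [Finset.sum_congr rfl fun i _ => hgeo _ (hpow _ (hf i))] at h
    simp only [div_eq_one_iff_eq hη0, Finset.sum_ite, Finset.sum_const, Finset.sum_const_zero,
      mul_zero, add_zero, nsmul_eq_mul] at h
    apply mul_right_cancel₀ hp0
    rw [mul_assoc, h]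
    simp only [eq_comm (a := η)]
    split_ifs <;> ring
  refine ⟨fun i => ?_, ?_⟩
  · by_contra h
    push Not at h
    have h' := main (f i) (hf i)
    rw [if_neg h.2, if_neg h.1, add_zero, mul_eq_zero] at h'
    rcases h' with h' | h'
    · exact he (by exact_mod_cast h')
    · rw [Nat.cast_eq_zero, Finset.card_eq_zero] at h'
      exact Finset.eq_empty_iff_forall_notMem.1 h' i (Finset.mem_filter.2 ⟨Finset.mem_univ i, rfl⟩)
  · have h' := main ω hω.pow_eq_one
    rw [if_pos rfl, if_neg hω1, add_zero] at h'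
    exact_mod_cast h'

variable {G : Type u} [Group G] [Finite G] {p : ℕ} [hp : Fact p.Prime]

/-- Characters of small degree of a `p`-group kill the derived group. -/
theorem eq_one_of_small {P : Type u} [Group P] [Finite P] (hP : IsPGroup p P) {r : P → ℂ}
    (hr : IsCharacter P r) {z : P} (hz : z ∈ commutator P) :
    ∀ d : ℕ, d < p → r 1 = (d : ℂ) → r z = r 1 := by
  cases nonempty_fintype P
  have hirr : ∀ ψ : P → ℂ, IsIrrCharacter P ψ → ∀ d : ℕ, d < p → ψ 1 = (d : ℂ) → ψ z = ψ 1 := by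
    intro ψ hψ d hd h1
    obtain ⟨e, he0, he, hed, -⟩ := IsIrr.degree_dvd hψ
    obtain ⟨a, ha⟩ := IsPGroup.iff_card.1 hP
    have hde : d = e := Nat.cast_injective (h1.symm.trans he)
    have he1 : e = 1 := by
      rw [ha] at hed
      obtain ⟨j, -, rfl⟩ := (Nat.dvd_prime_pow hp.out).1 hed
      rcases j with _ | j
      · rfl
      · have := Nat.le_self_pow (show j + 1 ≠ 0 by omega) p
        omega
    obtain ⟨l, hl⟩ := CharInduce.IsChar.exists_hom_of_degree_one (IsIrr.isCharacter hψ)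
      (by rw [he, he1, Nat.cast_one])
    rw [hl, hl, map_one, MonoidHom.mem_ker.1 (Abelianization.commutator_subset_ker l hz)]
  refine IsChar.induction_on (p := fun s => ∀ d : ℕ, d < p → s 1 = (d : ℂ) → s z = s 1) hr
    (fun _ _ _ => rfl) ?_
  intro a b ha hb hb' d hd h1
  have ha' := hirr a ha
  have ha := IsIrr.isCharacter ha
  obtain ⟨i, hi⟩ := IsChar.exists_degree ha
  obtain ⟨j, hj⟩ := IsChar.exists_degree hb
  have hij : i + j = d := by
    rw [Pi.add_apply, hi, hj] at h1
    exact_mod_cast h1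
  rw [Pi.add_apply, Pi.add_apply, ha' i (by omega) hi, hb' j (by omega) hj]

/-- The shape of the character on a power of a central element of the derived group. -/
theorem exists_two_value_element {n : ℕ} (ρ : Representation ℂ G (Fin n → ℂ))
    (hinj : ∀ g, ρ.character g = ρ.character 1 → g = 1) (P : Sylow p G)
    (hP : ∃ x ∈ (P : Subgroup G), ∃ y ∈ (P : Subgroup G), x * y ≠ y * x) (h7 : 7 ≤ p)
    (hn2 : n < 2 * p) :
    p ≤ n ∧ ∃ z : G, z ≠ 1 ∧ z ^ p = 1 ∧
      ∀ k : ℕ, ρ.character (z ^ k) =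
        (p : ℂ) * Complex.exp (2 * Real.pi * Complex.I / p) ^ k + ((n - p : ℕ) : ℂ) := by
  classical
  cases nonempty_fintype G
  haveI := Fintype.ofFinite (P : Subgroup G)
  obtain ⟨x, hx, y, hy, hxy⟩ := hP
  haveI : Group.IsNilpotent (P : Subgroup G) := P.isPGroup'.isNilpotent
  have hne : commutator (P : Subgroup G) ≠ ⊥ := by
    intro h
    apply hxy
    have hm : ⁅(⟨x, hx⟩ : (P : Subgroup G)), ⟨y, hy⟩⁆ ∈ commutator (P : Subgroup G) :=
      commutator_mem_commutator (mem_top _) (mem_top _)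
    rw [h, mem_bot, commutatorElement_eq_one_iff_mul_comm] at hm
    exact congrArg Subtype.val hm
  have hZ : commutator (P : Subgroup G) ⊓ center (P : Subgroup G) ≠ ⊥ :=
    PGroups.inf_center_ne_bot P.isPGroup' _ hne
  obtain ⟨w, hw, hw1⟩ := (Subgroup.bot_or_exists_ne_one _).resolve_left hZ
  obtain ⟨a, ha⟩ := IsPGroup.iff_orderOf.1 P.isPGroup' w
  obtain ⟨b, rfl⟩ : ∃ b, a = b + 1 := ⟨a - 1, by
    rcases a with _ | a
    · rw [pow_zero, orderOf_eq_one_iff] at ha; exact absurd ha hw1
    · rfl⟩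
  set z := w ^ (p ^ b) with hz
  have hzp : z ^ p = 1 := by rw [hz, ← pow_mul, ← pow_succ, ← ha, pow_orderOf_eq_one]
  have hz1 : z ≠ 1 := fun h => by
    have := orderOf_dvd_of_pow_eq_one h
    rw [ha, Nat.pow_dvd_pow_iff_le_right hp.out.one_lt] at this
    omega
  have hzZ : z ∈ commutator (P : Subgroup G) ⊓ center (P : Subgroup G) := pow_mem hw _
  obtain ⟨hzc, hzz⟩ := Subgroup.mem_inf.1 hzZ
  set θ : ↥(P : Subgroup G) → ℂ := fun g => ρ.character g with hθ
  have hθc : IsCharacter (P : Subgroup G) θ := CharInduce.IsChar.res ⟨n, ρ, rfl⟩ _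
  obtain ⟨ψ, hψ, hψz⟩ : ∃ ψ : IrrCharacter (P : Subgroup G), classInner θ (ψ : ↥(P : Subgroup G) → ℂ) ≠ 0 ∧
      (ψ : ↥(P : Subgroup G) → ℂ) z ≠ (ψ : ↥(P : Subgroup G) → ℂ) 1 := by
    by_contra h
    push Not at h
    refine hz1 (Subtype.ext (hinj _ ?_))
    show θ z = θ 1
    rw [classFunction_expansion (IsChar.isClassFunction hθc)]
    simp only [Finset.sum_apply, Pi.smul_apply, smul_eq_mul]
    refine Finset.sum_congr rfl fun χ _ => ?_
    by_cases h0 : classInner θ (χ : ↥(P : Subgroup G) → ℂ) = 0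
    · simp [h0]
    · rw [h χ h0]
  obtain ⟨r, hr, he⟩ := CharInduce.IsChar.exists_eq_add hθc ψ.2 hψ
  obtain ⟨d, hd0, hd, hdd, -⟩ := IsIrr.degree_dvd ψ.2
  obtain ⟨s, hs⟩ := IsChar.exists_degree hr
  have hds : d + s = n := by
    have h1 := congrFun he 1
    rw [Pi.add_apply, hd, hs, hθ] at h1
    simp only [OneMemClass.coe_one, Representation.char_one, Module.finrank_fin_fun] at h1
    exact_mod_cast h1.symm
  have hdp : d = p := by
    obtain ⟨c, hc⟩ := IsPGroup.iff_card.1 P.isPGroup'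
    rw [hc] at hdd
    obtain ⟨j, -, rfl⟩ := (Nat.dvd_prime_pow hp.out).1 hdd
    match j with
    | 0 =>
      exfalso
      exact hψz (eq_one_of_small P.isPGroup' (IsIrr.isCharacter ψ.2) hzc 1 hp.out.one_lt
        (by simpa using hd))
    | 1 => exact pow_one p
    | j + 2 =>
      exfalso
      have h1 : p ^ 2 ≤ p ^ (j + 2) := Nat.pow_le_pow_right hp.out.pos (by omega)
      have h2 : 2 * p ≤ p ^ 2 := by rw [pow_two]; exact Nat.mul_le_mul_right p hp.out.two_le
      omega
  subst hdp
  refine ⟨by omega, ?_⟩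
  obtain ⟨m, σ, hσ, hψe⟩ := ψ.2
  obtain ⟨c, hc, -⟩ := exists_central_scalar σ hzz
  have hm : (m : ℂ) = (d : ℂ) := by
    rw [← hd, ← hψe, Representation.char_one, Module.finrank_fin_fun]
  haveI : Nontrivial (Fin m → ℂ) := nontrivial_of_isIrreducible σ
  have hpowc : ∀ k : ℕ, σ (z ^ k) = c ^ k • (1 : Module.End ℂ (Fin m → ℂ)) := by
    intro k
    rw [map_pow, hc, ← Module.End.one_eq_id, smul_pow, one_pow]
  have hψpow : ∀ k : ℕ, (ψ : ↥(P : Subgroup G) → ℂ) (z ^ k) = (d : ℂ) * c ^ k := by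
    intro k
    rw [← hψe, Representation.character, hpowc, map_smul, LinearMap.trace_one,
      Module.finrank_fin_fun, smul_eq_mul, hm, mul_comm]
  have hcp : c ^ d = 1 := by
    have h := hψpow d
    rw [hzp, hd] at h
    have hd0' : (d : ℂ) ≠ 0 := Nat.cast_ne_zero.2 hd0.ne'
    exact (mul_left_cancel₀ hd0' (h.symm.trans (mul_one _).symm))
  have hc1 : c ≠ 1 := fun h => hψz (by
    have := hψpow 1
    rw [pow_one, pow_one, h, mul_one] at this
    rw [this, hd])
  have hprim : IsPrimitiveRoot c d :=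
    IsPrimitiveRoot.iff_orderOf.2 (orderOf_eq_prime hcp hc1)
  haveI : NeZero d := ⟨hd0.ne'⟩
  obtain ⟨k₀, -, hk₀⟩ := hprim.eq_pow_of_pow_eq_one
    (Complex.isPrimitiveRoot_exp d hd0.ne').pow_eq_one
  have hval : ∀ k : ℕ, ρ.character ((z : G) ^ k) = (d : ℂ) * c ^ k + (s : ℂ) := by
    intro k
    have h1 := congrFun he (z ^ k)
    rw [Pi.add_apply, hψpow, eq_one_of_small P.isPGroup' hr (pow_mem hzc k) s (by omega) hs, hs,
      hθ] at h1
    simpa using h1
  refine ⟨(z : G) ^ k₀, fun h => ?_, ?_, fun k => ?_⟩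
  · have h1 := hval k₀
    rw [h, Representation.char_one, Module.finrank_fin_fun, hk₀, ← hds] at h1
    push_cast at h1
    have h2 : Complex.exp (2 * Real.pi * Complex.I / d) = 1 :=
      mul_left_cancel₀ (Nat.cast_ne_zero.2 hd0.ne') (by linear_combination -h1)
    exact (Complex.isPrimitiveRoot_exp d hd0.ne').ne_one hp.out.one_lt h2
  · rw [← pow_mul, mul_comm, pow_mul, show (z : G) ^ d = 1 from congrArg Subtype.val hzp, one_pow]
  · rw [← pow_mul, hval, pow_mul, hk₀, ← hds]
    simp

omit hp in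
theorem half_chord_lt {p : ℕ} (h7 : 7 ≤ p) :
    ‖Complex.exp (2 * Real.pi * Complex.I / p) - 1‖ / 2 < 1 / 2 := by
  have e : (2 * Real.pi * Complex.I / p : ℂ) = Complex.I * ((2 * Real.pi / p : ℝ) : ℂ) := by
    push_cast; ring
  have hpos : (0 : ℝ) < p := by exact_mod_cast (show 0 < p by omega)
  have h : ‖Complex.exp (2 * Real.pi * Complex.I / p) - 1‖ ≤ 2 * Real.pi / p := by
    rw [e]
    refine Real.norm_exp_I_mul_ofReal_sub_one_le.trans_eq ?_
    rw [Real.norm_eq_abs, abs_of_nonneg (by positivity)]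
  have h2 : 2 * Real.pi / p < 1 := by
    rw [div_lt_one hpos]
    have h7' : (7 : ℝ) ≤ p := by exact_mod_cast h7
    linarith [Real.pi_lt_d2]
  linarith

set_option maxHeartbeats 1000000 in
/-- Feit: the `p`-part of the index of `O_p`. -/
theorem not_sq_dvd {n : ℕ} (ρ : Representation ℂ G (Fin n → ℂ)) [ρ.IsIrreducible]
    (hinj : ∀ g, ρ.character g = ρ.character 1 → g = 1) (h7 : 7 ≤ p) (hn2 : n < 2 * p)
    (hnp : n ≠ p) (P : Sylow p G)
    (hP : ∃ x ∈ (P : Subgroup G), ∃ y ∈ (P : Subgroup G), x * y ≠ y * x) :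
    ¬ p ^ 2 ∣ (pCore p G).index := by
  classical
  cases nonempty_fintype G
  obtain ⟨hpn, z, hz1, hzp, hchar⟩ := exists_two_value_element ρ hinj P hP h7 hn2
  set ω := Complex.exp (2 * Real.pi * Complex.I / p) with hωdef
  have hω : IsPrimitiveRoot ω p := Complex.isPrimitiveRoot_exp p hp.out.ne_zero
  have hρinj : Function.Injective ρ := by
    intro a b e
    have h1 : ρ (b⁻¹ * a) = 1 := by rw [map_mul, e, ← map_mul, inv_mul_cancel, map_one]
    have h2 : b⁻¹ * a = 1 := hinj _ (by simp only [Representation.character, h1, map_one])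
    exact (inv_mul_eq_one.1 h2).symm
  obtain ⟨b, μ, hb, hμ⟩ := exists_eigenbasis (f := ρ z) (m := p) hp.out.pos
    (by rw [← map_pow, hzp, map_one])
  have hbk : ∀ k : ℕ, ∀ i, ρ (z ^ k) (b i) = μ i ^ k • b i := by
    intro k
    induction k with
    | zero => intro i; simp
    | succ k ih =>
      intro i
      rw [pow_succ, map_mul, Module.End.mul_apply, hb, map_smul, ih, smul_smul, pow_succ']
  have htr : ∀ k : ℕ, ρ.character (z ^ k) = ∑ i, μ i ^ k := fun k =>
    trace_eq_sum_of_eigenbasis b _ _ (hbk k)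
  obtain ⟨hμ2, -⟩ := two_values hp.out 1 one_ne_zero (n - p) μ hμ hω (fun k => by
    rw [← htr, hchar, Nat.cast_one, one_mul])
  have hcl : ∀ i, ‖μ i - (1 + ω) / 2‖ < 1 / 2 := by
    intro i
    have hlt := half_chord_lt h7
    rw [← hωdef] at hlt
    rcases hμ2 i with h | h <;> rw [h]
    · rw [show (1 : ℂ) - (1 + ω) / 2 = -((ω - 1) / 2) by ring, norm_neg, norm_div]
      simpa using hlt
    · rw [show ω - (1 + ω) / 2 = (ω - 1) / 2 by ring, norm_div]
      simpa using hlt
  set N := normalClosure ({z} : Set G) with hN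
  have hzN : z ∈ N := subset_normalClosure rfl
  have hSc := conjugates_le_centralizer ρ hρinj b μ hb _ hcl (by omega)
  have hNcomm : N ≤ centralizer (N : Set G) := by
    show Subgroup.closure _ ≤ centralizer ((Subgroup.closure _ : Subgroup G) : Set G)
    rw [centralizer_closure, closure_le]
    exact hSc
  -- Clifford's theorem for `N`
  haveI := Fintype.ofFinite N
  have hχ : IsIrrCharacter G ρ.character := ⟨n, ρ, inferInstance, rfl⟩
  set θ : N → ℂ := fun m => ρ.character m with hθ
  have hθ0 : θ ≠ 0 := fun h => by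
    have h1 := congrFun h 1
    rw [hθ] at h1
    simp at h1
    omega
  obtain ⟨l, hl⟩ := CharInduce.exists_constituent
    (CharInduce.IsChar.res (IsIrr.isCharacter hχ) N) hθ0
  have hNab : ∀ a b : N, a * b = b * a := fun a b => Subtype.ext (hNcomm b.2 _ a.2)
  have hl1 : (l : N → ℂ) 1 = 1 := CharInduce.IsIrr.degree_one_of_comm hNab l.2
  obtain ⟨L, hL⟩ := CharInduce.IsChar.exists_hom_of_degree_one (IsIrr.isCharacter l.2) hl1
  obtain ⟨e, he⟩ := classInner_isChar_nat (CharInduce.IsChar.res (IsIrr.isCharacter hχ) N)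
    (IsIrr.isCharacter l.2)
  have he0 : e ≠ 0 := fun h => hl (by rw [he, h, Nat.cast_zero])
  have hexp := CharInduce.clifford N hχ l.2 hl
  rw [he] at hexp
  set O := Finset.univ.image (CharInduce.conjFun N (l : N → ℂ)) with hO
  have hdeg := CharInduce.clifford_degree N hχ l.2 hl
  rw [he, hl1, mul_one, Representation.char_one, Module.finrank_fin_fun] at hdeg
  set t := (CharInduce.inertia N (l : N → ℂ)).index with ht
  have hne : n = e * t := by exact_mod_cast hdeg
  let zN : N := ⟨z, hzN⟩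
  have hvals : ∀ ψ : O, (ψ : N → ℂ) zN ^ p = 1 ∧ ∀ k : ℕ, (ψ : N → ℂ) (zN ^ k) = (ψ : N → ℂ) zN ^ k := by
    rintro ⟨ψ, hψ⟩
    obtain ⟨g, -, rfl⟩ := Finset.mem_image.1 hψ
    have hpw : ∀ k : ℕ, CharInduce.conjFun N (l : N → ℂ) g (zN ^ k) =
        CharInduce.conjFun N (l : N → ℂ) g zN ^ k := fun k => by
      rw [CharInduce.conjFun_eq_comp]
      simp only [map_pow, hL, Units.val_pow_eq_pow_val]
    refine ⟨?_, hpw⟩
    rw [← hpw, show zN ^ p = 1 from Subtype.ext hzp, CharInduce.conjFun_eq_comp]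
    simp [hL]
  obtain ⟨-, hcount⟩ := two_values hp.out e he0 (n - p) (fun ψ : O => (ψ : N → ℂ) zN)
    (fun ψ => (hvals ψ).1) hω fun k => by
      rw [← hchar]
      have h1 := congrFun hexp (zN ^ k)
      simp only [Pi.smul_apply, Finset.sum_apply, smul_eq_mul, zN, SubmonoidClass.coe_pow] at h1
      rw [h1]
      congr 1
      rw [← Finset.sum_coe_sort O]
      exact Finset.sum_congr rfl fun ψ _ => ((hvals ψ).2 k).symm
  have he1 : e = 1 := by
    rcases (Nat.dvd_prime hp.out).1 (Dvd.intro _ hcount) with h | h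
    · exact h
    · exfalso
      rw [h] at hne
      rcases t with _ | _ | t
      · omega
      · omega
      · have : p * 2 ≤ p * (t + 1 + 1) := Nat.mul_le_mul_left p (by omega)
        omega
  subst he1
  have htn : t = n := by omega
  rw [Nat.cast_one, one_smul] at hexp
  -- the centraliser of `N` is abelian
  set C := centralizer (N : Set G) with hC
  have hmult : ∀ ψ : IrrCharacter N, classInner θ (ψ : N → ℂ) = 0 ∨ classInner θ (ψ : N → ℂ) = 1 := by
    intro ψ
    rw [hθ, hexp, classInner_sum_left]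
    have h1 : ∀ χ ∈ O, classInner χ (ψ : N → ℂ) = if χ = ψ then 1 else 0 := fun χ hχ' => by
      obtain ⟨g, -, rfl⟩ := Finset.mem_image.1 hχ'
      exact classInner_irr (CharInduce.isIrrCharacter_conjFun N l.2 g) ψ.2
    rw [Finset.sum_congr rfl h1, Finset.sum_ite_eq']
    split_ifs <;> simp
  haveI := Fintype.ofFinite C
  have hlin : ∀ φ' : IrrCharacter C, classInner (fun c : C => ρ.character c) (φ' : C → ℂ) ≠ 0 →
      (φ' : C → ℂ) 1 = 1 := by
    intro φ' hφ
    let N' := N.subgroupOf C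
    haveI := Fintype.ofFinite N'
    let ι' : N ≃* N' := (subgroupOfEquivOfLe hNcomm).symm
    obtain ⟨f, hf0, hf⟩ := IsIrr.exists_degree φ'.2
    obtain ⟨r, hr, hsplit⟩ := CharInduce.IsChar.exists_eq_add
      (CharInduce.IsChar.res (IsIrr.isCharacter hχ) C) φ'.2 hφ
    let toC : N →* C := inclusion hNcomm
    have hcent : ∀ m : N, toC m ∈ center C := fun m =>
      Subgroup.mem_center_iff.2 fun c => Subtype.ext (c.2 _ m.2).symm
    obtain ⟨a, σ, hσ, hσe⟩ := φ'.2
    have hsc : ∀ m : N, ∃ c : ℂ, σ (toC m) = c • LinearMap.id := fun m =>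
      (exists_central_scalar σ (hcent m)).imp fun _ h => h.1
    choose sc hsc using hsc
    have ha : (a : ℂ) = f := by rw [← hf, ← hσe, Representation.char_one, Module.finrank_fin_fun]
    have hf0' : (f : ℂ) ≠ 0 := Nat.cast_ne_zero.2 hf0.ne'
    have hres : ∀ m : N, (φ' : C → ℂ) (toC m) = (f : ℂ) * sc m := fun m => by
      rw [← hσe, Representation.character, hsc, map_smul, LinearMap.trace_id,
        Module.finrank_fin_fun, smul_eq_mul, ha, mul_comm]
    haveI : Nontrivial (Fin a → ℂ) := nontrivial_of_isIrreducible σ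
    have hv : ∀ c d : ℂ, c • (LinearMap.id : (Fin a → ℂ) →ₗ[ℂ] _) = d • LinearMap.id → c = d :=
      fun c d h => by
        obtain ⟨v, hv⟩ := exists_ne (0 : Fin a → ℂ)
        exact smul_left_injective ℂ hv (LinearMap.congr_fun h v)
    let scHom : N →* ℂ :=
      { toFun := sc
        map_one' := hv _ _ (by rw [← hsc, map_one, map_one, one_smul]; rfl)
        map_mul' := fun x y => hv _ _ (by
          rw [← hsc, map_mul, map_mul, hsc, hsc]
          refine LinearMap.ext fun v => ?_; simp [Module.End.mul_apply, smul_smul, mul_comm (sc y)]) }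
    let lam : IrrCharacter N :=
      ⟨_, CharInduce.isIrrCharacter_hom scHom.toHomUnits⟩
    have hlam : ∀ m, (lam : N → ℂ) m = sc m := fun m => rfl
    have h1 : classInner (fun m : N => (φ' : C → ℂ) (toC m)) (lam : N → ℂ) = (f : ℂ) := by
      have he' : (fun m : N => (φ' : C → ℂ) (toC m)) = (f : ℂ) • (lam : N → ℂ) := by
        funext m
        rw [hres, Pi.smul_apply, smul_eq_mul, hlam]
      rw [he', classInner_smul_left, classInner_irr_self lam.2, mul_one]
    obtain ⟨k, hk⟩ := classInner_isChar_nat (CharInduce.IsChar.comp hr toC) (IsIrr.isCharacter lam.2)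
    have h2 : classInner θ (lam : N → ℂ) = ((f + k : ℕ) : ℂ) := by
      have hθe : θ = (fun m : N => (φ' : C → ℂ) (toC m)) + fun m : N => r (toC m) := by
        funext m
        exact congrFun hsplit (toC m)
      rw [hθe, classInner_add_left, h1, hk, Nat.cast_add]
    rcases hmult lam with h | h <;> rw [h2] at h
    · rw [Nat.cast_eq_zero] at h; omega
    · rw [Nat.cast_eq_one] at h
      rw [hf, show f = 1 by omega, Nat.cast_one]
  have hCab : ∀ a b : C, a * b = b * a := by
    intro a b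
    rw [← commutatorElement_eq_one_iff_mul_comm]
    refine Subtype.ext (hinj _ ?_)
    show (fun c : C => ρ.character c) ⁅a, b⁆ = (fun c : C => ρ.character c) 1
    rw [classFunction_expansion (IsChar.isClassFunction
      (CharInduce.IsChar.res (IsIrr.isCharacter hχ) C))]
    simp only [Finset.sum_apply, Pi.smul_apply, smul_eq_mul]
    refine Finset.sum_congr rfl fun φ' _ => ?_
    by_cases h0 : classInner (fun c : C => ρ.character c) (φ' : C → ℂ) = 0
    · simp [h0]
    obtain ⟨M, hM⟩ := CharInduce.IsChar.exists_hom_of_degree_one (IsIrr.isCharacter φ'.2) (hlin φ' h0)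
    congr 1
    simp [hM, map_commutatorElement, commutatorElement_eq_one_iff_mul_comm, mul_comm]
  -- the permutation action on the constituents
  have hcore : (CharInduce.inertia N (l : N → ℂ)).normalCore ≤ C := by
    intro g hg
    refine mem_centralizer_iff.2 fun m hm => ?_
    let m' : N := ⟨m, hm⟩
    let d : N := ⟨g⁻¹ * m * g, by
      simpa using (inferInstance : N.Normal).conj_mem m hm g⁻¹⟩ * m'⁻¹
    have hd : d = 1 := by
      refine Subtype.ext (hinj _ ?_)
      show θ d = θ 1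
      rw [hθ, hexp, Finset.sum_apply, Finset.sum_apply]
      refine Finset.sum_congr rfl fun ψ hψ => ?_
      obtain ⟨x, -, rfl⟩ := Finset.mem_image.1 hψ
      have hx : CharInduce.conjFun N (l : N → ℂ) (x * g) = CharInduce.conjFun N (l : N → ℂ) x := by
        rw [CharInduce.conjFun_eq_iff]
        exact hg x
      have h1 : CharInduce.conjFun N (l : N → ℂ) x d =
          CharInduce.conjFun N (l : N → ℂ) x ⟨g⁻¹ * m * g, by
            simpa using (inferInstance : N.Normal).conj_mem m hm g⁻¹⟩ *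
            CharInduce.conjFun N (l : N → ℂ) x m'⁻¹ := by
        rw [CharInduce.conjFun_eq_comp]
        simp [d, hL, map_mul]
      have h2 : CharInduce.conjFun N (l : N → ℂ) x ⟨g⁻¹ * m * g, by
          simpa using (inferInstance : N.Normal).conj_mem m hm g⁻¹⟩ =
            CharInduce.conjFun N (l : N → ℂ) x m' := by
        conv_lhs => rw [← hx]
        simp only [CharInduce.conjFun]
        exact congrArg (l : N → ℂ) (Subtype.ext (by simp [m', mul_assoc]))
      rw [h1, h2, CharInduce.conjFun_eq_comp]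
      simp [hL]
    have hd' : g⁻¹ * m * g * m⁻¹ = 1 := congrArg Subtype.val hd
    calc m * g = g * (g⁻¹ * m * g * m⁻¹) * m := by group
      _ = g * m := by rw [hd', mul_one]
  have hCidx : ¬ p ^ 2 ∣ C.index := fun hd => by
    refine not_sq_dvd_factorial hp.out (m := t) (by omega) (hd.trans ?_)
    refine (index_dvd_of_le hcore).trans ?_
    rw [normalCore_eq_ker, index_ker, ht, index, ← Nat.card_perm]
    exact card_subgroup_dvd_card _
  intro hd
  apply hCidx
  obtain ⟨S⟩ := Sylow.nonempty (p := p) (G := C)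
  haveI : (S : Subgroup C).Normal := ⟨fun a ha g => by
    rwa [hCab g a, mul_assoc, mul_inv_cancel, mul_one]⟩
  haveI := Sylow.characteristic_of_normal S inferInstance
  have hS' : ((S : Subgroup C).map C.subtype).Normal := ConjAct.normal_of_characteristic_of_normal
  have hle : (S : Subgroup C).map C.subtype ≤ pCore p G := Cores.le_pCore (S.isPGroup'.map _)
  have h := hd.trans (index_dvd_of_le hle)
  rw [index_map_subtype] at h
  exact (Nat.Coprime.pow_left 2 (hp.out.coprime_iff_not_dvd.2 S.not_dvd_index)).dvd_of_dvd_mul_left h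

/-- The Sylow subgroups of `G / O_p(G)` are then abelian. -/
theorem quotient_sylow_comm (hidx : (∃ P : Sylow p G, ∃ x ∈ (P : Subgroup G), ∃ y ∈ (P : Subgroup G),
      x * y ≠ y * x) → ¬ p ^ 2 ∣ (pCore p G).index)
    (Q : Sylow p (G ⧸ pCore p G)) :
    ∀ x ∈ (Q : Subgroup (G ⧸ pCore p G)), ∀ y ∈ (Q : Subgroup (G ⧸ pCore p G)), x * y = y * x := by
  by_cases hab : ∃ P : Sylow p G, ∃ x ∈ (P : Subgroup G), ∃ y ∈ (P : Subgroup G), x * y ≠ y * x
  · intro x hx y hy
    obtain ⟨k, hk⟩ := IsPGroup.iff_card.1 Q.isPGroup'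
    have hk1 : k ≤ 1 := by
      by_contra h
      refine hidx hab ((pow_dvd_pow p (show 2 ≤ k by omega)).trans ?_)
      rw [← hk, index_eq_card]
      exact card_subgroup_dvd_card _
    haveI : IsCyclic (Q : Subgroup (G ⧸ pCore p G)) := by
      rcases Nat.le_one_iff_eq_zero_or_eq_one.1 hk1 with rfl | rfl
      · haveI := (Nat.card_eq_one_iff_unique.1 (hk.trans (pow_zero p))).1
        exact isCyclic_of_subsingleton
      · exact isCyclic_of_prime_card (hk.trans (pow_one p))
    letI := IsCyclic.commGroup (α := (Q : Subgroup (G ⧸ pCore p G)))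
    exact congrArg Subtype.val (mul_comm (⟨x, hx⟩ : (Q : Subgroup (G ⧸ pCore p G))) ⟨y, hy⟩)
  · push Not at hab
    obtain ⟨P, rfl⟩ := Sylow.mapSurjective_surjective (f := QuotientGroup.mk' (pCore p G))
      (QuotientGroup.mk'_surjective _) p Q
    rintro _ ⟨x, hx, rfl⟩ _ ⟨y, hy, rfl⟩
    rw [← map_mul, hab P x hx y hy, map_mul]

end Cfsg.Agent.H36.FeitSmallDegree
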