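import Cfsg.Agent.H36.NoSimple
import Cfsg.Agent.H36.TwoLocal
import Cfsg.Agent.H36.Orbits

/-!
# Thirty-six Sylow `5`-subgroups in a group of order 1440
-/

set_option autoImplicit false
set_option linter.unusedSectionVars false
set_option linter.style.haveILetI false

namespace Cfsg.Agent.H36

open Subgroup

theorem false_of_card_1440 {G : Type*} [Group G] [Finite G] [IsSimpleGroup G]
    (hn : Nat.card G = 1440) (hG : ¬ IsMulCommutative G) [Fact (Nat.Prime 5)] (P : Sylow 5 G)
    (hP : Nat.card (P : Subgroup G) = 5) (hk : Nat.card (Sylow 5 G) = 36)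
    (hC : Nat.card (centralizer ((P : Subgroup G) : Set G)) = 5 * 2) : False := by
  classical
  haveI : Fact (Nat.Prime 2) := ⟨by norm_num⟩
  set N := normalizer ((P : Subgroup G) : Set G) with hNdef
  set C := centralizer ((P : Subgroup G) : Set G) with hCdef
  have hN : Nat.card N = 40 := card_normalizer_of_card_sylow P hn hk (by norm_num)
  obtain ⟨⟨u, huC⟩, hu'⟩ := exists_prime_orderOf_dvd_card' (G := C) 2 (by rw [hC]; norm_num)
  have hu : orderOf u = 2 := by rw [← hu']; exact (orderOf_mk u huC).symm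
  have huu : u * u = 1 := by rw [← pow_two, ← hu, pow_orderOf_eq_one]
  have hu1 : u ≠ 1 := fun h => by rw [h, orderOf_one] at hu; omega
  -- `u` is the only involution of `C`
  have huniq : ∀ v ∈ C, v * v = 1 → v ≠ 1 → v = u := by
    intro v hv hvv hv1
    have hidx : ((P : Subgroup G).subgroupOf C).index = 2 := by
      have hle : (P : Subgroup G) ≤ C := fun a ha => mem_centralizer_iff.2 fun b hb => by
        haveI : IsCyclic (P : Subgroup G) := isCyclic_of_prime_card hP
        letI : CommGroup (P : Subgroup G) := IsCyclic.commGroup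
        exact congrArg Subtype.val (mul_comm (⟨b, hb⟩ : (P : Subgroup G)) ⟨a, ha⟩)
      rw [index_eq_of_card hC (by rw [Nat.card_congr (subgroupOfEquivOfLe hle).toEquiv, hP])]
    have hnot : ∀ w : G, w * w = 1 → w ≠ 1 → w ∉ (P : Subgroup G) := by
      intro w hw hw1 hwP
      have h5 : orderOf w ∣ 5 := hP ▸ Subgroup.orderOf_dvd_natCard _ hwP
      have h2 : orderOf w ∣ 2 := orderOf_dvd_of_pow_eq_one (by rw [pow_two, hw])
      exact hw1 (orderOf_eq_one_iff.1 (Nat.eq_one_of_dvd_coprimes (by norm_num) h5 h2))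
    have hmem : (⟨v, hv⟩ * ⟨u, huC⟩ : C) ∈ (P : Subgroup G).subgroupOf C := by
      rw [mul_mem_iff_of_index_two hidx, mem_subgroupOf, mem_subgroupOf]
      exact iff_of_false (hnot v hvv hv1) (hnot u huu hu1)
    rw [mem_subgroupOf] at hmem
    change v * u ∈ (P : Subgroup G) at hmem
    have hc : u * (v * u) = v * u * u := (mem_centralizer_iff.1 huC _ hmem).symm
    rw [mul_assoc, huu, mul_one] at hc
    by_contra hne
    refine hnot (v * u) ?_ ?_ hmem
    · rw [mul_assoc, hc, hvv]
    · intro h1
      exact hne (by rw [← inv_eq_of_mul_eq_one_right huu]; exact eq_inv_of_mul_eq_one_left h1)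
  -- `C(u) = N`
  set M := centralizer ({u} : Set G) with hMdef
  have hNM : N ≤ M := by
    intro g hg
    have hmem : g * u * g⁻¹ ∈ C := by
      refine mem_centralizer_iff.2 fun w hw => ?_
      have hw' : g⁻¹ * w * g ∈ (P : Subgroup G) := by
        simpa using (mem_normalizer_iff.1 (inv_mem hg : g⁻¹ ∈ N) w).1 hw
      have := mem_centralizer_iff.1 huC _ hw'
      calc w * (g * u * g⁻¹) = g * ((g⁻¹ * w * g) * u) * g⁻¹ := by group
        _ = g * (u * (g⁻¹ * w * g)) * g⁻¹ := by rw [this]
        _ = g * u * g⁻¹ * w := by group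
    have := huniq _ hmem (by
      rw [show g * u * g⁻¹ * (g * u * g⁻¹) = g * (u * u) * g⁻¹ by group, huu]; group)
      (fun h => hu1 (conj_eq_one_iff.1 h))
    exact mem_centralizer_singleton_iff.2 (mul_inv_eq_iff_eq_mul.1 this)
  have hMtop : M ≠ ⊤ := by
    intro h
    apply hu1
    have : u ∈ center G := mem_center_iff.2 fun x =>
      mem_centralizer_singleton_iff.1 (h ▸ mem_top x : x ∈ M)
    rwa [center_eq_bot_of_simple hG, mem_bot] at this
  have hMN : M = N := eq_normalizer_of_le P hk (by rw [hn]; decide +kernel) M hNM hMtop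
  -- the number of fixed points of `u`
  have hidx : N.index = 36 := by rw [index_eq_of_card hn hN]
  have hcl : Nat.card {g : G // IsConj u g} = 36 := by
    have h := card_class_mul_centralizer u
    rw [← hMdef, hMN, hN, hn] at h
    omega
  have h1 := card_fixedBy_mul_card_class N u
  rw [hcl, hidx, mul_comm] at h1
  have h2 : Nat.card (MulAction.fixedBy (G ⧸ N) u) ≡ 1 [MOD 5] := card_fixedBy_modEq_one P hP huC
  have h3 := four_dvd_moved hG (X := G ⧸ N) huu
  rw [← index_eq_card, hidx] at h3
  have h4 : Nat.card (MulAction.fixedBy (G ⧸ N) u) < 36 :=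
    hidx ▸ card_fixedBy_lt_index (fun h => by rw [h, index_top] at hidx; omega) hu1
  -- at most eleven involutions in `N`
  obtain ⟨φ⟩ := SelfCentral.exists_iso hP
  have hker : ∀ n : N, SelfCentral.mult φ n = 1 → (n : G) ∈ C := by
    intro n hn
    refine mem_centralizer_iff.2 fun v hv => ?_
    have h1 : SelfCentral.conjP (P : Subgroup G) n ⟨v, hv⟩ = ⟨v, hv⟩ := by
      apply φ.injective
      apply Multiplicative.toAdd.injective
      rw [SelfCentral.toAdd_conjP, hn, one_mul]
    exact (mul_inv_eq_iff_eq_mul.1 (congrArg Subtype.val h1)).symm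
  have h5 : Nat.card {g : G // IsConj u g ∧ g ∈ N} ≤ 11 := by
    have hinv : ∀ g, IsConj u g → g * g = 1 ∧ g ≠ 1 := by
      intro g hg
      obtain ⟨a, rfl⟩ := isConj_iff.1 hg
      refine ⟨?_, fun h => hu1 (conj_eq_one_iff.1 h)⟩
      rw [show a * u * a⁻¹ * (a * u * a⁻¹) = a * (u * u) * a⁻¹ by group, huu]
      group
    have hmult : ∀ g : {g : G // IsConj u g ∧ g ∈ N}, (g : G) ∉ C →
        SelfCentral.mult φ (⟨g.1, g.2.2⟩ : N) = -1 := by
      intro g hgC
      have hsq : SelfCentral.mult φ (⟨g.1, g.2.2⟩ : N) * SelfCentral.mult φ ⟨g.1, g.2.2⟩ = 1 := by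
        rw [← SelfCentral.mult_mul]
        convert SelfCentral.mult_one φ
        exact Subtype.ext (hinv g.1 g.2.1).1
      rcases mul_self_eq_one_iff.1 hsq with h | h
      · exact absurd (hker _ h) hgC
      · exact h
    by_cases hex : ∃ g : {g : G // IsConj u g ∧ g ∈ N}, (g : G) ∉ C
    · obtain ⟨g₀, hg₀⟩ := hex
      let f : {g : G // IsConj u g ∧ g ∈ N} → Option C := fun g =>
        if hg : (g : G) ∈ C then none
        else some ⟨g.1 * g₀.1, hker (⟨g.1, g.2.2⟩ * ⟨g₀.1, g₀.2.2⟩) (by
          rw [SelfCentral.mult_mul, hmult g hg, hmult g₀ hg₀]; norm_num)⟩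
      have hf : Function.Injective f := by
        intro a b h
        simp only [f] at h
        apply Subtype.ext
        split_ifs at h with ha hb
        · rw [huniq _ ha (hinv _ a.2.1).1 (hinv _ a.2.1).2,
            huniq _ hb (hinv _ b.2.1).1 (hinv _ b.2.1).2]
        · exact mul_right_cancel (congrArg Subtype.val (Option.some.inj h))
      have := Nat.card_le_card_of_injective f hf
      rw [Finite.card_option, hC] at this
      exact this
    · push Not at hex
      haveI : Subsingleton {g : G // IsConj u g ∧ g ∈ N} := ⟨fun a b => Subtype.ext (by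
        rw [huniq _ (hex a) (hinv _ a.2.1).1 (hinv _ a.2.1).2,
          huniq _ (hex b) (hinv _ b.2.1).1 (hinv _ b.2.1).2])⟩
      have := Finite.card_le_one_iff_subsingleton.2 this
      omega
  rw [Nat.ModEq] at h2
  omega

end Cfsg.Agent.H36
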