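import Cfsg.Agent.H36.Fixed
import Cfsg.Agent.H36.Numeric

/-!
# Groups of order 24 without elements of order 6
-/

set_option autoImplicit false
set_option linter.unusedSectionVars false
set_option linter.style.haveILetI false

namespace Cfsg.Agent.H36

open Subgroup

variable {G : Type*} [Group G] [Finite G]

/-- Commuting elements of orders 2 and 3 give an element of order 6. -/
theorem orderOf_mul_six {a b : G} (ha : orderOf a = 2) (hb : orderOf b = 3) (h : Commute a b) :
    orderOf (a * b) = 6 := by
  rw [h.orderOf_mul_eq_mul_orderOf_of_coprime (by rw [ha, hb]; norm_num), ha, hb]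

/-- A group of order 24 without elements of order 6 is `S₄`. -/
theorem nonempty_equiv_perm_four (h : Nat.card G = 24) (h6 : ∀ g : G, orderOf g ≠ 6) :
    Nonempty (G ≃* Equiv.Perm (Fin 4)) := by
  classical
  haveI : Fact (Nat.Prime 3) := ⟨by norm_num⟩
  obtain ⟨P⟩ := Sylow.nonempty (p := 3) (G := G)
  have hP : ∀ Q : Sylow 3 G, Nat.card (Q : Subgroup G) = 3 := fun Q => by
    simpa using card_sylow_eq h Q (a := 1) (m := 8) (by norm_num) (by norm_num)
  have hs := card_sylow_mem (p := 3) h 1 8 (by norm_num) (by norm_num) {1, 4} (by decide)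
  -- an element of even order centralizing a Sylow 3-subgroup gives order 6
  have hno : ∀ Q : Sylow 3 G, ∀ a : G, orderOf a = 2 →
      (∀ b ∈ (Q : Subgroup G), Commute a b) → False := by
    intro Q a ha hcomm
    obtain ⟨⟨b, hb⟩, hb3⟩ := exists_prime_orderOf_dvd_card' (G := (Q : Subgroup G)) 3 (by rw [hP Q])
    rw [Subgroup.orderOf_mk] at hb3
    exact h6 _ (orderOf_mul_six ha hb3 (hcomm b hb))
  have hn : Nat.card (Sylow 3 G) = 4 := by
    rcases Finset.mem_insert.1 hs with h1 | h1
    · exfalso
      have hN := card_sylow_mul_normalizer P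
      rw [h1, one_mul, h] at hN
      have hN' := card_normalizer_eq_mul (P : Subgroup G)
      have hd := relIndex_centralizer_dvd_of_prime (by norm_num : Nat.Prime 3) _ (hP P)
      rw [hN] at hN'
      have h2 : 2 ∣ Nat.card (centralizer ((P : Subgroup G) : Set G)) := by
        rcases (Nat.dvd_prime Nat.prime_two).1 hd with h2 | h2 <;> rw [h2] at hN' <;> omega
      haveI : Fact (Nat.Prime 2) := ⟨Nat.prime_two⟩
      obtain ⟨⟨a, ha⟩, ha2⟩ := exists_prime_orderOf_dvd_card' 2 h2
      rw [Subgroup.orderOf_mk] at ha2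
      exact hno P a ha2 fun b hb => (mem_centralizer_iff.1 ha b hb).symm
    · simpa using h1
  have hNcard : ∀ Q : Sylow 3 G, Nat.card (normalizer ((Q : Subgroup G) : Set G)) = 6 := fun Q => by
    have := card_sylow_mul_normalizer Q
    rw [hn, h] at this
    omega
  let f := MulAction.toPermHom G (Sylow 3 G)
  have hker : f.ker = ⊥ := by
    by_contra hK
    haveI : Nontrivial f.ker := (nontrivial_iff_ne_bot _).2 hK
    have hle : ∀ Q : Sylow 3 G, f.ker ≤ normalizer ((Q : Subgroup G) : Set G) := fun Q z hz =>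
      Sylow.smul_eq_iff_mem_normalizer.1
        (congrArg (fun e : Equiv.Perm (Sylow 3 G) => e Q) (MonoidHom.mem_ker.1 hz))
    have hdvd : Nat.card f.ker ∣ 6 := hNcard P ▸ card_dvd_of_le (hle P)
    by_cases h3 : 3 ∣ Nat.card f.ker
    · obtain ⟨⟨x, hx⟩, hx3⟩ := exists_prime_orderOf_dvd_card' 3 h3
      rw [Subgroup.orderOf_mk] at hx3
      have hmem : ∀ Q : Sylow 3 G, zpowers x = (Q : Subgroup G) := fun Q =>
        sylow_eq_zpowers Q (hP Q) hx3 (mem_sylow_of_mem_normalizer Q hx3 (hle Q hx))
      have hsub : Subsingleton (Sylow 3 G) :=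
        ⟨fun A B => Sylow.ext ((hmem A).symm.trans (hmem B))⟩
      rw [Nat.card_of_subsingleton P] at hn
      norm_num at hn
    · have h2 : Nat.card f.ker = 2 := by
        have h1 := Finite.one_lt_card (α := f.ker)
        have := Nat.le_of_dvd (by norm_num) hdvd
        interval_cases hc : Nat.card f.ker <;> omega
      obtain ⟨⟨a, ha⟩, hane⟩ := exists_ne (1 : f.ker)
      have hall : ∀ b : f.ker, b = 1 ∨ b = ⟨a, ha⟩ := by
        intro b
        by_contra hb
        push_neg at hb
        have h3 : ({1, ⟨a, ha⟩, b} : Finset f.ker).card = 3 := by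
          rw [Finset.card_insert_of_notMem (by simp [hane.symm, hb.1.symm]),
            Finset.card_pair hb.2.symm]
        haveI := Fintype.ofFinite f.ker
        have := Finset.card_le_univ ({1, ⟨a, ha⟩, b} : Finset f.ker)
        rw [h3, ← Nat.card_eq_fintype_card, h2] at this
        omega
      have ha2 : orderOf a = 2 := by
        have hd : orderOf (⟨a, ha⟩ : f.ker) ∣ 2 := h2 ▸ orderOf_dvd_natCard _
        rcases (Nat.dvd_prime Nat.prime_two).1 hd with h | h
        · exact absurd (orderOf_eq_one_iff.1 h) hane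
        · rwa [Subgroup.orderOf_mk] at h
      refine hno P a ha2 fun b _ => ?_
      rcases hall ⟨b * a * b⁻¹, Normal.conj_mem inferInstance a ha b⟩ with h | h
      · exfalso
        apply hane
        have h' : b * a * b⁻¹ = 1 := congrArg Subtype.val h
        rw [conj_eq_one_iff] at h'
        exact Subtype.ext h'
      · have h' : b * a * b⁻¹ = a := congrArg Subtype.val h
        exact ((eq_mul_inv_iff_mul_eq.1 h'.symm).symm).symm
  have hinj : Function.Injective f := f.ker_eq_bot_iff.1 hker
  haveI := Fintype.ofFinite (Sylow 3 G)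
  let e : Sylow 3 G ≃ Fin 4 := Fintype.equivFinOfCardEq (by rw [← Nat.card_eq_fintype_card, hn])
  refine ⟨(MulEquiv.ofBijective (e.permCongrHom.toMonoidHom.comp f) ?_)⟩
  refine (Nat.bijective_iff_injective_and_card _).2 ⟨?_, ?_⟩
  · exact e.permCongrHom.injective.comp hinj
  · rw [h, Nat.card_perm, Nat.card_fin]; decide

end Cfsg.Agent.H36
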