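import Cfsg.Agent.H36.Count
import Cfsg.Agent.H36.Order24
import Cfsg.Agent.H36.Normalizers
import Cfsg.Agent.Fusion.Basic
import Cfsg.Agent.PGroups.TwoGroups
import Mathlib.GroupTheory.SpecificGroups.KleinFour

/-!
# Simple groups of order 168
-/

set_option autoImplicit false
set_option linter.unusedSectionVars false
set_option linter.style.haveILetI false

namespace Cfsg.Agent.H36.S168

open Subgroup

variable {G : Type*} [Group G] [Finite G] [IsSimpleGroup G]

omit [Finite G] [IsSimpleGroup G] in
theorem zpow_four {r : G} (hr : orderOf r = 4) : r ^ (4 : ℤ) = 1 := by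
  rw [show (4 : ℤ) = ((4 : ℕ) : ℤ) from rfl, zpow_natCast, ← hr, pow_orderOf_eq_one]

instance fact_prime_two : Fact (Nat.Prime 2) := ⟨Nat.prime_two⟩
instance fact_prime_three : Fact (Nat.Prime 3) := ⟨by norm_num⟩
instance fact_prime_seven : Fact (Nat.Prime 7) := ⟨by norm_num⟩

variable (h : Nat.card G = 168)
include h

theorem nonabelian : ¬ IsMulCommutative G :=
  not_comm_of_simple (by rw [h]; norm_num)

theorem card_sylow2 (T : Sylow 2 G) : Nat.card (T : Subgroup G) = 8 := by
  simpa using card_sylow_eq h T (a := 3) (m := 21) (by norm_num) (by norm_num)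

theorem card_sylow3 (P : Sylow 3 G) : Nat.card (P : Subgroup G) = 3 := by
  simpa using card_sylow_eq h P (a := 1) (m := 56) (by norm_num) (by norm_num)

theorem card_sylow7 (P : Sylow 7 G) : Nat.card (P : Subgroup G) = 7 := by
  simpa using card_sylow_eq h P (a := 1) (m := 24) (by norm_num) (by norm_num)

theorem n7 : Nat.card (Sylow 7 G) = 8 := by
  simpa using card_sylow_mem' (p := 7) h 1 24 2 (by norm_num) (by norm_num) one_pos (by norm_num)
    (by norm_num) {8} (by decide)

theorem card_normalizer7 (P : Sylow 7 G) :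
    Nat.card (normalizer ((P : Subgroup G) : Set G)) = 21 := by
  have := card_sylow_mul_normalizer P
  rw [n7 h, h] at this
  omega

theorem card_centralizer7 (P : Sylow 7 G) :
    Nat.card (centralizer ((P : Subgroup G) : Set G)) = 7 := by
  have h1 := card_normalizer_eq_mul (P : Subgroup G)
  have h2 := one_lt_relIndex_centralizer (nonabelian h) P (by rw [h]; norm_num)
  obtain ⟨c, hc⟩ := dvd_card_centralizer_of_prime (by norm_num : Nat.Prime 7) _ (card_sylow7 h P)
  rw [card_normalizer7 h P, hc, mul_assoc] at h1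
  set e := (centralizer ((P : Subgroup G) : Set G)).relIndex (normalizer ((P : Subgroup G) : Set G))
  have h3 : c * e = 3 := by omega
  rcases (Nat.dvd_prime (by norm_num : Nat.Prime 3)).1 (Dvd.intro e h3) with hc' | hc'
  · rw [hc, hc']
  · exfalso
    rw [hc'] at h3
    omega

theorem n3 : Nat.card (Sylow 3 G) = 28 := by
  have hs := card_sylow_mem' (p := 3) h 1 56 2 (by norm_num) (by norm_num) one_pos (by norm_num)
    (by norm_num) {4, 7, 28} (by decide)
  obtain ⟨A⟩ := Sylow.nonempty (p := 7) (G := G)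
  set N := normalizer ((A : Subgroup G) : Set G) with hN
  obtain ⟨⟨t, htN⟩, ht⟩ := exists_prime_orderOf_dvd_card' (G := N) 3
    (by rw [card_normalizer7 h A]; norm_num)
  rw [Subgroup.orderOf_mk] at ht
  have htC : t ∉ centralizer ((A : Subgroup G) : Set G) := fun hc => by
    have : orderOf t ∣ 7 := card_centralizer7 h A ▸ Subgroup.orderOf_dvd_natCard _ hc
    rw [ht] at this
    norm_num at this
  have hfix : Nat.card (MulAction.fixedBy (G ⧸ N) t) ≤ 2 :=
    (card_fixedBy_le_orbits (by norm_num : Nat.Prime 7) _ (card_sylow7 h A) htN htC).trans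
      (card_orbits_le A (card_sylow7 h A) 1 (by rw [n7 h]))
  have hin : 7 ≤ Nat.card {g : G // IsConj t g ∧ g ∈ N} := by
    rw [← card_sylow7 h A]
    refine Nat.card_le_card_of_injective (fun u : (A : Subgroup G) =>
      (⟨(u : G) * t * (u : G)⁻¹, isConj_iff.2 ⟨u, rfl⟩,
        N.mul_mem (N.mul_mem (le_normalizer u.2) htN)
          (N.inv_mem (le_normalizer u.2))⟩ : {g : G // IsConj t g ∧ g ∈ N})) ?_
    intro u v huv
    by_contra hne
    have huv' : (u : G) * t * (u : G)⁻¹ = (v : G) * t * (v : G)⁻¹ := congrArg Subtype.val huv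
    apply htC
    rw [mem_centralizer_iff]
    intro w hw
    obtain ⟨k, hk⟩ := mem_zpowers_iff.1 (mem_zpowers_of_prime_card (card_sylow7 h A)
      (g := v⁻¹ * u) (g' := ⟨w, hw⟩) (fun hh => hne (inv_mul_eq_one.1 hh).symm))
    have hcomm : Commute (((v⁻¹ * u : (A : Subgroup G))) : G) t := by
      show _ = _
      push_cast
      calc (v : G)⁻¹ * u * t = (v : G)⁻¹ * ((u : G) * t * (u : G)⁻¹) * u := by group
        _ = t * ((v : G)⁻¹ * u) := by rw [huv']; group
    rw [show w = (((v⁻¹ * u : (A : Subgroup G))) : G) ^ k from (congrArg Subtype.val hk).symm]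
    exact (hcomm.zpow_left k).eq
  have hmain := card_fixedBy_mul_card_class N t
  rw [show N.index = 8 from A.card_eq_index_normalizer.symm.trans (n7 h)] at hmain
  have hcl := card_class_mul_centralizer t
  rw [h] at hcl
  have hCt : Nat.card (centralizer ({t} : Set G)) ≤ 6 := by
    have h1 : 56 ≤ 2 * Nat.card {g : G // IsConj t g} := by
      calc 56 ≤ 8 * Nat.card {g : G // IsConj t g ∧ g ∈ N} := by omega
        _ = _ := hmain.symm
        _ ≤ _ := Nat.mul_le_mul_right _ hfix
    have h2 := Nat.mul_le_mul_right (Nat.card (centralizer ({t} : Set G))) h1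
    rw [mul_assoc, hcl] at h2
    omega
  obtain ⟨P, hP⟩ := exists_sylow_mem ht
  have hPz := sylow_eq_zpowers P (card_sylow3 h P) ht hP
  have hCP : Nat.card (centralizer ((P : Subgroup G) : Set G)) ≤ 6 := by
    refine le_trans (card_le_of_le ?_) hCt
    exact centralizer_le (Set.singleton_subset_iff.2 hP)
  have h1 := card_normalizer_eq_mul (P : Subgroup G)
  have h2 := relIndex_centralizer_dvd_of_prime (by norm_num : Nat.Prime 3) _ (card_sylow3 h P)
  have h3 := Nat.le_of_dvd (by norm_num) h2
  have h4 := card_sylow_mul_normalizer P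
  rw [h] at h4
  have h5 : Nat.card (normalizer ((P : Subgroup G) : Set G)) ≤ 12 := by
    rw [h1]
    calc _ ≤ 6 * 2 := Nat.mul_le_mul hCP h3
      _ = 12 := by norm_num
  simp only [Finset.mem_insert, Finset.mem_singleton] at hs
  rcases hs with hs | hs | hs
  · rw [hs] at h4; omega
  · rw [hs] at h4; omega
  · exact hs

theorem card_normalizer3 (P : Sylow 3 G) :
    Nat.card (normalizer ((P : Subgroup G) : Set G)) = 6 := by
  have := card_sylow_mul_normalizer P
  rw [n3 h, h] at this
  omega

theorem card_centralizer3 (P : Sylow 3 G) :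
    Nat.card (centralizer ((P : Subgroup G) : Set G)) = 3 := by
  have h1 := card_normalizer_eq_mul (P : Subgroup G)
  have h2 := one_lt_relIndex_centralizer (nonabelian h) P (by rw [h]; norm_num)
  have h3 := Nat.le_of_dvd (by norm_num)
    (relIndex_centralizer_dvd_of_prime (by norm_num : Nat.Prime 3) _ (card_sylow3 h P))
  rw [card_normalizer3 h P, show (centralizer ((P : Subgroup G) : Set G)).relIndex
    (normalizer ((P : Subgroup G) : Set G)) = 2 by omega] at h1
  omega

/-- Centralizers of elements of odd prime order. -/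
theorem card_centralizer_of_orderOf {p : ℕ} [hp : Fact p.Prime] (hp' : p = 3 ∨ p = 7) {x : G}
    (hx : orderOf x = p) : Nat.card (centralizer ({x} : Set G)) = p := by
  obtain ⟨P, hP⟩ := exists_sylow_mem hx
  have hPc : Nat.card (P : Subgroup G) = p := by
    rcases hp' with rfl | rfl
    · exact card_sylow3 h P
    · exact card_sylow7 h P
  have he : centralizer ({x} : Set G) = centralizer ((P : Subgroup G) : Set G) := by
    rw [← sylow_eq_zpowers P hPc hx hP, zpowers_eq_closure, centralizer_closure]
  rw [he]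
  rcases hp' with rfl | rfl
  · exact card_centralizer3 h P
  · exact card_centralizer7 h P

theorem not_six (g : G) : orderOf g ≠ 6 := by
  intro hg
  have h2 : orderOf (g ^ 2) = 3 := by rw [orderOf_pow, hg]; decide
  have hc := card_centralizer_of_orderOf h (p := 3) (Or.inl rfl) h2
  have hm : g ∈ centralizer ({g ^ 2} : Set G) := by
    rw [mem_centralizer_singleton_iff]
    exact (Commute.self_pow g 2).eq
  have := Subgroup.orderOf_dvd_natCard _ hm
  rw [hc] at this
  rw [hg] at this
  norm_num at this

theorem n2 : Nat.card (Sylow 2 G) = 21 := by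
  classical
  have hs := card_sylow_mem' (p := 2) h 3 21 3 (by norm_num) (by norm_num) (by norm_num)
    (by norm_num) (by norm_num) {3, 7, 21} (by decide)
  obtain ⟨T⟩ := Sylow.nonempty (p := 2) (G := G)
  have h1 := card_sylow_mul_normalizer T
  rw [h] at h1
  simp only [Finset.mem_insert, Finset.mem_singleton] at hs
  rcases hs with hs | hs | hs
  · exfalso
    rw [hs] at h1
    have hne : normalizer ((T : Subgroup G) : Set G) ≠ ⊤ := fun ht => by
      rw [ht, card_top, h] at h1; omega
    have hd := card_dvd_factorial hne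
    rw [show (normalizer ((T : Subgroup G) : Set G)).index = 3 from
      T.card_eq_index_normalizer.symm.trans hs, h] at hd
    norm_num [Nat.factorial] at hd
  · -- `N(T)` of order 24 would centralize
    exfalso
    rw [hs] at h1
    set H := normalizer ((T : Subgroup G) : Set G) with hH
    have hH24 : Nat.card H = 24 := by omega
    obtain ⟨e⟩ := nonempty_equiv_perm_four hH24 (fun g hg => not_six h (g : G) (by rwa [Subgroup.orderOf_coe]))
    -- but `S₄` has no normal subgroup of order 8
    have hn : ((T : Subgroup G).subgroupOf H).Normal := inferInstance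
    have hmap : (((T : Subgroup G).subgroupOf H).map e.toMonoidHom).Normal :=
      hn.map _ e.surjective
    haveI := hmap
    obtain ⟨S⟩ := Sylow.nonempty (p := 3) (G := Equiv.Perm (Fin 4))
    set K := ((T : Subgroup G).subgroupOf H).map e.toMonoidHom
    have hK8 : Nat.card K = 8 := by
      have h2 : Nat.card K = Nat.card ((T : Subgroup G).subgroupOf H) :=
        card_map_of_injective e.injective
      rw [h2, Nat.card_congr (subgroupOfEquivOfLe le_normalizer).toEquiv, card_sylow2 h T]
    obtain ⟨L⟩ := Sylow.nonempty (p := 2) (G := Equiv.Perm (Fin 4))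
    have hidx : K.index = 3 := by
      have := K.card_mul_index
      rw [hK8, Nat.card_perm, Nat.card_fin, show Nat.factorial 4 = 24 from rfl] at this
      omega
    -- every transposition lies in `K`
    have hswap : ∀ a b : Fin 4, Equiv.swap a b ∈ K := by
      intro a b
      rcases Decidable.em (a = b) with rfl | hab
      · rw [Equiv.swap_self]; exact K.one_mem
      · have h3 := K.pow_index_mem (Equiv.swap a b)
        rwa [hidx, pow_succ, pow_two, Equiv.swap_mul_self, one_mul] at h3
    have : (⊤ : Subgroup (Equiv.Perm (Fin 4))) ≤ K := by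
      rw [← Equiv.Perm.closure_isSwap, closure_le]
      rintro _ ⟨a, b, _, rfl⟩
      exact hswap a b
    rw [top_le_iff] at this
    rw [this, card_top, Nat.card_perm, Nat.card_fin] at hK8
    norm_num [Nat.factorial] at hK8
  · exact hs

theorem normalizer2 (T : Sylow 2 G) : normalizer ((T : Subgroup G) : Set G) = (T : Subgroup G) := by
  refine (eq_of_le_of_card_ge le_normalizer ?_).symm
  have := card_sylow_mul_normalizer T
  rw [n2 h, h] at this
  rw [card_sylow2 h T]
  omega

theorem sylow2_noncomm (T : Sylow 2 G) :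
    ∃ a ∈ (T : Subgroup G), ∃ b ∈ (T : Subgroup G), a * b ≠ b * a := by
  by_contra hc
  push_neg at hc
  refine not_normalizer_le_centralizer (nonabelian h) T (by rw [h]; norm_num) ?_
  rw [normalizer2 h T]
  exact fun a ha => mem_centralizer_iff.2 fun b hb => hc b hb a ha

/-- The centralizer of a central element of a Sylow 2-subgroup is that subgroup. -/
theorem centralizer_central (T : Sylow 2 G) {z : G} (hz1 : z ≠ 1)
    (hzc : ∀ t ∈ (T : Subgroup G), t * z = z * t) :
    centralizer ({z} : Set G) = (T : Subgroup G) := by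
  set C := centralizer ({z} : Set G)
  have hle : (T : Subgroup G) ≤ C := fun t ht => mem_centralizer_singleton_iff.2 (hzc t ht)
  refine (eq_of_le_of_card_ge hle ?_).symm
  have h8 : 8 ∣ Nat.card C := card_sylow2 h T ▸ card_dvd_of_le hle
  have hzC : z ∈ C := mem_centralizer_singleton_iff.2 rfl
  have hzT : z ∈ (T : Subgroup G) := by
    rw [← normalizer2 h T]
    refine centralizer_le_normalizer _ (mem_centralizer_iff.2 fun t ht => hzc t ht)
  have hodd : ∀ p : ℕ, p = 3 ∨ p = 7 → ¬ p ∣ Nat.card C := by
    intro p hp hdvd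
    haveI : Fact p.Prime := ⟨by rcases hp with rfl | rfl <;> norm_num⟩
    obtain ⟨⟨y, hy⟩, hy'⟩ := exists_prime_orderOf_dvd_card' p hdvd
    rw [Subgroup.orderOf_mk] at hy'
    have hzy : z ∈ centralizer ({y} : Set G) :=
      mem_centralizer_singleton_iff.2 (mem_centralizer_singleton_iff.1 hy).symm
    have hd : orderOf z ∣ p :=
      card_centralizer_of_orderOf h hp hy' ▸ Subgroup.orderOf_dvd_natCard _ hzy
    have hd2 : orderOf z ∣ 8 := card_sylow2 h T ▸ Subgroup.orderOf_dvd_natCard _ hzT
    refine hz1 (orderOf_eq_one_iff.1 (Nat.eq_one_of_dvd_coprimes ?_ hd hd2))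
    rcases hp with rfl | rfl <;> norm_num
  have hdvd : Nat.card C ∣ 168 := h ▸ card_subgroup_dvd_card C
  obtain ⟨k, hk⟩ := h8
  have hk21 : k ∣ 21 := by
    rw [hk] at hdvd
    exact Nat.dvd_of_mul_dvd_mul_left (by norm_num) hdvd
  rw [card_sylow2 h T, hk]
  have := Nat.le_of_dvd (by norm_num) hk21
  interval_cases k <;> first
    | omega
    | (exfalso; refine hodd 3 (Or.inl rfl) ?_; rw [hk]; norm_num; done)
    | (exfalso; refine hodd 7 (Or.inr rfl) ?_; rw [hk]; norm_num; done)

theorem exists_central (T : Sylow 2 G) :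
    ∃ z : G, z ∈ (T : Subgroup G) ∧ orderOf z = 2 ∧ ∀ t ∈ (T : Subgroup G), t * z = z * t := by
  haveI : Nontrivial (T : Subgroup G) := Finite.one_lt_card_iff_nontrivial.1 (by rw [card_sylow2 h T]; norm_num)
  haveI := T.2.center_nontrivial
  have h2 : 2 ∣ Nat.card (center (T : Subgroup G)) := by
    obtain ⟨k, hk⟩ := (T.2.to_subgroup (center (T : Subgroup G))).exists_card_eq
    rw [hk]
    refine dvd_pow_self 2 fun hk0 => ?_
    have := Finite.one_lt_card (α := center (T : Subgroup G))
    rw [hk, hk0] at this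
    norm_num at this
  obtain ⟨⟨⟨z, hzT⟩, hz⟩, hz2⟩ := exists_prime_orderOf_dvd_card' 2 h2
  rw [Subgroup.orderOf_mk, Subgroup.orderOf_mk] at hz2
  exact ⟨z, hzT, hz2, fun t ht => congrArg Subtype.val (mem_center_iff.1 hz ⟨t, ht⟩)⟩

theorem orderOf_cases (g : G) :
    orderOf g = 1 ∨ orderOf g = 2 ∨ orderOf g = 3 ∨ orderOf g = 4 ∨ orderOf g = 7 := by
  have hd : orderOf g ∣ 168 := h ▸ orderOf_dvd_natCard g
  have hodd : ∀ p : ℕ, p = 3 ∨ p = 7 → p ∣ orderOf g → orderOf g = p := by
    intro p hp hpd
    haveI : Fact p.Prime := ⟨by rcases hp with rfl | rfl <;> norm_num⟩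
    set y := g ^ (orderOf g / p)
    have hy : orderOf y = p := by
      rw [orderOf_pow, Nat.gcd_eq_right (Nat.div_dvd_of_dvd hpd), Nat.div_div_self hpd (orderOf_pos g).ne']
    have hm : g ∈ centralizer ({y} : Set G) :=
      mem_centralizer_singleton_iff.2 (Commute.self_pow g _).eq
    have : orderOf g ∣ p := card_centralizer_of_orderOf h hp hy ▸ Subgroup.orderOf_dvd_natCard _ hm
    exact ((Nat.dvd_prime (Fact.out : p.Prime)).1 this).resolve_left fun h1 => by
      rw [h1, Nat.dvd_one] at hpd
      exact (Fact.out : p.Prime).ne_one hpd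
  by_cases h3 : 3 ∣ orderOf g
  · exact Or.inr (Or.inr (Or.inl (hodd 3 (Or.inl rfl) h3)))
  by_cases h7 : 7 ∣ orderOf g
  · exact Or.inr (Or.inr (Or.inr (Or.inr (hodd 7 (Or.inr rfl) h7))))
  have h8 : orderOf g ∣ 8 := by
    have c1 : Nat.Coprime (orderOf g) 3 := ((Nat.prime_three.coprime_iff_not_dvd).2 h3).symm
    have c2 : Nat.Coprime (orderOf g) 7 :=
      (((by norm_num : Nat.Prime 7).coprime_iff_not_dvd).2 h7).symm
    exact (c1.dvd_of_dvd_mul_right ((c2.dvd_of_dvd_mul_right
      (show orderOf g ∣ 8 * 3 * 7 by norm_num; exact hd))))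
  obtain ⟨i, hi, hi'⟩ := (Nat.dvd_prime_pow Nat.prime_two (m := 3)).1 h8
  interval_cases i <;> simp [hi']
  -- no element of order 8
  exfalso
  have hp : IsPGroup 2 (zpowers g) := IsPGroup.of_card (n := 3) (by rw [Nat.card_zpowers, hi'])
  obtain ⟨T, hT⟩ := hp.exists_le_sylow
  have heq : zpowers g = (T : Subgroup G) :=
    eq_of_le_of_card_ge hT (by rw [card_sylow2 h T, Nat.card_zpowers, hi']; norm_num)
  obtain ⟨a, ha, b, hb, hab⟩ := sylow2_noncomm h T
  rw [← heq] at ha hb
  obtain ⟨i, rfl⟩ := mem_zpowers_iff.1 ha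
  obtain ⟨j, rfl⟩ := mem_zpowers_iff.1 hb
  exact hab ((Commute.refl g).zpow_zpow i j).eq

/-- A Sylow 2-subgroup contains an element of order 4. -/
theorem exists_four (T : Sylow 2 G) : ∃ r ∈ (T : Subgroup G), orderOf r = 4 := by
  by_contra hc
  push_neg at hc
  obtain ⟨a, ha, b, hb, hab⟩ := sylow2_noncomm h T
  have hsq : ∀ u ∈ (T : Subgroup G), u * u = 1 := by
    intro u hu
    have hd : orderOf u ∣ 8 := card_sylow2 h T ▸ Subgroup.orderOf_dvd_natCard _ hu
    rcases orderOf_cases h u with h1 | h1 | h1 | h1 | h1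
    · rw [orderOf_eq_one_iff.1 h1, one_mul]
    · rw [← pow_two, ← h1, pow_orderOf_eq_one]
    · rw [h1] at hd; norm_num at hd
    · exact absurd h1 (hc u hu)
    · rw [h1] at hd; norm_num at hd
  apply hab
  have h1 := inv_eq_of_mul_eq_one_right (hsq _ (mul_mem ha hb))
  have h2 := inv_eq_of_mul_eq_one_right (hsq a ha)
  have h3 := inv_eq_of_mul_eq_one_right (hsq b hb)
  rw [mul_inv_rev, h2, h3] at h1
  exact h1.symm

/-- The square of an element of order 4 is central in every Sylow 2-subgroup containing it, and the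
element has centralizer of order 4. -/
theorem four_facts {T : Sylow 2 G} {r : G} (hr : r ∈ (T : Subgroup G)) (h4 : orderOf r = 4) :
    (∀ t ∈ (T : Subgroup G), t * r ^ 2 = r ^ 2 * t) ∧
      Nat.card (centralizer ({r} : Set G)) = 4 := by
  have hle : zpowers r ≤ (T : Subgroup G) := zpowers_le.2 hr
  have hidx : ((zpowers r).subgroupOf (T : Subgroup G)).index = 2 := by
    have h1 := ((zpowers r).subgroupOf (T : Subgroup G)).card_mul_index
    rw [Nat.card_congr (subgroupOfEquivOfLe hle).toEquiv, Nat.card_zpowers, h4,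
      card_sylow2 h T] at h1
    omega
  have hn := normal_of_index_eq_two hidx
  have hcen : ∀ t ∈ (T : Subgroup G), t * r ^ 2 = r ^ 2 * t := by
    intro t ht
    have h1 := hn.conj_mem ⟨r, hr⟩ (mem_subgroupOf.2 (mem_zpowers r)) ⟨t, ht⟩
    rw [mem_subgroupOf] at h1
    obtain ⟨i, hi⟩ := mem_zpowers_iff.1 h1
    have hi' : t * r * t⁻¹ = r ^ i := hi.symm
    have hc : t * r ^ 2 * t⁻¹ = r ^ (2 * i) := by
      rw [← conj_pow, hi', ← zpow_natCast, ← zpow_mul, mul_comm]; rfl
    have hodd : Odd i := by
      by_contra he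
      rw [Int.not_odd_iff_even] at he
      obtain ⟨j, rfl⟩ := he
      have : orderOf (t * r * t⁻¹) ∣ 2 := by
        refine orderOf_dvd_of_pow_eq_one ?_
        rw [hi', ← zpow_natCast, ← zpow_mul, ← orderOf_dvd_iff_zpow_eq_one, h4]
        exact ⟨j, by push_cast; ring⟩
      rw [show t * r * t⁻¹ = MulAut.conj t r from rfl, MulEquiv.orderOf_eq, h4] at this
      norm_num at this
    obtain ⟨j, rfl⟩ := hodd
    have h2 : r ^ (2 * (2 * j + 1)) = r ^ 2 := by
      rw [show (2 * (2 * j + 1) : ℤ) = 4 * j + 2 by ring, zpow_add, zpow_mul,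
        zpow_four h4, one_zpow, one_mul, zpow_ofNat]
    rw [h2] at hc
    exact mul_inv_eq_iff_eq_mul.1 hc
  refine ⟨hcen, ?_⟩
  have hr2 : r ^ 2 ≠ 1 := fun h1 => by
    have := orderOf_dvd_of_pow_eq_one h1
    rw [h4] at this
    norm_num at this
  have hC : centralizer ({r} : Set G) ≤ (T : Subgroup G) := by
    rw [← centralizer_central h T hr2 hcen]
    intro g hg
    rw [mem_centralizer_singleton_iff] at hg ⊢
    exact ((show Commute g r from hg).pow_right 2).eq
  have hne : ¬ (T : Subgroup G) ≤ centralizer ({r} : Set G) := fun hle' => by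
    have heq := centralizer_central h T (z := r) (fun h1 => by rw [h1, orderOf_one] at h4; norm_num at h4)
      (fun t ht => mem_centralizer_singleton_iff.1 (hle' ht))
    obtain ⟨a, ha, b, hb, hab⟩ := sylow2_noncomm h T
    -- `T` is generated by `r` and a central subgroup, hence commutative
    apply hab
    by_cases h1 : a ∈ zpowers r
    · obtain ⟨i, rfl⟩ := mem_zpowers_iff.1 h1
      exact ((show Commute b r from mem_centralizer_singleton_iff.1 (hle' hb)).zpow_right i).symm.eq
    · by_cases h2 : b ∈ zpowers r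
      · obtain ⟨i, rfl⟩ := mem_zpowers_iff.1 h2
        exact ((show Commute a r from mem_centralizer_singleton_iff.1 (hle' ha)).zpow_right i).eq
      · have h3 : a⁻¹ * b ∈ zpowers r := by
          have := (mul_mem_iff_of_index_two hidx (a := (⟨a⁻¹, inv_mem ha⟩ : (T : Subgroup G)))
            (b := ⟨b, hb⟩)).2 (by simp only [mem_subgroupOf, inv_mem_iff]; exact iff_of_false h1 h2)
          exact mem_subgroupOf.1 this
        obtain ⟨i, hi⟩ := mem_zpowers_iff.1 h3
        rw [show b = a * r ^ i by rw [hi, mul_inv_cancel_left]]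
        have hc : Commute a (r ^ i) :=
          ((show Commute a r from mem_centralizer_singleton_iff.1 (hle' ha)).zpow_right i)
        rw [mul_assoc a (r ^ i) a, ← hc.eq]
  have h4dvd : 4 ∣ Nat.card (centralizer ({r} : Set G)) := by
    rw [← h4, ← Nat.card_zpowers]
    exact card_dvd_of_le (zpowers_le.2 (mem_centralizer_singleton_iff.2 rfl))
  have hlt : Nat.card (centralizer ({r} : Set G)) < 8 := by
    rw [← card_sylow2 h T]
    exact lt_of_le_of_ne (card_le_of_le hC) fun he => hne (eq_of_le_of_card_ge hC he.ge).ge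
  have hpos : 0 < Nat.card (centralizer ({r} : Set G)) := Nat.card_pos
  obtain ⟨k, hk⟩ := h4dvd
  omega

theorem counts : Nat.card {g : G // orderOf g = 2} = 21 ∧ Nat.card {g : G // orderOf g = 4} = 42 ∧
    Nat.card {g : G // orderOf g = 3} = 56 ∧ Nat.card {g : G // orderOf g = 7} = 48 ∧
    (∀ s t : G, orderOf s = 2 → orderOf t = 2 → IsConj s t) ∧
    (∀ s t : G, orderOf s = 4 → orderOf t = 4 → IsConj s t) ∧
    (∀ s t : G, orderOf s = 3 → orderOf t = 3 → IsConj s t) := by
  classical
  obtain ⟨P⟩ := Sylow.nonempty (p := 3) (G := G)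
  obtain ⟨Q⟩ := Sylow.nonempty (p := 7) (G := G)
  obtain ⟨T⟩ := Sylow.nonempty (p := 2) (G := G)
  have c3 : Nat.card {g : G // orderOf g = 3} = 56 := by
    rw [card_orderOf_eq P (card_sylow3 h P), n3 h]
  have c7 : Nat.card {g : G // orderOf g = 7} = 48 := by
    rw [card_orderOf_eq Q (card_sylow7 h Q), n7 h]
  obtain ⟨z, hzT, hz2, hzc⟩ := exists_central h T
  obtain ⟨r, hrT, hr4⟩ := exists_four h T
  have clz : Nat.card {g : G // IsConj z g} = 21 := by
    have := card_class_mul_centralizer z
    rw [centralizer_central h T (fun h1 => by rw [h1, orderOf_one] at hz2; norm_num at hz2) hzc,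
      card_sylow2 h T, h] at this
    omega
  have clr : Nat.card {g : G // IsConj r g} = 42 := by
    have := card_class_mul_centralizer r
    rw [(four_facts h hrT hr4).2, h] at this
    omega
  have hconjord : ∀ {a b : G}, IsConj a b → orderOf b = orderOf a := by
    intro a b hab
    obtain ⟨u, hu⟩ := isConj_iff.1 hab
    rw [← hu, show u * a * u⁻¹ = MulAut.conj u a from rfl, MulEquiv.orderOf_eq]
  let ι : ∀ (a : G) (n : ℕ), orderOf a = n → {g : G // IsConj a g} → {g : G // orderOf g = n} :=
    fun a n ha g => ⟨g.1, (hconjord g.2).trans ha⟩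
  have hι : ∀ a n ha, Function.Injective (ι a n ha) := fun a n ha x y hxy =>
    Subtype.ext (congrArg (fun z : {g : G // orderOf g = n} => z.1) hxy)
  have l2 := Nat.card_le_card_of_injective _ (hι z 2 hz2)
  have l4 := Nat.card_le_card_of_injective _ (hι r 4 hr4)
  rw [clz] at l2
  rw [clr] at l4
  have htot := card_orderOf_add4_le (G := G) (a := 2) (b := 3) (c := 4) (d := 7) (by norm_num)
    (by norm_num) (by norm_num) (by norm_num) (by norm_num) (by norm_num)
  -- the identity is not counted
  have htot' : Nat.card {g : G // orderOf g = 2} + Nat.card {g : G // orderOf g = 3} +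
      Nat.card {g : G // orderOf g = 4} + Nat.card {g : G // orderOf g = 7} < Nat.card G := by
    rw [← Nat.card_sum, ← Nat.card_sum, ← Nat.card_sum]
    haveI := Fintype.ofFinite G
    let F : (({g : G // orderOf g = 2} ⊕ {g : G // orderOf g = 3}) ⊕ {g : G // orderOf g = 4}) ⊕
        {g : G // orderOf g = 7} → G :=
      Sum.elim (Sum.elim (Sum.elim Subtype.val Subtype.val) Subtype.val) Subtype.val
    have hF : Function.Injective F := by
      rintro (((⟨x, hx⟩ | ⟨x, hx⟩) | ⟨x, hx⟩) | ⟨x, hx⟩) (((⟨y, hy⟩ | ⟨y, hy⟩) | ⟨y, hy⟩) | ⟨y, hy⟩) hxy <;>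
        simp only [F, Sum.elim_inl, Sum.elim_inr] at hxy <;> subst hxy <;>
        first
          | rfl
          | (exfalso; omega)
    rw [Nat.card_eq_fintype_card, Nat.card_eq_fintype_card]
    refine Fintype.card_lt_of_injective_of_notMem F hF (b := 1) ?_
    rintro ⟨((⟨x, hx⟩ | ⟨x, hx⟩) | ⟨x, hx⟩) | ⟨x, hx⟩, hxe⟩ <;>
      simp only [F, Sum.elim_inl, Sum.elim_inr] at hxe <;> subst hxe <;>
      simp at hx
  rw [c3, c7, h] at htot'
  have c2 : Nat.card {g : G // orderOf g = 2} = 21 := by omega
  have c4 : Nat.card {g : G // orderOf g = 4} = 42 := by omega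
  have sur : ∀ a n (ha : orderOf a = n), Nat.card {g : G // IsConj a g} =
      Nat.card {g : G // orderOf g = n} → ∀ s, orderOf s = n → IsConj a s := by
    intro a n ha hc s hs
    obtain ⟨g, hg⟩ := ((Nat.bijective_iff_injective_and_card _).2 ⟨hι a n ha, hc⟩).2 ⟨s, hs⟩
    have := congrArg Subtype.val hg
    rw [show s = (g : G) from this.symm]
    exact g.2
  refine ⟨c2, c4, c3, c7, fun s t hs ht => ?_, fun s t hs ht => ?_, fun s t hs ht => ?_⟩
  · exact (sur z 2 hz2 (by rw [clz, c2]) s hs).symm.trans (sur z 2 hz2 (by rw [clz, c2]) t ht)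
  · exact (sur r 4 hr4 (by rw [clr, c4]) s hs).symm.trans (sur r 4 hr4 (by rw [clr, c4]) t ht)
  · refine sur s 3 hs ?_ t ht
    have := card_class_mul_centralizer s
    rw [card_centralizer_of_orderOf h (p := 3) (Or.inl rfl) hs, h] at this
    omega

theorem card_centralizer_involution {s : G} (hs : orderOf s = 2) :
    Nat.card (centralizer ({s} : Set G)) = 8 := by
  obtain ⟨c2, _, _, _, hconj, _, _⟩ := counts h
  have e : Nat.card {g : G // IsConj s g} = 21 := by
    rw [← c2]
    refine Nat.card_congr (Equiv.subtypeEquivRight fun g => ⟨fun hg => ?_, hconj s g hs⟩)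
    obtain ⟨u, hu⟩ := isConj_iff.1 hg
    rw [← hu, show u * s * u⁻¹ = MulAut.conj u s from rfl, MulEquiv.orderOf_eq, hs]
  have := card_class_mul_centralizer s
  rw [e, h] at this
  omega

/-- Every involution is the central involution of the Sylow subgroup that is its centralizer. -/
theorem exists_sylow_centralizer {s : G} (hs : orderOf s = 2) :
    ∃ T : Sylow 2 G, (T : Subgroup G) = centralizer ({s} : Set G) := by
  have hp : IsPGroup 2 (centralizer ({s} : Set G)) :=
    IsPGroup.of_card (n := 3) (by rw [card_centralizer_involution h hs]; norm_num)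
  obtain ⟨T, hT⟩ := hp.exists_le_sylow
  exact ⟨T, (eq_of_le_of_card_ge hT (by
    rw [card_sylow2 h T, card_centralizer_involution h hs])).symm⟩

/-- An element of order 4 in `T` squares to the central involution. -/
theorem sq_eq_central (T : Sylow 2 G) {z : G} (hz2 : orderOf z = 2)
    (hzc : ∀ t ∈ (T : Subgroup G), t * z = z * t) {r : G} (hr : r ∈ (T : Subgroup G))
    (hr4 : orderOf r = 4) : r ^ 2 = z := by
  have hz1 : z ≠ 1 := fun h1 => by rw [h1, orderOf_one] at hz2; norm_num at hz2
  by_contra hne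
  -- then all of `T` centralizes the four-group `<z, r^2>`, and is abelian
  have hr2 : orderOf (r ^ 2) = 2 := by rw [orderOf_pow, hr4]; decide
  obtain ⟨a, ha, b, hb, hab⟩ := sylow2_noncomm h T
  have hzT : z ∈ (T : Subgroup G) := by
    rw [← normalizer2 h T]
    exact centralizer_le_normalizer _ (mem_centralizer_iff.2 fun t ht => hzc t ht)
  have hznot : z ∉ zpowers r := fun hz => by
    obtain ⟨i, hi⟩ := mem_zpowers_iff.1 hz
    rcases Int.even_or_odd i with ⟨j, rfl⟩ | ⟨j, rfl⟩
    · rcases Int.even_or_odd j with ⟨k, rfl⟩ | ⟨k, rfl⟩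
      · apply hz1
        rw [← hi, show (k + k + (k + k) : ℤ) = 4 * k by ring, zpow_mul,
          zpow_four hr4, one_zpow]
      · apply hne
        rw [← hi, show (2 * k + 1 + (2 * k + 1) : ℤ) = 4 * k + 2 by ring, zpow_add, zpow_mul,
          zpow_four hr4, one_zpow, one_mul, zpow_ofNat]
    · have h1 : orderOf (r ^ (2 * j + 1)) = 2 := by rw [hi, hz2]
      have h2 : (r ^ (2 * j + 1)) ^ 2 = 1 := by rw [← h1, pow_orderOf_eq_one]
      rw [← zpow_natCast, ← zpow_mul, ← orderOf_dvd_iff_zpow_eq_one, hr4] at h2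
      omega
  have hidx : ((zpowers r).subgroupOf (T : Subgroup G)).index = 2 := by
    have h1 := ((zpowers r).subgroupOf (T : Subgroup G)).card_mul_index
    rw [Nat.card_congr (subgroupOfEquivOfLe (zpowers_le.2 hr)).toEquiv, Nat.card_zpowers, hr4,
      card_sylow2 h T] at h1
    omega
  have hrc : ∀ u ∈ (T : Subgroup G), Commute u r := by
    intro u hu
    by_cases hu1 : u ∈ zpowers r
    · obtain ⟨i, rfl⟩ := mem_zpowers_iff.1 hu1
      exact (Commute.refl r).zpow_left i
    · have h3 : z⁻¹ * u ∈ zpowers r := by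
        have := (mul_mem_iff_of_index_two hidx (a := (⟨z⁻¹, inv_mem hzT⟩ : (T : Subgroup G)))
          (b := ⟨u, hu⟩)).2 (by simp only [mem_subgroupOf, inv_mem_iff]; exact iff_of_false hznot hu1)
        exact mem_subgroupOf.1 this
      obtain ⟨i, hi⟩ := mem_zpowers_iff.1 h3
      rw [show u = z * r ^ i by rw [hi, mul_inv_cancel_left]]
      exact (show Commute z r from (hzc r hr).symm).mul_left ((Commute.refl r).zpow_left i)
  have := (four_facts h hr hr4).2
  have hle : (T : Subgroup G) ≤ centralizer ({r} : Set G) :=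
    fun u hu => mem_centralizer_singleton_iff.2 (hrc u hu).eq
  have hcard := card_le_of_le hle
  rw [this, card_sylow2 h T] at hcard
  omega

/-- The Sylow 2-subgroups are dihedral of order 8. -/
theorem dihedral (T : Sylow 2 G) : Nonempty (↥(T : Subgroup G) ≃* DihedralGroup 4) := by
  classical
  obtain ⟨z, hzT, hz2, hzc⟩ := exists_central h T
  obtain ⟨r, hrT, hr4⟩ := exists_four h T
  -- otherwise every element of `T` outside `<r>` has order 4, giving too many elements of order 4
  obtain ⟨y, hyT, hy, hy2⟩ : ∃ y ∈ (T : Subgroup G), y ∉ zpowers r ∧ y ^ 2 = 1 := by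
    by_contra hno
    push_neg at hno
    obtain ⟨c2, c4, _, _, hconj, hconj4, _⟩ := counts h
    have hz1 : z ≠ 1 := fun h1 => by rw [h1, orderOf_one] at hz2; norm_num at hz2
    have hall : ∀ u ∈ (T : Subgroup G), u ≠ 1 → u ≠ z → orderOf u = 4 := by
      intro u hu hu1 huz
      have hd : orderOf u ∣ 8 := card_sylow2 h T ▸
        Subgroup.orderOf_mk (H := (T : Subgroup G)) u hu ▸ orderOf_dvd_natCard _
      rcases orderOf_cases h u with h1 | h1 | h1 | h1 | h1
      · exact absurd (orderOf_eq_one_iff.1 h1) hu1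
      · exfalso
        have hu2 : u ^ 2 = 1 := by rw [← h1, pow_orderOf_eq_one]
        have hur : u ∈ zpowers r := by
          by_contra hur; exact hno u hu hur hu2
        -- the only involution of `<r>` is `r^2 = z`
        apply huz
        rw [← sq_eq_central h T hz2 hzc hrT hr4]
        obtain ⟨i, rfl⟩ := mem_zpowers_iff.1 hur
        rw [← zpow_natCast, ← zpow_mul, ← orderOf_dvd_iff_zpow_eq_one, hr4] at hu2
        obtain ⟨j, rfl⟩ : (2 : ℤ) ∣ i := by omega
        rw [zpow_mul, ← zpow_natCast r 2]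
        rcases Int.even_or_odd j with ⟨k, rfl⟩ | ⟨k, rfl⟩
        · exfalso
          apply hu1
          rw [show (2 * (k + k) : ℤ) = 4 * k by ring, zpow_mul,
            zpow_four hr4, one_zpow]
        · rw [← zpow_mul, show (2 * (2 * k + 1) : ℤ) = 4 * k + (2 : ℕ) by push_cast; ring, zpow_add,
            zpow_mul, zpow_four hr4,
            one_zpow, one_mul]
      · rw [h1] at hd; norm_num at hd
      · exact h1
      · rw [h1] at hd; norm_num at hd
    -- six elements of order 4 in each of the 21 Sylow subgroups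
    let F : Sylow 2 G × {u : (T : Subgroup G) // u ≠ 1 ∧ (u : G) ≠ z} → {g : G // orderOf g = 4} :=
      fun p => ⟨(Classical.choose (MulAction.exists_smul_eq G T p.1)) * (p.2.1 : G) *
        (Classical.choose (MulAction.exists_smul_eq G T p.1))⁻¹, by
        rw [show ∀ a b : G, a * b * a⁻¹ = MulAut.conj a b from fun _ _ => rfl, MulEquiv.orderOf_eq]
        exact hall _ p.2.1.2 (fun hh => p.2.2.1 (Subtype.ext hh)) p.2.2.2⟩
    have hF : Function.Injective F := by
      rintro ⟨A, a⟩ ⟨B, b⟩ hAB
      set ga := Classical.choose (MulAction.exists_smul_eq G T A) with hga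
      set gb := Classical.choose (MulAction.exists_smul_eq G T B) with hgb
      have eA : ga • T = A := Classical.choose_spec (MulAction.exists_smul_eq G T A)
      have eB : gb • T = B := Classical.choose_spec (MulAction.exists_smul_eq G T B)
      have hval : ga * (a.1 : G) * ga⁻¹ = gb * (b.1 : G) * gb⁻¹ := congrArg Subtype.val hAB
      have hsq : ga * z * ga⁻¹ = gb * z * gb⁻¹ := by
        rw [← sq_eq_central h T hz2 hzc a.1.2 (hall _ a.1.2 (fun hh => a.2.1 (Subtype.ext hh)) a.2.2)]
        conv_rhs => rw [sq_eq_central h T hz2 hzc a.1.2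
          (hall _ a.1.2 (fun hh => a.2.1 (Subtype.ext hh)) a.2.2),
          ← sq_eq_central h T hz2 hzc b.1.2 (hall _ b.1.2 (fun hh => b.2.1 (Subtype.ext hh)) b.2.2)]
        rw [← conj_pow, ← conj_pow, hval]
      have hgT : gb⁻¹ * ga ∈ (T : Subgroup G) := by
        rw [← centralizer_central h T hz1 hzc, mem_centralizer_singleton_iff]
        calc gb⁻¹ * ga * z = gb⁻¹ * (ga * z * ga⁻¹) * ga := by group
          _ = z * (gb⁻¹ * ga) := by rw [hsq]; group
      have hAB' : A = B := by
        rw [← eA, ← eB, show ga • T = gb • ((gb⁻¹ * ga) • T) by rw [← mul_smul, mul_inv_cancel_left],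
          Sylow.smul_eq_iff_mem_normalizer.2 (le_normalizer hgT)]
      subst hAB'
      have : ga = gb := rfl
      rw [this] at hval
      exact Prod.ext rfl (Subtype.ext (Subtype.ext (mul_left_cancel (mul_right_cancel hval))))
    have hle := Nat.card_le_card_of_injective F hF
    rw [Nat.card_prod, n2 h, c4] at hle
    have h6 : Nat.card {u : (T : Subgroup G) // u ≠ 1 ∧ (u : G) ≠ z} = 6 := by
      haveI := Fintype.ofFinite (T : Subgroup G)
      have he : (Finset.univ.filter fun u : (T : Subgroup G) => u ≠ 1 ∧ (u : G) ≠ z) =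
          Finset.univ \ {1, ⟨z, hzT⟩} := by
        ext u
        simp only [Finset.mem_filter, Finset.mem_univ, true_and, Finset.mem_sdiff, Finset.mem_insert,
          Finset.mem_singleton, not_or, ne_eq]
        exact and_congr_right fun _ => ⟨fun hh e => hh (congrArg Subtype.val e),
          fun hh e => hh (Subtype.ext e)⟩
      rw [Nat.card_eq_fintype_card, Fintype.card_subtype, he,
        Finset.card_sdiff_of_subset (Finset.subset_univ _), Finset.card_univ,
        ← Nat.card_eq_fintype_card, card_sylow2 h T,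
        Finset.card_pair (fun e => hz1 (congrArg Subtype.val e).symm)]
    rw [h6] at hle
    omega
  have hidx : ((zpowers r).subgroupOf (T : Subgroup G)).index = 2 := by
    have h1 := ((zpowers r).subgroupOf (T : Subgroup G)).card_mul_index
    rw [Nat.card_congr (subgroupOfEquivOfLe (zpowers_le.2 hrT)).toEquiv, Nat.card_zpowers, hr4,
      card_sylow2 h T] at h1
    omega
  have hr' : orderOf (⟨r, hrT⟩ : (T : Subgroup G)) = 4 := by rw [Subgroup.orderOf_mk, hr4]
  have hy' : (⟨y, hyT⟩ : (T : Subgroup G)) ∉ zpowers (⟨r, hrT⟩ : (T : Subgroup G)) := by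
    intro hh
    obtain ⟨i, hi⟩ := mem_zpowers_iff.1 hh
    exact hy (mem_zpowers_iff.2 ⟨i, congrArg Subtype.val hi⟩)
  refine Cfsg.Agent.PGroups.nonempty_mulEquiv_dihedral (n := 4) hr' hy' (Subtype.ext hy2) ?_
    (card_sylow2 h T)
  apply Subtype.ext
  show y * r * y⁻¹ = r⁻¹
  -- `y r y⁻¹` lies in `<r>`, has order 4 and differs from `r`
  have h1 := (normal_of_index_eq_two hidx).conj_mem ⟨r, hrT⟩ (mem_subgroupOf.2 (mem_zpowers r)) ⟨y, hyT⟩
  rw [mem_subgroupOf] at h1
  have h1' : y * r * y⁻¹ ∈ zpowers r := h1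
  rw [mem_zpowers_iff_mem_range_orderOf, hr4] at h1'
  simp only [Finset.mem_image, Finset.mem_range] at h1'
  obtain ⟨i, hi, hi'⟩ := h1'
  have hord : orderOf (r ^ i) = 4 := by
    rw [hi', show y * r * y⁻¹ = MulAut.conj y r from rfl, MulEquiv.orderOf_eq, hr4]
  have hne : r ^ i ≠ r := by
    intro he
    rw [he] at hi'
    have hle : (T : Subgroup G) ≤ centralizer ({r} : Set G) := by
      intro u hu
      rw [mem_centralizer_singleton_iff]
      have hyr : Commute y r := (eq_mul_inv_iff_mul_eq.1 hi').symm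
      by_cases hu1 : u ∈ zpowers r
      · obtain ⟨j, rfl⟩ := mem_zpowers_iff.1 hu1
        exact ((Commute.refl r).zpow_left j).eq
      · have h3 : y⁻¹ * u ∈ zpowers r := by
          have := (mul_mem_iff_of_index_two hidx (a := (⟨y⁻¹, inv_mem hyT⟩ : (T : Subgroup G)))
            (b := ⟨u, hu⟩)).2 (by simp only [mem_subgroupOf, inv_mem_iff]; exact iff_of_false hy hu1)
          exact mem_subgroupOf.1 this
        obtain ⟨j, hj⟩ := mem_zpowers_iff.1 h3
        rw [show u = y * r ^ j by rw [hj, mul_inv_cancel_left]]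
        exact (hyr.mul_left ((Commute.refl r).zpow_left j)).eq
    have := card_le_of_le hle
    rw [(four_facts h hrT hr4).2, card_sylow2 h T] at this
    omega
  rw [← hi']
  interval_cases i
  · rw [pow_zero, orderOf_one] at hord; norm_num at hord
  · exact absurd (pow_one r) hne
  · rw [orderOf_pow, hr4] at hord; norm_num at hord
  · rw [eq_inv_iff_mul_eq_one, ← pow_succ, show 3 + 1 = orderOf r by omega, pow_orderOf_eq_one]

omit h in
/-- A Klein four-subgroup lies in some Sylow 2-subgroup. -/
theorem klein_le_sylow (U : Subgroup G) (hU : IsKleinFour ↥U) :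
    ∃ T : Sylow 2 G, U ≤ (T : Subgroup G) :=
  (IsPGroup.of_card (n := 2) hU.card_four : IsPGroup 2 U).exists_le_sylow

omit h in
theorem klein_sq {U : Subgroup G} (hU : IsKleinFour ↥U) {u : G} (hu : u ∈ U) : u * u = 1 :=
  congrArg Subtype.val (IsKleinFour.mul_self (⟨u, hu⟩ : U))

theorem central_mem_klein {U : Subgroup G} (hU : IsKleinFour ↥U) {T : Sylow 2 G}
    (hle : U ≤ (T : Subgroup G)) {z : G} (hz2 : orderOf z = 2)
    (hzc : ∀ t ∈ (T : Subgroup G), t * z = z * t) : z ∈ U := by
  classical
  have hzT : z ∈ (T : Subgroup G) := by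
    rw [← normalizer2 h T]
    exact centralizer_le_normalizer _ (mem_centralizer_iff.2 fun t ht => hzc t ht)
  obtain ⟨r, hrT, hr4⟩ := exists_four h T
  have hrz := sq_eq_central h T hz2 hzc hrT hr4
  have hidx : (U.subgroupOf (T : Subgroup G)).index = 2 := by
    have h1 := (U.subgroupOf (T : Subgroup G)).card_mul_index
    rw [Nat.card_congr (subgroupOfEquivOfLe hle).toEquiv, hU.card_four, card_sylow2 h T] at h1
    omega
  have := sq_mem_of_index_two hidx (⟨r, hrT⟩ : (T : Subgroup G))
  rw [mem_subgroupOf] at this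
  rw [← hrz]
  exact this

theorem klein_normal {U : Subgroup G} (hU : IsKleinFour ↥U) {T : Sylow 2 G}
    (hle : U ≤ (T : Subgroup G)) : (T : Subgroup G) ≤ normalizer (U : Set G) := by
  have hidx : (U.subgroupOf (T : Subgroup G)).index = 2 := by
    have h1 := (U.subgroupOf (T : Subgroup G)).card_mul_index
    rw [Nat.card_congr (subgroupOfEquivOfLe hle).toEquiv, hU.card_four, card_sylow2 h T] at h1
    omega
  exact (normal_subgroupOf_iff_le_normalizer hle).1 (normal_of_index_eq_two hidx)

theorem card_normalizer_klein {U : Subgroup G} (hU : IsKleinFour ↥U) :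
    Nat.card (normalizer (U : Set G)) = 24 := by
  classical
  obtain ⟨T, hle⟩ := klein_le_sylow U hU
  obtain ⟨z, hzT, hz2, hzc⟩ := exists_central h T
  have hzU := central_mem_klein h hU hle hz2 hzc
  have hTN := klein_normal h hU hle
  -- another involution `s` of `U`
  obtain ⟨s, hsU, hs1, hsz⟩ : ∃ s ∈ U, s ≠ 1 ∧ s ≠ z := by
    by_contra hno
    push_neg at hno
    haveI := Fintype.ofFinite U
    have : (Finset.univ : Finset U) ⊆ {1, ⟨z, hzU⟩} := fun u _ => by
      simp only [Finset.mem_insert, Finset.mem_singleton]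
      by_cases h1 : u = 1
      · exact Or.inl h1
      · exact Or.inr (Subtype.ext (hno u u.2 (fun hh => h1 (Subtype.ext hh))))
    have := (Finset.card_le_card this).trans Finset.card_le_two
    rw [Finset.card_univ, ← Nat.card_eq_fintype_card, hU.card_four] at this
    omega
  have hs2 : orderOf s = 2 := orderOf_eq_prime (by rw [pow_two, klein_sq hU hsU]) hs1
  obtain ⟨T', hT'⟩ := exists_sylow_centralizer h hs2
  have hle' : U ≤ (T' : Subgroup G) := by
    rw [hT']
    intro u hu
    rw [mem_centralizer_singleton_iff]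
    haveI := IsKleinFour.isMulCommutative (G := U)
    exact congrArg Subtype.val (IsMulCommutative.is_comm.comm (⟨u, hu⟩ : U) ⟨s, hsU⟩)
  have hne : T' ≠ T := by
    rintro rfl
    apply hsz
    -- the centre of `T` is cyclic
    obtain ⟨r, hrT, hr4⟩ := exists_four h T'
    have hsc : ∀ t ∈ (T' : Subgroup G), t * s = s * t := fun t ht =>
      mem_centralizer_singleton_iff.1 (hT' ▸ ht)
    rw [← sq_eq_central h T' hs2 hsc hrT hr4, sq_eq_central h T' hz2 hzc hrT hr4]
  have hT'N := klein_normal h hU hle'
  set N := normalizer (U : Set G) with hN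
  obtain ⟨k, hk, hdvd⟩ := exists_mul_dvd_card hne hT'N hTN
  rw [card_sylow2 h T'] at hdvd
  have hNne : N ≠ ⊤ := by
    refine normalizer_ne_top (fun hb => ?_) (fun ht => ?_)
    · exact hs1 (mem_bot.1 (hb ▸ hsU))
    · have := hU.card_four
      rw [ht, card_top, h] at this
      omega
  have hfac := card_dvd_factorial hNne
  have hmul := N.card_mul_index
  rw [h] at hfac hmul
  have hd168 : Nat.card N ∣ 168 := h ▸ card_subgroup_dvd_card N
  have h8 : 8 * (1 + k * 2) ≤ Nat.card N := Nat.le_of_dvd Nat.card_pos hdvd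
  have hidx : N.index ≤ 7 := by
    have := Nat.mul_le_mul_right N.index (show 24 ≤ Nat.card N by omega)
    omega
  have h7 : 7 ≤ N.index := by
    by_contra hlt
    have h7' : 7 ∣ N.index.factorial := (show 7 ∣ 168 by norm_num).trans hfac
    exact hlt ((Nat.Prime.dvd_factorial (by norm_num)).1 h7')
  have : N.index = 7 := by omega
  rw [this] at hmul
  omega

theorem normalizer_klein_equiv {U : Subgroup G} (hU : IsKleinFour ↥U) :
    Nonempty (↥(normalizer (U : Set G)) ≃* Equiv.Perm (Fin 4)) :=
  nonempty_equiv_perm_four (card_normalizer_klein h hU)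
    (fun g hg => not_six h (g : G) (by rwa [Subgroup.orderOf_coe]))

end Cfsg.Agent.H36.S168
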