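import Cfsg.Agent.H36.Numeric
import Cfsg.Agent.H36.BlockDegree
import Cfsg.Agent.S0144
import Cfsg.Agent.S0499
import Cfsg.Agent.S0073

/-!
# A decidable screen for orders of simple groups below 6400
-/

set_option autoImplicit false
set_option linter.unusedSectionVars false
set_option linter.style.haveILetI false

namespace Cfsg.Agent.H36.OrderScreen

open Subgroup

/-- The least prime factor of a number in `[2, 6400)`. -/
def spf (n : ℕ) : ℕ := ((List.range' 2 78).find? fun d => n % d == 0).getD n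

/-- The part of `n` prime to `p`, with fuel. -/
def strip : ℕ → ℕ → ℕ → ℕ
  | 0, _, n => n
  | k + 1, p, n => if n % p == 0 then strip k p (n / p) else n

/-- `n` has at most two prime divisors. -/
def twoPrimes (n : ℕ) : Bool :=
  let p := spf n
  let m := strip 14 p n
  m == 1 || strip 14 (spf m) m == 1

/-- The divisibility conditions on the order of a simple group fail. -/
def divFails (n : ℕ) : Bool :=
  if n % 2 == 0 then !(n % 12 == 0 || n % 16 == 0 || n % 56 == 0)
  else !(n % (spf n ^ 3) == 0 || n % 12 == 0)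

/-- The number of Sylow `p`-subgroups `d` is excluded by the embedding in `Alt(d)`. -/
def tooFew (n d : ℕ) : Bool := decide (d < 20) && !(d.factorial % (2 * n) == 0)

/-- There is no admissible number of Sylow `p`-subgroups. -/
def sylowFails (n p : ℕ) : Bool :=
  let m := strip 14 p n
  spf p == p && decide (2 ≤ p ∧ p < 6400) && n % p == 0 && !(m % p == 0) && !(m == 1) &&
    (List.range (m / p)).all fun k => !(m % ((k + 1) * p + 1) == 0) || tooFew n ((k + 1) * p + 1)

/-- `F` is one of the excluded signed degrees. -/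
def excluded (p c : ℕ) (F : ℤ) : Bool := !(c == 1) && decide (H36.BlockDegree.Small p F)

/-- The possible signed degrees. -/
def degrees (n p c : ℕ) : List ℤ :=
  ((List.range 80).flatMap fun f : ℕ => [(f : ℤ), -(f : ℤ)]).filter fun F =>
    decide (2 ≤ F.natAbs) && n % F.natAbs == 0 && (F - 1) % (p : ℤ) == 0 && !excluded p c F

/-- The condition on the common degree of the exceptional characters. -/
def good (n p r c : ℕ) (s sq : ℤ) : Bool :=
  decide (2 ≤ s.natAbs) && n % s.natAbs == 0 && (s - r) % (p : ℤ) == 0 &&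
    !excluded p c (-(((p - 1) / r : ℕ) * s)) &&
    decide (sq + ((p - 1) / r : ℕ) * s ^ 2 ≤ n)

/-- Search for a solution of the degree equation. -/
def search (n : ℕ) (g : ℤ → ℤ → Bool) : List ℤ → ℕ → ℤ → ℤ → Bool
  | [], k, s, sq => k == 0 && g s sq
  | F :: E, k, s, sq => (List.range (k + 1)).any fun j =>
      decide (sq + (j : ℤ) * F ^ 2 ≤ n) &&
        search n g E (k - j) (s + (j : ℤ) * F) (sq + (j : ℤ) * F ^ 2)

/-- The degree equation has a solution with all degrees satisfying `ok`. -/
def solvable (n p r c : ℕ) (ok : ℕ → Bool) : Bool :=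
  search n (fun s sq => good n p r c s sq && ok s.natAbs)
    ((degrees n p c).filter fun F => ok F.natAbs) (r - 1) 1 1

/-- For `p` exactly dividing `n` the degree equation forces `skip r c`. -/
def blockOnly (n p : ℕ) (ok : ℕ → Bool) (skip : ℕ → ℕ → Bool) : Bool :=
  let m := n / p
  spf p == p && decide (2 ≤ p ∧ p < 6400) && p * m == n && !(m % p == 0) && !(m == 1) &&
    (List.range (m / p)).all fun k =>
      !(m % ((k + 1) * p + 1) == 0) || tooFew n ((k + 1) * p + 1) ||
        (List.range' 2 (p - 2)).all fun r =>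
          !((p - 1) % r == 0 && (m / ((k + 1) * p + 1)) % r == 0) ||
            skip r (m / ((k + 1) * p + 1) / r) ||
              !solvable n p r (m / ((k + 1) * p + 1) / r) ok

/-- The degree equation fails for every number of Sylow `p`-subgroups, `p` exactly dividing `n`. -/
def blockFails (n p : ℕ) : Bool := blockOnly n p (fun _ => true) fun _ _ => false

theorem spf_dvd (n : ℕ) : spf n ∣ n := by
  unfold spf
  cases h : (List.range' 2 78).find? fun d => n % d == 0 with
  | none => simp
  | some d =>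
    have := List.find?_some h
    simpa [Nat.dvd_iff_mod_eq_zero] using this

theorem spf_le_of_dvd {n k : ℕ} (hk : 2 ≤ k) (hd : k ∣ n) (hk' : k < 80) : spf n ≤ k := by
  unfold spf
  cases h : (List.range' 2 78).find? fun d => n % d == 0 with
  | none =>
    have := List.find?_eq_none.1 h k (by rw [List.mem_range'_1]; omega)
    simp [Nat.mod_eq_zero_of_dvd hd] at this
  | some d =>
    obtain ⟨hkd, i, hi, rfl, hmin⟩ := List.find?_eq_some_iff_getElem.1 h
    simp only [List.getElem_range', List.length_range', Option.getD_some] at *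
    by_contra hlt
    have h1 := hmin (k - 2) (by omega)
    rw [show 2 + 1 * (k - 2) = k by omega] at h1
    simp [Nat.mod_eq_zero_of_dvd hd] at h1

theorem prime_spf {n : ℕ} (h2 : 2 ≤ n) (hn : n < 6400) : (spf n).Prime := by
  have hne : 2 ≤ spf n := by
    unfold spf
    cases h : (List.range' 2 78).find? fun d => n % d == 0 with
    | none => simpa
    | some d =>
      have := List.mem_range'_1.1 (List.mem_of_find?_eq_some h)
      simp only [Option.getD_some]
      omega
  refine Nat.prime_def_le_sqrt.2 ⟨hne, fun k hk2 hks hkd => ?_⟩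
  have hle : spf n ≤ n := Nat.le_of_dvd (by omega) (spf_dvd n)
  have hk80 : k < 80 := lt_of_le_of_lt hks (Nat.sqrt_lt.2 (by omega))
  have h1 := spf_le_of_dvd hk2 (hkd.trans (spf_dvd n)) hk80
  have := Nat.le_sqrt.1 hks
  nlinarith

theorem spf_eq_minFac {n : ℕ} (h2 : 2 ≤ n) (hn : n < 6400) : spf n = n.minFac := by
  refine le_antisymm ?_ (Nat.minFac_le_of_dvd (prime_spf h2 hn).two_le (spf_dvd n))
  by_cases h : n.minFac < 80
  · exact spf_le_of_dvd (Nat.minFac_prime (by omega)).two_le (Nat.minFac_dvd n) h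
  · by_cases hp : n.Prime
    · rw [hp.minFac_eq]; exact Nat.le_of_dvd (by omega) (spf_dvd n)
    · have := Nat.minFac_sq_le_self (by omega) hp
      nlinarith

theorem exists_strip : ∀ (k p n : ℕ), ∃ a, n = p ^ a * strip k p n
  | 0, p, n => ⟨0, by simp [strip]⟩
  | k + 1, p, n => by
    unfold strip
    split_ifs with h
    · obtain ⟨a, ha⟩ := exists_strip k p (n / p)
      refine ⟨a + 1, ?_⟩
      rw [pow_succ', mul_assoc, ← ha, Nat.mul_div_cancel' (Nat.dvd_of_mod_eq_zero (by simpa using h))]
    · exact ⟨0, by simp⟩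

variable {G : Type*} [Group G] [Finite G] [IsSimpleGroup G]

theorem false_of_twoPrimes (hG : ¬ IsMulCommutative G) (hn : Nat.card G < 6400)
    (h : twoPrimes (Nat.card G) = true) : False := by
  set n := Nat.card G with hn'
  have h1 : n ≠ 1 := fun h1 => hG (isMulCommutative_of_forall fun a b => by
    haveI := (Nat.card_eq_one_iff_unique.1 h1).1
    exact Subsingleton.elim _ _)
  have h0 : 0 < n := Nat.card_pos
  obtain ⟨a, ha⟩ := exists_strip 14 (spf n) n
  set m := strip 14 (spf n) n with hm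
  have hp := prime_spf (n := n) (by omega) hn
  obtain ⟨q, b, hq, hb⟩ : ∃ q b : ℕ, q.Prime ∧ m = q ^ b := by
    by_cases hm1 : m = 1
    · exact ⟨2, 0, Nat.prime_two, hm1⟩
    · have hm0 : m ≠ 0 := fun h0' => by rw [h0', mul_zero] at ha; omega
      have hmn : m ≤ n := Nat.le_of_dvd h0 (Dvd.intro_left _ ha.symm)
      obtain ⟨b, hb⟩ := exists_strip 14 (spf m) m
      have h' : strip 14 (spf m) m = 1 := by
        simp only [twoPrimes, ← hm] at h
        simpa [hm1] using h
      exact ⟨spf m, b, prime_spf (by omega) (by omega), by rwa [h', mul_one] at hb⟩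
  haveI := S0144.result (G := G) _ q a b hp hq (ha.trans (by rw [hb]))
  exact hG (isMulCommutative_of_forall fun x y => by
    exact IsSimpleGroup.comm_iff_isSolvable.2 inferInstance x y)

theorem false_of_divFails (hG : ¬ IsMulCommutative G) (hn : Nat.card G < 6400)
    (h : divFails (Nat.card G) = true) : False := by
  set n := Nat.card G with hn'
  have h1 : n ≠ 1 := fun h1 => hG (isMulCommutative_of_forall fun a b => by
    haveI := (Nat.card_eq_one_iff_unique.1 h1).1
    exact Subsingleton.elim _ _)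
  have h0 : 0 < n := Nat.card_pos
  unfold divFails at h
  by_cases he : n % 2 = 0
  · have := S0499.result hG (Nat.even_iff.2 he)
    simp only [Nat.dvd_iff_mod_eq_zero, ← hn'] at this
    simp [he] at h
    omega
  · have hex : ∃ x y : G, x * y ≠ y * x := by
      by_contra hc
      push Not at hc
      exact hG (isMulCommutative_of_forall hc)
    have := S0073.result hex
    rw [← hn', ← spf_eq_minFac (by omega) hn, Nat.dvd_iff_mod_eq_zero, Nat.dvd_iff_mod_eq_zero] at this
    simp [he] at h
    omega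

theorem tooFew_eq_false (hG : ¬ IsMulCommutative G) {p : ℕ} [Fact p.Prime]
    (h1 : Nat.card (Sylow p G) ≠ 1) : tooFew (Nat.card G) (Nat.card (Sylow p G)) = false := by
  obtain ⟨P⟩ := Sylow.nonempty (p := p) (G := G)
  rw [P.card_eq_index_normalizer] at h1 ⊢
  have h := two_mul_card_dvd_factorial hG
    (H := normalizer ((P : Subgroup G) : Set G)) (fun h => h1 (index_eq_one.2 h))
  have e : (normalizer (P : Set G)).index.factorial % (2 * Nat.card G) = 0 :=
    Nat.mod_eq_zero_of_dvd h
  simp [tooFew, e]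

theorem exists_candidate (hG : ¬ IsMulCommutative G) {p a m : ℕ} [hp : Fact p.Prime]
    (hn : Nat.card G = p ^ a * m) (ha : a ≠ 0) (hm : ¬ p ∣ m) (hm1 : m ≠ 1) :
    ∃ k < m / p, m % ((k + 1) * p + 1) = 0 ∧ Nat.card (Sylow p G) = (k + 1) * p + 1 ∧
      tooFew (Nat.card G) ((k + 1) * p + 1) = false := by
  obtain ⟨hd, hmod⟩ := card_sylow_dvd (p := p) hn rfl hm
  have hne : Nat.card (Sylow p G) ≠ 1 := by
    refine card_sylow_ne_one (by rw [hn]; exact dvd_mul_of_dvd_left (dvd_pow_self p ha) m) ?_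
    intro j hj
    obtain ⟨q, hq, hqm⟩ := Nat.exists_prime_and_dvd hm1
    have hqn : q ∣ p ^ j := hj ▸ hn ▸ dvd_mul_of_dvd_right hqm _
    exact hm ((Nat.prime_dvd_prime_iff_eq hq hp.out).1 (hq.dvd_of_dvd_pow hqn) ▸ hqm)
  set d := Nat.card (Sylow p G) with hd'
  have hdiv := Nat.div_add_mod d p
  rw [hmod] at hdiv
  have hm0 : m ≠ 0 := fun h => hm (h ▸ dvd_zero p)
  have hk : 1 ≤ d / p := by
    rcases Nat.eq_zero_or_pos (d / p) with h | h
    · rw [h] at hdiv; omega
    · exact h
  have he : d = (d / p - 1 + 1) * p + 1 := by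
    rw [Nat.sub_add_cancel hk, mul_comm]; exact hdiv.symm
  refine ⟨d / p - 1, ?_, ?_, he, ?_⟩
  · have := Nat.div_le_div_right (c := p) (Nat.le_of_dvd (Nat.pos_of_ne_zero hm0) hd)
    omega
  · rw [← he]; exact Nat.mod_eq_zero_of_dvd hd
  · rw [← he]; exact tooFew_eq_false hG hne

theorem false_of_sylowFails (hG : ¬ IsMulCommutative G) {p : ℕ}
    (h : sylowFails (Nat.card G) p = true) : False := by
  set n := Nat.card G with hn'
  simp only [sylowFails, Bool.and_eq_true, Bool.not_eq_true', beq_iff_eq, beq_eq_false_iff_ne,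
    decide_eq_true_eq, List.all_eq_true, Bool.or_eq_true, List.mem_range] at h
  obtain ⟨⟨⟨⟨⟨hsp, hp2, hp3⟩, hpn⟩, hpm⟩, hm1⟩, hall⟩ := h
  haveI := Fact.mk (hsp ▸ prime_spf hp2 hp3)
  obtain ⟨a, ha⟩ := exists_strip 14 p n
  set m := strip 14 p n
  have hm : ¬ p ∣ m := fun hd => hpm (Nat.mod_eq_zero_of_dvd hd)
  have ha0 : a ≠ 0 := by
    rintro rfl
    rw [pow_zero, one_mul] at ha
    exact hpm (ha ▸ hpn)
  obtain ⟨k, hk, hkd, -, hkt⟩ := exists_candidate hG ha ha0 hm hm1
  rcases hall k hk with h | h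
  · exact h hkd
  · rw [← hn', h] at hkt; exact Bool.noConfusion hkt

theorem search_eq_true (n : ℕ) (g : ℤ → ℤ → Bool) : ∀ (E L : List ℤ) (k : ℕ) (s sq : ℤ),
    (∀ F ∈ L, F ∈ E) → L.length = k → g (s + L.sum) (sq + (L.map (· ^ 2)).sum) = true →
      sq + (L.map (· ^ 2)).sum ≤ n → search n g E k s sq = true
  | [], L, k, s, sq, hL, hk, hg, _ => by
    obtain rfl : L = [] := List.eq_nil_iff_forall_not_mem.2 fun F hF => by simpa using hL F hF
    simp at hk hg
    simp [search, ← hk, hg]
  | F :: E, L, k, s, sq, hL, hk, hg, hle => by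
    set R := L.filter (fun x => !(x == F)) with hR
    set j := L.count F with hj
    have hperm : L.Perm (List.replicate j F ++ R) := by
      refine (List.filter_append_perm (fun x => x == F) L).symm.trans ?_
      rw [List.filter_beq, ← hj, hR]
    have hlen : j + R.length = k := by
      rw [← hk, hperm.length_eq, List.length_append, List.length_replicate]
    have hsum : L.sum = j * F + R.sum := by
      rw [hperm.sum_eq, List.sum_append, List.sum_replicate, nsmul_eq_mul]
    have hsq : (L.map (· ^ 2)).sum = j * F ^ 2 + (R.map (· ^ 2)).sum := by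
      rw [(hperm.map _).sum_eq, List.map_append, List.sum_append, List.map_replicate,
        List.sum_replicate, nsmul_eq_mul]
    have hnn : 0 ≤ (R.map (· ^ 2)).sum := List.sum_nonneg (by
      intro x hx; obtain ⟨y, -, rfl⟩ := List.mem_map.1 hx; positivity)
    simp only [search, List.any_eq_true, List.mem_range, Bool.and_eq_true, decide_eq_true_eq]
    refine ⟨j, by omega, by omega, search_eq_true n g E R _ _ _ ?_ (by omega) ?_ (by omega)⟩
    · intro x hx
      obtain ⟨hx1, hx2⟩ := List.mem_filter.1 hx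
      exact (List.mem_cons.1 (hL x hx1)).resolve_left (by simpa using hx2)
    · rwa [add_assoc, add_assoc, ← hsum, ← hsq]

theorem mem_degrees {n p c : ℕ} {F : ℤ} (h2 : 2 ≤ F.natAbs) (hn : F.natAbs < 80)
    (hd : F.natAbs ∣ n) (hmod : (p : ℤ) ∣ F - 1) (hs : excluded p c F = false) :
    F ∈ degrees n p c := by
  simp only [degrees, List.mem_filter, List.mem_flatMap, List.mem_range, Bool.and_eq_true,
    decide_eq_true_eq, beq_iff_eq, Bool.not_eq_true']
  exact ⟨⟨F.natAbs, hn, by simpa using Int.natAbs_eq F⟩, ⟨⟨h2, Nat.mod_eq_zero_of_dvd hd⟩,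
    Int.emod_eq_zero_of_dvd hmod⟩, hs⟩

/-- The degree equation has a solution. -/
theorem search_of_normalizer (hG : ¬ IsMulCommutative G) (hn : Nat.card G < 6400) {p : ℕ}
    [Fact p.Prime] (P : Sylow p G) (hP : Nat.card (P : Subgroup G) = p) {r c : ℕ}
    (hr : (centralizer ((P : Subgroup G) : Set G)).relIndex
      (normalizer ((P : Subgroup G) : Set G)) = r)
    (hc : Nat.card (centralizer ((P : Subgroup G) : Set G)) = p * c) (ok : ℕ → Bool)
    (hok : ∀ (χ : IrrCharacter G) (f : ℕ), 2 ≤ f → (χ : G → ℂ) 1 = (f : ℂ) → ok f = true) :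
    solvable (Nat.card G) p r c ok = true := by
  obtain ⟨L, θ, hlen, hL, hθ2, hθd, hθr, hθs, hsum, hsq, θ₀, hθ₀⟩ :=
    BlockDegree.exists_data hG P hP hr hc
  set n := Nat.card G
  have hex : ∀ F : ℤ, (c ≠ 1 → ¬ BlockDegree.Small p F) → excluded p c F = false := by
    intro F h
    by_cases hc1 : c = 1
    · simp [excluded, hc1]
    · simp [excluded, hc1, h hc1]
  have hT : (0 : ℤ) ≤ ((p - 1) / r : ℕ) * θ ^ 2 := by positivity
  refine search_eq_true n _ _ L _ 1 1 (fun F hF => ?_) (by omega) ?_ (by omega)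
  · obtain ⟨h2, hd, hm, hs, χ, hχ⟩ := hL F hF
    refine List.mem_filter.2 ⟨mem_degrees h2 ?_ hd hm (hex F hs), hok χ _ h2 hχ⟩
    have h1 : F ^ 2 ≤ (L.map fun F => F ^ 2).sum := List.single_le_sum (by
      intro x hx; obtain ⟨y, -, rfl⟩ := List.mem_map.1 hx; positivity) _ (List.mem_map.2 ⟨F, hF, rfl⟩)
    have h3 : ((F.natAbs : ℤ)) ^ 2 < 6400 := by
      rw [Int.natAbs_sq]; omega
    by_contra h80
    have : (80 : ℤ) ≤ F.natAbs := by exact_mod_cast not_lt.1 h80
    nlinarith
  · rw [hsum]
    simp only [good, Bool.and_eq_true, decide_eq_true_eq, beq_iff_eq, Bool.not_eq_true']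
    refine ⟨?_, hok θ₀ _ hθ2 hθ₀⟩
    exact ⟨⟨⟨⟨hθ2, Nat.mod_eq_zero_of_dvd hθd⟩, Int.emod_eq_zero_of_dvd hθr⟩, hex _ hθs⟩, hsq⟩

theorem exists_of_blockOnly (hG : ¬ IsMulCommutative G) (hn : Nat.card G < 6400) {p : ℕ}
    [hp : Fact p.Prime] (ok : ℕ → Bool)
    (hok : ∀ (χ : IrrCharacter G) (f : ℕ), 2 ≤ f → (χ : G → ℂ) 1 = (f : ℂ) → ok f = true)
    (skip : ℕ → ℕ → Bool) (h : blockOnly (Nat.card G) p ok skip = true) :
    ∃ (P : Sylow p G) (r c : ℕ), Nat.card (P : Subgroup G) = p ∧
      (centralizer ((P : Subgroup G) : Set G)).relIndex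
        (normalizer ((P : Subgroup G) : Set G)) = r ∧
      Nat.card (centralizer ((P : Subgroup G) : Set G)) = p * c ∧ skip r c = true := by
  set n := Nat.card G with hn'
  simp only [blockOnly, Bool.and_eq_true, Bool.not_eq_true', beq_iff_eq, beq_eq_false_iff_ne,
    decide_eq_true_eq, List.all_eq_true, Bool.or_eq_true, List.mem_range, List.mem_range'_1,
    Bool.and_eq_false_iff] at h
  obtain ⟨⟨⟨⟨⟨hsp, hp2, hp3⟩, hpn⟩, hpm⟩, hm1⟩, hall⟩ := h
  set m := n / p
  have hm : ¬ p ∣ m := fun hd => hpm (Nat.mod_eq_zero_of_dvd hd)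
  have hpn' : n = p ^ 1 * m := by rw [pow_one, hpn]
  obtain ⟨k, hk, hkd, hd, hkt⟩ := exists_candidate hG hpn' one_ne_zero hm hm1
  obtain ⟨P⟩ := Sylow.nonempty (p := p) (G := G)
  have hP : Nat.card (P : Subgroup G) = p := by
    simpa using card_sylow_eq hn'.symm P hpn' hm
  set d := (k + 1) * p + 1
  have hN : d * Nat.card (normalizer ((P : Subgroup G) : Set G)) = p * m := by
    rw [← hd, card_sylow_mul_normalizer, hpn]
  set r := (centralizer ((P : Subgroup G) : Set G)).relIndex
    (normalizer ((P : Subgroup G) : Set G)) with hr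
  obtain ⟨c, hc⟩ := dvd_card_centralizer_of_prime (Fact.out : p.Prime) (P : Subgroup G) hP
  have hpG : p ∣ Nat.card G := hP ▸ card_subgroup_dvd_card _
  have hr1 : 1 < r := one_lt_relIndex_centralizer hG P hpG
  have hrp : r ∣ p - 1 := relIndex_centralizer_dvd_of_prime Fact.out _ hP
  have hmul := card_normalizer_eq_mul (P : Subgroup G)
  rw [hc, ← hr] at hmul
  rw [hmul] at hN
  have hmd : m = d * (r * c) := by
    refine (Nat.eq_of_mul_eq_mul_left (Fact.out : p.Prime).pos ?_)
    rw [← hN]; ring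
  have hN' : m / d = r * c := by rw [hmd, Nat.mul_div_cancel_left _ (Nat.succ_pos _)]
  have hcc : m / d / r = c := by rw [hN', Nat.mul_div_cancel_left _ (by omega)]
  rcases hall k hk with (h | h) | h
  · exact absurd hkd h
  · rw [← hn', h] at hkt; exact Bool.noConfusion hkt
  · have hrle : r ≤ p - 1 := Nat.le_of_dvd (by omega) hrp
    rcases h r ⟨by omega, by omega⟩ with (h | h) | h
    · rcases h with h | h
      · exact absurd (Nat.mod_eq_zero_of_dvd hrp) h
      · exact absurd (by rw [hN', Nat.mul_mod_right]) h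
    · exact ⟨P, r, c, hP, hr.symm, hc, by rwa [hcc] at h⟩
    · rw [hcc, hn', search_of_normalizer hG hn P hP hr.symm hc ok hok] at h
      exact Bool.noConfusion h

theorem false_of_blockFails (hG : ¬ IsMulCommutative G) (hn : Nat.card G < 6400) {p : ℕ}
    (h : blockFails (Nat.card G) p = true) : False := by
  have h' := h
  simp only [blockFails, blockOnly, Bool.and_eq_true, beq_iff_eq, decide_eq_true_eq] at h'
  obtain ⟨⟨⟨⟨⟨hsp, hp2, hp3⟩, -⟩, -⟩, -⟩, -⟩ := h'
  haveI := Fact.mk (hsp ▸ prime_spf hp2 hp3)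
  obtain ⟨-, -, -, -, -, -, h⟩ :=
    exists_of_blockOnly hG hn _ (fun _ _ _ _ => rfl) _ h
  exact Bool.noConfusion h

end Cfsg.Agent.H36.OrderScreen
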