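import Cfsg.Agent.H36.EvenPSL
import Cfsg.Agent.H36.NoSimple
import Cfsg.Agent.H36.TwoLocal
import Cfsg.Agent.H36.Fixed
import Cfsg.Agent.H36.PermNormalizer

/-!
# Simple groups of orders 504 and 4080
-/

set_option autoImplicit false
set_option linter.unusedSectionVars false
set_option linter.style.haveILetI false

namespace Cfsg.Agent.H36.PSLEvenOrders

open Subgroup

variable {G : Type*} [Group G] [Finite G]

/-- The degree equations give one class of involutions and their centralizer order. -/
theorem involutions {p : ℕ} [Fact p.Prime] [IsSimpleGroup G] (hG : ¬ IsMulCommutative G)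
    (hp : 5 ≤ p) (P : Sylow p G) (hP : Nat.card (P : Subgroup G) = p)
    (hN : Nat.card (normalizer ((P : Subgroup G) : Set G)) = p * 2) (a q : ℕ) (ha : 0 < a)
    (L : List ℕ) (hL : ∀ b ∈ L, b ≠ 0) (hn : Nat.card G = L.prod) (h2 : 2 ^ a ∣ L.prod)
    (hsol : ∀ B ∈ ((divProds L).flatMap fun d : ℕ => [(d : ℤ), -(d : ℤ)]),
      2 ≤ B.natAbs → B % (p : ℤ) = 1 → (B + 1).natAbs ∣ L.prod →
      ∀ c ∈ divProds L, 2 ^ a ∣ c → ∀ i ∈ List.range (2 * B.natAbs + 1),
        (B - ((i : ℤ) - (B.natAbs : ℤ))) ^ 2 * (L.prod : ℤ) =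
          p * (c : ℤ) ^ 2 * (B * (B + 1)) → c = q) :
    (∀ u v : G, u * u = 1 → u ≠ 1 → v * v = 1 → v ≠ 1 → IsConj u v) ∧
      ∀ u : G, u * u = 1 → u ≠ 1 → Nat.card (centralizer ({u} : Set G)) = q := by
  haveI := Fintype.ofFinite G
  obtain ⟨hC, he⟩ := self_central hG P hP hN Nat.prime_two
  obtain ⟨g, hg, hgP⟩ : ∃ g ∈ normalizer ((P : Subgroup G) : Set G), g ∉ (P : Subgroup G) := by
    by_contra hall
    push Not at hall
    have := card_dvd_of_le (hall : normalizer ((P : Subgroup G) : Set G) ≤ P)
    rw [hN, hP] at this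
    have := Nat.le_of_dvd (by omega) this
    omega
  have hone : ∀ u : G, u * u = 1 → u ≠ 1 → IsConj u g := by
    intro u hu hu1
    obtain ⟨B, x, -, -, -, -, -, -, hconj⟩ := SelfCentral.criterion_two' hG hP hC he hp hu hu1
    exact hconj g hg hgP
  have hconj : ∀ u v : G, u * u = 1 → u ≠ 1 → v * v = 1 → v ≠ 1 → IsConj u v :=
    fun u v hu hu1 hv hv1 => (hone u hu hu1).trans (hone v hv hv1).symm
  refine ⟨hconj, fun u hu hu1 => ?_⟩
  obtain ⟨z, hz, hz1, hzc⟩ := exists_central_involution ha (hn.symm ▸ h2)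
  obtain ⟨B, x, hB2, hBd, hB1, hmod, hx, heq, -⟩ :=
    SelfCentral.criterion_two' hG hP hC he hp hz hz1
  rw [hn] at hBd hB1 heq
  have h1 : (1 : ℤ) % p = 1 := Int.emod_eq_of_lt (by norm_num) (by omega)
  obtain ⟨i, hi, hxi⟩ : ∃ i : ℕ, i ∈ List.range (2 * B.natAbs + 1) ∧ x = (i : ℤ) - B.natAbs :=
    ⟨(x + B.natAbs).toNat, List.mem_range.2 (by omega), by omega⟩
  have hzq : Nat.card (centralizer ({z} : Set G)) = q :=
    hsol B (int_mem_of_natAbs_mem (mem_divProds L hL _ hBd)) hB2
      ((Int.emod_eq_emod_iff_emod_sub_eq_zero.2 (Int.emod_eq_zero_of_dvd hmod)).trans h1) hB1 _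
      (mem_divProds L hL _ (hn ▸ card_subgroup_dvd_card _)) hzc i hi (hxi ▸ heq)
  have hcl : Nat.card {g : G // IsConj u g} = Nat.card {g : G // IsConj z g} :=
    Nat.card_congr (Equiv.subtypeEquivRight fun g =>
      ⟨fun h => (hconj z u hz hz1 hu hu1).trans h, fun h => (hconj u z hu hu1 hz hz1).trans h⟩)
  have e1 := card_class_mul_centralizer u
  have e2 := card_class_mul_centralizer z
  rw [hcl, ← e2] at e1
  haveI : Nonempty {g : G // IsConj z g} := ⟨⟨z, IsConj.refl z⟩⟩
  exact (Nat.eq_of_mul_eq_mul_left Nat.card_pos e1).trans hzq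

/-- Elements counted with the centralizers of involutions: the group has no element of order
four, so Sylow `2`-subgroups have exponent two. -/
theorem exponent_two {p q k m M : ℕ} [Fact p.Prime] (hp : p ≠ 2) (P : Sylow p G)
    (hP : Nat.card (P : Subgroup G) = p) (hk : Nat.card (Sylow p G) = k)
    (hconj : ∀ u v : G, u * u = 1 → u ≠ 1 → v * v = 1 → v ≠ 1 → IsConj u v)
    (hcent : ∀ u : G, u * u = 1 → u ≠ 1 → Nat.card (centralizer ({u} : Set G)) = q)
    (h2 : 2 ∣ Nat.card G) (hm : Odd m) (hcop : Nat.Coprime p m) (hq : 0 < q)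
    (hM : M ≤ Nat.card {g : G // g ^ m = 1 ∧ g ≠ 1})
    (hsum : Nat.card G ≤ 1 + Nat.card G / q + k * (p - 1) + M) :
    ∀ S : Sylow 2 G, ∀ x ∈ (S : Subgroup G), x * x = 1 := by
  classical
  haveI : Fact (Nat.Prime 2) := ⟨Nat.prime_two⟩
  intro S x hx
  by_contra hxx
  haveI := Fintype.ofFinite G
  obtain ⟨z, hz, hz1⟩ := exists_involution h2
  let A1 : Finset G := {1}
  let A2 : Finset G := Finset.univ.filter fun g => IsConj z g
  let A3 : Finset G := Finset.univ.filter fun g => orderOf g = p
  let A4 : Finset G := Finset.univ.filter fun g => g ^ m = 1 ∧ g ≠ 1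
  have hord2 : ∀ g ∈ A2, g * g = 1 ∧ g ≠ 1 := by
    intro g hg
    obtain ⟨y, rfl⟩ := isConj_iff.1 (Finset.mem_filter.1 hg).2
    refine ⟨?_, fun h => hz1 (conj_eq_one_iff.1 h)⟩
    rw [show y * z * y⁻¹ * (y * z * y⁻¹) = y * (z * z) * y⁻¹ by group, hz]; group
  have hpow2 : ∃ i, orderOf x = 2 ^ i := by
    obtain ⟨i, hi⟩ := S.isPGroup' ⟨x, hx⟩
    obtain ⟨j, -, hj⟩ := (Nat.dvd_prime_pow Nat.prime_two).1
      (orderOf_dvd_of_pow_eq_one (x := x) (by simpa using congrArg Subtype.val hi))
    exact ⟨j, hj⟩
  obtain ⟨i, hi⟩ := hpow2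
  have hx1 : x ≠ 1 := fun h => hxx (by rw [h, one_mul])
  have hxA : x ∉ A1 ∪ A2 ∪ A3 ∪ A4 := by
    simp only [Finset.mem_union, not_or]
    refine ⟨⟨⟨by simpa [A1] using hx1, fun h => hxx (hord2 x h).1⟩, fun h => ?_⟩, fun h => ?_⟩
    · have h' := (Finset.mem_filter.1 h).2
      rw [hi] at h'
      have hd : p ∣ 2 ^ i := h' ▸ dvd_rfl
      exact hp ((Nat.prime_dvd_prime_iff_eq Fact.out Nat.prime_two).1
        ((Fact.out : p.Prime).dvd_of_dvd_pow hd))
    · obtain ⟨h1, -⟩ := (Finset.mem_filter.1 h).2
      have hd := orderOf_dvd_of_pow_eq_one h1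
      rw [hi] at hd
      have hc : Nat.Coprime (2 ^ i) m := Nat.Coprime.pow_left _
        (Nat.prime_two.coprime_iff_not_dvd.2 (by rw [← even_iff_two_dvd]; exact Nat.not_even_iff_odd.2 hm))
      exact hx1 (orderOf_eq_one_iff.1 (hi.trans (hc.eq_one_of_dvd hd)))
  have d12 : Disjoint A1 A2 := Finset.disjoint_singleton_left.2 fun h => (hord2 1 h).2 rfl
  have d3 : Disjoint (A1 ∪ A2) A3 := by
    rw [Finset.disjoint_left]
    intro g hg hg3
    have h' := (Finset.mem_filter.1 hg3).2
    rcases Finset.mem_union.1 hg with h | h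
    · rw [Finset.mem_singleton.1 h, orderOf_one] at h'
      exact (Fact.out : p.Prime).ne_one h'.symm
    · have := orderOf_eq_prime (p := 2) (by rw [pow_two]; exact (hord2 g h).1) (hord2 g h).2
      exact hp (h'.symm.trans this)
  have d4 : Disjoint (A1 ∪ A2 ∪ A3) A4 := by
    rw [Finset.disjoint_left]
    intro g hg hg4
    obtain ⟨h1, h2'⟩ := (Finset.mem_filter.1 hg4).2
    have hd := orderOf_dvd_of_pow_eq_one h1
    rcases Finset.mem_union.1 hg with hg | hg
    · rcases Finset.mem_union.1 hg with h | h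
      · exact h2' (Finset.mem_singleton.1 h)
      · have := orderOf_eq_prime (p := 2) (by rw [pow_two]; exact (hord2 g h).1) (hord2 g h).2
        rw [this] at hd
        exact Nat.not_even_iff_odd.2 hm (even_iff_two_dvd.2 hd)
    · rw [(Finset.mem_filter.1 hg).2] at hd
      exact (Fact.out : p.Prime).ne_one (hcop.eq_one_of_dvd hd)
  have c2 : A2.card = Nat.card G / q := by
    have e := card_class_mul_centralizer z
    rw [hcent z hz hz1] at e
    rw [← e, Nat.mul_div_cancel _ hq, Nat.card_eq_fintype_card, Fintype.card_subtype]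
  have c3 : A3.card = k * (p - 1) := by
    rw [← hk, ← card_orderOf_eq P hP, Nat.card_eq_fintype_card, Fintype.card_subtype]
  have c4 : M ≤ A4.card := by
    rwa [Nat.card_eq_fintype_card, Fintype.card_subtype] at hM
  have hlt : (A1 ∪ A2 ∪ A3 ∪ A4).card < Fintype.card G :=
    Finset.card_lt_univ_of_notMem hxA
  rw [Finset.card_union_of_disjoint d4, Finset.card_union_of_disjoint d3,
    Finset.card_union_of_disjoint d12, c2, c3, ← Nat.card_eq_fintype_card] at hlt
  simp only [A1, Finset.card_singleton] at hlt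
  omega

/-- A group of order coprime to every involution centralizer has odd order. -/
theorem not_two_dvd_centralizer {q r : ℕ} (hr : r.Prime)
    (hcent : ∀ u : G, u * u = 1 → u ≠ 1 → Nat.card (centralizer ({u} : Set G)) = q)
    (hrq : ¬ r ∣ q) {y : G} (hy : r ∣ orderOf y) :
    ¬ 2 ∣ Nat.card (centralizer ({y} : Set G)) := by
  intro h
  haveI : Fact (Nat.Prime 2) := ⟨Nat.prime_two⟩
  obtain ⟨⟨u, huy⟩, hu⟩ := exists_prime_orderOf_dvd_card' (G := centralizer ({y} : Set G)) 2 h
  have hu2 : orderOf u = 2 := by rw [← hu]; exact (orderOf_mk u huy).symm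
  have huu : u * u = 1 := by rw [← pow_two, ← hu2, pow_orderOf_eq_one]
  have hu1 : u ≠ 1 := fun h => by rw [h, orderOf_one] at hu2; omega
  apply hrq
  have hmem : y ∈ centralizer ({u} : Set G) :=
    mem_centralizer_singleton_iff.2 (mem_centralizer_singleton_iff.1 huy).symm
  rw [← hcent u huu hu1]
  exact hy.trans (Subgroup.orderOf_dvd_natCard _ hmem)

theorem psl_eight [IsSimpleGroup G] (hn : Nat.card G = 504) {F : Type*} [Field F] [Fintype F]
    (hF : Fintype.card F = 8) : Nonempty (G ≃* Matrix.ProjectiveSpecialLinearGroup (Fin 2) F) := by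
  classical
  have hG : ¬ IsMulCommutative G :=
    not_isMulCommutative_of_dvd Nat.prime_two Nat.prime_three (by norm_num)
      (by rw [hn]; norm_num) (by rw [hn]; norm_num)
  haveI : Fact (Nat.Prime 7) := ⟨by norm_num⟩
  haveI : Fact (Nat.Prime 3) := ⟨by norm_num⟩
  obtain ⟨P⟩ := Sylow.nonempty (p := 7) (G := G)
  have hP : Nat.card (P : Subgroup G) = 7 := by
    have := card_sylow_eq (a := 1) (m := 72) hn P (by norm_num) (by norm_num)
    simpa using this
  have hk : Nat.card (Sylow 7 G) = 36 := by
    have hk := card_sylow_mem_list (p := 7) hn 1 2 [8, 9] (by norm_num) (by norm_num)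
      (by norm_num) Nat.prime_two (by norm_num) {8, 36} (by decide +kernel)
    simp only [Finset.mem_insert, Finset.mem_singleton] at hk
    refine hk.resolve_left fun hk => ?_
    have hN : Nat.card (normalizer ((P : Subgroup G) : Set G)) = 63 :=
      card_normalizer_of_card_sylow P hn hk (by norm_num)
    have hidx : (normalizer ((P : Subgroup G) : Set G)).index = 8 :=
      (index_eq_of_card (m := 63) hn hN).trans (by norm_num)
    have h := two_mul_card_normalizer_dvd hG (p := 7) (by norm_num)
      (H := normalizer ((P : Subgroup G) : Set G))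
      (fun h => by rw [h, index_top] at hidx; omega) (by omega) P hP
    rw [hN, hidx] at h
    norm_num [Nat.factorial] at h
  have hN : Nat.card (normalizer ((P : Subgroup G) : Set G)) = 7 * 2 :=
    card_normalizer_of_card_sylow P hn hk (by norm_num)
  obtain ⟨hconj, hcent⟩ := involutions hG (by norm_num) P hP hN 3 8 (by norm_num) [7, 8, 9]
    (by decide) (by rw [hn]; rfl) (by norm_num) (by decide +kernel)
  obtain ⟨hCP, -⟩ := self_central hG P hP hN Nat.prime_two
  have hk3 : Nat.card (Sylow 3 G) = 28 := by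
    have hk3 := card_sylow_mem_list (p := 3) hn 2 2 [8, 7] (by norm_num) (by norm_num)
      (by norm_num) Nat.prime_two (by norm_num) {4, 7, 28} (by decide +kernel)
    simp only [Finset.mem_insert, Finset.mem_singleton] at hk3
    obtain ⟨R⟩ := Sylow.nonempty (p := 3) (G := G)
    rcases hk3 with h | h | h
    · have := card_dvd_factorial_of_card hn
        (card_normalizer_of_card_sylow R (N := 126) hn h (by norm_num)) (by norm_num)
      norm_num [Nat.factorial] at this
    · exfalso
      have hN3 : Nat.card (normalizer ((R : Subgroup G) : Set G)) = 72 :=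
        card_normalizer_of_card_sylow R hn h (by norm_num)
      have hidx : (normalizer ((R : Subgroup G) : Set G)).index = 7 :=
        (index_eq_of_card (m := 72) hn hN3).trans (by norm_num)
      have h' := two_mul_card_normalizer_dvd hG (p := 7) (by norm_num)
        (H := normalizer ((R : Subgroup G) : Set G))
        (fun h => by rw [h, index_top] at hidx; omega) (by omega) P hP
      rw [hN, hidx] at h'
      norm_num [Nat.factorial] at h'
    · exact h
  have hR : ∀ R : Sylow 3 G, Nat.card (R : Subgroup G) = 9 := fun R => by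
    have := card_sylow_eq (a := 2) (m := 56) hn R (by norm_num) (by norm_num)
    simpa using this
  -- the elements of the Sylow `3`-subgroups
  have hM : 224 ≤ Nat.card {g : G // g ^ 9 = 1 ∧ g ≠ 1} := by
    haveI := Fintype.ofFinite (Sylow 3 G)
    let f : (Σ R : Sylow 3 G, {y : (R : Subgroup G) // y ≠ 1}) →
        {g : G // g ^ 9 = 1 ∧ g ≠ 1} := fun e =>
      ⟨(e.2.1 : G), by
        have := pow_card_eq_one' (x := e.2.1)
        rw [hR] at this
        exact congrArg Subtype.val this, fun h => e.2.2 (Subtype.ext h)⟩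
    have hf : Function.Injective f := by
      rintro ⟨R, ⟨⟨y, hy⟩, hy1⟩⟩ ⟨R', ⟨⟨y', hy'⟩, hy1'⟩⟩ h
      obtain rfl : y = y' := congrArg Subtype.val h
      have hy1 : y ≠ 1 := fun h => hy1 (Subtype.ext h)
      set M := centralizer ({y} : Set G)
      have hle : ∀ T : Sylow 3 G, y ∈ (T : Subgroup G) → (T : Subgroup G) ≤ M := by
        intro T hyT w hw
        have h := IsPGroup.commutative_of_card_eq_prime_sq (p := 3) (G := (T : Subgroup G))
          (by rw [hR]; norm_num)
        exact mem_centralizer_singleton_iff.2 (congrArg Subtype.val (h ⟨w, hw⟩ ⟨y, hyT⟩))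
      have hy3 : orderOf y ∣ 3 ^ 2 := by
        rw [show 3 ^ 2 = 9 by norm_num, ← hR R]; exact Subgroup.orderOf_dvd_natCard _ hy
      have h3 : 3 ∣ orderOf y := by
        obtain ⟨i, -, hi⟩ := (Nat.dvd_prime_pow Nat.prime_three).1 hy3
        rcases i.eq_zero_or_pos with rfl | hi0
        · exact absurd (orderOf_eq_one_iff.1 hi) hy1
        · exact hi ▸ dvd_pow_self 3 hi0.ne'
      have hM9 : Nat.card M ≤ 9 := by
        have hd : Nat.card M ∣ 504 := hn ▸ card_subgroup_dvd_card M
        have h2 := not_two_dvd_centralizer Nat.prime_three hcent (by norm_num) h3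
        have h7 : ¬ 7 ∣ Nat.card M := by
          intro h7
          obtain ⟨⟨w, hwM⟩, hw⟩ := exists_prime_orderOf_dvd_card' (G := M) 7 h7
          have hw7 : orderOf w = 7 := by rw [← hw]; exact (orderOf_mk w hwM).symm
          obtain ⟨Q, hwQ⟩ := exists_sylow_mem hw7
          have hQ : Nat.card (Q : Subgroup G) = 7 := (card_sylow_congr Q P).trans hP
          have hQN : Nat.card (normalizer ((Q : Subgroup G) : Set G)) = 7 * 2 :=
            card_normalizer_of_card_sylow Q hn hk (by norm_num)
          obtain ⟨hCQ, -⟩ := self_central hG Q hQ hQN Nat.prime_two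
          have hyQ : y ∈ centralizer ((Q : Subgroup G) : Set G) := by
            rw [← sylow_eq_zpowers Q hQ hw7 hwQ, zpowers_eq_closure, centralizer_closure,
              mem_centralizer_singleton_iff]
            exact (mem_centralizer_singleton_iff.1 hwM).symm
          rw [hCQ] at hyQ
          have h7y : orderOf y ∣ 7 := hQ ▸ Subgroup.orderOf_dvd_natCard _ hyQ
          exact hy1 (orderOf_eq_one_iff.1 (Nat.eq_one_of_dvd_coprimes (by norm_num) hy3 h7y))
        have hkey : ∀ d ∈ divProds [8, 9, 7], ¬ 2 ∣ d → ¬ 7 ∣ d → d ≤ 9 := by decide +kernel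
        exact hkey _ (mem_divProds [8, 9, 7] (by decide) _ (by simpa using hd)) h2 h7
      have hRR : R = R' := Sylow.ext <|
        (eq_of_le_of_card_ge (hle R hy) (by rw [hR]; exact hM9)).trans
          (eq_of_le_of_card_ge (hle R' hy') (by rw [hR]; exact hM9)).symm
      subst hRR
      rfl
    have h := Nat.card_le_card_of_injective f hf
    have hc : ∀ R : Sylow 3 G, Nat.card {y : (R : Subgroup G) // y ≠ 1} = 8 := fun R => by
      haveI := Fintype.ofFinite (R : Subgroup G)
      rw [Nat.card_eq_fintype_card, Fintype.card_subtype_compl, Fintype.card_subtype_eq,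
        ← Nat.card_eq_fintype_card, hR]
    rw [Nat.card_sigma, Finset.sum_congr rfl (fun R _ => hc R), Finset.sum_const, Finset.card_univ,
      ← Nat.card_eq_fintype_card, hk3] at h
    simpa using h
  exact EvenPSL.nonempty_psl 3 (by norm_num) (by norm_num) (by rw [hn]) hcent hconj
    (exponent_two (by norm_num) P hP hk hconj hcent (by rw [hn]; norm_num) (by decide)
      (by norm_num) (by norm_num) hM (by rw [hn])) hF

theorem psl_sixteen [IsSimpleGroup G] (hn : Nat.card G = 4080) {F : Type*} [Field F] [Fintype F]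
    (hF : Fintype.card F = 16) : Nonempty (G ≃* Matrix.ProjectiveSpecialLinearGroup (Fin 2) F) := by
  classical
  have hG : ¬ IsMulCommutative G :=
    not_isMulCommutative_of_dvd Nat.prime_two Nat.prime_three (by norm_num)
      (by rw [hn]; norm_num) (by rw [hn]; norm_num)
  haveI : Fact (Nat.Prime 17) := ⟨by norm_num⟩
  haveI : Fact (Nat.Prime 5) := ⟨by norm_num⟩
  haveI : Fact (Nat.Prime 2) := ⟨by norm_num⟩
  obtain ⟨P⟩ := Sylow.nonempty (p := 17) (G := G)
  have hP : Nat.card (P : Subgroup G) = 17 := by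
    have := card_sylow_eq (a := 1) (m := 240) hn P (by norm_num) (by norm_num)
    simpa using this
  have hk : Nat.card (Sylow 17 G) = 120 := by
    have hk := card_sylow_mem_list (p := 17) hn 1 2 [16, 15] (by norm_num) (by norm_num)
      (by norm_num) Nat.prime_two (by norm_num) {120} (by decide +kernel)
    simpa using hk
  have hN : Nat.card (normalizer ((P : Subgroup G) : Set G)) = 17 * 2 :=
    card_normalizer_of_card_sylow P hn hk (by norm_num)
  obtain ⟨hconj, hcent⟩ := involutions hG (by norm_num) P hP hN 4 16 (by norm_num) [17, 16, 15]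
    (by decide) (by rw [hn]; rfl) (by norm_num) (by decide +kernel)
  have hQ5 : ∀ Q : Sylow 5 G, Nat.card (Q : Subgroup G) = 5 := fun Q => by
    have := card_sylow_eq (a := 1) (m := 816) hn Q (by norm_num) (by norm_num)
    simpa using this
  obtain ⟨Q₀⟩ := Sylow.nonempty (p := 5) (G := G)
  have hk5 : Nat.card (Sylow 5 G) = 136 := by
    have hk5 := card_sylow_mem_list (p := 5) hn 1 2 [16, 3, 17] (by norm_num) (by norm_num)
      (by norm_num) Nat.prime_two (by norm_num) {6, 16, 51, 136, 816} (by decide +kernel)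
    simp only [Finset.mem_insert, Finset.mem_singleton] at hk5
    rcases hk5 with h | h | h | h | h
    · have := card_dvd_factorial_of_card hn
        (card_normalizer_of_card_sylow Q₀ (N := 680) hn h (by norm_num)) (by norm_num)
      norm_num [Nat.factorial] at this
    · exfalso
      obtain ⟨r, c, hr1, hr, hrc, -⟩ := exists_relIndex_centralizer hG Q₀ (hQ5 Q₀) (N := 51)
        (card_normalizer_of_card_sylow Q₀ hn h (by norm_num))
      have h1 : r ∣ Nat.gcd 4 51 := Nat.dvd_gcd (by simpa using hr) ⟨c, hrc.symm⟩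
      have := Nat.le_of_dvd (by norm_num) h1
      norm_num at this
      omega
    · exfalso
      obtain ⟨r, c, hr1, hr, hrc, hC⟩ := exists_relIndex_centralizer hG Q₀ (hQ5 Q₀) (N := 16)
        (card_normalizer_of_card_sylow Q₀ hn h (by norm_num))
      obtain ⟨y, hy⟩ := exists_prime_orderOf_dvd_card' (G := (Q₀ : Subgroup G)) 5 (by rw [hQ5])
      refine not_two_dvd_centralizer (r := 5) (y := (y : G)) (by norm_num) hcent (by norm_num)
        (by rw [orderOf_coe, hy]) ?_
      have hle : centralizer ((Q₀ : Subgroup G) : Set G) ≤ centralizer ({(y : G)} : Set G) :=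
        centralizer_le (by simp [y.2])
      refine dvd_trans ?_ (card_dvd_of_le hle)
      rw [hC]
      refine dvd_mul_of_dvd_right ?_ 5
      have h4 : r ∣ 4 := by simpa using hr
      have := Nat.le_of_dvd (by norm_num) h4
      interval_cases r <;> omega
    · exact h
    · exfalso
      obtain ⟨r, c, hr1, hr, hrc, -⟩ := exists_relIndex_centralizer hG Q₀ (hQ5 Q₀) (N := 1)
        (card_normalizer_of_card_sylow Q₀ hn h (by norm_num))
      have := Nat.le_of_dvd Nat.one_pos ⟨c, hrc.symm⟩
      omega
  -- the elements centralizing a Sylow `5`-subgroup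
  have hC15 : ∀ Q : Sylow 5 G, Nat.card (centralizer ((Q : Subgroup G) : Set G)) = 15 := by
    intro Q
    obtain ⟨r, c, hr1, hr, hrc, hC⟩ := exists_relIndex_centralizer hG Q (hQ5 Q) (N := 6)
      (card_normalizer_of_card_sylow Q hn hk5 (by norm_num))
    have h1 : r ∣ Nat.gcd 4 6 := Nat.dvd_gcd (by simpa using hr) ⟨c, hrc.symm⟩
    have := Nat.le_of_dvd (by norm_num) h1
    norm_num at this
    obtain rfl : r = 2 := by omega
    rw [hC]; omega
  have hM : 1904 ≤ Nat.card {g : G // g ^ 15 = 1 ∧ g ≠ 1} := by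
    haveI := Fintype.ofFinite (Sylow 5 G)
    let f : (Σ Q : Sylow 5 G, {y : centralizer ((Q : Subgroup G) : Set G) // y ≠ 1}) →
        {g : G // g ^ 15 = 1 ∧ g ≠ 1} := fun e =>
      ⟨(e.2.1 : G), by
        have := pow_card_eq_one' (x := e.2.1)
        rw [hC15] at this
        exact congrArg Subtype.val this, fun h => e.2.2 (Subtype.ext h)⟩
    have hf : Function.Injective f := by
      rintro ⟨Q, ⟨⟨y, hy⟩, hy1⟩⟩ ⟨Q', ⟨⟨y', hy'⟩, hy1'⟩⟩ h
      obtain rfl : y = y' := congrArg Subtype.val h
      have hy1 : y ≠ 1 := fun h => hy1 (Subtype.ext h)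
      set M := centralizer ({y} : Set G)
      have hle : ∀ T : Sylow 5 G, y ∈ centralizer ((T : Subgroup G) : Set G) →
          (T : Subgroup G) ≤ M := fun T hyT w hw =>
        mem_centralizer_singleton_iff.2 (mem_centralizer_iff.1 hyT w hw)
      have hy15 : orderOf y ∣ 15 := hC15 Q ▸ Subgroup.orderOf_dvd_natCard _ hy
      have hM15 : Nat.card M ≤ 15 := by
        have hd : Nat.card M ∣ 4080 := hn ▸ card_subgroup_dvd_card M
        have h2 : ¬ 2 ∣ Nat.card M := by
          by_cases h5 : 5 ∣ orderOf y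
          · exact not_two_dvd_centralizer (by norm_num) hcent (by norm_num) h5
          · have h3 : orderOf y ∣ 3 := by
              refine Nat.Coprime.dvd_of_dvd_mul_left ?_ (show orderOf y ∣ 5 * 3 by simpa using hy15)
              exact ((Nat.prime_five.coprime_iff_not_dvd).2 h5).symm
            rcases (Nat.dvd_prime Nat.prime_three).1 h3 with h | h
            · exact absurd (orderOf_eq_one_iff.1 h) hy1
            · exact not_two_dvd_centralizer (r := 3) Nat.prime_three hcent (by norm_num) (h ▸ dvd_rfl)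
        have h17 : ¬ 17 ∣ Nat.card M := by
          intro h17
          obtain ⟨⟨w, hwM⟩, hw⟩ := exists_prime_orderOf_dvd_card' (G := M) 17 h17
          have hw17 : orderOf w = 17 := by rw [← hw]; exact (orderOf_mk w hwM).symm
          obtain ⟨T, hwT⟩ := exists_sylow_mem hw17
          have hT : Nat.card (T : Subgroup G) = 17 := (card_sylow_congr T P).trans hP
          have hTN : Nat.card (normalizer ((T : Subgroup G) : Set G)) = 17 * 2 :=
            card_normalizer_of_card_sylow T hn hk (by norm_num)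
          obtain ⟨hCT, -⟩ := self_central hG T hT hTN Nat.prime_two
          have hyT : y ∈ centralizer ((T : Subgroup G) : Set G) := by
            rw [← sylow_eq_zpowers T hT hw17 hwT, zpowers_eq_closure, centralizer_closure,
              mem_centralizer_singleton_iff]
            exact (mem_centralizer_singleton_iff.1 hwM).symm
          rw [hCT] at hyT
          have h17y : orderOf y ∣ 17 := hT ▸ Subgroup.orderOf_dvd_natCard _ hyT
          exact hy1 (orderOf_eq_one_iff.1 (Nat.eq_one_of_dvd_coprimes (by norm_num) hy15 h17y))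
        have hkey : ∀ d ∈ divProds [16, 15, 17], ¬ 2 ∣ d → ¬ 17 ∣ d → d ≤ 15 := by decide +kernel
        exact hkey _ (mem_divProds [16, 15, 17] (by decide) _ (by simpa using hd)) h2 h17
      have hQQ : Q = Q' := by
        have h := card_mul_card_le (hle Q hy) (hle Q' hy')
        rw [hQ5, hQ5] at h
        have hd : Nat.card ((Q : Subgroup G) ⊓ Q' : Subgroup G) ∣ 5 :=
          (card_dvd_of_le inf_le_left).trans (dvd_of_eq (hQ5 Q))
        have h5 : Nat.card ((Q : Subgroup G) ⊓ Q' : Subgroup G) = 5 := by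
          rcases (Nat.dvd_prime Nat.prime_five).1 hd with h1 | h1
          · rw [h1] at h; omega
          · exact h1
        exact Sylow.ext ((eq_of_le_of_card_ge inf_le_left (by rw [hQ5, h5])).symm.trans
          (eq_of_le_of_card_ge inf_le_right (by rw [hQ5, h5])))
      subst hQQ
      rfl
    have h := Nat.card_le_card_of_injective f hf
    have hc : ∀ Q : Sylow 5 G,
        Nat.card {y : centralizer ((Q : Subgroup G) : Set G) // y ≠ 1} = 14 := fun Q => by
      haveI := Fintype.ofFinite (centralizer ((Q : Subgroup G) : Set G))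
      rw [Nat.card_eq_fintype_card, Fintype.card_subtype_compl, Fintype.card_subtype_eq,
        ← Nat.card_eq_fintype_card, hC15]
    rw [Nat.card_sigma, Finset.sum_congr rfl (fun Q _ => hc Q), Finset.sum_const, Finset.card_univ,
      ← Nat.card_eq_fintype_card, hk5] at h
    simpa using h
  exact EvenPSL.nonempty_psl 4 (by norm_num) (by norm_num) (by rw [hn]) hcent hconj
    (exponent_two (by norm_num) P hP hk hconj hcent (by rw [hn]; norm_num) (by decide)
      (by norm_num) (by norm_num) hM (by rw [hn])) hF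

end Cfsg.Agent.H36.PSLEvenOrders
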