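import Cfsg.Agent.H30.PSLPrimeTable

set_option autoImplicit false

/-! The finite table for the prime 19. -/

namespace Cfsg.Agent.H36.PSLTable

open Cfsg.Agent.H30.PSLPrime

theorem checkNineteen : checkAll 19 9 4 9 = true := by decide +kernel

end Cfsg.Agent.H36.PSLTable
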