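import Cfsg.Agent.H30.PSLPrimeTable
import Mathlib.Tactic.IntervalCases

set_option autoImplicit false
set_option Elab.async false

/-! The finite table for the prime 23, checked row by row to bound the memory of the kernel. -/

namespace Cfsg.Agent.H36.PSLTable

open Cfsg.Agent.H30.PSLPrime

/-- one row of the table for the prime 23 -/
def checkRow (i : ℕ) : Bool :=
  (List.range 23).all fun c => (List.range 23).all fun e =>
    decide (c = 0) || decide (e = 0) || !okCand (p := 23) 11 i (c : ZMod 23) (e : ZMod 23) ||
      goodCand (p := 23) 11 2 i (c : ZMod 23) (e : ZMod 23)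

theorem checkTwentyThreeRow0 : checkRow 0 = true := by decide +kernel

theorem checkTwentyThreeRow1 : checkRow 1 = true := by decide +kernel

theorem checkTwentyThreeRow2 : checkRow 2 = true := by decide +kernel

theorem checkTwentyThreeRow3 : checkRow 3 = true := by decide +kernel

theorem checkTwentyThreeRow4 : checkRow 4 = true := by decide +kernel

theorem checkTwentyThreeRow5 : checkRow 5 = true := by decide +kernel

theorem checkTwentyThreeRow6 : checkRow 6 = true := by decide +kernel

theorem checkTwentyThreeRow7 : checkRow 7 = true := by decide +kernel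

theorem checkTwentyThreeRow8 : checkRow 8 = true := by decide +kernel

theorem checkTwentyThreeRow9 : checkRow 9 = true := by decide +kernel

theorem checkTwentyThreeRow10 : checkRow 10 = true := by decide +kernel

theorem checkTwentyThree : checkAll 23 11 2 11 = true := by
  rw [checkAll, List.all_eq_true]
  intro i hi
  rw [List.mem_range] at hi
  interval_cases i
  · exact Bool.or_eq_true_iff.mpr (Or.inr checkTwentyThreeRow0)
  · exact Bool.or_eq_true_iff.mpr (Or.inr checkTwentyThreeRow1)
  · exact Bool.or_eq_true_iff.mpr (Or.inr checkTwentyThreeRow2)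
  · exact Bool.or_eq_true_iff.mpr (Or.inr checkTwentyThreeRow3)
  · exact Bool.or_eq_true_iff.mpr (Or.inr checkTwentyThreeRow4)
  · exact Bool.or_eq_true_iff.mpr (Or.inr checkTwentyThreeRow5)
  · exact Bool.or_eq_true_iff.mpr (Or.inr checkTwentyThreeRow6)
  · exact Bool.or_eq_true_iff.mpr (Or.inr checkTwentyThreeRow7)
  · exact Bool.or_eq_true_iff.mpr (Or.inr checkTwentyThreeRow8)
  · exact Bool.or_eq_true_iff.mpr (Or.inr checkTwentyThreeRow9)
  · exact Bool.or_eq_true_iff.mpr (Or.inr checkTwentyThreeRow10)

end Cfsg.Agent.H36.PSLTable
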