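import Cfsg.Agent.H30.PSLPrime
import Cfsg.Agent.H36.PSLTableSeventeen
import Cfsg.Agent.H36.PSLTableNineteen
import Cfsg.Agent.H36.PSLTableTwentyThree

/-!
# Simple groups of order `p (p^2 - 1) / 2` for `p = 17, 19, 23`
-/

set_option autoImplicit false
set_option linter.style.haveILetI false

namespace Cfsg.Agent.H36.PSLRecognition

open Cfsg.Agent.H30.PSLPrime

universe u

theorem data_seventeen : Data 17 8 2 3 8 :=
  ⟨rfl, by norm_num, fun {_} => PSLTable.checkSeventeen, by decide +kernel, by decide +kernel,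
    by decide +kernel, by decide +kernel, by decide +kernel, Or.inl le_rfl⟩

theorem data_nineteen : Data 19 9 4 2 9 :=
  ⟨rfl, by norm_num, fun {_} => PSLTable.checkNineteen, by decide +kernel, by decide +kernel,
    by decide +kernel, by decide +kernel, by decide +kernel, Or.inl le_rfl⟩

theorem data_twentyThree : Data 23 11 2 5 11 :=
  ⟨rfl, by norm_num, fun {_} => PSLTable.checkTwentyThree, by decide +kernel, by decide +kernel,
    by decide +kernel, by decide +kernel, by decide +kernel, Or.inl le_rfl⟩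

theorem iso_of_data {p h g₀ n skip m : ℕ} (hd : Data p h g₀ n skip) [Fact p.Prime]
    (hm : m = h * (p + 1)) {G : Type u} [Group G] [Finite G] [IsSimpleGroup G]
    (hG : Nat.card G = p * m) (hnd : ¬ p ∣ m) (h1 : 1 < m)
    (hk : ∀ k ≤ m, k ∣ m → k % p = 1 → k = 1 ∨ k = p + 1) {F : Type*} [Field F] [Fintype F]
    (hF : Fintype.card F = p) :
    Nonempty (G ≃* Matrix.ProjectiveSpecialLinearGroup (Fin 2) F) := by
  have hpe := hd.card_eq
  have := hd.hpos
  haveI : IsSimpleGroup (Matrix.ProjectiveSpecialLinearGroup (Fin 2) F) :=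
    Linear.isSimpleGroup_PSL_fin le_rfl fun _ => by
      rw [Nat.card_eq_fintype_card, hF]; omega
  have hPSL := Linear.card_PSL_two_mul (F := F)
  rw [hF] at hPSL
  have hH : Nat.card (Matrix.ProjectiveSpecialLinearGroup (Fin 2) F) = p * m := by
    have hp2 : p % 2 = 1 := by omega
    have hgcd : Nat.gcd 2 (p - 1) = 2 :=
      Nat.gcd_eq_left (Nat.dvd_of_mod_eq_zero (by omega))
    have hsq : p ^ 2 - 1 = 2 * h * (p + 1) := by
      rw [hpe, Nat.sub_eq_iff_eq_add (Nat.one_le_pow _ _ (by omega))]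
      ring
    rw [hgcd, hsq] at hPSL
    apply Nat.eq_of_mul_eq_mul_left (show 0 < 2 by norm_num)
    rw [hPSL, hm]; ring
  obtain ⟨φ, hφ, hr⟩ := exists_range_eq hd (by rw [hG, hm, mul_assoc]) (sylow_count hG hnd h1 hk)
  obtain ⟨ψ, hψ, hr'⟩ := exists_range_eq hd (G := Matrix.ProjectiveSpecialLinearGroup (Fin 2) F)
    (by rw [hH, hm, mul_assoc]) (sylow_count hH hnd h1 hk)
  exact ⟨(MonoidHom.ofInjective hφ).trans ((MulEquiv.subgroupCongr (hr.trans hr'.symm)).trans
    (MonoidHom.ofInjective hψ).symm)⟩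

end Cfsg.Agent.H36.PSLRecognition
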