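import Cfsg.Agent.CharInduce.Isometry
import Cfsg.Agent.H36.Basic
import Mathlib.NumberTheory.LegendreSymbol.AddCharacter
import Mathlib.Analysis.SpecialFunctions.Complex.CircleAddChar

/-!
# Characters of a group with a self-centralizing subgroup `P` of prime order `p`

With `e = [N(P) : P]` and `t = (p - 1) / e`: the `t` exceptional characters, and the generalized
character `Ind_P^G (1 - λ)` of norm `e + 1` which gives Brauer's degree equation.
-/

set_option autoImplicit false
set_option linter.unusedSectionVars false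
set_option linter.style.haveILetI false

open scoped ComplexConjugate
open Subgroup Cfsg

namespace Cfsg.Agent.H36.SelfCentral

open Cfsg.Agent.CharBasic Cfsg.Agent.CharInduce

variable {G : Type*} [Group G] {p : ℕ} [Fact p.Prime] {P : Subgroup G}

theorem exists_iso (hP : Nat.card P = p) : Nonempty (↥P ≃* Multiplicative (ZMod p)) := by
  haveI : IsCyclic P := isCyclic_of_prime_card hP
  haveI : IsCyclic (Multiplicative (ZMod p)) := by infer_instance
  exact ⟨mulEquivOfCyclicCardEq (by rw [hP, Nat.card_congr Multiplicative.toAdd, Nat.card_zmod])⟩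

variable (φ : ↥P ≃* Multiplicative (ZMod p))

/-- The linear characters of `P`. -/
noncomputable def lin (j : ZMod p) : P → ℂ := fun v => ZMod.stdAddChar (j * (φ v).toAdd)

theorem lin_apply (j : ZMod p) (v : P) : lin φ j v = ZMod.stdAddChar (j * (φ v).toAdd) := rfl

@[simp] theorem lin_one (j : ZMod p) : lin φ j 1 = 1 := by simp [lin_apply]

theorem lin_zero : lin φ 0 = fun _ => (1 : ℂ) := by
  funext v; simp [lin_apply]

/-- `lin j` as a homomorphism. -/
noncomputable def linHom (j : ZMod p) : P →* ℂˣ :=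
  MonoidHom.toHomUnits
    { toFun := lin φ j
      map_one' := lin_one φ j
      map_mul' := fun a b => by
        simp only [lin_apply, map_mul, toAdd_mul, mul_add, AddChar.map_add_eq_mul] }

theorem coe_linHom (j : ZMod p) (v : P) : (linHom φ j v : ℂ) = lin φ j v := rfl

theorem isCharacter_lin (j : ZMod p) : IsCharacter P (lin φ j) := by
  have := isCharacter_hom (linHom φ j)
  exact this

theorem isGen_lin_sub (i j : ZMod p) : IsGeneralizedCharacter P (lin φ i - lin φ j) :=
  ⟨_, _, isCharacter_lin φ i, isCharacter_lin φ j, rfl⟩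

open scoped Classical in
theorem sum_lin [Fintype P] (v : P) :
    ∑ j : ZMod p, lin φ j v = if v = 1 then (p : ℂ) else 0 := by
  have h := AddChar.sum_mulShift (φ v).toAdd (ZMod.isPrimitive_stdAddChar p)
  simp only [lin_apply]
  rw [h, ZMod.card]
  by_cases hv : v = 1
  · simp [hv]
  · have : (φ v).toAdd ≠ 0 := by
      intro h0
      exact hv (φ.injective (by rw [map_one]; exact Multiplicative.toAdd.injective h0))
    simp [hv, this]

theorem classInner_lin [Fintype P] (hP : Nat.card P = p) (i j : ZMod p) :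
    classInner (lin φ i) (lin φ j) = if i = j then 1 else 0 := by
  classical
  rw [classInner_def, hP]
  have h := AddChar.sum_mulShift (i - j) (ZMod.isPrimitive_stdAddChar p)
  have hs : ∑ v : P, lin φ i v * conj (lin φ j v) = ∑ x : ZMod p, ZMod.stdAddChar (x * (i - j)) := by
    refine Fintype.sum_equiv (φ.toEquiv.trans Multiplicative.toAdd) _ _ fun v => ?_
    simp only [lin_apply, Equiv.trans_apply, MulEquiv.toEquiv_eq_coe, EquivLike.coe_coe]
    rw [← AddChar.map_neg_eq_conj, ← AddChar.map_add_eq_mul]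
    congr 1
    ring
  rw [hs, h, ZMod.card]
  simp only [sub_eq_zero]
  have hp0 : (p : ℂ) ≠ 0 := Nat.cast_ne_zero.2 (Fact.out : p.Prime).ne_zero
  split_ifs <;> simp [hp0]

variable (P) in
/-- Conjugation by an element of the normalizer. -/
def conjP (n : normalizer (P : Set G)) : P →* P where
  toFun v := ⟨(n : G) * v * (n : G)⁻¹, (mem_normalizer_iff.1 n.2 v).1 v.2⟩
  map_one' := by ext; simp
  map_mul' a b := by ext; simp [mul_assoc]

/-- The multiplier of an element of the normalizer. -/
def mult (n : normalizer (P : Set G)) : ZMod p :=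
  (φ (conjP P n (φ.symm (Multiplicative.ofAdd 1)))).toAdd

theorem toAdd_conjP (n : normalizer (P : Set G)) (v : P) :
    (φ (conjP P n v)).toAdd = mult φ n * (φ v).toAdd := by
  set g0 := φ.symm (Multiplicative.ofAdd (1 : ZMod p))
  have hv : v = g0 ^ ((φ v).toAdd).val := by
    apply φ.injective
    rw [map_pow, MulEquiv.apply_symm_apply, ← ofAdd_nsmul, nsmul_one, ZMod.natCast_zmod_val]
    rfl
  conv_lhs => rw [hv]
  rw [map_pow, map_pow, toAdd_pow, nsmul_eq_mul, ZMod.natCast_zmod_val, mul_comm]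
  rfl

theorem mult_one : mult φ (1 : normalizer (P : Set G)) = 1 := by
  have : conjP P (1 : normalizer (P : Set G)) (φ.symm (Multiplicative.ofAdd 1)) =
      φ.symm (Multiplicative.ofAdd 1) := by ext; simp [conjP]
  simp [mult, this]

theorem mult_mul (m n : normalizer (P : Set G)) : mult φ (m * n) = mult φ m * mult φ n := by
  have : conjP P (m * n) (φ.symm (Multiplicative.ofAdd 1)) =
      conjP P m (conjP P n (φ.symm (Multiplicative.ofAdd 1))) := by
    ext; simp [conjP, mul_assoc]
  rw [mult, this, toAdd_conjP]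
  rfl

/-- The multiplier as a homomorphism to the units. -/
def unitHom : normalizer (P : Set G) →* (ZMod p)ˣ :=
  MonoidHom.toHomUnits { toFun := mult φ, map_one' := mult_one φ, map_mul' := mult_mul φ }

theorem coe_unitHom (n : normalizer (P : Set G)) : (unitHom φ n : ZMod p) = mult φ n := rfl

theorem lin_conjP (j : ZMod p) (n : normalizer (P : Set G)) (v : P) :
    lin φ j (conjP P n v) = lin φ (j * mult φ n) v := by
  rw [lin_apply, lin_apply, toAdd_conjP, mul_assoc]

theorem mem_ker_unitHom (hC : centralizer (P : Set G) = P) (n : normalizer (P : Set G)) :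
    n ∈ (unitHom φ).ker ↔ (n : G) ∈ P := by
  rw [MonoidHom.mem_ker, Units.ext_iff, coe_unitHom, Units.val_one]
  constructor
  · intro h
    refine (SetLike.ext_iff.1 hC _).1 (mem_centralizer_iff.2 ?_)
    intro v hv
    have h1 : conjP P n ⟨v, hv⟩ = ⟨v, hv⟩ := by
      apply φ.injective
      apply Multiplicative.toAdd.injective
      rw [toAdd_conjP, h, one_mul]
    exact (mul_inv_eq_iff_eq_mul.1 (congrArg Subtype.val h1)).symm
  · intro h
    have h1 : conjP P n (φ.symm (Multiplicative.ofAdd 1)) = φ.symm (Multiplicative.ofAdd 1) := by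
      have h' := mem_centralizer_iff.1 ((SetLike.ext_iff.1 hC _).2 h)
      exact Subtype.ext (mul_inv_eq_iff_eq_mul.2 (h' _ (φ.symm (Multiplicative.ofAdd 1)).2).symm)
    simp [mult, h1]

/-- The image of the normalizer in the units. -/
def U : Subgroup (ZMod p)ˣ := (unitHom φ).range

variable [Finite G]

theorem card_U (hP : Nat.card P = p) (hC : centralizer (P : Set G) = P) :
    Nat.card (U φ) = P.relIndex (normalizer (P : Set G)) ∧
      Nat.card (unitHom φ).ker = p := by
  have hk : (unitHom φ).ker = P.subgroupOf (normalizer (P : Set G)) := by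
    ext n; rw [mem_ker_unitHom φ hC, mem_subgroupOf]
  refine ⟨?_, ?_⟩
  · rw [U, ← index_ker, hk]; rfl
  · rw [hk, Nat.card_congr (subgroupOfEquivOfLe le_normalizer).toEquiv, hP]

theorem sum_normalizer (hP : Nat.card P = p) (hC : centralizer (P : Set G) = P)
    [Fintype (normalizer (P : Set G))] [Fintype (U φ)] (F : ZMod p → ℂ) :
    ∑ n : normalizer (P : Set G), F (mult φ n) = (p : ℂ) * ∑ u : U φ, F ((u : (ZMod p)ˣ) : ZMod p) := by
  classical
  let g : normalizer (P : Set G) → U φ := fun n => ⟨unitHom φ n, n, rfl⟩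
  rw [Finset.mul_sum, ← Finset.sum_fiberwise Finset.univ g]
  refine Finset.sum_congr rfl fun u _ => ?_
  have hval : ∀ n ∈ Finset.univ.filter (fun n => g n = u),
      F (mult φ n) = F ((u : (ZMod p)ˣ) : ZMod p) := by
    intro n hn
    rw [← (Finset.mem_filter.1 hn).2]
    rfl
  refine (Finset.sum_congr rfl hval).trans ?_
  rw [Finset.sum_const, nsmul_eq_mul]
  congr 2
  obtain ⟨m, hm⟩ : ∃ m, g m = u := by
    obtain ⟨_, m, rfl⟩ := u
    exact ⟨m, rfl⟩
  refine Eq.trans ?_ (card_U φ hP hC).2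
  rw [← Fintype.card_subtype, ← Nat.card_eq_fintype_card]
  refine Nat.card_congr
    { toFun := fun n => ⟨m⁻¹ * n.1, ?_⟩
      invFun := fun k => ⟨m * k.1, ?_⟩
      left_inv := fun n => by simp
      right_inv := fun k => by simp }
  · rw [MonoidHom.mem_ker, map_mul, map_inv, inv_mul_eq_one]
    exact congrArg Subtype.val (hm.trans n.2.symm)
  · apply Subtype.ext
    rw [← hm]
    show unitHom φ (m * k.1) = unitHom φ m
    rw [map_mul, MonoidHom.mem_ker.1 k.2, mul_one]

theorem mem_normalizer_of_conj (hP : Nat.card P = p) {v x : G} (hv : v ∈ P) (hv1 : v ≠ 1)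
    (hx : x * v * x⁻¹ ∈ P) : x ∈ normalizer (P : Set G) := by
  have hgen : ∀ w ∈ P, w ≠ 1 → zpowers w = P := by
    intro w hw hw1
    refine eq_of_le_of_card_ge (zpowers_le.2 hw) ?_
    rcases (Nat.dvd_prime (Fact.out : p.Prime)).1
      (hP ▸ Subgroup.orderOf_dvd_natCard P hw) with h | h
    · exact absurd (orderOf_eq_one_iff.1 h) hw1
    · rw [Nat.card_zpowers, h, hP]
  rw [mem_normalizer_iff_map_conj_eq]
  conv_lhs => rw [← hgen v hv hv1]
  rw [MonoidHom.map_zpowers]
  exact hgen _ hx fun h => hv1 (conj_eq_one_iff.1 h)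

variable [Fintype G]

/-- The restriction to `P` of an induced difference of linear characters. -/
theorem res_ind (hP : Nat.card P = p) (hC : centralizer (P : Set G) = P) [Fintype (U φ)]
    (k l : ZMod p) (v : P) :
    indFun P (lin φ k - lin φ l) (v : G) =
      ∑ u : U φ, (lin φ (k * ((u : (ZMod p)ˣ) : ZMod p)) v - lin φ (l * ((u : (ZMod p)ˣ) : ZMod p)) v) := by
  classical
  by_cases hv : v = 1
  · subst hv
    rw [OneMemClass.coe_one, indFun_one]
    simp
  set N := normalizer (P : Set G)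
  have hp0 : (p : ℂ) ≠ 0 := Nat.cast_ne_zero.2 (Fact.out : p.Prime).ne_zero
  rw [indFun_apply, hP, inv_mul_eq_iff_eq_mul₀ hp0,
    ← sum_normalizer φ hP hC (fun c => lin φ (k * c) v - lin φ (l * c) v)]
  rw [← Equiv.sum_comp (Equiv.inv G)]
  simp only [Equiv.inv_apply, inv_inv]
  symm
  refine Fintype.sum_of_injective (Subtype.val : N → G) Subtype.val_injective _ _ ?_ ?_
  · intro x hx
    refine extendByZero_of_not_mem _ fun h => hx ⟨⟨x, ?_⟩, rfl⟩
    exact mem_normalizer_of_conj hP v.2 (fun h' => hv (Subtype.ext h')) h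
  · intro n
    rw [show ((n : G) * (v : G) * (n : G)⁻¹) = ((conjP P n v : P) : G) from rfl, extendByZero_coe,
      Pi.sub_apply, lin_conjP, lin_conjP]

/-- Inner products of induced differences of linear characters. -/
theorem inner_ind (hP : Nat.card P = p) (hC : centralizer (P : Set G) = P) [Fintype (U φ)]
    (i j k l : ZMod p) :
    classInner (indFun P (lin φ i - lin φ j)) (indFun P (lin φ k - lin φ l)) =
      ∑ u : U φ, (((if i = k * ((u : (ZMod p)ˣ) : ZMod p) then (1 : ℂ) else 0) -
        (if j = k * ((u : (ZMod p)ˣ) : ZMod p) then 1 else 0)) -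
        ((if i = l * ((u : (ZMod p)ˣ) : ZMod p) then (1 : ℂ) else 0) -
        (if j = l * ((u : (ZMod p)ˣ) : ZMod p) then 1 else 0))) := by
  classical
  haveI : Fintype P := Fintype.ofFinite _
  rw [classInner_indFun_left P _ _ (isClassFunction_indFun _ _)]
  have h : (fun v : P => indFun P (lin φ k - lin φ l) (v : G)) =
      ∑ u : U φ, (lin φ (k * ((u : (ZMod p)ˣ) : ZMod p)) - lin φ (l * ((u : (ZMod p)ˣ) : ZMod p))) := by
    funext v
    rw [res_ind φ hP hC, Finset.sum_apply]
    rfl
  rw [h]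
  simp only [classInner_sum_right, classInner_sub_left, classInner_sub_right, classInner_lin φ hP]

/-- An element all of whose conjugates in `P` are trivial. -/
def Off (P : Subgroup G) (g : G) : Prop := ∀ x : G, x⁻¹ * g * x ∈ P → x⁻¹ * g * x = 1

theorem off_one (P : Subgroup G) : Off P (1 : G) := fun x _ => by simp

theorem indFun_eq_zero_of_off {f : P → ℂ} (hf : f 1 = 0) {g : G} (hg : Off P g) :
    indFun P f g = 0 := by
  rw [indFun_apply, Finset.sum_eq_zero, mul_zero]
  intro x _
  by_cases hx : x⁻¹ * g * x ∈ P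
  · rw [extendByZero_of_mem _ hx,
      show (⟨x⁻¹ * g * x, hx⟩ : P) = 1 from Subtype.ext (hg x hx), hf]
  · exact extendByZero_of_not_mem _ hx

theorem lin_sub_one (i j : ZMod p) : (lin φ i - lin φ j) 1 = 0 := by simp

/-- The exceptional characters and the coefficients of `Ind (1 - λ)`. -/
theorem exists_data (hP : Nat.card P = p) (hC : centralizer (P : Set G) = P)
    (ht2 : 2 ≤ (U φ).index) :
    ∃ (μ : Fin (U φ).index → IrrCharacter G) (i₀ : Fin (U φ).index) (ε A : ℤ)
      (a : IrrCharacter G → ℤ),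
      (ε = 1 ∨ ε = -1) ∧ Function.Injective μ ∧
      (∀ i, (μ i : G → ℂ) ≠ fun _ => 1) ∧
      (∀ ψ : IrrCharacter G, (ψ : G → ℂ) = (fun _ => 1) → a ψ = 1) ∧
      ∑ ψ : IrrCharacter G, a ψ ^ 2 = (Nat.card (U φ) : ℤ) + 1 ∧
      a (μ i₀) = A - ε ∧ (∀ i, i ≠ i₀ → a (μ i) = A) ∧
      (∀ ψ : IrrCharacter G, ψ ∉ Set.range μ → (∀ v : P, v ≠ 1 → (ψ : G → ℂ) v = a ψ) ∧
        ∃ m : ℤ, (ψ : G → ℂ) 1 = a ψ + p * m) ∧
      (∀ i, ∃ m : ℤ, (μ i : G → ℂ) 1 = A + ε * Nat.card (U φ) + p * m) ∧
      (∀ v : P, v ≠ 1 → ∑ i, (μ i : G → ℂ) v = ((U φ).index : ℂ) * A - ε) ∧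
      (∀ g, Off P g → ∀ i, (μ i : G → ℂ) g = (μ i₀ : G → ℂ) g) ∧
      (∀ g, Off P g → ∑ ψ : IrrCharacter G, (a ψ : ℂ) * (ψ : G → ℂ) g = 0) := by
  classical
  haveI : Fintype P := Fintype.ofFinite _
  haveI : Fintype (U φ) := Fintype.ofFinite _
  set e := Nat.card (U φ) with he
  set t := (U φ).index with ht
  let c : Fin t ≃ (ZMod p)ˣ ⧸ U φ := (Finite.equivFinOfCardEq (index_eq_card (U φ)).symm).symm
  haveI : Nontrivial (Fin t) := Fin.nontrivial_iff_two_le.2 ht2
  let i₀ : Fin t := c.symm ((1 : (ZMod p)ˣ) : (ZMod p)ˣ ⧸ U φ)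
  let R : Fin t → ZMod p := fun i => ((c i).out : (ZMod p)ˣ)
  have hR0 : ∀ i, R i ≠ 0 := fun i => Units.ne_zero _
  have hRU : ∀ (i k : Fin t) (u : U φ), R i = R k * ((u : (ZMod p)ˣ) : ZMod p) ↔
      i = k ∧ u = 1 := by
    intro i k u
    constructor
    · intro h
      have h' : (c i).out = (c k).out * (u : (ZMod p)ˣ) := Units.ext (by simpa [R] using h)
      have hik : i = k := by
        apply c.injective
        rw [← QuotientGroup.out_eq' (c i), ← QuotientGroup.out_eq' (c k), h', QuotientGroup.eq]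
        simp
      subst hik
      exact ⟨rfl, Subtype.ext (by simpa using h'.symm)⟩
    · rintro ⟨rfl, rfl⟩; simp
  have hsumU : ∀ i k : Fin t, (∑ u : U φ,
      if R i = R k * ((u : (ZMod p)ˣ) : ZMod p) then (1 : ℂ) else 0) = if i = k then 1 else 0 := by
    intro i k
    simp only [hRU]
    by_cases h : i = k
    · simp [h]
    · simp [h]
  -- the differences
  let τ : Fin t → G → ℂ := fun i => indFun P (lin φ (R i) - lin φ (R i₀))
  have hgenτ : ∀ i, IsGeneralizedCharacter G (τ i) := fun i => IsGen.ind _ (isGen_lin_sub φ _ _)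
  have hτ1 : ∀ i, τ i 1 = 0 := fun i => indFun_eq_zero_of_off (lin_sub_one φ _ _) (off_one P)
  have hgram : ∀ i j, i ≠ i₀ → j ≠ i₀ → classInner (τ i) (τ j) = if i = j then 2 else 1 := by
    intro i j hi hj
    rw [inner_ind φ hP hC]
    simp only [Finset.sum_sub_distrib, hsumU, if_neg hi, if_neg (Ne.symm hj), if_true]
    split_ifs <;> norm_num
  obtain ⟨ε', hε', μ', hμirr, hμinj, hτμ⟩ :=
    Isometry.exists_signed_family t i₀ τ (by simp [τ, indFun_zero]) hgenτ hτ1 hgram
  obtain ⟨ε, hε, rfl⟩ : ∃ ε : ℤ, (ε = 1 ∨ ε = -1) ∧ (ε : ℂ) = ε' := by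
    rcases hε' with rfl | rfl
    · exact ⟨1, Or.inl rfl, by simp⟩
    · exact ⟨-1, Or.inr rfl, by simp⟩
  have hεC : (ε : ℂ) * ε = 1 := by rcases hε with rfl | rfl <;> norm_num
  let μ : Fin t → IrrCharacter G := fun i => ⟨μ' i, hμirr i⟩
  have hμ : Function.Injective μ := fun i j h => hμinj (congrArg Subtype.val h)
  -- the generalized character of norm `e + 1`
  let Θ : G → ℂ := indFun P (lin φ 0 - lin φ (R i₀))
  have hΘcl : IsClassFunction G Θ := isClassFunction_indFun _ _
  choose a ha using fun ψ : IrrCharacter G =>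
    IsGen.exists_int_coeff (IsGen.ind P (isGen_lin_sub φ 0 (R i₀))) (IsIrr.isCharacter ψ.2)
  have hz1 : ∀ (i : Fin t) (u : U φ), (0 : ZMod p) ≠ R i * ((u : (ZMod p)ˣ) : ZMod p) := fun i u h =>
    mul_ne_zero (hR0 i) (Units.ne_zero _) h.symm
  have hz2 : ∀ i, R i ≠ 0 * (1 : ZMod p) := fun i => by simpa using hR0 i
  have hnorm : classInner Θ Θ = (e : ℂ) + 1 := by
    rw [inner_ind φ hP hC]
    simp only [Finset.sum_sub_distrib, hsumU, zero_mul, if_pos, hR0, if_false, hz1,
      Finset.sum_const_zero, Finset.sum_const, Finset.card_univ, nsmul_eq_mul, mul_one]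
    rw [← Nat.card_eq_fintype_card]
    ring
  have hΘτ : ∀ i, i ≠ i₀ → classInner Θ (τ i) = 1 := by
    intro i hi
    rw [inner_ind φ hP hC]
    simp only [Finset.sum_sub_distrib, hsumU, hz1, if_neg (Ne.symm hi), if_true, if_false,
      Finset.sum_const_zero]
    norm_num
  have hcoef : ∀ i, i ≠ i₀ → a (μ i) = a (μ i₀) + ε := by
    intro i hi
    have h1 := hΘτ i hi
    rw [hτμ i, classInner_smul_right, classInner_sub_right] at h1
    rw [show classInner Θ (μ' i) = a (μ i) from ha (μ i),
      show classInner Θ (μ' i₀) = a (μ i₀) from ha (μ i₀), map_intCast] at h1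
    have h2 : ((ε * (a (μ i) - a (μ i₀)) : ℤ) : ℂ) = ((1 : ℤ) : ℂ) := by push_cast; exact h1
    have h3 : ε * (a (μ i) - a (μ i₀)) = 1 := by exact_mod_cast h2
    rcases hε with rfl | rfl <;> omega
  -- multiplicities in the restriction
  have hm : ∀ (ψ : IrrCharacter G) (j : ZMod p), ∃ n : ℕ,
      classInner (fun v : P => (ψ : G → ℂ) v) (lin φ j) = n := fun ψ j =>
    classInner_isChar_nat (IsChar.res (IsIrr.isCharacter ψ.2) P) (isCharacter_lin φ j)
  choose m hm using hm
  have hexp : ∀ (ψ : IrrCharacter G) (v : P),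
      (ψ : G → ℂ) v = ∑ j : ZMod p, (m ψ j : ℂ) * lin φ j v := by
    intro ψ v
    simp only [← hm, classInner_def, Finset.mul_sum, Finset.sum_mul]
    rw [Finset.sum_comm, Finset.sum_eq_single v]
    · have h1 : ∀ j : ZMod p, conj (lin φ j v) * lin φ j v = 1 := fun j => by
        rw [lin_apply, ← AddChar.map_neg_eq_conj, ← AddChar.map_add_eq_mul, neg_add_cancel,
          AddChar.map_zero_eq_one]
      simp only [mul_assoc, h1, mul_one, Finset.sum_const, Finset.card_univ, ZMod.card, hP,
        nsmul_eq_mul]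
      rw [mul_inv_cancel_left₀ (Nat.cast_ne_zero.2 (Fact.out : p.Prime).ne_zero)]
    · intro w _ hw
      have h2 : ∀ j : ZMod p, conj (lin φ j w) * lin φ j v = lin φ j (w⁻¹ * v) := fun j => by
        simp only [lin_apply, map_mul, map_inv, toAdd_mul, toAdd_inv, mul_add, mul_neg,
          AddChar.map_add_eq_mul, AddChar.map_neg_eq_conj]
      simp only [mul_assoc, h2, ← Finset.mul_sum, sum_lin]
      rw [if_neg (by simpa [inv_mul_eq_one] using hw)]
      simp
    · simp
  have hconjm : ∀ (ψ : IrrCharacter G) (j : ZMod p) (u : U φ),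
      m ψ (j * ((u : (ZMod p)ˣ) : ZMod p)) = m ψ j := by
    rintro ψ j ⟨_, n, rfl⟩
    have h1 : classInner (fun v : P => (ψ : G → ℂ) v) (lin φ (j * mult φ n)) =
        classInner (fun v : P => (ψ : G → ℂ) v) (lin φ j) := by
      simp only [classInner_def, ← lin_conjP]
      congr 1
      have hb : Function.Bijective (conjP P n) := Finite.injective_iff_bijective.1 fun a b h =>
        Subtype.ext (mul_left_cancel (mul_right_cancel (congrArg Subtype.val h)))
      refine Fintype.sum_bijective _ hb _ _ fun v => ?_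
      congr 1
      exact (IsIrr.isClassFunction ψ.2 (v : G) (n : G)).symm
    rw [hm, hm] at h1
    exact_mod_cast h1
  -- the decomposition by orbits
  let S : Fin t → P → ℂ := fun i v => ∑ u : U φ, lin φ (R i * ((u : (ZMod p)ˣ) : ZMod p)) v
  have hsplit : ∀ F : ZMod p → ℂ,
      ∑ j : ZMod p, F j = F 0 + ∑ i : Fin t, ∑ u : U φ, F (R i * ((u : (ZMod p)ˣ) : ZMod p)) := by
    intro F
    rw [← Finset.add_sum_erase _ _ (Finset.mem_univ (0 : ZMod p))]
    congr 1
    rw [← Fintype.sum_prod_type' (fun i (u : U φ) => F (R i * ((u : (ZMod p)ˣ) : ZMod p)))]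
    refine (Finset.sum_bij (fun x _ => R x.1 * ((x.2 : (ZMod p)ˣ) : ZMod p)) ?_ ?_ ?_
      fun _ _ => rfl).symm
    · intro x _
      exact Finset.mem_erase.2 ⟨(hz1 x.1 x.2).symm, Finset.mem_univ _⟩
    · rintro ⟨i, u⟩ _ ⟨k, w⟩ _ h
      have h' : R i = R k * (((w * u⁻¹ : U φ) : (ZMod p)ˣ) : ZMod p) := by
        dsimp only at h
        rw [Subgroup.coe_mul, Units.val_mul, ← mul_assoc, ← h, mul_assoc]
        rw [Subgroup.coe_inv, Units.mul_inv, mul_one]
      obtain ⟨hik, hu⟩ := (hRU i k _).1 h'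
      exact Prod.ext hik (mul_inv_eq_one.1 hu).symm
    · intro j hj
      let w : (ZMod p)ˣ := Units.mk0 j (Finset.mem_erase.1 hj).1
      let i := c.symm (w : (ZMod p)ˣ ⧸ U φ)
      have hci : ((c i).out : (ZMod p)ˣ ⧸ U φ) = (w : (ZMod p)ˣ ⧸ U φ) := by
        rw [QuotientGroup.out_eq']
        simp [i]
      refine ⟨(i, ⟨(c i).out⁻¹ * w, QuotientGroup.eq.1 hci⟩), Finset.mem_univ _, ?_⟩
      show ((c i).out : ZMod p) * (((c i).out⁻¹ * w : (ZMod p)ˣ) : ZMod p) = j
      rw [← Units.val_mul, mul_inv_cancel_left]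
      rfl
  have hd : ∀ (ψ : IrrCharacter G) (i : Fin t),
      ((m ψ (R i) : ℤ) - m ψ (R i₀) : ℂ) = conj (classInner (τ i) (ψ : G → ℂ)) := by
    intro ψ i
    rw [classInner_indFun_left P _ _ (IsIrr.isClassFunction ψ.2), classInner_conj_symm,
      classInner_sub_right, hm, hm]
    push_cast
    rfl
  have ha' : ∀ ψ : IrrCharacter G, (a ψ : ℂ) = (m ψ 0 : ℂ) - m ψ (R i₀) := by
    intro ψ
    have h1 : classInner Θ (ψ : G → ℂ) = _ := ha ψ
    rw [classInner_indFun_left P _ _ (IsIrr.isClassFunction ψ.2)] at h1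
    have h2 := congrArg conj h1
    rw [classInner_conj_symm, classInner_sub_right, hm, hm, map_intCast] at h2
    exact h2.symm
  have hval : ∀ (ψ : IrrCharacter G) (v : P), (ψ : G → ℂ) v = (a ψ : ℂ) +
      (m ψ (R i₀) : ℂ) * (if v = 1 then (p : ℂ) else 0) +
      ∑ i : Fin t, ((m ψ (R i) : ℂ) - m ψ (R i₀)) * S i v := by
    intro ψ v
    rw [hexp, hsplit, ha', ← sum_lin φ v, hsplit (fun j => lin φ j v)]
    simp only [hconjm, lin_zero, mul_one, S, sub_mul, Finset.sum_sub_distrib, mul_add,
      Finset.mul_sum]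
    ring
  have hS1 : ∀ i, S i 1 = (e : ℂ) := fun i => by
    simp [S, he, Nat.card_eq_fintype_card]
  have hSsum : ∀ v : P, v ≠ 1 → ∑ i, S i v = -1 := by
    intro v hv
    have := hsplit (fun j => lin φ j v)
    rw [sum_lin, if_neg hv, lin_zero] at this
    show ∑ i, ∑ u : U φ, _ = _
    linear_combination -this
  -- the differences at the members of the family and elsewhere
  have hdother : ∀ ψ : IrrCharacter G, ψ ∉ Set.range μ → ∀ i,
      (m ψ (R i) : ℂ) - m ψ (R i₀) = 0 := by
    intro ψ hψ i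
    have := hd ψ i
    push_cast at this
    rw [this, hτμ, classInner_smul_left, classInner_sub_left,
      classInner_irr_of_ne (hμirr i) ψ.2 (fun h => hψ ⟨i, Subtype.ext h⟩),
      classInner_irr_of_ne (hμirr i₀) ψ.2 (fun h => hψ ⟨i₀, Subtype.ext h⟩)]
    simp
  have hdμ : ∀ l i, (m (μ l) (R i) : ℂ) - m (μ l) (R i₀) =
      (ε : ℂ) * ((if i = l then 1 else 0) - (if i₀ = l then 1 else 0)) := by
    intro l i
    have hirr : ∀ k, classInner (μ' k) (μ' l) = if k = l then 1 else 0 := by
      intro k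
      rw [classInner_irr (hμirr k) (hμirr l)]
      simp only [hμinj.eq_iff]
    have := hd (μ l) i
    push_cast at this
    rw [this, hτμ, classInner_smul_left, classInner_sub_left,
      show (μ l : G → ℂ) = μ' l from rfl, hirr, hirr]
    split_ifs <;> simp
  have ht' : (t : ℂ) * e = (p : ℂ) - 1 := by
    have h1 : t * e = p - 1 := by
      rw [ht, he, mul_comm, card_mul_index, Nat.card_eq_fintype_card, ZMod.card_units]
    rw [← Nat.cast_mul, h1, Nat.cast_sub (Fact.out : p.Prime).one_le, Nat.cast_one]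
  refine ⟨μ, i₀, ε, a (μ i₀) + ε, a, hε, hμ, fun i h => ?_, fun ψ h => ?_, ?_, by ring, hcoef,
    fun ψ hψ => ⟨fun v hv => ?_, ?_⟩, fun l => ?_, fun v hv => ?_, fun g hg i => ?_, fun g hg => ?_⟩
  · -- the family avoids the trivial character
    obtain ⟨k, hk⟩ := exists_ne i₀
    have hres : (fun v : P => (μ i : G → ℂ) v) = lin φ 0 := by rw [lin_zero, h]
    have hne : ∀ j, (m (μ i) (R j) : ℂ) = 0 := fun j => by
      rw [← hm, hres, classInner_lin φ hP, if_neg (hR0 j).symm]
    rcases eq_or_ne i₀ i with rfl | hi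
    · have := hdμ i₀ k
      rw [hne, hne, if_neg hk, if_pos rfl] at this
      simp only [sub_self, zero_sub, mul_neg, mul_one] at this
      exact one_ne_zero (by rw [← hεC, neg_eq_zero.1 this.symm, zero_mul])
    · have := hdμ i i
      rw [hne, hne, if_neg hi, if_pos rfl] at this
      simp only [sub_self, sub_zero, mul_one] at this
      exact one_ne_zero (by rw [← hεC, this.symm, zero_mul])
  · have h1 := ha' ψ
    rw [← hm, ← hm, show (fun v : P => (ψ : G → ℂ) v) = lin φ 0 from by rw [lin_zero, h],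
      classInner_lin φ hP, classInner_lin φ hP, if_pos rfl, if_neg (hR0 i₀).symm, sub_zero] at h1
    exact_mod_cast h1
  · have h1 := classInner_eq_sum (φ := Θ) (ψ := Θ) hΘcl
    rw [hnorm] at h1
    simp only [show ∀ ψ : IrrCharacter G, classInner Θ (ψ : G → ℂ) = a ψ from ha, map_intCast] at h1
    have h2 : ((∑ ψ : IrrCharacter G, a ψ ^ 2 : ℤ) : ℂ) = (((e : ℤ) + 1 : ℤ) : ℂ) := by
      push_cast
      rw [h1]
      exact Finset.sum_congr rfl fun ψ _ => sq _
    exact_mod_cast h2
  · rw [hval, if_neg hv]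
    simp [hdother ψ hψ]
  · refine ⟨m ψ (R i₀), ?_⟩
    have := hval ψ 1
    rw [if_pos rfl] at this
    simp only [hdother ψ hψ, zero_mul, Finset.sum_const_zero, add_zero, OneMemClass.coe_one] at this
    rw [this]
    push_cast
    ring
  · -- congruence for the exceptional characters
    refine ⟨(m (μ l) (R i₀) : ℤ) - (if i₀ = l then ε else 0), ?_⟩
    have := hval (μ l) 1
    rw [if_pos rfl] at this
    simp only [hdμ, hS1, OneMemClass.coe_one, sub_mul, mul_sub, Finset.sum_sub_distrib,
      Finset.sum_const, Finset.card_univ, Fintype.card_fin, nsmul_eq_mul, mul_ite, mul_one,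
      mul_zero, ite_mul, zero_mul, Finset.sum_ite_eq', Finset.mem_univ, if_true] at this
    rw [this]
    by_cases hl : i₀ = l
    · subst hl
      simp only [if_true, Int.cast_add, Int.cast_sub, Int.cast_natCast]
      linear_combination (-(ε : ℂ)) * ht'
    · rw [hcoef l (fun h => hl h.symm)]
      simp only [if_neg hl, sub_zero, Int.cast_add, Int.cast_natCast]
      ring
  · have h1 : ∀ l, (μ l : G → ℂ) v = (a (μ l) : ℂ) + ∑ i : Fin t,
        (ε : ℂ) * ((if i = l then 1 else 0) - (if i₀ = l then 1 else 0)) * S i v := fun l => by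
      rw [hval, if_neg hv]
      simp only [hdμ, mul_zero, add_zero]
    simp only [h1, Finset.sum_add_distrib]
    rw [Finset.sum_comm (f := fun l i =>
      (ε : ℂ) * ((if i = l then 1 else 0) - (if i₀ = l then 1 else 0)) * S i v)]
    have h2 : ∀ i : Fin t, ∑ l : Fin t,
        (ε : ℂ) * ((if i = l then 1 else 0) - (if i₀ = l then 1 else 0)) * S i v = 0 := by
      intro i
      simp [mul_sub, sub_mul, Finset.sum_sub_distrib, mul_ite]
    simp only [h2, Finset.sum_const_zero, add_zero]
    rw [← Finset.add_sum_erase _ _ (Finset.mem_univ i₀),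
      Finset.sum_congr rfl (fun l hl => congrArg (Int.cast : ℤ → ℂ) (hcoef l (Finset.ne_of_mem_erase hl))),
      Finset.sum_const, Finset.card_erase_of_mem (Finset.mem_univ _), Finset.card_univ,
      Fintype.card_fin, nsmul_eq_mul, Nat.cast_sub (Fin.pos i₀), Nat.cast_one]
    push_cast
    ring
  · have h1 : τ i g = 0 := indFun_eq_zero_of_off (lin_sub_one φ _ _) hg
    rw [hτμ] at h1
    simp only [Pi.smul_apply, Pi.sub_apply, smul_eq_mul, mul_eq_zero, sub_eq_zero] at h1
    exact h1.resolve_left fun h0 => one_ne_zero (by rw [← hεC, h0, zero_mul])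
  · have h1 : Θ g = 0 := indFun_eq_zero_of_off (lin_sub_one φ _ _) hg
    rw [classFunction_expansion hΘcl] at h1
    simpa [Finset.sum_apply, show ∀ ψ : IrrCharacter G, classInner Θ (ψ : G → ℂ) = a ψ from ha]
      using h1

end Cfsg.Agent.H36.SelfCentral
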