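import Cfsg.Agent.H36.LocalCounting
import Cfsg.Agent.H36.Normalizers

/-!
# Normalized subgroups inside a complement of order six or twelve, and six Sylow subgroups
-/

set_option autoImplicit false
set_option linter.unusedSectionVars false
set_option linter.style.haveILetI false

namespace Cfsg.Agent.H36

open Subgroup

variable {G : Type*} [Group G] [Finite G]

/-- The solutions of `x ^ k = 1` in `D` forming a subgroup `W` are permuted by any subgroup
normalizing `D`. -/
theorem le_normalizer_of_solutions {D N W : Subgroup G} (hN : N ≤ normalizer (D : Set G)) {k : ℕ}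
    (hWD : W ≤ D) (hW : ∀ x ∈ W, x ^ k = 1) (hW' : ∀ x ∈ D, x ^ k = 1 → x ∈ W) :
    N ≤ normalizer (W : Set G) := by
  have key : ∀ n ∈ N, ∀ y ∈ W, n * y * n⁻¹ ∈ W := fun n hn y hy => hW' _
    ((mem_normalizer_iff.1 (hN hn) y).1 (hWD hy)) (by rw [conj_pow, hW y hy]; group)
  intro n hn
  refine mem_normalizer_iff.2 fun y => ⟨key n hn y, fun hy => ?_⟩
  have := key n⁻¹ (inv_mem hn) _ hy
  rwa [show n⁻¹ * (n * y * n⁻¹) * n⁻¹⁻¹ = y by group] at this

/-- A group of order six or twelve has a normal subgroup of order three, or, if the order is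
twelve, a normal subgroup of order four. -/
theorem exists_normalized_small (D N : Subgroup G) (hN : N ≤ normalizer (D : Set G))
    (hD : Nat.card D = 6 ∨ Nat.card D = 12) :
    (∃ W : Subgroup G, W ≤ D ∧ Nat.card W = 3 ∧ N ≤ normalizer (W : Set G)) ∨
    (Nat.card D = 12 ∧ ∃ E : Subgroup G, E ≤ D ∧ Nat.card E = 4 ∧ N ≤ normalizer (E : Set G) ∧
      ∀ x ∈ D, x ^ 4 = 1 → x ∈ E) := by
  classical
  haveI : Fact (Nat.Prime 3) := ⟨Nat.prime_three⟩
  haveI : Fact (Nat.Prime 2) := ⟨Nat.prime_two⟩
  obtain ⟨W⟩ := Sylow.nonempty (p := 3) (G := D)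
  have hW : Nat.card (W : Subgroup D) = 3 := by
    rcases hD with h | h
    · simpa using card_sylow_eq (a := 1) (m := 2) h W (by norm_num) (by norm_num)
    · simpa using card_sylow_eq (a := 1) (m := 4) h W (by norm_num) (by norm_num)
  by_cases h1 : Nat.card (Sylow 3 D) = 1
  · left
    refine ⟨(W : Subgroup D).map D.subtype, map_subtype_le _,
      by rw [card_map_of_injective D.subtype_injective, hW], le_normalizer_of_solutions hN
        (map_subtype_le _) ?_ ?_ (k := 3)⟩
    · rintro _ ⟨x, hx, rfl⟩
      have h := congrArg Subtype.val (pow_card_eq_one' (x := (⟨x, hx⟩ : (W : Subgroup D))))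
      rw [hW] at h
      exact congrArg Subtype.val h
    · intro x hx hx3
      have hx3' : (⟨x, hx⟩ : D) ^ 3 = 1 := Subtype.ext (by rw [SubmonoidClass.coe_pow]; exact hx3)
      refine ⟨⟨x, hx⟩, ?_, rfl⟩
      by_cases hx1 : (⟨x, hx⟩ : D) = 1
      · rw [hx1]; exact one_mem _
      obtain ⟨Q, hQ⟩ := exists_sylow_mem (p := 3) (orderOf_eq_prime hx3' hx1)
      rwa [(Nat.card_eq_one_iff_unique.1 h1).1.elim Q W] at hQ
  have hD12 : Nat.card D = 12 ∧ Nat.card (Sylow 3 D) = 4 := by
    rcases hD with h | h
    · obtain ⟨hd, hm⟩ := card_sylow_dvd (p := 3) h (a := 1) (m := 2) (by norm_num) (by norm_num)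
      have := Nat.le_of_dvd two_pos hd
      omega
    · obtain ⟨hd, hm⟩ := card_sylow_dvd (p := 3) h (a := 1) (m := 4) (by norm_num) (by norm_num)
      have := Nat.le_of_dvd four_pos hd
      omega
  right
  obtain ⟨E, hE⟩ := Sylow.exists_subgroup_card_pow_prime (G := D) 2 (n := 2)
    (by rw [hD12.1]; norm_num)
  have hE4 : ∀ x ∈ E, x ^ 4 = 1 := fun x hx => by
    have h := congrArg Subtype.val (pow_card_eq_one' (x := (⟨x, hx⟩ : E)))
    rw [hE] at h
    exact h
  have huniq : ∀ x : D, x ^ 4 = 1 → x ∈ E := by
    intro x hx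
    by_contra hxE
    haveI := Fintype.ofFinite D
    set S : Finset D := Finset.univ.filter fun g => orderOf g = 3
    have hS : S.card = 8 := by
      have h := card_orderOf_eq W hW
      rw [hD12.2, Nat.card_eq_fintype_card, Fintype.card_subtype] at h
      exact h
    set T : Finset D := insert x (Finset.univ.filter fun g => g ∈ E)
    have hT : T.card = 5 := by
      have h := Nat.card_eq_fintype_card (α := E)
      rw [hE, Fintype.card_subtype] at h
      rw [Finset.card_insert_of_notMem (by simpa using hxE), ← h]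
      norm_num
    have hST : Disjoint S T := Finset.disjoint_left.2 fun g hg hg' => by
      have h3 : orderOf g = 3 := (Finset.mem_filter.1 hg).2
      have h4 : g ^ 4 = 1 := by
        rcases Finset.mem_insert.1 hg' with rfl | h
        · exact hx
        · exact hE4 g (Finset.mem_filter.1 h).2
      have := orderOf_dvd_of_pow_eq_one h4
      rw [h3] at this
      omega
    have := (Finset.card_union_of_disjoint hST).symm.le.trans (Finset.card_le_univ _)
    rw [hS, hT, ← Nat.card_eq_fintype_card, hD12.1] at this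
    omega
  refine ⟨hD12.1, E.map D.subtype, map_subtype_le _,
    by rw [card_map_of_injective D.subtype_injective, hE]; norm_num,
    le_normalizer_of_solutions hN (map_subtype_le _) ?_ ?_ (k := 4), ?_⟩
  · rintro _ ⟨x, hx, rfl⟩
    exact congrArg Subtype.val (hE4 x hx)
  all_goals
    intro x hx hx4
    exact ⟨⟨x, hx⟩, huniq _ (Subtype.ext (by rw [SubmonoidClass.coe_pow]; exact hx4)), rfl⟩

/-- In a group with six Sylow `5`-subgroups of order `5`, the kernel `K` of the action on them
lies in the normalizer of each, meets `P` trivially and contains every element of `2`-power order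
centralizing `P`. -/
theorem exists_kernel_six {M : Type*} [Group M] [Finite M] [Fact (Nat.Prime 5)] (P : Sylow 5 M)
    (hP : Nat.card (P : Subgroup M) = 5) (h6 : Nat.card (Sylow 5 M) = 6) :
    ∃ K : Subgroup M, K.Normal ∧ K ≤ normalizer ((P : Subgroup M) : Set M) ∧
      K ⊓ (P : Subgroup M) = ⊥ ∧
      ∀ e ∈ centralizer ((P : Subgroup M) : Set M), e ^ 4 = 1 → e ∈ K := by
  classical
  refine ⟨(MulAction.toPermHom M (Sylow 5 M)).ker, inferInstance, ?_, ?_, ?_⟩
  · intro k hk
    refine Sylow.smul_eq_iff_mem_normalizer.1 ?_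
    exact DFunLike.congr_fun (MonoidHom.mem_ker.1 hk) P
  · rw [eq_bot_iff]
    rintro x ⟨hxK, hxP⟩
    by_contra hx1
    rw [Subgroup.mem_bot] at hx1
    have ho : orderOf x = 5 := by
      have := Subgroup.orderOf_dvd_natCard _ hxP
      rw [hP] at this
      exact ((Nat.dvd_prime (by norm_num)).1 this).resolve_left (by simpa using hx1)
    have hall : ∀ Q : Sylow 5 M, Q = P := by
      intro Q
      have hQn : x ∈ normalizer ((Q : Subgroup M) : Set M) := Sylow.smul_eq_iff_mem_normalizer.1
        (DFunLike.congr_fun (MonoidHom.mem_ker.1 hxK) Q)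
      apply Sylow.ext
      rw [← sylow_eq_zpowers Q ((card_sylow_congr Q P).trans hP) ho
          (mem_sylow_of_mem_normalizer Q ho hQn), sylow_eq_zpowers P hP ho hxP]
    haveI : Subsingleton (Sylow 5 M) := ⟨fun a b => (hall a).trans (hall b).symm⟩
    have := Finite.card_le_one_iff_subsingleton.2 (inferInstance : Subsingleton (Sylow 5 M))
    omega
  · intro e he he4
    haveI := Fintype.ofFinite (Sylow 5 M)
    haveI : Fact (Nat.Prime 2) := ⟨Nat.prime_two⟩
    set F := MulAction.fixedBy (Sylow 5 M) e
    have hcomm : ∀ (u : (P : Subgroup M)) (Q : Sylow 5 M), (u : M) • e • Q = e • (u : M) • Q := by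
      intro u Q
      rw [smul_smul, smul_smul, mem_centralizer_iff.1 he u u.2]
    letI : MulAction (P : Subgroup M) F :=
      { smul := fun u Q => ⟨(u : M) • Q.1, by
          show e • (u : M) • Q.1 = (u : M) • Q.1
          rw [← hcomm, show e • Q.1 = Q.1 from Q.2]⟩
        one_smul := fun Q => Subtype.ext (one_smul M Q.1)
        mul_smul := fun u v Q => Subtype.ext (mul_smul (u : M) (v : M) Q.1) }
    have h5 : Nat.card F % 5 = 1 := by
      have h := P.isPGroup'.card_modEq_card_fixedPoints F
      have hone : Nat.card (MulAction.fixedPoints (P : Subgroup M) F) = 1 := by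
        rw [Nat.card_eq_one_iff_unique]
        refine ⟨⟨fun a b => Subtype.ext (Subtype.ext ?_)⟩, ⟨⟨⟨P, ?_⟩, fun u => ?_⟩⟩⟩
        · have key : ∀ a : MulAction.fixedPoints (P : Subgroup M) F, a.1.1 = P := by
            intro a
            have hle : (P : Subgroup M) ≤ normalizer ((a.1.1 : Subgroup M) : Set M) := fun y hy =>
              Sylow.smul_eq_iff_mem_normalizer.1 (congrArg Subtype.val (a.2 ⟨y, hy⟩))
            refine Sylow.ext (eq_of_le_of_card_ge (fun y hy => ?_)
              (card_sylow_congr _ _).le).symm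
            exact ((P.isPGroup'.inf_normalizer_sylow a.1.1).le ⟨hy, hle hy⟩).2
          rw [key a, key b]
        · exact Sylow.smul_eq_iff_mem_normalizer.2 (centralizer_le_normalizer _ he)
        · exact Subtype.ext (Sylow.smul_eq_iff_mem_normalizer.2 (le_normalizer u.2))
      rw [Nat.ModEq, hone] at h
      exact h
    have h2 : Nat.card F % 2 = 0 := by
      let f : Function.End (Sylow 5 M) := fun Q => e • Q
      have hpow : f ^ 2 ^ 2 = 1 := by
        funext Q
        show e • e • e • e • Q = Q
        rw [smul_smul, smul_smul, smul_smul, show e * e * e * e = e ^ 4 by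
          rw [pow_succ, pow_succ, pow_succ, pow_one], he4, one_smul]
      have h := Equiv.Perm.card_fixedPoints_modEq hpow
      rw [← Nat.card_eq_fintype_card, ← Nat.card_eq_fintype_card, h6] at h
      have hF : Nat.card F = Nat.card (Function.fixedPoints fun Q : Sylow 5 M => e • Q) := rfl
      rw [hF]
      exact h.symm
    have hle : Nat.card F ≤ 6 := h6 ▸ Finite.card_subtype_le _
    have hF6 : Nat.card F = Nat.card (Sylow 5 M) := by omega
    refine MonoidHom.mem_ker.2 (Equiv.ext fun Q => ?_)
    obtain ⟨Q', hQ'⟩ := ((Nat.bijective_iff_injective_and_card (Subtype.val : F → Sylow 5 M)).2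
      ⟨Subtype.val_injective, hF6⟩).2 Q
    rw [← hQ']
    exact Q'.2

end Cfsg.Agent.H36
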